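import Groth.Agent.TransLib.Congr
import Mathlib.RingTheory.Finiteness.FinitePresentationLocal
import Mathlib.RingTheory.Localization.BaseChange

/-!
# Syntomic is local on the target
-/

set_option autoImplicit false

universe u

open TensorProduct

namespace TransLib

variable {k : Type u} [Field k] {S : Type u} [CommRing S] [Algebra k S]

/-- A complete intersection neighbourhood in a basic open gives one in the whole spectrum. -/
theorem exists_globalCI_of_away (g : S) (h : Synt.IsLCIOver k (Localization.Away g)) (p : PrimeSpectrum S)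
    (hg : g ∉ p.asIdeal) : ∃ g' : S, g' ∉ p.asIdeal ∧ Synt.IsGlobalCI k (Localization.Away g') := by
  let A := Localization.Away g
  have hp : p ∈ Set.range (PrimeSpectrum.comap (algebraMap S A)) := by
    rw [PrimeSpectrum.localization_away_comap_range A g]
    exact hg
  obtain ⟨q, rfl⟩ := hp
  obtain ⟨h', hh', hCI⟩ := h.2 q
  obtain ⟨⟨a, m⟩, ham⟩ := IsLocalization.surj (Submonoid.powers g) h'
  simp only at ham
  have hu : IsUnit (algebraMap S A (m : S)) := IsLocalization.map_units A m
  have ha : algebraMap S A a ∉ q.asIdeal := by
    rw [← ham, Ideal.mul_unit_mem_iff_mem _ hu]; exact hh'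
  refine ⟨g * a, fun hm => (q.asIdeal.comap (algebraMap S A)).primeCompl.mul_mem hg ha hm, ?_⟩
  have hassoc : Associated h' (algebraMap S A a) := ⟨hu.unit, by rw [IsUnit.unit_spec, ham]⟩
  have : IsLocalization.Away (algebraMap S A a) (Localization.Away h') :=
    IsLocalization.Away.of_associated hassoc
  have : IsLocalization.Away (g * a) (Localization.Away h') :=
    IsLocalization.Away.mul' A (Localization.Away h') g a
  exact isGlobalCI_congr
    ((IsLocalization.algEquiv (Submonoid.powers (g * a)) (Localization.Away h') (Localization.Away (g * a))).restrictScalars k)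
    hCI

/-- Being a local complete intersection is local. -/
theorem isLCIOver_of_span [Algebra.FiniteType k S] {s : Set S} (hs : Ideal.span s = ⊤)
    (h : ∀ g ∈ s, Synt.IsLCIOver k (Localization.Away g)) : Synt.IsLCIOver k S := by
  refine ⟨inferInstance, fun p => ?_⟩
  obtain ⟨g, hgs, hg⟩ := Set.not_subset.1 fun hle => p.isPrime.ne_top (top_le_iff.1 (hs ▸ Ideal.span_le.2 hle))
  exact exists_globalCI_of_away g (h g hgs) p hg

theorem isSyntomic_of_span {R : Type u} [CommRing R] {S : Type u} [CommRing S] [Algebra R S] (s : Finset S)
    (hs : Ideal.span (s : Set S) = ⊤) (h : ∀ g ∈ s, Synt.IsSyntomic R (Localization.Away g)) :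
    Synt.IsSyntomic R S := by
  have hfl : Module.Flat R S := by
    refine Module.flat_of_isLocalized_span (R := R) S S (s : Set S) hs (fun r => Localization.Away (r : S))
      (fun r => Algebra.linearMap S (Localization.Away (r : S))) fun r => (h r r.2).1
  have hfp : Algebra.FinitePresentation R S :=
    Algebra.FinitePresentation.of_span_eq_top_target (s : Set S) hs fun g hg => (h g hg).2.1
  refine ⟨hfl, hfp, fun p => ?_⟩
  let κ := p.asIdeal.ResidueField
  let ι : S →+* κ ⊗[R] S := (Algebra.TensorProduct.includeRight : S →ₐ[R] κ ⊗[R] S).toRingHom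
  refine isLCIOver_of_span (s := ι '' (s : Set S)) ?_ ?_
  · rw [← Ideal.map_span, hs, Ideal.map_top]
  · rintro _ ⟨g, hg, rfl⟩
    exact isLCIOver_congr (IsLocalization.Away.tensorProductEquivTMulRight R κ g (Localization.Away g))
      ((h g hg).2.2 p)

end TransLib
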