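import Groth.Agent.TransLib.PureDim
import Groth.Agent.TransLib.LocalTarget

/-!
# Neighbourhoods that are relative global complete intersections
-/

set_option autoImplicit false

universe u

open TensorProduct CategoryTheory AlgebraicGeometry

namespace TransLib

variable {R : Type u} [CommRing R] {n c : ℕ} (F : Fin c → MvPolynomial (Fin n) R) (h : MvPolynomial (Fin n) R)

/-- The presentation of a basic open. -/
noncomputable def awayPres : Fin (c + 1) → MvPolynomial (Fin (n + 1)) R :=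
  Fin.snoc (fun i => MvPolynomial.rename Fin.castSucc (F i))
    (MvPolynomial.rename Fin.castSucc h * MvPolynomial.X (Fin.last n) - 1)

/-- The presentation of a basic open presents the basic open. -/
theorem nonempty_awayEquiv :
    Nonempty (Localization.Away (Ideal.Quotient.mk (Ideal.span (Set.range F)) h) ≃ₐ[R]
      Synt.RelGCIRing R (n + 1) (c + 1) (awayPres F h)) := by
  classical
  let S := Synt.RelGCIRing R n c F
  let g : S := Ideal.Quotient.mk (Ideal.span (Set.range F)) h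
  let Sg := Localization.Away g
  let J := Ideal.span (Set.range (awayPres F h))
  let Q := MvPolynomial (Fin (n + 1)) R ⧸ J
  let x : Q := Ideal.Quotient.mk J (MvPolynomial.X (Fin.last n))
  let γ : MvPolynomial (Fin n) R →ₐ[R] Q := (Ideal.Quotient.mkₐ R J).comp (MvPolynomial.rename Fin.castSucc)
  have hγ : ∀ p ∈ Ideal.span (Set.range F), γ p = 0 := fun p hp => by
    refine (Ideal.span_le (I := RingHom.ker γ.toRingHom)).2 (Set.range_subset_iff.2 fun j => ?_) hp
    exact Ideal.Quotient.eq_zero_iff_mem.2 (Ideal.subset_span ⟨j.castSucc, by simp [awayPres]⟩)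
  let β : S →ₐ[R] Q := Ideal.Quotient.liftₐ _ γ hγ
  have hx : β g * x = 1 := by
    show Ideal.Quotient.mk J (MvPolynomial.rename Fin.castSucc h) * Ideal.Quotient.mk J _ = 1
    rw [← map_mul, ← map_one (Ideal.Quotient.mk J), Ideal.Quotient.eq]
    exact Ideal.subset_span ⟨Fin.last c, by simp [awayPres]⟩
  have hu : IsUnit (β g) := IsUnit.of_mul_eq_one x hx
  let ψ : Sg →ₐ[R] Q := IsLocalization.liftAlgHom (M := Submonoid.powers g) (f := β) (by
    rintro ⟨_, m, rfl⟩
    rw [map_pow]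
    exact hu.pow m)
  have hψ : ∀ s : S, ψ (algebraMap S Sg s) = β s := fun s => IsLocalization.lift_eq _ s
  let Φ₀ : MvPolynomial (Fin (n + 1)) R →ₐ[R] Sg := MvPolynomial.aeval
    (Fin.snoc (fun i => algebraMap S Sg (Ideal.Quotient.mk _ (MvPolynomial.X i))) (IsLocalization.Away.invSelf g))
  have hΦ : ∀ p, Φ₀ (MvPolynomial.rename Fin.castSucc p) = algebraMap S Sg (Ideal.Quotient.mk _ p) := fun p => by
    refine AlgHom.congr_fun (φ₁ := Φ₀.comp (MvPolynomial.rename Fin.castSucc))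
      (φ₂ := (IsScalarTower.toAlgHom R S Sg).comp (Ideal.Quotient.mkₐ R _)) ?_ p
    refine MvPolynomial.algHom_ext fun i => ?_
    show Φ₀ (MvPolynomial.rename Fin.castSucc (MvPolynomial.X i)) = _
    rw [MvPolynomial.rename_X, show Φ₀ (MvPolynomial.X (Fin.castSucc i)) = _ from MvPolynomial.aeval_X _ _,
      Fin.snoc_castSucc]
    rfl
  have hΦl : Φ₀ (MvPolynomial.X (Fin.last n)) = IsLocalization.Away.invSelf g :=
    (MvPolynomial.aeval_X _ _).trans (Fin.snoc_last _ _)
  have hJ : ∀ p ∈ J, Φ₀ p = 0 := fun p hp => by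
    refine (Ideal.span_le (I := RingHom.ker Φ₀.toRingHom)).2 (Set.range_subset_iff.2 fun j => ?_) hp
    show Φ₀ (awayPres F h j) = 0
    induction j using Fin.lastCases with
    | last =>
      rw [awayPres, Fin.snoc_last, map_sub, map_mul, map_one, hΦ, hΦl, IsLocalization.Away.mul_invSelf, sub_self]
    | cast j =>
      rw [awayPres, Fin.snoc_castSucc, hΦ, Ideal.Quotient.eq_zero_iff_mem.2 (Ideal.subset_span (Set.mem_range_self j)),
        map_zero]
  let Φ : Q →ₐ[R] Sg := Ideal.Quotient.liftₐ J Φ₀ hJ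
  have h1 : Φ.comp ψ = AlgHom.id R Sg := by
    refine IsLocalization.algHom_ext (Submonoid.powers g) (AlgHom.ext fun s => ?_)
    obtain ⟨p, rfl⟩ := Ideal.Quotient.mk_surjective s
    show Φ (ψ (algebraMap S Sg (Ideal.Quotient.mk _ p))) = algebraMap S Sg (Ideal.Quotient.mk _ p)
    rw [hψ]
    exact hΦ p
  have h2 : ψ.comp Φ = AlgHom.id R Q := by
    refine Ideal.Quotient.algHom_ext _ (MvPolynomial.algHom_ext fun j => ?_)
    show ψ (Φ₀ (MvPolynomial.X j)) = Ideal.Quotient.mk J (MvPolynomial.X j)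
    induction j using Fin.lastCases with
    | last =>
      rw [hΦl]
      refine hu.mul_left_cancel ?_
      conv_lhs => rw [← hψ, ← map_mul, IsLocalization.Away.mul_invSelf, map_one]
      exact hx.symm
    | cast j =>
      rw [← MvPolynomial.rename_X (f := Fin.castSucc), hΦ, hψ]
      rfl
  exact ⟨AlgEquiv.ofAlgHom ψ Φ h2 h1⟩

theorem fibreDimAt_eq_localDim (S : Type u) [CommRing S] [Algebra R S] (p : PrimeSpectrum R)
    (x : PrimeSpectrum S) (hx : PrimeSpectrum.comap (algebraMap R S) x = p) :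
    FlatMor.fibreDimAt (Spec.map (CommRingCat.ofHom (algebraMap R S))) x =
      FlatMor.localDim (PrimeSpectrum (p.asIdeal.Fiber S)) (PrimeSpectrum.preimageHomeomorphFiber R S p ⟨x, hx⟩) := by
  subst hx
  let f := Spec.map (CommRingCat.ofHom (algebraMap R S))
  let φ : f.fiber (f.base x) ≃ₜ PrimeSpectrum ((PrimeSpectrum.comap (algebraMap R S) x).asIdeal.Fiber S) :=
    (f.fiberHomeo (f.base x)).trans (PrimeSpectrum.preimageHomeomorphFiber R S (PrimeSpectrum.comap (algebraMap R S) x))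
  show FlatMor.localDim _ (f.asFiber x) = _
  rw [← localDim_congr φ]
  congr 1
  show PrimeSpectrum.preimageHomeomorphFiber R S _ (f.fiberHomeo (f.base x) (f.asFiber x)) = _
  congr 1
  exact (f.fiberHomeo (f.base x)).apply_symm_apply _

variable {F h}

/-- A basic open inside the locus of small fibre dimension is a relative global complete intersection. -/
theorem isRelGCI_awayPres (hc : c ≤ n)
    (hD : ∀ x : PrimeSpectrum (Synt.RelGCIRing R n c F), Ideal.Quotient.mk _ h ∉ x.asIdeal →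
      FlatMor.fibreDimAt (Spec.map (CommRingCat.ofHom (algebraMap R (Synt.RelGCIRing R n c F)))) x ≤
        ((n - c : ℕ) : WithBot ℕ∞)) :
    Synt.IsRelGCI R (n + 1) (c + 1) (awayPres F h) := by
  refine isRelGCI_of_fibre_le (by omega) fun p _ => ?_
  rw [Nat.succ_sub_succ]
  let S := Synt.RelGCIRing R n c F
  let g : S := Ideal.Quotient.mk _ h
  let κ := p.ResidueField
  obtain ⟨e⟩ := nonempty_awayEquiv F h
  let E : p.Fiber (Synt.RelGCIRing R (n + 1) (c + 1) (awayPres F h)) ≃ₐ[κ]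
      Localization.Away ((1 : κ) ⊗ₜ[R] g) :=
    (Algebra.TensorProduct.congr (AlgEquiv.refl (R := κ) (A₁ := κ)) e.symm).trans
      (IsLocalization.Away.tensorProductEquivTMulRight R κ g (Localization.Away g))
  refine le_of_eq_of_le (ringKrullDim_eq_of_ringEquiv
    (R := p.Fiber (Synt.RelGCIRing R (n + 1) (c + 1) (awayPres F h))) E.toRingEquiv) ?_
  rw [← PrimeSpectrum.topologicalKrullDim_eq_ringKrullDim, FibDimLib.topologicalKrullDim_eq_iSup_localDim]
  refine iSup_le fun z => ?_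
  let j := PrimeSpectrum.comap (algebraMap (κ ⊗[R] S) (Localization.Away ((1 : κ) ⊗ₜ[R] g)))
  rw [← FibDimLib.localDim_eq_of_isOpenEmbedding
    (PrimeSpectrum.localization_away_isOpenEmbedding (Localization.Away ((1 : κ) ⊗ₜ[R] g)) ((1 : κ) ⊗ₜ[R] g)) z]
  let φ := PrimeSpectrum.preimageHomeomorphFiber R S ⟨p, inferInstance⟩
  obtain ⟨⟨x, hx⟩, hxz⟩ := φ.surjective (j z)
  show FlatMor.localDim (PrimeSpectrum (p.Fiber S)) (j z) ≤ _
  rw [← hxz, ← fibreDimAt_eq_localDim S ⟨p, inferInstance⟩ x hx]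
  refine hD x fun hgx => ?_
  have h1 : (1 : κ) ⊗ₜ[R] g ∈ (j z).asIdeal := by
    rw [← hxz]
    have h2 : x.asIdeal = (φ ⟨x, hx⟩).asIdeal.comap
        (Algebra.TensorProduct.includeRight : S →ₐ[R] κ ⊗[R] S).toRingHom :=
      (congrArg (fun w => PrimeSpectrum.asIdeal w.1) (φ.symm_apply_apply ⟨x, hx⟩)).symm
    rw [h2] at hgx
    exact hgx
  exact z.isPrime.ne_top (Ideal.eq_top_of_isUnit_mem _ h1 (IsLocalization.Away.algebraMap_isUnit ((1 : κ) ⊗ₜ[R] g)))

/-- The locus of small fibre dimension, by equations. -/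
theorem exists_ideal_fibreDim (F : Fin c → MvPolynomial (Fin n) R) :
    ∃ J : Ideal (Synt.RelGCIRing R n c F), ∀ x : PrimeSpectrum (Synt.RelGCIRing R n c F),
      FlatMor.fibreDimAt (Spec.map (CommRingCat.ofHom (algebraMap R (Synt.RelGCIRing R n c F)))) x ≤
        ((n - c : ℕ) : WithBot ℕ∞) ↔ ¬ J ≤ x.asIdeal := by
  let S := Synt.RelGCIRing R n c F
  let f := Spec.map (CommRingCat.ofHom (algebraMap R S))
  have : LocallyOfFiniteType f :=
    (HasRingHomProperty.Spec_iff (P := @LocallyOfFiniteType)).2 (RingHom.finiteType_algebraMap.2 inferInstance)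
  have hU := FibDimLib.isOpen_fibreDimAt_le f ((n - c : ℕ) : WithBot ℕ∞)
  obtain ⟨Z, hZ⟩ := (PrimeSpectrum.isOpen_iff _).1 hU
  refine ⟨Ideal.span Z, fun x => ?_⟩
  have : x ∈ {x | FlatMor.fibreDimAt f x ≤ ((n - c : ℕ) : WithBot ℕ∞)}ᶜ ↔ Z ⊆ (x : PrimeSpectrum S).asIdeal :=
    Set.ext_iff.1 hZ x
  exact Set.notMem_compl_iff.symm.trans (not_congr (this.trans Ideal.span_le.symm))

theorem fibreDimAt_le_of_fibre (x : PrimeSpectrum (Synt.RelGCIRing R n c F)) (b : WithBot ℕ∞)
    (hb : ringKrullDim (((PrimeSpectrum.comap (algebraMap R _) x).asIdeal).Fiber (Synt.RelGCIRing R n c F)) ≤ b) :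
    FlatMor.fibreDimAt (Spec.map (CommRingCat.ofHom (algebraMap R (Synt.RelGCIRing R n c F)))) x ≤ b := by
  rw [fibreDimAt_eq_localDim _ _ x rfl]
  refine (FibDimLib.localDim_le _).trans ?_
  rwa [PrimeSpectrum.topologicalKrullDim_eq_ringKrullDim]

theorem exists_away_of_mod_ideal (F : Fin c → MvPolynomial (Fin n) R) (I : Ideal R)
    (hI : Synt.IsRelGCI (R ⧸ I) n c (fun i => MvPolynomial.map (Ideal.Quotient.mk I) (F i))) :
    ∃ h : MvPolynomial (Fin n) R,
      Ideal.Quotient.mk (I.map (algebraMap R (Synt.RelGCIRing R n c F)))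
        (Ideal.Quotient.mk (Ideal.span (Set.range F)) h) = 1 ∧
      Synt.IsRelGCI R (n + 1) (c + 1) (awayPres F h) := by
  let S := Synt.RelGCIRing R n c F
  let IS := I.map (algebraMap R S)
  have key : ∀ x : PrimeSpectrum S, IS ≤ x.asIdeal → c ≤ n ∧
      FlatMor.fibreDimAt (Spec.map (CommRingCat.ofHom (algebraMap R S))) x ≤ ((n - c : ℕ) : WithBot ℕ∞) := by
    intro x hx
    let p := PrimeSpectrum.comap (algebraMap R S) x
    have hIp : I ≤ p.asIdeal := Ideal.map_le_iff_le_comap.1 hx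
    have : (p.asIdeal.map (Ideal.Quotient.mk I)).IsPrime :=
      Ideal.map_isPrime_of_surjective Ideal.Quotient.mk_surjective (by rwa [Ideal.mk_ker])
    let pb := p.asIdeal.map (Ideal.Quotient.mk I)
    have hpb : pb.comap (algebraMap R (R ⧸ I)) = p.asIdeal := by
      show pb.comap (Ideal.Quotient.mk I) = _
      rw [Ideal.comap_map_of_surjective _ Ideal.Quotient.mk_surjective, ← RingHom.ker_eq_comap_bot, Ideal.mk_ker]
      exact sup_eq_left.2 hIp
    have hd : ringKrullDim (pb.Fiber (Synt.RelGCIRing (R ⧸ I) n c fun i => MvPolynomial.map (Ideal.Quotient.mk I) (F i))) =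
        ringKrullDim ((pb.comap (algebraMap R (R ⧸ I))).Fiber S) :=
      ringKrullDim_fibre_map F _ (fun _ => rfl) pb
    have hdim : ∀ (q : Ideal R) [q.IsPrime], q = p.asIdeal → ringKrullDim (q.Fiber S) = ringKrullDim (p.asIdeal.Fiber S) := by
      rintro q _ rfl; rfl
    rw [hdim _ hpb] at hd
    have hnt : Nontrivial (p.asIdeal.Fiber S) := nontrivial_fiber R x.asIdeal
    have hnt' : Nontrivial (pb.Fiber (Synt.RelGCIRing (R ⧸ I) n c fun i => MvPolynomial.map (Ideal.Quotient.mk I) (F i))) := by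
      by_contra hs
      rw [not_nontrivial_iff_subsingleton] at hs
      rw [ringKrullDim_eq_bot_of_subsingleton] at hd
      have := (ringKrullDim_nonneg_of_nontrivial (R := p.asIdeal.Fiber S))
      rw [← hd] at this
      exact absurd this (by simp)
    obtain ⟨hc, hd'⟩ := hI ⟨pb, inferInstance⟩ hnt'
    exact ⟨hc, fibreDimAt_le_of_fibre x _ (hd.symm.trans hd').le⟩
  by_cases hc : c ≤ n
  · obtain ⟨J, hJ⟩ := exists_ideal_fibreDim F
    have htop : IS ⊔ J = ⊤ := by
      by_contra hne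
      obtain ⟨M, hM, hle⟩ := Ideal.exists_le_maximal _ hne
      exact (hJ ⟨M, hM.isPrime⟩).1 (key ⟨M, hM.isPrime⟩ (le_sup_left.trans hle)).2 (le_sup_right.trans hle)
    obtain ⟨a, ha, g, hg, hag⟩ := Submodule.mem_sup.1 (htop.ge (Submodule.mem_top (x := (1 : S))))
    obtain ⟨h, rfl⟩ := Ideal.Quotient.mk_surjective g
    refine ⟨h, ?_, isRelGCI_awayPres hc fun x hx => (hJ x).2 fun hJx => hx (hJx hg)⟩
    rw [← map_one (Ideal.Quotient.mk IS), Ideal.Quotient.eq, ← hag]
    have : Ideal.Quotient.mk (Ideal.span (Set.range F)) h -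
        (a + Ideal.Quotient.mk (Ideal.span (Set.range F)) h) = -a := by abel
    rw [this]
    exact IS.neg_mem ha
  · have htop : IS = ⊤ := by
      by_contra hne
      obtain ⟨M, hM, hle⟩ := Ideal.exists_le_maximal _ hne
      exact hc (key ⟨M, hM.isPrime⟩ hle).1
    have : Subsingleton (S ⧸ IS) := Ideal.Quotient.subsingleton_iff.2 htop
    refine ⟨0, Subsingleton.elim _ _, fun p hp => absurd hp (not_nontrivial_iff_subsingleton.2 ?_)⟩
    have : Subsingleton (Synt.RelGCIRing R (n + 1) (c + 1) (awayPres F 0)) := by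
      refine Ideal.Quotient.subsingleton_iff.2 ((Ideal.eq_top_iff_one _).2 ?_)
      have h1 : awayPres F 0 (Fin.last c) = -1 := by simp [awayPres]
      exact (Ideal.neg_mem_iff _).1 (h1 ▸ Ideal.subset_span (Set.mem_range_self (Fin.last c)))
    infer_instance

theorem exists_away_of_fibre (F : Fin c → MvPolynomial (Fin n) R) (p : Ideal R) [p.IsPrime] (hc : c ≤ n)
    (hp : ringKrullDim (p.Fiber (Synt.RelGCIRing R n c F)) ≤ ((n - c : ℕ) : WithBot ℕ∞)) :
    ∃ h : MvPolynomial (Fin n) R,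
      IsUnit ((1 : p.ResidueField) ⊗ₜ[R] (Ideal.Quotient.mk (Ideal.span (Set.range F)) h) :
        p.Fiber (Synt.RelGCIRing R n c F)) ∧
      Synt.IsRelGCI R (n + 1) (c + 1) (awayPres F h) := by
  let S := Synt.RelGCIRing R n c F
  obtain ⟨J, hJ⟩ := exists_ideal_fibreDim F
  let ι : S →+* p.Fiber S := (Algebra.TensorProduct.includeRight : S →ₐ[R] p.ResidueField ⊗[R] S).toRingHom
  have htop : J.map ι = ⊤ := by
    by_contra hne
    obtain ⟨M, hM, hle⟩ := Ideal.exists_le_maximal _ hne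
    let φ := PrimeSpectrum.preimageHomeomorphFiber R S ⟨p, inferInstance⟩
    letI : CommRing (p.Fiber S) := inferInstance
    have hMp : M.IsPrime := @Ideal.IsMaximal.isPrime (p.Fiber S) _ M hM
    obtain ⟨⟨x, hx⟩, hxz⟩ := φ.surjective ⟨M, hMp⟩
    have h2 : x.asIdeal = M.comap ι := by
      have := congrArg (fun w => PrimeSpectrum.asIdeal w.1) (φ.symm_apply_apply ⟨x, hx⟩)
      rw [hxz] at this
      exact this.symm
    refine (hJ x).1 (fibreDimAt_le_of_fibre x _ ?_) (h2 ▸ Ideal.map_le_iff_le_comap.1 hle)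
    have hd : ∀ (q : Ideal R) [q.IsPrime], q = p → ringKrullDim (q.Fiber S) = ringKrullDim (p.Fiber S) := by
      rintro q _ rfl; rfl
    rw [hd _ (congrArg PrimeSpectrum.asIdeal hx)]
    exact hp
  have hι : ∀ (t : R) (z : S), ι (t • z) = t • ι z :=
    map_smul (Algebra.TensorProduct.includeRight : S →ₐ[R] p.ResidueField ⊗[R] S)
  have key : ∀ y ∈ J.map ι, ∃ r ∉ p, ∃ j ∈ J, r • y = ι j := by
    intro y hy
    refine Submodule.span_induction ?_ ?_ ?_ ?_ hy
    · rintro _ ⟨j, hj, rfl⟩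
      exact ⟨1, fun h1 => (inferInstance : p.IsPrime).ne_top ((Ideal.eq_top_iff_one p).2 h1), j, hj, one_smul _ _⟩
    · exact ⟨1, fun h1 => (inferInstance : p.IsPrime).ne_top ((Ideal.eq_top_iff_one p).2 h1), 0, zero_mem _, by simp⟩
    · rintro a b - - ⟨r, hr, j, hj, ha⟩ ⟨r', hr', j', hj', hb⟩
      refine ⟨r * r', p.primeCompl.mul_mem hr hr', r' • j + r • j',
        add_mem (J.smul_of_tower_mem r' hj) (J.smul_of_tower_mem r hj'), ?_⟩
      rw [map_add, hι, hι, ← ha, ← hb, smul_add, mul_smul, mul_smul, smul_comm r r' a]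
    · rintro a b - ⟨r, hr, j, hj, hb⟩
      obtain ⟨r', hr', s, hs⟩ := Ideal.Fiber.exists_smul_eq_one_tmul p a
      refine ⟨r' * r, p.primeCompl.mul_mem hr' hr, s * j, J.mul_mem_left _ hj, ?_⟩
      rw [map_mul, ← hb, show ι s = r' • a from hs.symm, smul_eq_mul, smul_mul_smul_comm]
  obtain ⟨r, hr, j, hj, hrj⟩ := key 1 (htop ▸ Submodule.mem_top)
  obtain ⟨h, rfl⟩ := Ideal.Quotient.mk_surjective j
  refine ⟨h, ?_, isRelGCI_awayPres hc fun x hx => (hJ x).2 fun hJx => hx (hJx hj)⟩
  show IsUnit (ι _)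
  rw [← hrj, Algebra.TensorProduct.one_def, smul_tmul', ← Algebra.algebraMap_eq_smul_one]
  exact (Ne.isUnit fun h0 => hr (Ideal.algebraMap_residueField_eq_zero.1 h0)).map
    (Algebra.TensorProduct.includeLeft : p.ResidueField →ₐ[R] p.ResidueField ⊗[R] S)

end TransLib
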