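import Mathlib

/-!
# Tensor products commute with directed colimits, elementwise form
-/

set_option autoImplicit false

universe u v

open TensorProduct

namespace TransLib

variable {ι : Type v} [Preorder ι] [IsDirected ι (· ≤ ·)] [Nonempty ι] {A₀ : Type u} [CommRing A₀]
  {G : ι → Type u} [∀ i, CommRing (G i)] [∀ i, Algebra A₀ (G i)] {f : ∀ i j, i ≤ j → (G i →ₐ[A₀] G j)}
  {A : Type u} [CommRing A] [Algebra A₀ A] {g : ∀ i, G i →ₐ[A₀] A}
  (hg : ∀ i j (h : i ≤ j), (g j).comp (f i j h) = g i)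
  (hsurj : ∀ a : A, ∃ i, ∃ x : G i, g i x = a)
  (hker : ∀ i (x : G i), g i x = 0 → ∃ j, ∃ h : i ≤ j, f i j h x = 0)

include hg hsurj in
theorem exists_stage_tensor {M : Type*} [AddCommGroup M] [Module A₀ M] (w : M ⊗[A₀] A) :
    ∃ i, ∃ x, LinearMap.lTensor M (g i).toLinearMap x = w := by
  induction w with
  | zero => exact ⟨Classical.arbitrary ι, 0, map_zero _⟩
  | tmul b a =>
    obtain ⟨i, x, rfl⟩ := hsurj a
    exact ⟨i, b ⊗ₜ x, rfl⟩
  | add y z hy hz =>
    obtain ⟨i, a, rfl⟩ := hy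
    obtain ⟨j, b, rfl⟩ := hz
    obtain ⟨k, hik, hjk⟩ := exists_ge_ge i j
    refine ⟨k, LinearMap.lTensor M (f i k hik).toLinearMap a + LinearMap.lTensor M (f j k hjk).toLinearMap b, ?_⟩
    rw [map_add, ← LinearMap.lTensor_comp_apply, ← LinearMap.lTensor_comp_apply]
    exact congrArg₂ (· + ·) (by rw [← AlgHom.comp_toLinearMap, hg]) (by rw [← AlgHom.comp_toLinearMap, hg])

omit [IsDirected ι (· ≤ ·)] [Nonempty ι] in
include hg hker in
theorem exists_kill_finite {i : ι} (s : Finset (G i)) (h : ∀ x ∈ s, g i x = 0) :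
    ∃ j, ∃ φ : G i →ₐ[A₀] G j, (g j).comp φ = g i ∧ ∀ x ∈ s, φ x = 0 := by
  classical
  induction s using Finset.induction with
  | empty => exact ⟨i, AlgHom.id _ _, AlgHom.comp_id _, by simp⟩
  | insert a s ha ih =>
    obtain ⟨j, φ, hφ, hs⟩ := ih fun x hx => h x (Finset.mem_insert_of_mem hx)
    obtain ⟨k, hjk, hk⟩ := hker j (φ a) ((AlgHom.congr_fun hφ a).trans (h a (Finset.mem_insert_self a s)))
    refine ⟨k, (f j k hjk).comp φ, by rw [← AlgHom.comp_assoc, hg, hφ], fun x hx => ?_⟩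
    rcases Finset.mem_insert.1 hx with rfl | hx
    · exact hk
    · show f j k hjk (φ x) = 0
      rw [hs x hx, map_zero]

theorem finsuppScalarLeft_lTensor {N P : Type*} [AddCommGroup N] [Module A₀ N] [AddCommGroup P] [Module A₀ P]
    {σ : Type*} [DecidableEq σ] (φ : N →ₗ[A₀] P) (d : (σ →₀ A₀) ⊗[A₀] N) (b : σ) :
    TensorProduct.finsuppScalarLeft A₀ P σ (LinearMap.lTensor _ φ d) b = φ (TensorProduct.finsuppScalarLeft A₀ N σ d b) := by
  induction d with
  | zero => simp
  | tmul p n => simp [TensorProduct.finsuppScalarLeft_apply_tmul_apply]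
  | add x y hx hy => simp [hx, hy]

include hg hsurj hker in
theorem exists_kill_tensor {M : Type*} [AddCommGroup M] [Module A₀ M] {i : ι} (x : M ⊗[A₀] G i)
    (hx : LinearMap.lTensor M (g i).toLinearMap x = 0) :
    ∃ j, ∃ φ : G i →ₐ[A₀] G j, (g j).comp φ = g i ∧ LinearMap.lTensor M φ.toLinearMap x = 0 := by
  classical
  let P : (M →₀ A₀) →ₗ[A₀] M := Finsupp.linearCombination A₀ id
  have hP : Function.Surjective P := fun m => ⟨Finsupp.single m 1, by simp [P]⟩
  have hex : Function.Exact (LinearMap.ker P).subtype P := LinearMap.exact_subtype_ker_map P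
  obtain ⟨x', rfl⟩ := LinearMap.rTensor_surjective (G i) hP x
  have hx' : LinearMap.rTensor A P (LinearMap.lTensor _ (g i).toLinearMap x') = 0 := by
    rw [← LinearMap.comp_apply, LinearMap.rTensor_comp_lTensor, ← LinearMap.lTensor_comp_rTensor, LinearMap.comp_apply]
    exact hx
  obtain ⟨w, hw⟩ := (rTensor_exact (M := ↥(LinearMap.ker P)) (N := M →₀ A₀) (P := M) (g := P) A hex hP _).1 hx'
  obtain ⟨j, w', rfl⟩ := exists_stage_tensor (M := ↥(LinearMap.ker P)) hg hsurj w
  obtain ⟨k, hik, hjk⟩ := exists_ge_ge i j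
  let d : (M →₀ A₀) ⊗[A₀] G k := LinearMap.lTensor _ (f i k hik).toLinearMap x' -
    LinearMap.rTensor (G k) (LinearMap.ker P).subtype (LinearMap.lTensor _ (f j k hjk).toLinearMap w')
  have hd : LinearMap.lTensor _ (g k).toLinearMap d = 0 := by
    rw [map_sub, sub_eq_zero, ← LinearMap.lTensor_comp_apply, ← AlgHom.comp_toLinearMap, hg, ← hw,
      ← hg j k hjk, AlgHom.comp_toLinearMap, LinearMap.lTensor_comp_apply, ← LinearMap.comp_apply (LinearMap.rTensor A _),
      LinearMap.rTensor_comp_lTensor, ← LinearMap.lTensor_comp_rTensor, LinearMap.comp_apply]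
  let c := TensorProduct.finsuppScalarLeft A₀ (G k) M d
  obtain ⟨l, ψ, hψ, hkill⟩ := exists_kill_finite hg hker (c.support.image c) (by
    intro y hy
    obtain ⟨b, -, rfl⟩ := Finset.mem_image.1 hy
    have h := finsuppScalarLeft_lTensor (g k).toLinearMap d b
    rw [hd, map_zero, Finsupp.zero_apply] at h
    exact h.symm)
  refine ⟨l, ψ.comp (f i k hik), by rw [← AlgHom.comp_assoc, hψ, hg], ?_⟩
  have hd0 : LinearMap.lTensor _ ψ.toLinearMap d = 0 := by
    refine (TensorProduct.finsuppScalarLeft A₀ (G l) M).injective ?_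
    rw [map_zero]
    refine Finsupp.ext fun b => ?_
    rw [finsuppScalarLeft_lTensor, Finsupp.zero_apply]
    show ψ (c b) = 0
    by_cases hb : b ∈ c.support
    · exact hkill _ (Finset.mem_image_of_mem _ hb)
    · rw [Finsupp.notMem_support_iff.1 hb, map_zero]
  rw [map_sub, sub_eq_zero, ← LinearMap.lTensor_comp_apply] at hd0
  rw [← LinearMap.comp_apply, LinearMap.lTensor_comp_rTensor, ← LinearMap.rTensor_comp_lTensor, LinearMap.comp_apply,
    AlgHom.comp_toLinearMap, hd0, ← LinearMap.comp_apply (LinearMap.lTensor _ ψ.toLinearMap),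
    LinearMap.lTensor_comp_rTensor, ← LinearMap.rTensor_comp_lTensor, LinearMap.comp_apply,
    ← LinearMap.comp_apply (LinearMap.rTensor (G l) P), ← LinearMap.rTensor_comp, LinearMap.comp_ker_subtype,
    LinearMap.rTensor_zero, LinearMap.zero_apply]

end TransLib
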