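import Groth.Agent.GRingFinLib.GRing

/-!
# Local G-rings
-/

set_option autoImplicit false

universe u

open IsLocalRing

namespace TransLib

/-- A local G-ring maps regularly to its completion. -/
theorem isRegularHom_completion_of_isGRing {R : Type u} [CommRing R] [IsLocalRing R] (hG : CAlg.IsGRing R) :
    CAlg.IsRegularHom R (AdicCompletion (maximalIdeal R) R) := by
  obtain ⟨hR, hreg⟩ := hG
  let L := Localization.AtPrime (maximalIdeal R)
  have hle : (maximalIdeal R).primeCompl ≤ IsUnit.submonoid R := fun x hx => by
    simpa [IsUnit.mem_submonoid_iff] using hx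
  let e : R ≃ₐ[R] L := IsLocalization.atUnits R (maximalIdeal R).primeCompl hle
  letI : Algebra L R := e.symm.toRingEquiv.toRingHom.toAlgebra
  have : Module.Finite L R := by
    refine Module.Finite.of_surjective (Algebra.linearMap L R) fun x => ⟨e x, ?_⟩
    exact e.symm_apply_apply x
  have : IsLocalization.AtPrime R (maximalIdeal R) :=
    IsLocalization.isLocalization_of_algEquiv _ e.symm
  exact GRingFinLib.isRegularHom_cpl_of_finite L R R (maximalIdeal R) (hreg (maximalIdeal R))

end TransLib
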