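import Groth.Agent.TransLib.Popescu

/-!
# Ind-smoothness over a localization of the base
-/

set_option autoImplicit false

universe u

open TensorProduct

namespace TransLib

/-- An algebra over a localization which is ind-smooth over it is ind-smooth over the base. -/
theorem indSmooth_of_localization {R T Rₛ : Type u} [CommRing R] [CommRing T] [CommRing Rₛ] [Algebra R T]
    [Algebra R Rₛ] [Algebra Rₛ T] [IsScalarTower R Rₛ T] (S : Submonoid R) [IsLocalization S Rₛ]
    (h : Smoothing.IndSmooth Rₛ T) : Smoothing.IndSmooth R T := by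
  intro A _ _ hA f
  let fs : Rₛ ⊗[R] A →ₐ[Rₛ] T := Algebra.TensorProduct.lift (Algebra.ofId Rₛ T) f fun _ _ => Commute.all _ _
  obtain ⟨B', _, _, hB', g', h', hgh⟩ := h (Rₛ ⊗[R] A) inferInstance fs
  let j₀ : T →+* Rₛ ⊗[R] T := Algebra.TensorProduct.includeRight.toRingHom
  have hj : j₀.comp (algebraMap Rₛ T) = algebraMap Rₛ (Rₛ ⊗[R] T) := by
    refine IsLocalization.ringHom_ext S (RingHom.ext fun r => ?_)
    show (Algebra.TensorProduct.includeRight : T →ₐ[R] Rₛ ⊗[R] T) (algebraMap Rₛ T (algebraMap R Rₛ r)) =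
      algebraMap Rₛ (Rₛ ⊗[R] T) (algebraMap R Rₛ r)
    rw [← IsScalarTower.algebraMap_apply, ← IsScalarTower.algebraMap_apply, AlgHom.commutes]
  let j : T →ₐ[Rₛ] Rₛ ⊗[R] T := { j₀ with commutes' := fun z => DFunLike.congr_fun hj z }
  have hcomp : (j.comp h').comp g' = Algebra.TensorProduct.map (AlgHom.id Rₛ Rₛ) f := by
    rw [AlgHom.comp_assoc, hgh]
    refine Algebra.TensorProduct.ext (Subsingleton.elim _ _) (AlgHom.ext fun a => ?_)
    show (1 : Rₛ) ⊗ₜ[R] fs ((1 : Rₛ) ⊗ₜ[R] a) = (1 : Rₛ) ⊗ₜ[R] f a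
    rw [Algebra.TensorProduct.lift_tmul, map_one, one_mul]
  obtain ⟨B, _, _, α, β, hαβ, s, hs, hel⟩ := delocalize_base f S g' (j.comp h') hcomp
  have hBfp : Algebra.FinitePresentation R B := by
    obtain ⟨P, -, -⟩ := id hel
    exact Algebra.FinitePresentation.of_surjective P.surj (P.ker_eq ▸ Submodule.fg_span (Set.finite_range _))
  have hsing : algebraMap R B s ∈ Smoothing.singularIdeal R B := by
    rw [singularIdeal_eq_radical_span_standard.2]
    exact Ideal.le_radical (Ideal.subset_span hel)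
  have hu : IsUnit (algebraMap R T s) := by
    rw [IsScalarTower.algebraMap_apply R Rₛ T]
    exact (IsLocalization.map_units Rₛ (⟨s, hs⟩ : S)).map (algebraMap Rₛ T)
  obtain ⟨C, _, _, hC, g, k, hgk⟩ := exists_smooth_factor β
    (Ideal.eq_top_of_isUnit_mem _ (Ideal.mem_map_of_mem β hsing) (by rw [β.commutes]; exact hu))
  exact ⟨C, inferInstance, inferInstance, hC, g.comp α, k, by rw [← AlgHom.comp_assoc, hgk, hαβ]⟩

end TransLib
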