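import Groth.Agent.TransLib.CIOver
import Groth.Agent.TransLib.LocalTarget
import Groth.Agent.TateLib.Square
import Mathlib.RingTheory.Ideal.MinimalPrime.Noetherian

/-!
# Complete intersection local rings and complete intersection neighbourhoods
-/

set_option autoImplicit false

universe u

open RingTheory.Sequence IsLocalRing MvPolynomial

namespace TransLib

variable {k : Type u} [Field k]

/-- The local presentation attached to a presentation. -/
theorem exists_localPresentation {P A : Type u} [CommRing P] [Algebra k P] [CommRing A] [Algebra k A]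
    (φ : P →ₐ[k] A) (hφ : Function.Surjective φ) (a : Ideal A) [a.IsPrime] (b : Ideal P) [b.IsPrime]
    (hb : a.comap φ.toRingHom = b) :
    ∃ π : Localization.AtPrime b →ₐ[k] Localization.AtPrime a, Function.Surjective π ∧
      RingHom.ker π.toRingHom = (RingHom.ker φ.toRingHom).map (algebraMap P (Localization.AtPrime b)) ∧
      ∀ x, π (algebraMap P _ x) = algebraMap A _ (φ x) := by
  have hT : b.primeCompl.map φ.toRingHom = a.primeCompl := by
    ext y
    constructor
    · rintro ⟨x, hx, rfl⟩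
      intro hy
      exact hx (hb ▸ hy)
    · intro hy
      obtain ⟨x, rfl⟩ := hφ y
      exact ⟨x, fun hx => hy (by rw [← hb] at hx; exact hx), rfl⟩
  let π₀ : Localization.AtPrime b →+* Localization.AtPrime a :=
    IsLocalization.map (Localization.AtPrime a) φ.toRingHom (b.primeCompl.le_comap_of_map_le hT.le)
  let π : Localization.AtPrime b →ₐ[k] Localization.AtPrime a :=
    { π₀ with
      commutes' := fun r => by
        show π₀ (algebraMap k (Localization.AtPrime b) r) = _
        rw [IsScalarTower.algebraMap_apply k P (Localization.AtPrime b), IsLocalization.map_eq,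
          IsScalarTower.algebraMap_apply k A (Localization.AtPrime a)]
        exact congrArg _ (φ.commutes r) }
  refine ⟨π, fun z => ?_, IsLocalization.ker_map (Localization.AtPrime a) φ.toRingHom hT, fun x => IsLocalization.map_eq (b.primeCompl.le_comap_of_map_le hT.le) x⟩
  obtain ⟨⟨y, t⟩, rfl⟩ := IsLocalization.mk'_surjective a.primeCompl z
  obtain ⟨x, rfl⟩ := hφ y
  obtain ⟨s, hs, hst⟩ : (t : A) ∈ b.primeCompl.map φ.toRingHom := hT.symm ▸ t.2
  refine ⟨IsLocalization.mk' _ x (⟨s, hs⟩ : b.primeCompl), ?_⟩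
  show π₀ _ = _
  rw [IsLocalization.map_mk']
  congr 1
  exact Subtype.ext hst

/-- A presentation tests the local rings. -/
theorem isCIOver_atPrime_iff {n : ℕ} {A : Type u} [CommRing A] [Algebra k A]
    (φ : MvPolynomial (Fin n) k →ₐ[k] A) (hφ : Function.Surjective φ) (a : Ideal A) [a.IsPrime]
    (b : Ideal (MvPolynomial (Fin n) k)) [b.IsPrime] (hb : a.comap φ.toRingHom = b) :
    Synt.IsCIOver k (Localization.AtPrime a) ↔ ∃ rs : List (Localization.AtPrime b), IsRegular (Localization.AtPrime b) rs ∧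
      Ideal.ofList rs = (RingHom.ker φ.toRingHom).map (algebraMap _ (Localization.AtPrime b)) := by
  obtain ⟨π, hπ, hker, -⟩ := exists_localPresentation φ hφ a b hb
  have : IsRegularLocalRing (Localization.AtPrime b) := IsRegularRing.isRegularLocalRing_localization b
  have : Algebra.EssFiniteType k (Localization.AtPrime b) :=
    Algebra.EssFiniteType.comp k (MvPolynomial (Fin n) k) _
  rw [isCIOver_iff π hπ, HasRegKer, hker]

/-- Local rings of a global complete intersection are complete intersections. -/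
theorem isCIOver_of_isGlobalCI {A : Type u} [CommRing A] [Algebra k A] (h : Synt.IsGlobalCI k A)
    (a : Ideal A) [a.IsPrime] : Synt.IsCIOver k (Localization.AtPrime a) := by
  rcases h with h | ⟨n, c, hc, φ, r, hφ, hker, hd⟩
  · exact absurd (Subsingleton.elim a ⊤) (Ideal.IsPrime.ne_top inferInstance)
  rw [isCIOver_atPrime_iff φ hφ a _ rfl, hker]
  refine ⟨_, regular_localization_of_dim k n c hc r ?_ _ ?_, ?_⟩
  · refine le_of_eq ((ringKrullDim_eq_of_ringEquiv ?_).trans hd)
    exact (Ideal.quotEquivOfEq hker.symm).trans (RingHom.quotientKerEquivOfSurjective (f := φ.toRingHom) hφ)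
  · rw [← hker]
    intro x hx
    show φ x ∈ a
    rw [show φ x = 0 from hx]
    exact zero_mem _
  · rw [← Ideal.map_ofList, ofList_ofFn]

theorem ringKrullDim_away_le {P : Type u} [CommRing P] {A : Type u} [CommRing A] (φ : P →+* A)
    (g : P) (Ag : Type u) [CommRing Ag] [Algebra A Ag] [IsLocalization.Away (φ g) Ag] (d : WithBot ℕ∞)
    (hφ : Function.Surjective φ)
    (h : ∀ P₀ ∈ (RingHom.ker φ).minimalPrimes, g ∉ P₀ → ringKrullDim (P ⧸ P₀) ≤ d) :
    ringKrullDim Ag ≤ d := by
  refine iSup_le fun l => ?_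
  let ψ : P →+* Ag := (algebraMap A Ag).comp φ
  have hker : RingHom.ker φ ≤ l.head.asIdeal.comap ψ := fun x hx => by
    show algebraMap A Ag (φ x) ∈ l.head.asIdeal
    rw [RingHom.mem_ker.1 hx, map_zero]
    exact zero_mem _
  obtain ⟨P₀, hP₀, hle⟩ := Ideal.exists_minimalPrimes_le hker
  have := hP₀.1.1
  have hg : g ∉ P₀ := fun hg => l.head.isPrime.ne_top
    (Ideal.eq_top_of_isUnit_mem _ (hle hg) (IsLocalization.Away.algebraMap_isUnit (φ g)))
  let π := Ideal.Quotient.mk P₀
  have hker' : ∀ j, RingHom.ker π ≤ (l j).asIdeal.comap ψ := fun j => by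
    rw [Ideal.mk_ker]
    exact hle.trans (Ideal.comap_mono (LTSeries.head_le l j))
  let f : Fin (l.length + 1) → PrimeSpectrum (P ⧸ P₀) := fun j =>
    ⟨((l j).asIdeal.comap ψ).map π, Ideal.map_isPrime_of_surjective Ideal.Quotient.mk_surjective (hker' j)⟩
  have hinj : ∀ i j, f i = f j → (l i).asIdeal.comap ψ = (l j).asIdeal.comap ψ := fun i j hij => by
    have hc : ∀ m, (f m).asIdeal.comap π = (l m).asIdeal.comap ψ := fun m => by
      show (((l m).asIdeal.comap ψ).map π).comap π = _
      rw [Ideal.comap_map_of_surjective π Ideal.Quotient.mk_surjective, ← RingHom.ker_eq_comap_bot,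
        sup_eq_left.2 (hker' m)]
    rw [← hc i, hij, hc]
  have hf : StrictMono f := by
    intro i j hij
    refine lt_of_le_of_ne (Ideal.map_mono (Ideal.comap_mono (l.strictMono hij).le)) fun he => ?_
    have h1 := hinj i j he
    simp only [ψ, ← Ideal.comap_comap] at h1
    have h2 := Ideal.comap_injective_of_surjective φ hφ h1
    refine (l.strictMono hij).ne (PrimeSpectrum.ext ?_)
    rw [← IsLocalization.map_under (Submonoid.powers (φ g)) Ag (l i).asIdeal,
      ← IsLocalization.map_under (Submonoid.powers (φ g)) Ag (l j).asIdeal]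
    exact congrArg (Ideal.map (algebraMap A Ag)) h2
  exact le_trans (Order.LTSeries.length_le_krullDim (LTSeries.mk l.length f hf)) (h P₀ hP₀ hg)

theorem height_map_le_of_surjective {A B : Type u} [CommRing A] [CommRing B] {f : A →+* B} (hf : Function.Surjective f)
    {p : Ideal A} [p.IsPrime] (hp : RingHom.ker f ≤ p) : (p.map f).height ≤ p.height := by
  have := Ideal.map_isPrime_of_surjective hf hp
  have e := PrimeSpectrum.height_eq_orderHeight (⟨p.map f, this⟩ : PrimeSpectrum B)
  have e' := PrimeSpectrum.height_eq_orderHeight (⟨p, inferInstance⟩ : PrimeSpectrum A)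
  simp only at e e'
  rw [e, e']
  refine (Order.height_le_height_apply_of_strictMono (PrimeSpectrum.comap f)
    (Monotone.strictMono_of_injective (fun _ _ h => Ideal.comap_mono h)
      (PrimeSpectrum.comap_injective_of_surjective f hf)) _).trans (le_of_eq ?_)
  congr 1
  refine PrimeSpectrum.ext ?_
  show (p.map f).comap f = p
  rw [Ideal.comap_map_of_surjective f hf, ← RingHom.ker_eq_comap_bot, sup_eq_left.2 hp]

/-- Basic opens of small dimension of a presented algebra are global complete intersections. -/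
theorem isGlobalCI_away_of_presentation {n c : ℕ} (hc : c ≤ n) {S : Type u} [CommRing S] [Algebra k S]
    (φ : MvPolynomial (Fin n) k →ₐ[k] S) (r : Fin c → MvPolynomial (Fin n) k) (hφ : Function.Surjective φ)
    (hker : RingHom.ker φ.toRingHom = Ideal.span (Set.range r)) (g : S)
    (Sg : Type u) [CommRing Sg] [Algebra S Sg] [Algebra k Sg] [IsScalarTower k S Sg] [IsLocalization.Away g Sg]
    (hd : ringKrullDim Sg ≤ ((n - c : ℕ) : WithBot ℕ∞)) : Synt.IsGlobalCI k Sg := by
  classical
  obtain ⟨G, hG⟩ := hφ g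
  let ι := Fin.succ (n := n)
  let P' := MvPolynomial (Fin (n + 1)) k
  let Φ : P' →ₐ[k] Sg := aeval (Fin.cons (IsLocalization.Away.invSelf g) fun i => algebraMap S Sg (φ (X i)))
  let r' : Fin (c + 1) → P' := Fin.cons (X 0 * rename ι G - 1) fun i => rename ι (r i)
  let J := Ideal.span (Set.range r')
  have hΦ : ∀ x, Φ (rename ι x) = algebraMap S Sg (φ x) := fun x => by
    refine AlgHom.congr_fun (φ₁ := Φ.comp (rename ι)) (φ₂ := (IsScalarTower.toAlgHom k S Sg).comp φ) ?_ x
    refine algHom_ext fun i => ?_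
    show Φ (rename ι (X i)) = _
    rw [rename_X]
    show Φ (X (Fin.succ i)) = _
    rw [show Φ (X (Fin.succ i)) = _ from aeval_X _ _, Fin.cons_succ]
    rfl
  have hΦ0 : Φ (X 0) = IsLocalization.Away.invSelf g := (aeval_X _ _).trans (Fin.cons_zero _ _)
  have hsurj : Function.Surjective Φ := by
    intro z
    obtain ⟨m, s, hs⟩ := IsLocalization.Away.surj g z
    obtain ⟨x, rfl⟩ := hφ s
    refine ⟨rename ι x * X 0 ^ m, ?_⟩
    rw [map_mul, map_pow, hΦ, hΦ0, ← hs, mul_assoc, ← mul_pow, IsLocalization.Away.mul_invSelf, one_pow, mul_one]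
  have hle : J ≤ RingHom.ker Φ.toRingHom := Ideal.span_le.2 (Set.range_subset_iff.2 fun i => by
    induction i using Fin.cases with
    | zero =>
      show Φ (r' 0) = 0
      simp only [r', Fin.cons_zero, map_sub, map_mul, map_one, hΦ, hΦ0, hG]
      rw [mul_comm, IsLocalization.Away.mul_invSelf, sub_self]
    | succ j =>
      show Φ (r' j.succ) = 0
      simp only [r', Fin.cons_succ, hΦ]
      rw [show φ (r j) = 0 from RingHom.mem_ker.1 (hker.ge (Ideal.subset_span ⟨j, rfl⟩)), map_zero])
  let Q := P' ⧸ J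
  let γ : MvPolynomial (Fin n) k →ₐ[k] Q := (Ideal.Quotient.mkₐ k J).comp (rename ι)
  have hγ : ∀ p ∈ RingHom.ker φ.toRingHom, γ p = 0 := fun p hp => by
    rw [hker] at hp
    refine (Ideal.span_le (I := RingHom.ker γ.toRingHom)).2 (Set.range_subset_iff.2 fun j => ?_) hp
    exact Ideal.Quotient.eq_zero_iff_mem.2 (Ideal.subset_span ⟨j.succ, by simp [r']⟩)
  let β : S →ₐ[k] Q := (Ideal.Quotient.liftₐ _ γ hγ).comp
    (Ideal.quotientKerAlgEquivOfSurjective (f := φ) hφ).symm.toAlgHom
  have hβ : ∀ p, β (φ p) = γ p := fun p => by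
    show Ideal.Quotient.liftₐ _ γ hγ ((Ideal.quotientKerAlgEquivOfSurjective hφ).symm (φ p)) = γ p
    rw [Ideal.quotientKerAlgEquivOfSurjective_symm_apply]
    rfl
  have hunit : IsUnit (β g) := by
    rw [← hG, hβ]
    refine IsUnit.of_mul_eq_one (Ideal.Quotient.mk J (X 0)) ?_
    rw [mul_comm]
    show Ideal.Quotient.mk J (X 0) * Ideal.Quotient.mk J (rename ι G) = 1
    rw [← map_mul, ← map_one (Ideal.Quotient.mk J), Ideal.Quotient.eq]
    exact Ideal.subset_span ⟨0, by simp [r']⟩
  let ψ : Sg →ₐ[k] Q := IsLocalization.liftAlgHom (M := Submonoid.powers g) (f := β) (by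
    rintro ⟨_, m, rfl⟩
    rw [map_pow]
    exact hunit.pow m)
  have hψ : ∀ s : S, ψ (algebraMap S Sg s) = β s := fun s => IsLocalization.lift_eq _ s
  have hkerΦ : RingHom.ker Φ.toRingHom = J := by
    refine le_antisymm (fun p hp => ?_) hle
    have hid : ψ.comp Φ = Ideal.Quotient.mkₐ k J := algHom_ext fun i => by
      induction i using Fin.cases with
      | zero =>
        show ψ (Φ (X 0)) = Ideal.Quotient.mk J (X 0)
        rw [hΦ0]
        refine hunit.mul_left_cancel ?_
        rw [← hψ, ← map_mul, IsLocalization.Away.mul_invSelf, map_one, hψ, ← hG, hβ, mul_comm]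
        show _ = Ideal.Quotient.mk J (X 0) * Ideal.Quotient.mk J (rename ι G)
        rw [← map_mul]
        exact ((Ideal.Quotient.eq (I := J)).2 (Ideal.subset_span (s := Set.range r') ⟨0, by simp [r']⟩)).symm
      | succ j =>
        show ψ (Φ (X j.succ)) = Ideal.Quotient.mk J (X j.succ)
        rw [show (X j.succ : P') = rename ι (X j) from (rename_X _ _).symm, hΦ, hψ, hβ]
        rfl
    refine Ideal.Quotient.eq_zero_iff_mem.1 ?_
    rw [← Ideal.Quotient.mkₐ_eq_mk k, ← hid, AlgHom.comp_apply, show Φ p = 0 from hp, map_zero]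
  rcases subsingleton_or_nontrivial Sg with hs | hs
  · exact Or.inl hs
  refine Or.inr ⟨n + 1, c + 1, by omega, Φ, r', hsurj, hkerΦ, ?_⟩
  rw [Nat.succ_sub_succ]
  refine le_antisymm hd ?_
  have hne : Ideal.span (Set.range r') ≠ ⊤ := by
    rw [show Ideal.span (Set.range r') = J from rfl, ← hkerΦ]
    exact RingHom.ker_ne_top _
  have h1 := le_ringKrullDim_quotient_span k (n + 1) (c + 1) r' hne (by omega)
  rw [Nat.succ_sub_succ] at h1
  exact h1.trans (ringKrullDim_eq_of_ringEquiv
    ((Ideal.quotEquivOfEq hkerΦ.symm).trans (RingHom.quotientKerEquivOfSurjective (f := Φ.toRingHom) hsurj))).le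

theorem isGlobalCI_away {S : Type u} [CommRing S] [Algebra k S] (h : Synt.IsGlobalCI k S) (g : S) :
    Synt.IsGlobalCI k (Localization.Away g) := by
  rcases h with h | ⟨n, c, hc, φ, r, hφ, hker, hd⟩
  · exact Or.inl (IsLocalization.subsingleton (M := Submonoid.powers g) ⟨1, Subsingleton.elim _ _⟩)
  refine isGlobalCI_away_of_presentation hc φ r hφ hker g _ ?_
  refine le_trans ?_ hd.le
  exact Order.krullDim_le_of_strictMono (PrimeSpectrum.comap (algebraMap S (Localization.Away g)))
    (Monotone.strictMono_of_injective (fun _ _ h => Ideal.comap_mono h)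
      (PrimeSpectrum.localization_comap_injective (Localization.Away g) (Submonoid.powers g)))

theorem isLCIOver_away {S : Type u} [CommRing S] [Algebra k S] (h : Synt.IsLCIOver k S) (g : S) :
    Synt.IsLCIOver k (Localization.Away g) := by
  have := h.1
  have : Algebra.FiniteType S (Localization.Away g) := IsLocalization.finiteType_of_monoid_fg (Submonoid.powers g) _
  refine ⟨Algebra.FiniteType.trans (inferInstance : Algebra.FiniteType k S) this, fun p => ?_⟩
  obtain ⟨g', hg', hCI⟩ := h.2 ⟨p.asIdeal.comap (algebraMap S (Localization.Away g)), inferInstance⟩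
  refine ⟨algebraMap S _ g', hg', ?_⟩
  let A := Localization.Away (algebraMap S (Localization.Away g) g')
  let B := Localization.Away (algebraMap S (Localization.Away g') g)
  have h1 : IsLocalization.Away (g * g') A := IsLocalization.Away.mul' (Localization.Away g) A g g'
  have h2 : IsLocalization.Away (g * g') B := IsLocalization.Away.mul (Localization.Away g') B g' g
  exact isGlobalCI_congr ((IsLocalization.algEquiv (Submonoid.powers (g * g')) B A).restrictScalars k)
    (isGlobalCI_away hCI _)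

/-- A complete intersection local ring has a complete intersection neighbourhood. -/
theorem exists_globalCI_of_isCIOver {S : Type u} [CommRing S] [Algebra k S] [Algebra.FiniteType k S]
    (q : Ideal S) [q.IsPrime] (h : Synt.IsCIOver k (Localization.AtPrime q)) :
    ∃ g : S, g ∉ q ∧ Synt.IsGlobalCI k (Localization.Away g) := by
  classical
  obtain ⟨n, φ, hφ⟩ := Algebra.FiniteType.iff_quotient_mvPolynomial''.1 (inferInstance : Algebra.FiniteType k S)
  let P := MvPolynomial (Fin n) k
  let b : Ideal P := q.comap φ.toRingHom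
  let T := Localization.AtPrime b
  let I := RingHom.ker φ.toRingHom
  have : IsRegularLocalRing T := IsRegularRing.isRegularLocalRing_localization b
  obtain ⟨rs, hrs, hrsI⟩ := (isCIOver_atPrime_iff φ hφ q b rfl).1 h
  have hmem : ∀ j : Fin rs.length, ∃ a ∈ I, Associated (algebraMap P T a) (rs.get j) := fun j => by
    have : rs.get j ∈ I.map (algebraMap P T) := hrsI ▸ Ideal.subset_span (List.get_mem rs j)
    obtain ⟨⟨x, s⟩, hxs⟩ := (IsLocalization.mem_map_algebraMap_iff b.primeCompl T).1 this
    exact ⟨x, x.2, ⟨(IsLocalization.map_units T s).unit⁻¹, by rw [← hxs, mul_assoc, IsUnit.mul_val_inv, mul_one]⟩⟩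
  choose a haI hass using hmem
  let J := Ideal.span (Set.range a)
  have hJI : J ≤ I := Ideal.span_le.2 (Set.range_subset_iff.2 haI)
  have hJT : J.map (algebraMap P T) = I.map (algebraMap P T) := by
    refine le_antisymm (Ideal.map_mono hJI) ?_
    rw [← hrsI, CommAlgDim.ofList_le_iff]
    intro x hx
    obtain ⟨j, rfl⟩ := List.mem_iff_get.1 hx
    exact Ideal.mem_of_dvd _ (hass j).dvd (Ideal.mem_map_of_mem _ (Ideal.subset_span ⟨j, rfl⟩))
  -- kill `I / J` near `b`
  obtain ⟨t, ht⟩ : I.FG := IsNoetherian.noetherian I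
  have hkill : ∀ x : t, ∃ s ∉ b, s * (x : P) ∈ J := fun x => by
    have hx : (x : P) ∈ I := ht ▸ Ideal.subset_span x.2
    exact (IsLocalization.algebraMap_mem_map_algebraMap_iff b.primeCompl T J _).1 (hJT ▸ Ideal.mem_map_of_mem _ hx)
  choose s hsb hsJ using hkill
  -- avoid the other components
  have hfin : (J.minimalPrimes).Finite := Ideal.finite_minimalPrimes_of_isNoetherianRing _ J
  have havoid : ∀ P₀ ∈ hfin.toFinset, ∃ e ∉ b, ¬ P₀ ≤ b → e ∈ P₀ := fun P₀ _ => by
    by_cases hle : P₀ ≤ b
    · exact ⟨1, fun h1 => Ideal.IsPrime.ne_top inferInstance ((Ideal.eq_top_iff_one b).2 h1), fun hn => absurd hle hn⟩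
    · obtain ⟨e, he, heb⟩ := SetLike.not_le_iff_exists.1 hle
      exact ⟨e, heb, fun _ => he⟩
  choose e heb he using havoid
  let g₁ := (∏ x : t, s x) * ∏ x : hfin.toFinset, e x.1 x.2
  have hg₁ : g₁ ∉ b := b.primeCompl.mul_mem (prod_mem fun x _ => hsb x) (prod_mem fun x _ => heb x.1 x.2)
  refine ⟨φ g₁, hg₁, ?_⟩
  let A' := P ⧸ J
  let χ : A' →+* S := Ideal.Quotient.lift J φ.toRingHom hJI
  let mJ : P →ₐ[k] A' := Ideal.Quotient.mkₐ k J
  let Ag := Localization.Away (mJ g₁)
  -- the two neighbourhoods agree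
  have hχs : Function.Surjective χ := fun y => by
    obtain ⟨x, rfl⟩ := hφ y
    exact ⟨mJ x, rfl⟩
  have hT : Submonoid.map χ (Submonoid.powers (mJ g₁)) = Submonoid.powers (φ g₁) := Submonoid.map_powers χ _
  let Ψ₀ : Ag →+* Localization.Away (φ g₁) :=
    IsLocalization.map _ χ ((Submonoid.powers (mJ g₁)).le_comap_of_map_le hT.le)
  have hkerχ : RingHom.ker Ψ₀ = ⊥ := by
    rw [IsLocalization.ker_map (Localization.Away (φ g₁)) χ hT, eq_bot_iff, Ideal.map_le_iff_le_comap]
    intro y hy
    obtain ⟨x, rfl⟩ := Ideal.Quotient.mk_surjective y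
    have hx : x ∈ I := hy
    have : g₁ * x ∈ J := by
      rw [← ht] at hx
      refine (Submodule.span_le (p := Submodule.comap (LinearMap.mulLeft P g₁) J)).2 (fun z hz => ?_) hx
      show g₁ * z ∈ J
      obtain ⟨d, hd⟩ : s ⟨z, hz⟩ ∣ g₁ := Dvd.dvd.mul_right (Finset.dvd_prod_of_mem s (Finset.mem_univ _)) _
      rw [hd, mul_right_comm]
      exact J.mul_mem_right d (hsJ ⟨z, hz⟩)
    show algebraMap A' Ag (Ideal.Quotient.mk J x) = 0
    rw [← (IsLocalization.Away.algebraMap_isUnit (S := Ag) (mJ g₁)).mul_right_eq_zero, ← map_mul]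
    rw [show mJ g₁ * Ideal.Quotient.mk J x = 0 from
      (map_mul (Ideal.Quotient.mk J) g₁ x).symm.trans (Ideal.Quotient.eq_zero_iff_mem.2 this), map_zero]
  let Ψ : Ag →ₐ[k] Localization.Away (φ g₁) :=
    { Ψ₀ with
      commutes' := fun r => by
        show Ψ₀ (algebraMap k Ag r) = _
        rw [IsScalarTower.algebraMap_apply k A' Ag, IsLocalization.map_eq,
          IsScalarTower.algebraMap_apply k S (Localization.Away (φ g₁))]
        exact congrArg _ (φ.commutes r) }
  have hbij : Function.Bijective Ψ := by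
    refine ⟨(RingHom.injective_iff_ker_eq_bot Ψ₀).2 hkerχ, fun z => ?_⟩
    obtain ⟨⟨y, ⟨_, m, rfl⟩⟩, rfl⟩ := IsLocalization.mk'_surjective (Submonoid.powers (φ g₁)) z
    obtain ⟨x, rfl⟩ := hχs y
    refine ⟨IsLocalization.mk' Ag x (⟨mJ g₁ ^ m, m, rfl⟩ : Submonoid.powers (mJ g₁)), ?_⟩
    show Ψ₀ _ = _
    rw [IsLocalization.map_mk']
    congr 1
    exact Subtype.ext (map_pow χ _ m)
  refine isGlobalCI_congr (AlgEquiv.ofBijective Ψ hbij) ?_
  -- dimensions
  have hlen := ringKrullDim_add_length_eq_ringKrullDim_of_isRegular rs hrs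
  have hT' : ringKrullDim T = (b.height : WithBot ℕ∞) := IsLocalization.AtPrime.ringKrullDim_eq_height b T
  have hn := ringKrullDim_quotient_add_height_mvPolynomial k n b
  have hne : ringKrullDim (P ⧸ b) ≠ ⊥ := by
    intro h0; rw [h0, WithBot.bot_add] at hn; exact WithBot.bot_ne_natCast n hn
  obtain ⟨db, hb, hdb, hhb, -⟩ := exists_nat_of_add_le hne hn.le
  rw [hdb, hhb] at hn
  have hn' : db + hb = n := natCast_withBot_eq_iff.1 (by push_cast; exact hn)
  rw [hrsI, ← hJT, hT', hhb] at hlen
  have hJb : J ≤ b := fun x hx => by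
    show φ x ∈ q
    rw [show φ x = 0 from RingHom.mem_ker.1 (hJI hx)]
    exact q.zero_mem
  have : Nontrivial (T ⧸ J.map (algebraMap P T)) := Ideal.Quotient.nontrivial_iff.2 fun h1 => by
    have h2 := Ideal.map_mono (f := algebraMap P T) hJb
    rw [h1, Localization.AtPrime.map_eq_maximalIdeal, top_le_iff] at h2
    exact (IsLocalRing.maximalIdeal.isMaximal T).ne_top h2
  have hc : rs.length ≤ n := by
    have : (rs.length : WithBot ℕ∞) ≤ ((hb : ℕ∞) : WithBot ℕ∞) :=
      hlen ▸ le_add_of_nonneg_left ringKrullDim_nonneg_of_nontrivial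
    have : rs.length ≤ hb := by exact_mod_cast this
    omega
  refine isGlobalCI_away_of_presentation hc mJ a (Ideal.Quotient.mkₐ_surjective k J) Ideal.mk_ker (mJ g₁) Ag ?_
  refine ringKrullDim_away_le mJ.toRingHom g₁ Ag _ (Ideal.Quotient.mkₐ_surjective k J) fun P₀ hP₀ hgP₀ => ?_
  rw [show RingHom.ker mJ.toRingHom = J from Ideal.mk_ker] at hP₀
  have hle : P₀ ≤ b := by
    by_contra hle
    exact hgP₀ (Ideal.mul_mem_left _ _ (Ideal.mem_of_dvd _
      (Finset.dvd_prod_of_mem (fun x : hfin.toFinset => e x.1 x.2)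
        (Finset.mem_univ ⟨P₀, hfin.mem_toFinset.2 hP₀⟩))
      (he P₀ (hfin.mem_toFinset.2 hP₀) hle)))
  have := hP₀.1.1
  have : (b.map (Ideal.Quotient.mk P₀)).IsPrime :=
    Ideal.map_isPrime_of_surjective Ideal.Quotient.mk_surjective (by rwa [Ideal.mk_ker])
  have hA := FibDimLib.ringKrullDim_quotient_add_height_affine k (P ⧸ P₀) (b.map (Ideal.Quotient.mk P₀))
  rw [ringKrullDim_eq_of_ringEquiv (DoubleQuot.quotQuotEquivQuotOfLE hle), hdb] at hA
  rw [← hA]
  let b' := b.map (Ideal.Quotient.mk J)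
  have : b'.IsPrime := Ideal.map_isPrime_of_surjective Ideal.Quotient.mk_surjective (by rwa [Ideal.mk_ker])
  have hb'c : b'.comap (Ideal.Quotient.mk J) = b := by
    rw [Ideal.comap_map_of_surjective _ Ideal.Quotient.mk_surjective, ← RingHom.ker_eq_comap_bot, Ideal.mk_ker]
    exact sup_eq_left.2 hJb
  have : b'.LiesOver b := ⟨hb'c.symm⟩
  have hsub : Algebra.algebraMapSubmonoid (P ⧸ J) b.primeCompl = b'.primeCompl :=
    Ideal.algebraMapSubmonoid_primeCompl_of_liesOver_surjective b' b Ideal.Quotient.mk_surjective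
  have : IsLocalization.AtPrime (T ⧸ J.map (algebraMap P T)) b' := by
    have : IsLocalization (Algebra.algebraMapSubmonoid (P ⧸ J) b.primeCompl) (T ⧸ J.map (algebraMap P T)) := inferInstance
    rwa [hsub] at this
  rw [IsLocalization.AtPrime.ringKrullDim_eq_height (R := P ⧸ J) b' (T ⧸ J.map (algebraMap P T))] at hlen
  have hmono : (b.map (Ideal.Quotient.mk P₀)).height ≤ b'.height := by
    have hfac : b.map (Ideal.Quotient.mk P₀) = b'.map (Ideal.Quotient.factor hP₀.1.2) := by
      rw [Ideal.map_map]; rfl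
    rw [hfac]
    refine height_map_le_of_surjective (Ideal.Quotient.factor_surjective hP₀.1.2) ?_
    intro x hx
    obtain ⟨y, rfl⟩ := Ideal.Quotient.mk_surjective x
    exact Ideal.mem_map_of_mem _ (hle (Ideal.Quotient.eq_zero_iff_mem.1 hx))
  obtain ⟨h', hh'⟩ : ∃ h' : ℕ, (h' : ℕ∞) = b'.height := ENat.ne_top_iff_exists.1 fun htop => by
    rw [htop, show ((rs.length : ℕ) : WithBot ℕ∞) = ((rs.length : ℕ∞) : WithBot ℕ∞) from rfl, ← WithBot.coe_add,
      WithBot.coe_inj, top_add] at hlen
    exact ENat.natCast_ne_top _ hlen.symm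
  rw [← hh'] at hlen hmono
  obtain ⟨h'', hh''⟩ : ∃ h'' : ℕ, (h'' : ℕ∞) = (b.map (Ideal.Quotient.mk P₀)).height :=
    ENat.ne_top_iff_exists.1 (ne_top_of_le_ne_top (ENat.natCast_ne_top h') hmono)
  rw [← hh''] at hmono ⊢
  have : h' + rs.length = hb := by exact_mod_cast hlen
  have : h'' ≤ h' := by exact_mod_cast hmono
  rw [show (((h'' : ℕ∞)) : WithBot ℕ∞) = (h'' : WithBot ℕ∞) from rfl, ← Nat.cast_add]
  exact natCast_withBot_le (by omega)

end TransLib
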