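import Groth.Agent.TransLib.CISpread
import Groth.Agent.SMTLib.CMQuot

/-!
# Local complete intersections over a field and their local rings
-/

set_option autoImplicit false

universe u

open RingTheory.Sequence IsLocalRing

namespace TransLib

theorem isCM_of_ringEquiv {R R' : Type u} [CommRing R] [CommRing R'] (e : R ≃+* R') (h : CommAlgDim.IsCM R) :
    CommAlgDim.IsCM R' := by
  obtain ⟨rs, hrs, hd⟩ := h
  exact ⟨rs.map e, isRegular_of_ringEquiv e hrs, by rw [List.length_map, ← hd, ringKrullDim_eq_of_ringEquiv e]⟩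

theorem isCM_quotient_ofList : ∀ (rs : List ℕ) (R : Type u) [CommRing R] [IsLocalRing R] [IsNoetherianRing R]
    (xs : List R), xs.length = rs.length → CommAlgDim.IsCM R → IsRegular R xs → CommAlgDim.IsCM (R ⧸ Ideal.ofList xs)
  | [], R, _, _, _, xs, hl, hR, _ => by
    obtain rfl := List.length_eq_zero_iff.1 hl
    exact isCM_of_ringEquiv ((RingEquiv.quotientBot R).symm.trans (Ideal.quotEquivOfEq Ideal.ofList_nil.symm)) hR
  | _ :: rs, R, _, _, _, [], hl, _, _ => absurd hl (by simp)
  | _ :: rs, R, _, _, _, x :: xs, hl, hR, h => by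
    have hm := CommAlgDim.mem_maximalIdeal_of_isRegular h x (by simp)
    obtain ⟨hx, hxs⟩ := CommAlgDim.isRegular_cons_ring.1 h
    have := CommAlgDim.nontrivial_quotient (CommAlgDim.singleton_ne_top hm)
    have hle : Ideal.span {x} ≤ Ideal.ofList (x :: xs) :=
      (Ideal.span_singleton_le_iff_mem _).2 (Ideal.subset_span (by simp))
    have heq : Ideal.ofList (xs.map (Ideal.Quotient.mk (Ideal.span {x}))) =
        (Ideal.ofList (x :: xs)).map (Ideal.Quotient.mk (Ideal.span {x})) := by
      rw [CommAlgDim.ofList_map, Ideal.ofList_cons, Ideal.map_sup, Ideal.map_quotient_self, bot_sup_eq]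
    exact isCM_of_ringEquiv ((Ideal.quotEquivOfEq heq).trans (DoubleQuot.quotQuotEquivQuotOfLE hle))
      (isCM_quotient_ofList rs _ _ (by simpa using hl) (hR.quotient_singleton hx hm) hxs)

variable {k : Type u} [Field k]

theorem isCM_of_isCIOver {S : Type u} [CommRing S] [IsLocalRing S] [Algebra k S] (h : Synt.IsCIOver k S) :
    CommAlgDim.IsCM S := by
  obtain ⟨R, _, _, _, -, rs, -, hrs, ⟨e⟩⟩ := h
  exact isCM_of_ringEquiv e.symm.toRingEquiv
    (isCM_quotient_ofList (List.replicate rs.length 0) R rs (by simp) (CommAlgDim.isCM_of_isRegularLocalRing R) hrs)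

variable {S : Type u} [CommRing S] [Algebra k S]

theorem isCIOver_atPrime_of_isLCIOver (h : Synt.IsLCIOver k S) (p : Ideal S) [p.IsPrime] :
    Synt.IsCIOver k (Localization.AtPrime p) := by
  obtain ⟨g, hg, hCI⟩ := h.2 ⟨p, inferInstance⟩
  obtain ⟨a, ha⟩ : (⟨p, inferInstance⟩ : PrimeSpectrum S) ∈
      Set.range (PrimeSpectrum.comap (algebraMap S (Localization.Away g))) := by
    rw [PrimeSpectrum.localization_away_comap_range (Localization.Away g) g]
    exact hg
  have hap : a.asIdeal.comap (algebraMap S (Localization.Away g)) = p := congrArg PrimeSpectrum.asIdeal ha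
  subst hap
  have : IsLocalization.AtPrime (Localization.AtPrime a.asIdeal) (a.asIdeal.comap (algebraMap S (Localization.Away g))) :=
    IsLocalization.isLocalization_isLocalization_atPrime_isLocalization (Submonoid.powers g) _ a.asIdeal
  exact isCIOver_congr ((IsLocalization.algEquiv (a.asIdeal.comap (algebraMap S (Localization.Away g))).primeCompl
    (Localization.AtPrime a.asIdeal) (Localization.AtPrime _)).restrictScalars k) (isCIOver_of_isGlobalCI hCI a.asIdeal)

variable [Algebra.FiniteType k S]

theorem isLCIOver_iff_forall : Synt.IsLCIOver k S ↔ ∀ p : PrimeSpectrum S, Synt.IsCIOver k (Localization.AtPrime p.asIdeal) :=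
  ⟨fun h p => isCIOver_atPrime_of_isLCIOver h p.asIdeal,
    fun h => ⟨inferInstance, fun p => exists_globalCI_of_isCIOver p.asIdeal (h p)⟩⟩

theorem isLCIOver_iff_forall_maximal :
    Synt.IsLCIOver k S ↔ ∀ m : MaximalSpectrum S, Synt.IsCIOver k (Localization.AtPrime m.asIdeal) := by
  refine ⟨fun h m => isCIOver_atPrime_of_isLCIOver h m.asIdeal, fun h => ⟨inferInstance, fun p => ?_⟩⟩
  obtain ⟨m, hm, hpm⟩ := Ideal.exists_le_maximal p.asIdeal p.isPrime.ne_top
  obtain ⟨g, hg, hCI⟩ := exists_globalCI_of_isCIOver m (h ⟨m, hm⟩)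
  exact ⟨g, fun hp => hg (hpm hp), hCI⟩

theorem isCIOver_atPrime_of_away (q : Ideal S) [q.IsPrime] (g : S) (hg : g ∉ q)
    (h : Synt.IsLCIOver k (Localization.Away g)) : Synt.IsCIOver k (Localization.AtPrime q) := by
  obtain ⟨g', hg', hCI⟩ := exists_globalCI_of_away g h ⟨q, inferInstance⟩ hg
  obtain ⟨a, ha⟩ : (⟨q, inferInstance⟩ : PrimeSpectrum S) ∈
      Set.range (PrimeSpectrum.comap (algebraMap S (Localization.Away g'))) := by
    rw [PrimeSpectrum.localization_away_comap_range (Localization.Away g') g']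
    exact hg'
  have hap : a.asIdeal.comap (algebraMap S (Localization.Away g')) = q := congrArg PrimeSpectrum.asIdeal ha
  subst hap
  have : IsLocalization.AtPrime (Localization.AtPrime a.asIdeal) (a.asIdeal.comap (algebraMap S (Localization.Away g'))) :=
    IsLocalization.isLocalization_isLocalization_atPrime_isLocalization (Submonoid.powers g') _ a.asIdeal
  exact isCIOver_congr ((IsLocalization.algEquiv (a.asIdeal.comap (algebraMap S (Localization.Away g'))).primeCompl
    (Localization.AtPrime a.asIdeal) (Localization.AtPrime _)).restrictScalars k) (isCIOver_of_isGlobalCI hCI a.asIdeal)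

end TransLib
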