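import Groth.Agent.TransLib.RelNhd
import Groth.Agent.TransLib.CISpread
import Groth.Agent.TransLib.FieldCI

/-!
# Syntomic neighbourhoods of a point
-/

set_option autoImplicit false

universe u

open TensorProduct RingTheory.Sequence

namespace TransLib

section General

variable {P T : Type u} [CommRing P] [CommRing T]

/-- Elements of an extended ideal, for a map with dense image up to units. -/
theorem exists_of_mem_map (ψ : P →+* T) (M : Submonoid P) (hs : ∀ z, ∃ s ∈ M, ∃ x, z * ψ s = ψ x)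
    {I : Ideal P} {z : T} (hz : z ∈ I.map ψ) : ∃ s ∈ M, ∃ f ∈ I, z * ψ s = ψ f := by
  refine Submodule.span_induction ?_ ?_ ?_ ?_ hz
  · rintro _ ⟨f, hf, rfl⟩
    exact ⟨1, M.one_mem, f, hf, by rw [map_one, mul_one]⟩
  · exact ⟨1, M.one_mem, 0, zero_mem _, by simp⟩
  · rintro a b - - ⟨s, hs', f, hf, ha⟩ ⟨s', hs'', f', hf', hb⟩
    refine ⟨s * s', M.mul_mem hs' hs'', f * s' + f' * s, add_mem (I.mul_mem_right _ hf) (I.mul_mem_right _ hf'), ?_⟩
    rw [map_mul, map_add, map_mul, map_mul, ← ha, ← hb]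
    ring
  · rintro a b - ⟨s, hs', f, hf, hb⟩
    obtain ⟨t, ht, x, hx⟩ := hs a
    refine ⟨s * t, M.mul_mem hs' ht, x * f, I.mul_mem_left _ hf, ?_⟩
    rw [map_mul, map_mul, ← hb, ← hx, smul_eq_mul]
    ring

/-- The kernel of a surjection onto a flat module. -/
theorem ker_inf_smul_le {R N M : Type u} [CommRing R] [AddCommGroup N] [Module R N] [AddCommGroup M] [Module R M]
    [Module.Flat R M] (π : N →ₗ[R] M) (hπ : Function.Surjective π) (p : Ideal R) :
    LinearMap.ker π ⊓ p • (⊤ : Submodule R N) ≤ p • LinearMap.ker π := by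
  classical
  rintro x ⟨hx, hxp⟩
  rw [← Submodule.span_univ, ← Set.range_id] at hxp
  obtain ⟨a, ha, rfl⟩ := (Submodule.mem_ideal_smul_span_iff_exists_sum p _ x).1 hxp
  have hsum : ∑ i : a.support, a i.1 • π i.1 = 0 := by
    rw [Finset.sum_coe_sort a.support (fun i => a i • π i)]
    change π _ = 0 at hx
    rw [Finsupp.sum, map_sum] at hx
    simpa using hx
  obtain ⟨k, r, y, hy, hr⟩ := Module.Flat.isTrivialRelation_of_sum_smul_eq_zero hsum
  choose w hw using fun j => hπ (y j)
  have h0 : ∑ i : a.support, a i.1 • (∑ j, r i j • w j) = 0 := by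
    simp only [Finset.smul_sum, smul_smul]
    rw [Finset.sum_comm]
    refine Finset.sum_eq_zero fun j _ => ?_
    rw [← Finset.sum_smul, hr j, zero_smul]
  have h1 : a.sum (fun i c => c • id i) = ∑ i : a.support, a i.1 • (i.1 - ∑ j, r i j • w j) := by
    simp only [smul_sub]
    rw [Finset.sum_sub_distrib, h0, sub_zero, Finset.sum_coe_sort a.support (fun i => a i • i)]
    rfl
  rw [h1]
  refine Submodule.sum_mem _ fun i _ => Submodule.smul_mem_smul (ha i.1) (LinearMap.mem_ker.2 ?_)
  have hyi : π i.1 = ∑ j, r i j • y j := hy i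
  rw [map_sub, map_sum, hyi, sub_eq_zero]
  exact Finset.sum_congr rfl fun j _ => by rw [map_smul, hw]

variable {R : Type u} [CommRing R] {A : Type u} [CommRing A] [Algebra R A] [Algebra R P]

/-- The local presentation attached to a presentation, over any base. -/
theorem exists_localPresentation' (φ : P →ₐ[R] A) (hφ : Function.Surjective φ) (a : Ideal A) [a.IsPrime]
    (b : Ideal P) [b.IsPrime] (hb : a.comap φ.toRingHom = b) :
    ∃ π : Localization.AtPrime b →ₐ[R] Localization.AtPrime a, Function.Surjective π ∧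
      RingHom.ker π.toRingHom = (RingHom.ker φ.toRingHom).map (algebraMap P (Localization.AtPrime b)) := by
  have hT : b.primeCompl.map φ.toRingHom = a.primeCompl := by
    ext y
    constructor
    · rintro ⟨x, hx, rfl⟩
      intro hy
      exact hx (hb ▸ hy)
    · intro hy
      obtain ⟨x, rfl⟩ := hφ y
      exact ⟨x, fun hx => hy (by rw [← hb] at hx; exact hx), rfl⟩
  let π₀ : Localization.AtPrime b →+* Localization.AtPrime a :=
    IsLocalization.map (Localization.AtPrime a) φ.toRingHom (b.primeCompl.le_comap_of_map_le hT.le)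
  let π : Localization.AtPrime b →ₐ[R] Localization.AtPrime a :=
    { π₀ with
      commutes' := fun r => by
        show π₀ (algebraMap R (Localization.AtPrime b) r) = _
        rw [IsScalarTower.algebraMap_apply R P (Localization.AtPrime b), IsLocalization.map_eq,
          IsScalarTower.algebraMap_apply R A (Localization.AtPrime a)]
        exact congrArg _ (φ.commutes r) }
  refine ⟨π, fun z => ?_, IsLocalization.ker_map (Localization.AtPrime a) φ.toRingHom hT⟩
  obtain ⟨⟨y, t⟩, rfl⟩ := IsLocalization.mk'_surjective a.primeCompl z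
  obtain ⟨x, rfl⟩ := hφ y
  obtain ⟨s, hs, hst⟩ : (t : A) ∈ b.primeCompl.map φ.toRingHom := hT.symm ▸ t.2
  refine ⟨IsLocalization.mk' _ x (⟨s, hs⟩ : b.primeCompl), ?_⟩
  show π₀ _ = _
  rw [IsLocalization.map_mk']
  congr 1
  exact Subtype.ext hst

/-- A quotient and a further quotient agree where the difference is killed. -/
theorem nonempty_awayEquiv_of_mul_le (φ : P →ₐ[R] A) (hφ : Function.Surjective φ) (J : Ideal P)
    (hJ : J ≤ RingHom.ker φ.toRingHom) (g : P) (hg : ∀ x ∈ RingHom.ker φ.toRingHom, g * x ∈ J) :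
    Nonempty (Localization.Away (Ideal.Quotient.mk J g) ≃ₐ[R] Localization.Away (φ g)) := by
  let χ : P ⧸ J →+* A := Ideal.Quotient.lift J φ.toRingHom hJ
  have hχs : Function.Surjective χ := fun y => by
    obtain ⟨x, rfl⟩ := hφ y
    exact ⟨Ideal.Quotient.mk J x, rfl⟩
  let Ag := Localization.Away (Ideal.Quotient.mk J g)
  have hT : Submonoid.map χ (Submonoid.powers (Ideal.Quotient.mk J g)) = Submonoid.powers (φ g) :=
    Submonoid.map_powers χ _
  let Ψ₀ : Ag →+* Localization.Away (φ g) :=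
    IsLocalization.map _ χ ((Submonoid.powers (Ideal.Quotient.mk J g)).le_comap_of_map_le hT.le)
  have hkerχ : RingHom.ker Ψ₀ = ⊥ := by
    rw [IsLocalization.ker_map (Localization.Away (φ g)) χ hT, eq_bot_iff, Ideal.map_le_iff_le_comap]
    intro y hy
    obtain ⟨x, rfl⟩ := Ideal.Quotient.mk_surjective y
    show algebraMap (P ⧸ J) Ag (Ideal.Quotient.mk J x) = 0
    rw [← (IsLocalization.Away.algebraMap_isUnit (S := Ag) (Ideal.Quotient.mk J g)).mul_right_eq_zero, ← map_mul,
      ← map_mul, Ideal.Quotient.eq_zero_iff_mem.2 (hg x hy), map_zero]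
  let Ψ : Ag →ₐ[R] Localization.Away (φ g) :=
    { Ψ₀ with
      commutes' := fun r => by
        show Ψ₀ (algebraMap R Ag r) = _
        rw [IsScalarTower.algebraMap_apply R (P ⧸ J) Ag, IsLocalization.map_eq,
          IsScalarTower.algebraMap_apply R A (Localization.Away (φ g))]
        exact congrArg _ (φ.commutes r) }
  refine ⟨AlgEquiv.ofBijective Ψ ⟨(RingHom.injective_iff_ker_eq_bot Ψ₀).2 hkerχ, fun z => ?_⟩⟩
  obtain ⟨⟨y, ⟨_, m, rfl⟩⟩, rfl⟩ := IsLocalization.mk'_surjective (Submonoid.powers (φ g)) z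
  obtain ⟨x, rfl⟩ := hχs y
  refine ⟨IsLocalization.mk' Ag x (⟨Ideal.Quotient.mk J g ^ m, m, rfl⟩ : Submonoid.powers (Ideal.Quotient.mk J g)), ?_⟩
  show Ψ₀ _ = _
  rw [IsLocalization.map_mk']
  congr 1
  exact Subtype.ext (map_pow χ _ m)

/-- A basic open of a basic open is a basic open. -/
theorem exists_away_away (g : A) (z : Localization.Away g) :
    ∃ a : A, Nonempty (Localization.Away z ≃ₐ[R] Localization.Away (g * a)) ∧
      ∀ x : Ideal (Localization.Away g), x.IsPrime → z ∉ x → g * a ∉ x.comap (algebraMap A (Localization.Away g)) := by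
  obtain ⟨⟨a, m⟩, ham⟩ := IsLocalization.surj (Submonoid.powers g) z
  simp only at ham
  have hu : IsUnit (algebraMap A (Localization.Away g) (m : A)) := IsLocalization.map_units _ m
  have hassoc : Associated z (algebraMap A (Localization.Away g) a) := ⟨hu.unit, by rw [IsUnit.unit_spec, ham]⟩
  have : IsLocalization.Away (algebraMap A (Localization.Away g) a) (Localization.Away z) :=
    IsLocalization.Away.of_associated hassoc
  have : IsLocalization.Away (g * a) (Localization.Away z) :=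
    IsLocalization.Away.mul' (Localization.Away g) (Localization.Away z) g a
  refine ⟨a, ⟨(IsLocalization.algEquiv (Submonoid.powers (g * a)) (Localization.Away z)
    (Localization.Away (g * a))).restrictScalars R⟩, fun x hx hz hga => ?_⟩
  have h1 : algebraMap A (Localization.Away g) g * algebraMap A (Localization.Away g) a ∈ x := by
    rw [← map_mul]; exact hga
  rcases hx.mem_or_mem h1 with h | h
  · exact hx.ne_top (Ideal.eq_top_of_isUnit_mem _ h (IsLocalization.Away.algebraMap_isUnit g))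
  · exact hz (Ideal.mem_of_dvd _ hassoc.symm.dvd h)

end General

section Field

open MvPolynomial in
/-- Near a point where `c` equations are regular, the dimension is at most `n - c`. -/
theorem exists_away_dim_le (k : Type u) [Field k] {n : ℕ} (J b : Ideal (MvPolynomial (Fin n) k)) [b.IsPrime]
    (hJb : J ≤ b) (rs : List (Localization.AtPrime b)) (hrs : IsRegular (Localization.AtPrime b) rs)
    (hJ : Ideal.ofList rs = J.map (algebraMap (MvPolynomial (Fin n) k) (Localization.AtPrime b))) :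
    rs.length ≤ n ∧ ∃ g ∉ b, ∀ g', g ∣ g' →
      ringKrullDim (Localization.Away (Ideal.Quotient.mk J g')) ≤ ((n - rs.length : ℕ) : WithBot ℕ∞) := by
  classical
  let P := MvPolynomial (Fin n) k
  let T := Localization.AtPrime b
  have : IsRegularLocalRing T := IsRegularRing.isRegularLocalRing_localization b
  have hfin : (J.minimalPrimes).Finite := Ideal.finite_minimalPrimes_of_isNoetherianRing _ J
  have havoid : ∀ P₀ ∈ hfin.toFinset, ∃ e ∉ b, ¬ P₀ ≤ b → e ∈ P₀ := fun P₀ _ => by
    by_cases hle : P₀ ≤ b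
    · exact ⟨1, fun h1 => Ideal.IsPrime.ne_top inferInstance ((Ideal.eq_top_iff_one b).2 h1), fun hn => absurd hle hn⟩
    · obtain ⟨e, he, heb⟩ := SetLike.not_le_iff_exists.1 hle
      exact ⟨e, heb, fun _ => he⟩
  choose e heb he using havoid
  have hlen := ringKrullDim_add_length_eq_ringKrullDim_of_isRegular rs hrs
  have hT' : ringKrullDim T = (b.height : WithBot ℕ∞) := IsLocalization.AtPrime.ringKrullDim_eq_height b T
  have hn := ringKrullDim_quotient_add_height_mvPolynomial k n b
  have hne : ringKrullDim (P ⧸ b) ≠ ⊥ := by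
    intro h0; rw [h0, WithBot.bot_add] at hn; exact WithBot.bot_ne_natCast n hn
  obtain ⟨db, hb, hdb, hhb, -⟩ := exists_nat_of_add_le hne hn.le
  rw [hdb, hhb] at hn
  have hn' : db + hb = n := natCast_withBot_eq_iff.1 (by push_cast; exact hn)
  rw [hJ, hT', hhb] at hlen
  have : Nontrivial (T ⧸ J.map (algebraMap P T)) := Ideal.Quotient.nontrivial_iff.2 fun h1 => by
    have h2 := Ideal.map_mono (f := algebraMap P T) hJb
    rw [h1, Localization.AtPrime.map_eq_maximalIdeal, top_le_iff] at h2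
    exact (IsLocalRing.maximalIdeal.isMaximal T).ne_top h2
  have hc : rs.length ≤ n := by
    have : (rs.length : WithBot ℕ∞) ≤ ((hb : ℕ∞) : WithBot ℕ∞) :=
      hlen ▸ le_add_of_nonneg_left ringKrullDim_nonneg_of_nontrivial
    have : rs.length ≤ hb := by exact_mod_cast this
    omega
  refine ⟨hc, ∏ x : hfin.toFinset, e x.1 x.2, prod_mem (S := b.primeCompl) fun x _ => heb x.1 x.2, fun g' hg' => ?_⟩
  refine ringKrullDim_away_le (Ideal.Quotient.mk J) g' (Localization.Away (Ideal.Quotient.mk J g')) _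
    Ideal.Quotient.mk_surjective fun P₀ hP₀ hgP₀ => ?_
  rw [Ideal.mk_ker] at hP₀
  have hle : P₀ ≤ b := by
    by_contra hle
    exact hgP₀ (Ideal.mem_of_dvd _ ((Finset.dvd_prod_of_mem (fun x : hfin.toFinset => e x.1 x.2)
      (Finset.mem_univ ⟨P₀, hfin.mem_toFinset.2 hP₀⟩)).trans hg') (he P₀ (hfin.mem_toFinset.2 hP₀) hle))
  have := hP₀.1.1
  have : (b.map (Ideal.Quotient.mk P₀)).IsPrime :=
    Ideal.map_isPrime_of_surjective Ideal.Quotient.mk_surjective (by rwa [Ideal.mk_ker])
  have hA := FibDimLib.ringKrullDim_quotient_add_height_affine k (P ⧸ P₀) (b.map (Ideal.Quotient.mk P₀))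
  rw [ringKrullDim_eq_of_ringEquiv (DoubleQuot.quotQuotEquivQuotOfLE hle), hdb] at hA
  rw [← hA]
  let b' := b.map (Ideal.Quotient.mk J)
  have : b'.IsPrime := Ideal.map_isPrime_of_surjective Ideal.Quotient.mk_surjective (by rwa [Ideal.mk_ker])
  have hb'c : b'.comap (Ideal.Quotient.mk J) = b := by
    rw [Ideal.comap_map_of_surjective _ Ideal.Quotient.mk_surjective, ← RingHom.ker_eq_comap_bot, Ideal.mk_ker]
    exact sup_eq_left.2 hJb
  have : b'.LiesOver b := ⟨hb'c.symm⟩
  have hsub : Algebra.algebraMapSubmonoid (P ⧸ J) b.primeCompl = b'.primeCompl :=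
    Ideal.algebraMapSubmonoid_primeCompl_of_liesOver_surjective b' b Ideal.Quotient.mk_surjective
  have : IsLocalization.AtPrime (T ⧸ J.map (algebraMap P T)) b' := by
    have : IsLocalization (Algebra.algebraMapSubmonoid (P ⧸ J) b.primeCompl) (T ⧸ J.map (algebraMap P T)) := inferInstance
    rwa [hsub] at this
  rw [IsLocalization.AtPrime.ringKrullDim_eq_height (R := P ⧸ J) b' (T ⧸ J.map (algebraMap P T))] at hlen
  have hmono : (b.map (Ideal.Quotient.mk P₀)).height ≤ b'.height := by
    have hfac : b.map (Ideal.Quotient.mk P₀) = b'.map (Ideal.Quotient.factor hP₀.1.2) := by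
      rw [Ideal.map_map]; rfl
    rw [hfac]
    refine height_map_le_of_surjective (Ideal.Quotient.factor_surjective hP₀.1.2) ?_
    intro x hx
    obtain ⟨y, rfl⟩ := Ideal.Quotient.mk_surjective x
    exact Ideal.mem_map_of_mem _ (hle (Ideal.Quotient.eq_zero_iff_mem.1 hx))
  obtain ⟨h', hh'⟩ : ∃ h' : ℕ, (h' : ℕ∞) = b'.height := ENat.ne_top_iff_exists.1 fun htop => by
    rw [htop, show ((rs.length : ℕ) : WithBot ℕ∞) = ((rs.length : ℕ∞) : WithBot ℕ∞) from rfl, ← WithBot.coe_add,
      WithBot.coe_inj, top_add] at hlen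
    exact ENat.natCast_ne_top _ hlen.symm
  rw [← hh'] at hlen hmono
  obtain ⟨h'', hh''⟩ : ∃ h'' : ℕ, (h'' : ℕ∞) = (b.map (Ideal.Quotient.mk P₀)).height :=
    ENat.ne_top_iff_exists.1 (ne_top_of_le_ne_top (ENat.natCast_ne_top h') hmono)
  rw [← hh''] at hmono ⊢
  have : h' + rs.length = hb := by exact_mod_cast hlen
  have : h'' ≤ h' := by exact_mod_cast hmono
  rw [show (((h'' : ℕ∞)) : WithBot ℕ∞) = (h'' : WithBot ℕ∞) from rfl, ← Nat.cast_add]
  exact natCast_withBot_le (by omega)

end Field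

section Point

variable {R : Type u} [CommRing R]

theorem fibreEquiv_tmul_mk {n c : ℕ} (K : Type u) [CommRing K] [Algebra R K] (F : Fin c → MvPolynomial (Fin n) R)
    (x : MvPolynomial (Fin n) R) :
    fibreEquiv (R := R) K n c F ((1 : K) ⊗ₜ[R] Ideal.Quotient.mk (Ideal.span (Set.range F)) x) =
      Ideal.Quotient.mk _ (MvPolynomial.map (algebraMap R K) x) := by
  rw [fibreEquiv, AlgEquiv.trans_apply, Algebra.TensorProduct.tensorQuotientEquiv_apply_tmul,
    Ideal.quotientEquivAlg_mk, MvPolynomial.algebraTensorAlgEquiv_tmul, one_smul]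

/-- The dimension of the fibre of a basic open, from the equations over the residue field. -/
theorem fiber_away_dim_le {n c : ℕ} (F : Fin c → MvPolynomial (Fin n) R) (g : MvPolynomial (Fin n) R)
    (p : Ideal R) [p.IsPrime] (J : Ideal (MvPolynomial (Fin n) p.ResidueField))
    (hJ : Ideal.span (Set.range fun i => MvPolynomial.map (algebraMap R p.ResidueField) (F i)) = J) (d : WithBot ℕ∞)
    (hd : ringKrullDim (Localization.Away (Ideal.Quotient.mk J (MvPolynomial.map (algebraMap R p.ResidueField) g))) ≤ d) :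
    ringKrullDim (p.Fiber (Localization.Away (Ideal.Quotient.mk (Ideal.span (Set.range F)) g))) ≤ d := by
  subst hJ
  refine le_of_eq_of_le (ringKrullDim_eq_of_ringEquiv
    (R := p.Fiber (Localization.Away (Ideal.Quotient.mk (Ideal.span (Set.range F)) g)))
    (IsLocalization.Away.tensorProductEquivTMulRight R p.ResidueField (Ideal.Quotient.mk (Ideal.span (Set.range F)) g)
      (Localization.Away (Ideal.Quotient.mk (Ideal.span (Set.range F)) g))).toRingEquiv) ?_
  refine le_of_eq_of_le (ringKrullDim_eq_of_ringEquiv ?_) hd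
  refine IsLocalization.ringEquivOfRingEquiv (R := p.ResidueField ⊗[R] (MvPolynomial (Fin n) R ⧸ Ideal.span (Set.range F)))
    (Localization.Away ((1 : p.ResidueField) ⊗ₜ[R] Ideal.Quotient.mk (Ideal.span (Set.range F)) g))
    (Localization.Away (Ideal.Quotient.mk _ (MvPolynomial.map (algebraMap R p.ResidueField) g))) (fibreEquiv (R := R) p.ResidueField n c F).toRingEquiv
    (M := Submonoid.powers ((1 : p.ResidueField) ⊗ₜ[R] Ideal.Quotient.mk (Ideal.span (Set.range F)) g))
    (T := Submonoid.powers (Ideal.Quotient.mk _ (MvPolynomial.map (algebraMap R p.ResidueField) g))) ?_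
  exact (Submonoid.map_powers (fibreEquiv (R := R) p.ResidueField n c F).toRingEquiv.toMonoidHom _).trans
    (congrArg Submonoid.powers (fibreEquiv_tmul_mk p.ResidueField F g))

theorem exists_C_mul_eq_map (p : Ideal R) [p.IsPrime] {n : ℕ} (z : MvPolynomial (Fin n) p.ResidueField) :
    ∃ t ∉ p, ∃ x : MvPolynomial (Fin n) R,
      z * MvPolynomial.map (algebraMap R p.ResidueField) (MvPolynomial.C t) = MvPolynomial.map (algebraMap R p.ResidueField) x := by
  induction z using MvPolynomial.induction_on with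
  | C k =>
    obtain ⟨⟨a, t, ht⟩, hk⟩ := IsLocalization.mk'_surjective (nonZeroDivisors (R ⧸ p)) k
    obtain ⟨a, rfl⟩ := Ideal.Quotient.mk_surjective a
    obtain ⟨t, rfl⟩ := Ideal.Quotient.mk_surjective t
    refine ⟨t, fun htp => nonZeroDivisors.ne_zero ht (Ideal.Quotient.eq_zero_iff_mem.2 htp), MvPolynomial.C a, ?_⟩
    rw [MvPolynomial.map_C, MvPolynomial.map_C, ← map_mul, ← hk]
    congr 1
    exact IsLocalization.mk'_spec p.ResidueField _ _
  | add a b ha hb =>
    obtain ⟨t, ht, x, hx⟩ := ha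
    obtain ⟨t', ht', y, hy⟩ := hb
    refine ⟨t * t', p.primeCompl.mul_mem ht ht', x * MvPolynomial.C t' + y * MvPolynomial.C t, ?_⟩
    rw [map_mul, map_mul, map_add, map_mul, map_mul, ← hx, ← hy]
    ring
  | mul_X a i ha =>
    obtain ⟨t, ht, x, hx⟩ := ha
    refine ⟨t, ht, x * MvPolynomial.X i, ?_⟩
    rw [map_mul, ← hx, MvPolynomial.map_X]
    ring

variable {A : Type u} [CommRing A] [Algebra R A]

/-- Kernel of the base change of a presentation to a residue field. -/
theorem exists_fibre_presentation {n : ℕ} (φ : MvPolynomial (Fin n) R →ₐ[R] A) (hφ : Function.Surjective φ)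
    (p : Ideal R) [p.IsPrime] {B : Type u} [CommRing B] [Algebra p.ResidueField B]
    (E : p.Fiber A ≃ₐ[p.ResidueField] B) :
    ∃ φb : MvPolynomial (Fin n) p.ResidueField →ₐ[p.ResidueField] B, Function.Surjective φb ∧
      RingHom.ker φb.toRingHom = (RingHom.ker φ.toRingHom).map (MvPolynomial.map (algebraMap R p.ResidueField)) ∧
      ∀ x, φb (MvPolynomial.map (algebraMap R p.ResidueField) x) = E ((1 : p.ResidueField) ⊗ₜ[R] φ x) := by
  let κ := p.ResidueField
  let u : κ ⊗[R] MvPolynomial (Fin n) R ≃ₐ[κ] MvPolynomial (Fin n) κ := MvPolynomial.algebraTensorAlgEquiv R κ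
  let ψ : κ ⊗[R] MvPolynomial (Fin n) R →ₐ[κ] κ ⊗[R] A := Algebra.TensorProduct.map (AlgHom.id κ κ) φ
  have hu : ∀ x, u ((1 : κ) ⊗ₜ[R] x) = MvPolynomial.map (algebraMap R κ) x := fun x => by
    simp [u, MvPolynomial.algebraTensorAlgEquiv_tmul]
  have hψs : Function.Surjective ψ := fun z => by
    induction z with
    | zero => exact ⟨0, map_zero _⟩
    | tmul a b =>
      obtain ⟨x, rfl⟩ := hφ b
      exact ⟨a ⊗ₜ x, rfl⟩
    | add a b ha hb =>
      obtain ⟨x, rfl⟩ := ha
      obtain ⟨y, rfl⟩ := hb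
      exact ⟨x + y, map_add _ _ _⟩
  refine ⟨(E.toAlgHom.comp ψ).comp u.symm.toAlgHom, (E.surjective.comp hψs).comp u.symm.surjective, ?_, fun x => ?_⟩
  · have hk : RingHom.ker ψ.toRingHom = (RingHom.ker φ.toRingHom).map
        (Algebra.TensorProduct.includeRight : MvPolynomial (Fin n) R →ₐ[R] κ ⊗[R] MvPolynomial (Fin n) R).toRingHom :=
      Algebra.TensorProduct.lTensor_ker φ hφ
    have hcomp : (MvPolynomial.map (algebraMap R κ)) = u.toRingEquiv.toRingHom.comp
        (Algebra.TensorProduct.includeRight : MvPolynomial (Fin n) R →ₐ[R] κ ⊗[R] MvPolynomial (Fin n) R).toRingHom :=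
      RingHom.ext fun x => (hu x).symm
    rw [hcomp, ← Ideal.map_map, ← hk]
    refine Ideal.ext fun z => ?_
    rw [Ideal.mem_map_iff_of_surjective u.toRingEquiv.toRingHom u.toRingEquiv.surjective]
    show E (ψ (u.symm z)) = 0 ↔ ∃ y, ψ y = 0 ∧ u y = z
    rw [EmbeddingLike.map_eq_zero_iff]
    exact ⟨fun hz => ⟨_, hz, u.apply_symm_apply z⟩, fun ⟨y, hy, hyz⟩ => by rw [← hyz, u.symm_apply_apply]; exact hy⟩
  · show E (ψ (u.symm (MvPolynomial.map (algebraMap R κ) x))) = _
    rw [← hu, u.symm_apply_apply]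
    rfl

/-- The equations near a complete intersection point. -/
theorem exists_equations {n : ℕ} (φ : MvPolynomial (Fin n) R →ₐ[R] A) (hφ : Function.Surjective φ)
    (hI : (RingHom.ker φ.toRingHom).FG) (p : Ideal R) [p.IsPrime] {B : Type u} [CommRing B]
    [Algebra p.ResidueField B] (E : p.Fiber A ≃ₐ[p.ResidueField] B) (QB : Ideal B) [QB.IsPrime] (q : Ideal A) [q.IsPrime]
    (hq : ∀ a, a ∈ q ↔ E ((1 : p.ResidueField) ⊗ₜ[R] a) ∈ QB) (hfl : Module.Flat R (Localization.AtPrime q))
    (hCI : Synt.IsCIOver p.ResidueField (Localization.AtPrime QB)) :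
    ∃ (c : ℕ) (f : Fin c → MvPolynomial (Fin n) R) (g₁ : MvPolynomial (Fin n) R), c ≤ n ∧
      (∀ i, f i ∈ RingHom.ker φ.toRingHom) ∧ φ g₁ ∉ q ∧
      (∀ x ∈ RingHom.ker φ.toRingHom, g₁ * x ∈ Ideal.span (Set.range f)) ∧
      ringKrullDim (p.Fiber (Synt.RelGCIRing R (n + 1) (c + 1) (awayPres f g₁))) ≤
        ((n + 1 - (c + 1) : ℕ) : WithBot ℕ∞) := by
  classical
  let κ := p.ResidueField
  let P := MvPolynomial (Fin n) R
  let m : P →+* MvPolynomial (Fin n) κ := MvPolynomial.map (algebraMap R κ)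
  let I : Ideal P := RingHom.ker φ.toRingHom
  obtain ⟨φb, hφb, hker, hφm⟩ := exists_fibre_presentation φ hφ p E
  let bb : Ideal (MvPolynomial (Fin n) κ) := QB.comap φb.toRingHom
  let Tb := Localization.AtPrime bb
  obtain ⟨rs, hrs, hrsI⟩ := (isCIOver_atPrime_iff φb hφb QB bb rfl).1 hCI
  rw [hker] at hrsI
  let b : Ideal P := q.comap φ.toRingHom
  have hbm : ∀ x, x ∈ b ↔ m x ∈ bb := fun x => by
    show φ x ∈ q ↔ φb (m x) ∈ QB
    rw [hq, hφm]
  have hCb : ∀ t ∉ p, MvPolynomial.C t ∉ b := fun t ht h => by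
    rw [hbm, show m (MvPolynomial.C t) = MvPolynomial.C (algebraMap R κ t) from MvPolynomial.map_C _ _] at h
    exact (inferInstance : bb.IsPrime).ne_top (Ideal.eq_top_of_isUnit_mem _ h
      ((Ne.isUnit fun h0 => ht (Ideal.algebraMap_residueField_eq_zero.1 h0)).map MvPolynomial.C))
  let χ : P →+* Tb := (algebraMap (MvPolynomial (Fin n) κ) Tb).comp m
  have hχu : ∀ s ∉ b, IsUnit (χ s) := fun s hs =>
    IsLocalization.map_units Tb (⟨m s, fun h => hs ((hbm s).2 h)⟩ : bb.primeCompl)
  have hdense : ∀ z, ∃ s ∈ b.primeCompl, ∃ x, z * χ s = χ x := fun z => by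
    obtain ⟨⟨y, ⟨v, hv⟩⟩, hyv⟩ := IsLocalization.surj bb.primeCompl z
    obtain ⟨t, ht, x, hx⟩ := exists_C_mul_eq_map p y
    obtain ⟨t', ht', w, hw⟩ := exists_C_mul_eq_map p v
    refine ⟨w * MvPolynomial.C t, b.primeCompl.mul_mem ?_ (hCb t ht), x * MvPolynomial.C t', ?_⟩
    · intro hwb
      change w ∈ b at hwb
      rw [hbm] at hwb
      change MvPolynomial.map (algebraMap R κ) w ∈ bb at hwb
      rw [← hw] at hwb
      rcases (inferInstance : bb.IsPrime).mem_or_mem hwb with h | h
      · exact hv h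
      · exact hCb t' ht' ((hbm _).2 h)
    · simp only [χ, RingHom.comp_apply, map_mul]
      simp only [m]
      rw [← hw, ← hx, map_mul, map_mul]
      linear_combination (algebraMap (MvPolynomial (Fin n) κ) Tb (MvPolynomial.map (algebraMap R κ) (MvPolynomial.C t'))) *
        (algebraMap (MvPolynomial (Fin n) κ) Tb (MvPolynomial.map (algebraMap R κ) (MvPolynomial.C t))) * hyv
  have hIχ : I.map χ = (I.map m).map (algebraMap _ Tb) := (Ideal.map_map _ _).symm
  -- the equations
  have hmem : ∀ j : Fin rs.length, ∃ f ∈ I, Associated (χ f) (rs.get j) := fun j => by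
    have h1 : rs.get j ∈ I.map χ := hIχ ▸ hrsI ▸ Ideal.subset_span (List.get_mem rs j)
    obtain ⟨s, hs, f, hf, hsf⟩ := exists_of_mem_map χ b.primeCompl hdense h1
    exact ⟨f, hf, ⟨(hχu s hs).unit⁻¹, by rw [← hsf, mul_assoc, IsUnit.mul_val_inv, mul_one]⟩⟩
  choose f hfI hass using hmem
  let J : Ideal P := Ideal.span (Set.range f)
  have hJI : J ≤ I := Ideal.span_le.2 (Set.range_subset_iff.2 hfI)
  have hJχ : Ideal.ofList rs = J.map χ := by
    refine le_antisymm ?_ ?_
    · rw [CommAlgDim.ofList_le_iff]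
      intro x hx
      obtain ⟨j, rfl⟩ := List.mem_iff_get.1 hx
      exact Ideal.mem_of_dvd _ (hass j).dvd (Ideal.mem_map_of_mem _ (Ideal.subset_span ⟨j, rfl⟩))
    · rw [hrsI, ← hIχ]
      exact Ideal.map_mono hJI
  have hJI' : J.map χ = I.map χ := by rw [← hJχ, hrsI, hIχ]
  -- the kernel agrees with the equations near the point
  let T := Localization.AtPrime b
  obtain ⟨π, hπ, hπker⟩ := exists_localPresentation' φ hφ q b rfl
  let K : Ideal T := I.map (algebraMap P T)
  have hπK : RingHom.ker π.toRingHom = K := hπker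
  have hKJ : K ≤ J.map (algebraMap P T) := by
    refine Submodule.le_of_le_smul_of_le_jacobson_bot (I := p.map (algebraMap R T)) (hI.map _) ?_ ?_
    · refine le_trans ?_ (IsLocalRing.jacobson_eq_maximalIdeal (R := T) ⊥ bot_ne_top).ge
      rw [Ideal.map_le_iff_le_comap]
      intro r hr
      rw [Ideal.mem_comap, IsScalarTower.algebraMap_apply R P T]
      have : algebraMap R P r ∈ b := by
        rw [hbm, show m (algebraMap R P r) = MvPolynomial.C (algebraMap R κ r) from MvPolynomial.map_C _ _,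
          Ideal.algebraMap_residueField_eq_zero.2 hr, map_zero]
        exact zero_mem _
      exact (IsLocalization.AtPrime.to_map_mem_maximal_iff T b _).2 this
    · rw [show K = I.map (algebraMap P T) from rfl, Ideal.map_le_iff_le_comap]
      intro x hx
      rw [Ideal.mem_comap]
      have hxJ : χ x ∈ J.map χ := hJI' ▸ Ideal.mem_map_of_mem _ hx
      obtain ⟨s, hs, j, hj, hsj⟩ := exists_of_mem_map χ b.primeCompl hdense hxJ
      have hd : m (x * s - j) = 0 := by
        refine IsLocalization.injective (M := bb.primeCompl) Tb (fun y hy => mem_nonZeroDivisors_of_ne_zero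
          (fun h0 => hy (h0 ▸ zero_mem _))) ?_
        show χ (x * s - j) = algebraMap _ Tb 0
        rw [map_zero, map_sub, map_mul, hsj, sub_self]
      have hd' : x * s - j ∈ p.map (algebraMap R P) := by
        have h2 : x * s - j ∈ RingHom.ker m := hd
        rw [MvPolynomial.ker_map, Ideal.ker_algebraMap_residueField] at h2
        exact h2
      let w : T := algebraMap P T (x * s - j)
      have hw : w ∈ LinearMap.ker π.toLinearMap ⊓ p • (⊤ : Submodule R T) := by
        refine ⟨?_, ?_⟩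
        · show π w = 0
          have : w ∈ RingHom.ker π.toRingHom := hπK ▸ Ideal.mem_map_of_mem _ (sub_mem (I.mul_mem_right _ hx) (hJI hj))
          exact this
        · rw [Ideal.smul_top_eq_map]
          show w ∈ p.map (algebraMap R T)
          rw [IsScalarTower.algebraMap_eq R P T, ← Ideal.map_map]
          exact Ideal.mem_map_of_mem _ hd'
      have hwK : w ∈ p.map (algebraMap R T) * K := by
        refine Submodule.smul_induction_on (ker_inf_smul_le π.toLinearMap hπ p hw) (fun r hr y hy => ?_) fun a b ha hb => add_mem ha hb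
        rw [Algebra.smul_def]
        exact Ideal.mul_mem_mul (Ideal.mem_map_of_mem _ hr) (hπK ▸ hy)
      have hu : IsUnit (algebraMap P T s) := IsLocalization.map_units T (⟨s, hs⟩ : b.primeCompl)
      rw [← Ideal.mul_unit_mem_iff_mem _ hu, ← map_mul, show x * s = j + (x * s - j) by ring, map_add, smul_eq_mul]
      exact Submodule.add_mem_sup (Ideal.mem_map_of_mem _ hj) hwK
  have hkill : ∃ s ∉ b, ∀ x ∈ I, s * x ∈ J := by
    obtain ⟨t, ht⟩ := hI
    have h1 : ∀ x : t, ∃ s ∉ b, s * (x : P) ∈ J := fun x => by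
      have hx : (x : P) ∈ I := by
        show (x : P) ∈ RingHom.ker φ.toRingHom
        rw [← ht]; exact Ideal.subset_span x.2
      exact (IsLocalization.algebraMap_mem_map_algebraMap_iff b.primeCompl T J _).1 (hKJ (Ideal.mem_map_of_mem _ hx))
    choose s hsb hsJ using h1
    refine ⟨∏ x : t, s x, prod_mem (S := b.primeCompl) fun x _ => hsb x, fun x hx => ?_⟩
    have hx' : x ∈ Submodule.span P (t : Set P) := by
      show x ∈ Ideal.span (t : Set P)
      rw [ht]; exact hx
    refine (Submodule.span_le (p := Submodule.comap (LinearMap.mulLeft P (∏ x : t, s x)) J)).2 (fun z hz => ?_) hx'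
    show (∏ x : t, s x) * z ∈ J
    obtain ⟨d, hd⟩ : s ⟨z, hz⟩ ∣ ∏ x : t, s x := Finset.dvd_prod_of_mem s (Finset.mem_univ _)
    rw [hd, mul_right_comm]
    exact J.mul_mem_right d (hsJ ⟨z, hz⟩)
  obtain ⟨s₀, hs₀, hs₀J⟩ := hkill
  -- the fibre has the expected dimension
  let Jb : Ideal (MvPolynomial (Fin n) κ) := J.map m
  have hJbb : Jb ≤ bb := Ideal.map_le_iff_le_comap.2 fun x hx => (hbm x).1 (by
    show φ x ∈ q
    rw [show φ x = 0 from hJI hx]; exact zero_mem _)
  obtain ⟨hc, g₀, hg₀, hdim⟩ := exists_away_dim_le κ Jb bb hJbb rs hrs (hJχ.trans (Ideal.map_map _ _).symm)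
  obtain ⟨t₀, ht₀, w₀, hw₀⟩ := exists_C_mul_eq_map p g₀
  let g₁ : P := s₀ * w₀
  have hg₁ : φ g₁ ∉ q := b.primeCompl.mul_mem hs₀ (fun hw => by
    change w₀ ∈ b at hw
    rw [hbm] at hw
    change MvPolynomial.map (algebraMap R κ) w₀ ∈ bb at hw
    rw [← hw₀] at hw
    rcases (inferInstance : bb.IsPrime).mem_or_mem hw with h | h
    · exact hg₀ h
    · exact hCb t₀ ht₀ ((hbm _).2 h))
  obtain ⟨e₀⟩ := nonempty_awayEquiv f g₁
  let f' := awayPres f g₁
  let S' := Synt.RelGCIRing R (n + 1) (rs.length + 1) f'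
  have hdim' : ringKrullDim (p.Fiber S') ≤ ((n + 1 - (rs.length + 1) : ℕ) : WithBot ℕ∞) := by
    rw [Nat.succ_sub_succ]
    refine le_of_eq_of_le (ringKrullDim_eq_of_ringEquiv (R := p.Fiber S')
      (Algebra.TensorProduct.congr (AlgEquiv.refl (R := κ) (A₁ := κ)) e₀.symm).toRingEquiv) ?_
    refine fiber_away_dim_le f g₁ p Jb ?_ _ (hdim (m g₁) ?_)
    · show _ = Ideal.map m (Ideal.span (Set.range f))
      rw [Ideal.map_span, ← Set.range_comp]
      rfl
    show g₀ ∣ m (s₀ * w₀)
    rw [map_mul, show m w₀ = g₀ * MvPolynomial.map (algebraMap R κ) (MvPolynomial.C t₀) from hw₀.symm]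
    exact Dvd.dvd.mul_left (Dvd.intro _ rfl) _
  exact ⟨rs.length, f, g₁, hc, hfI, hg₁, fun x hx => by
    show s₀ * w₀ * x ∈ J
    rw [mul_right_comm]
    exact J.mul_mem_right _ (hs₀J x hx), hdim'⟩

/-- Equations of the expected fibre dimension give a relative global complete intersection neighbourhood. -/
theorem relGCI_nhd_of_equations {n c : ℕ} (φ : MvPolynomial (Fin n) R →ₐ[R] A) (hφ : Function.Surjective φ)
    (p : Ideal R) [p.IsPrime] (q : Ideal A) [q.IsPrime] (hqp : ∀ r, algebraMap R A r ∈ q ↔ r ∈ p)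
    (f : Fin c → MvPolynomial (Fin n) R) (g₁ : MvPolynomial (Fin n) R) (hc : c ≤ n)
    (hfI : ∀ i, f i ∈ RingHom.ker φ.toRingHom) (hg₁ : φ g₁ ∉ q)
    (hkill : ∀ x ∈ RingHom.ker φ.toRingHom, g₁ * x ∈ Ideal.span (Set.range f))
    (hdim' : ringKrullDim (p.Fiber (Synt.RelGCIRing R (n + 1) (c + 1) (awayPres f g₁))) ≤
        ((n + 1 - (c + 1) : ℕ) : WithBot ℕ∞)) :
    ∃ g : A, g ∉ q ∧ ∃ (n c : ℕ) (F : Fin c → MvPolynomial (Fin n) R), Synt.IsRelGCI R n c F ∧
      Nonempty (Localization.Away g ≃ₐ[R] Synt.RelGCIRing R n c F) := by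
  classical
  let κ := p.ResidueField
  obtain ⟨e₀⟩ := nonempty_awayEquiv f g₁
  obtain ⟨e₁⟩ := nonempty_awayEquiv_of_mul_le φ hφ (Ideal.span (Set.range f))
    (Ideal.span_le.2 (Set.range_subset_iff.2 hfI)) g₁ hkill
  let f' := awayPres f g₁
  let S' := Synt.RelGCIRing R (n + 1) (c + 1) f'
  let e : S' ≃ₐ[R] Localization.Away (φ g₁) := e₀.symm.trans e₁
  obtain ⟨h, hh, hgci⟩ := exists_away_of_fibre f' p (Nat.succ_le_succ hc) hdim'
  obtain ⟨e₂⟩ := nonempty_awayEquiv f' h
  let z : Localization.Away (φ g₁) := e (Ideal.Quotient.mk _ h)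
  obtain ⟨a, ⟨e₃⟩, hout⟩ := exists_away_away (R := R) (φ g₁) z
  refine ⟨φ g₁ * a, ?_, n + 1 + 1, c + 1 + 1, awayPres f' h, hgci, ⟨?_⟩⟩
  · let x : Ideal (Localization.Away (φ g₁)) := q.map (algebraMap A _)
    have hdisj : Disjoint (Submonoid.powers (φ g₁) : Set A) (q : Set A) := by
      rw [Set.disjoint_left]
      rintro _ ⟨k, rfl⟩ hk
      exact hg₁ ((inferInstance : q.IsPrime).mem_of_pow_mem k hk)
    have hx : x.IsPrime := IsLocalization.isPrime_of_isPrime_disjoint _ _ q inferInstance hdisj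
    have hxc : x.comap (algebraMap A (Localization.Away (φ g₁))) = q :=
      IsLocalization.under_map_of_isPrime_disjoint (Submonoid.powers (φ g₁)) _ inferInstance hdisj
    refine hxc ▸ hout x hx fun hz => ?_
    let x' : PrimeSpectrum S' := ⟨x.comap e.toRingEquiv.toRingHom, inferInstance⟩
    have hx' : PrimeSpectrum.comap (algebraMap R S') x' = ⟨p, inferInstance⟩ := by
      refine PrimeSpectrum.ext (Ideal.ext fun r => ?_)
      show e (algebraMap R S' r) ∈ x ↔ r ∈ p
      rw [e.commutes, IsScalarTower.algebraMap_apply R A (Localization.Away (φ g₁)), ← hqp, ← hxc]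
      rfl
    let y := PrimeSpectrum.preimageHomeomorphFiber R S' ⟨p, inferInstance⟩ ⟨x', hx'⟩
    have h2 : x'.asIdeal = y.asIdeal.comap (Algebra.TensorProduct.includeRight : S' →ₐ[R] κ ⊗[R] S').toRingHom :=
      (congrArg (fun w => PrimeSpectrum.asIdeal w.1)
        ((PrimeSpectrum.preimageHomeomorphFiber R S' ⟨p, inferInstance⟩).symm_apply_apply ⟨x', hx'⟩)).symm
    have hz' : Ideal.Quotient.mk _ h ∈ x'.asIdeal := hz
    rw [h2] at hz'
    exact y.isPrime.ne_top (Ideal.eq_top_of_isUnit_mem _ hz' hh)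
  · exact ((IsLocalization.algEquivOfAlgEquiv (Localization.Away (Ideal.Quotient.mk _ h : S')) (Localization.Away z) e
      (M := Submonoid.powers (Ideal.Quotient.mk _ h : S')) (T := Submonoid.powers z) (Submonoid.map_powers e _)).trans e₃).symm.trans e₂


/-- A complete intersection point of the fibre with flat local ring has a relative global complete
intersection neighbourhood. -/
theorem exists_relGCI_nhd [Algebra.FinitePresentation R A] (p : Ideal R) [p.IsPrime] {B : Type u} [CommRing B]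
    [Algebra p.ResidueField B] (E : p.Fiber A ≃ₐ[p.ResidueField] B) (QB : Ideal B) [QB.IsPrime] (q : Ideal A) [q.IsPrime]
    (hq : ∀ a, a ∈ q ↔ E ((1 : p.ResidueField) ⊗ₜ[R] a) ∈ QB) (hfl : Module.Flat R (Localization.AtPrime q))
    (hCI : Synt.IsCIOver p.ResidueField (Localization.AtPrime QB)) :
    ∃ g : A, g ∉ q ∧ ∃ (n c : ℕ) (F : Fin c → MvPolynomial (Fin n) R), Synt.IsRelGCI R n c F ∧
      Nonempty (Localization.Away g ≃ₐ[R] Synt.RelGCIRing R n c F) := by
  obtain ⟨n, φ, hφ, hI⟩ := Algebra.FinitePresentation.out (R := R) (A := A)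
  obtain ⟨c, f, g₁, hc, hfI, hg₁, hkill, hdim'⟩ := exists_equations φ hφ hI p E QB q hq hfl hCI
  have hqp : ∀ r, algebraMap R A r ∈ q ↔ r ∈ p := fun r => by
    rw [hq, Algebra.algebraMap_eq_smul_one, ← smul_tmul, ← Algebra.algebraMap_eq_smul_one]
    refine ⟨fun hr => ?_, fun hr => ?_⟩
    · by_contra hrp
      refine (inferInstance : QB.IsPrime).ne_top (Ideal.eq_top_of_isUnit_mem _ hr ?_)
      rw [show (algebraMap R p.ResidueField r) ⊗ₜ[R] (1 : A) = algebraMap p.ResidueField (p.ResidueField ⊗[R] A) (algebraMap R p.ResidueField r) from rfl, E.commutes]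
      exact (Ne.isUnit fun h0 => hrp (Ideal.algebraMap_residueField_eq_zero.1 h0)).map _
    · rw [Ideal.algebraMap_residueField_eq_zero.2 hr, zero_tmul, map_zero]
      exact zero_mem _
  exact relGCI_nhd_of_equations φ hφ p q hqp f g₁ hc hfI hg₁ hkill hdim'

end Point

section Nhd

variable {R S : Type u} [CommRing R] [CommRing S] [Algebra R S]

/-- A prime in a basic open, with the same local ring. -/
theorem exists_atPrime_away (R : Type u) [CommRing R] {A : Type u} [CommRing A] [Algebra R A] (g : A) (Q : Ideal A) [Q.IsPrime]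
    (hg : g ∉ Q) : ∃ (a : Ideal (Localization.Away g)) (_ : a.IsPrime), a.comap (algebraMap A (Localization.Away g)) = Q ∧
      Nonempty (Localization.AtPrime a ≃ₐ[R] Localization.AtPrime Q) := by
  obtain ⟨a, ha⟩ : (⟨Q, inferInstance⟩ : PrimeSpectrum A) ∈
      Set.range (PrimeSpectrum.comap (algebraMap A (Localization.Away g))) := by
    rw [PrimeSpectrum.localization_away_comap_range (Localization.Away g) g]
    exact hg
  have hap : a.asIdeal.comap (algebraMap A (Localization.Away g)) = Q := congrArg PrimeSpectrum.asIdeal ha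
  subst hap
  have : IsLocalization.AtPrime (Localization.AtPrime a.asIdeal) (a.asIdeal.comap (algebraMap A (Localization.Away g))) :=
    IsLocalization.isLocalization_isLocalization_atPrime_isLocalization (Submonoid.powers g) _ a.asIdeal
  exact ⟨a.asIdeal, inferInstance, rfl,
    ⟨(IsLocalization.algEquiv (a.asIdeal.comap (algebraMap A (Localization.Away g))).primeCompl
      (Localization.AtPrime a.asIdeal) (Localization.AtPrime _)).restrictScalars R⟩⟩

/-- A syntomic neighbourhood gives the local conditions. -/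
theorem local_of_syntomic_nhd (p : Ideal R) [p.IsPrime] (q : Ideal S) [q.IsPrime] (Q : Ideal (p.Fiber S)) [Q.IsPrime]
    (hQ : Q.comap (Algebra.TensorProduct.includeRight : S →ₐ[R] p.Fiber S).toRingHom = q) (g : S) (hg : g ∉ q)
    (h : Synt.IsSyntomic R (Localization.Away g)) :
    Algebra.FinitePresentation R (Localization.Away g) ∧ Module.Flat R (Localization.AtPrime q) ∧
      Synt.IsCIOver p.ResidueField (Localization.AtPrime Q) := by
  refine ⟨h.2.1, ?_, ?_⟩
  · obtain ⟨a, _, -, ⟨e⟩⟩ := exists_atPrime_away R g q hg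
    have := h.1
    have : Module.Flat (Localization.Away g) (Localization.AtPrime a) := IsLocalization.flat _ a.primeCompl
    have : Module.Flat R (Localization.AtPrime a) := Module.Flat.trans R (Localization.Away g) (Localization.AtPrime a)
    exact Module.Flat.of_linearEquiv e.symm.toLinearEquiv
  · have hg' : (1 : p.ResidueField) ⊗ₜ[R] g ∉ Q := fun hh => hg (hQ ▸ hh)
    obtain ⟨a, _, -, ⟨e⟩⟩ := exists_atPrime_away p.ResidueField ((1 : p.ResidueField) ⊗ₜ[R] g : p.Fiber S) Q hg'
    exact isCIOver_congr e (isCIOver_atPrime_of_isLCIOver (isLCIOver_congr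
      (IsLocalization.Away.tensorProductEquivTMulRight R p.ResidueField g (Localization.Away g)) (h.2.2 ⟨p, inferInstance⟩)) a)

/-- The local conditions give a relative global complete intersection neighbourhood. -/
theorem relGCI_nhd_of_local (p : Ideal R) [p.IsPrime] (q : Ideal S) [q.IsPrime] (Q : Ideal (p.Fiber S)) [Q.IsPrime]
    (hQ : Q.comap (Algebra.TensorProduct.includeRight : S →ₐ[R] p.Fiber S).toRingHom = q) (g₀ : S) (hg₀ : g₀ ∉ q)
    (hfp : Algebra.FinitePresentation R (Localization.Away g₀)) (hfl : Module.Flat R (Localization.AtPrime q))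
    (hCI : Synt.IsCIOver p.ResidueField (Localization.AtPrime Q)) :
    ∃ g : S, g ∉ q ∧ ∃ (n c : ℕ) (F : Fin c → MvPolynomial (Fin n) R), Synt.IsRelGCI R n c F ∧
      Nonempty (Localization.Away g ≃ₐ[R] Synt.RelGCIRing R n c F) := by
  let κ := p.ResidueField
  have hg' : (1 : κ) ⊗ₜ[R] g₀ ∉ Q := fun hh => hg₀ (hQ ▸ hh)
  obtain ⟨QB, _, hQB, ⟨eQ⟩⟩ := exists_atPrime_away κ ((1 : κ) ⊗ₜ[R] g₀ : p.Fiber S) Q hg'
  let E : p.Fiber (Localization.Away g₀) ≃ₐ[κ] Localization.Away ((1 : κ) ⊗ₜ[R] g₀ : p.Fiber S) :=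
    IsLocalization.Away.tensorProductEquivTMulRight R κ g₀ (Localization.Away g₀)
  let q₁ : Ideal (Localization.Away g₀) := QB.comap (E.toRingEquiv.toRingHom.comp
    (Algebra.TensorProduct.includeRight : Localization.Away g₀ →ₐ[R] κ ⊗[R] Localization.Away g₀).toRingHom)
  have hq₁ : q₁.comap (algebraMap S (Localization.Away g₀)) = q := by
    refine Ideal.ext fun s => ?_
    show E ((1 : κ) ⊗ₜ[R] algebraMap S (Localization.Away g₀) s) ∈ QB ↔ s ∈ q
    rw [show E ((1 : κ) ⊗ₜ[R] algebraMap S (Localization.Away g₀) s) = _ from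
      IsLocalization.Away.tensorProductEquivTMulRight_tmul (R := R) (S := κ) S g₀ (Localization.Away g₀) 1 s, ← hQ, ← hQB]
    rfl
  obtain ⟨a, _, ha, ⟨ea⟩⟩ := exists_atPrime_away R g₀ q hg₀
  have haq : a = q₁ := by
    rw [← IsLocalization.map_under (Submonoid.powers g₀) (Localization.Away g₀) a,
      ← IsLocalization.map_under (Submonoid.powers g₀) (Localization.Away g₀) q₁]
    exact congrArg (Ideal.map _) (ha.trans hq₁.symm)
  subst haq
  obtain ⟨g, hg, n, c, F, hF, ⟨eF⟩⟩ := exists_relGCI_nhd p E QB q₁ (fun _ => Iff.rfl)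
    (Module.Flat.of_linearEquiv ea.toLinearEquiv) (isCIOver_congr eQ.symm hCI)
  obtain ⟨b, ⟨e⟩, hb⟩ := exists_away_away (R := R) g₀ g
  exact ⟨g₀ * b, hq₁ ▸ hb q₁ inferInstance hg, n, c, F, hF, ⟨e.symm.trans eF⟩⟩

end Nhd

end TransLib
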