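import Groth.Agent.TransLib.RelKoszul
import Groth.Agent.TateLib.Delta
import Groth.Agent.TateLib.Fibre

/-!
# The Noether different of a relative global complete intersection of relative dimension zero
-/

set_option autoImplicit false

universe u

open TensorProduct MvPolynomial

namespace TransLib

variable {A : Type u} [CommRing A] {n : ℕ} (f : Fin n → MvPolynomial (Fin n) A)

theorem isRelGCI_of_quasiFinite [Algebra.QuasiFinite A (Synt.RelGCIRing A n n f)] : Synt.IsRelGCI A n n f := by
  refine isRelGCI_of_fibre_le le_rfl fun p _ => ?_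
  rcases subsingleton_or_nontrivial (p.Fiber (Synt.RelGCIRing A n n f)) with hs | hs
  · rw [ringKrullDim_eq_bot_of_subsingleton]; exact bot_le
  · have : Module.Finite p.ResidueField (p.Fiber (Synt.RelGCIRing A n n f)) := inferInstance
    have := IsArtinianRing.of_finite p.ResidueField (p.Fiber (Synt.RelGCIRing A n n f))
    refine (TateLib.krullDim_eq_zero_of_artinian (p.Fiber (Synt.RelGCIRing A n n f))).trans_le ?_
    simp

/-- Extending scalars preserves relative global complete intersections. -/
theorem isRelGCI_map {B : Type u} [CommRing B] [Algebra A B] {c : ℕ} (F : Fin c → MvPolynomial (Fin n) A) (hc : c ≤ n)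
    (h : Synt.IsRelGCI A n c F) : Synt.IsRelGCI B n c fun i => map (algebraMap A B) (F i) :=
  isRelGCI_of_fibre_le hc fun p _ => by
    rw [ringKrullDim_fibre_map F _ (fun _ => rfl) p]
    exact fibre_le_of_isRelGCI h _

theorem noetherDifferent_eq (h : Synt.IsRelGCI A n n f) :
    Disc.noetherDifferent A (Synt.RelGCIRing A n n f) =
      Ideal.span {Ideal.Quotient.mk (Ideal.span (Set.range f)) (TateLib.jac f)} := by
  classical
  let B := Synt.RelGCIRing A n n f
  let φ : MvPolynomial (Fin n) A →ₐ[A] B := Ideal.Quotient.mkₐ A _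
  have hφ : Function.Surjective φ := Ideal.Quotient.mkₐ_surjective A _
  have hker : RingHom.ker φ.toRingHom = Ideal.span (Set.range f) := Ideal.mk_ker
  obtain ⟨b, hb⟩ := TateLib.exists_matrix hker
  let f' : Fin n → MvPolynomial (Fin n) B := fun i => map (algebraMap A B) (f i)
  let e := fibreEquiv (R := A) B n n f
  let g : MvPolynomial (Fin n) B →+* B ⊗[A] B :=
    (Algebra.TensorProduct.comm A B B).toRingEquiv.toRingHom.comp
      (e.symm.toRingEquiv.toRingHom.comp (Ideal.Quotient.mk _))
  have hg : TateLib.theta φ = g := by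
    refine ringHom_ext (fun r => ?_) (fun j => ?_)
    · have he : e.symm (Ideal.Quotient.mk _ (C r)) = r ⊗ₜ[A] (1 : B) := e.symm.commutes r
      simp only [TateLib.theta, eval₂Hom_C, g, RingHom.comp_apply]
      show _ = Algebra.TensorProduct.comm A B B (e.symm (Ideal.Quotient.mk _ (C r)))
      rw [he]
      rfl
    · have he : e.symm (Ideal.Quotient.mk _ (X j)) = (1 : B) ⊗ₜ[A] φ (X j) := by
        rw [AlgEquiv.symm_apply_eq]
        show Ideal.Quotient.mk _ (X j) =
          Ideal.Quotient.mk _ (MvPolynomial.algebraTensorAlgEquiv (σ := Fin n) A B ((1 : B) ⊗ₜ[A] X j))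
        rw [MvPolynomial.algebraTensorAlgEquiv_tmul, one_smul, map_X]
      simp only [TateLib.theta, eval₂Hom_X', g, RingHom.comp_apply]
      show _ = Algebra.TensorProduct.comm A B B (e.symm (Ideal.Quotient.mk _ (X j)))
      rw [he]
      rfl
  have hθ0 : ∀ q, TateLib.theta φ q = 0 → q ∈ Ideal.span (Set.range f') := fun q hq => by
    rw [hg] at hq
    refine Ideal.Quotient.eq_zero_iff_mem.1 ?_
    exact (map_eq_zero_iff (f := (Algebra.TensorProduct.comm A B B).toRingEquiv.toRingHom.comp e.symm.toRingEquiv.toRingHom)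
      ((Algebra.TensorProduct.comm A B B).injective.comp e.symm.injective)).1 hq
  have hθs : Function.Surjective (TateLib.theta φ) := by
    rw [hg]
    exact (Algebra.TensorProduct.comm A B B).surjective.comp (e.symm.surjective.comp Ideal.Quotient.mk_surjective)
  have hf' : KoszDetLib.IsExactK f' := isExactK_of_isRelGCI (isRelGCI_map f le_rfl h)
  have hlsurj : Function.Surjective (Algebra.TensorProduct.lmul' (S := B) A) := fun x => ⟨x ⊗ₜ 1, by simp⟩
  apply le_antisymm
  · refine Ideal.map_le_iff_le_comap.2 fun y hy => ?_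
    obtain ⟨q, rfl⟩ := hθs y
    obtain ⟨a, ha⟩ := KoszDetLib.exists_det_mul_sub_mem hf' b (g := fun j => X j - C (φ (X j))) hb q (fun x hx => by
      refine Submodule.span_induction ?_ ?_ ?_ ?_ hx
      · rintro _ ⟨j, rfl⟩
        refine hθ0 _ ?_
        rw [map_mul, mul_comm]
        have hv : TateLib.theta φ (X j - C (φ (X j))) ∈ RingHom.ker (Algebra.TensorProduct.lmul' (S := B) A) := by
          rw [RingHom.mem_ker, TateLib.lmul_theta]
          simp
        have := (Submodule.mem_annihilator.1 hy) _ hv
        rwa [smul_eq_mul, mul_comm] at this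
      · rw [mul_zero]; exact zero_mem _
      · exact fun u v _ _ hu hv => by rw [mul_add]; exact Ideal.add_mem _ hu hv
      · exact fun r u _ hu => by rw [smul_eq_mul, mul_left_comm]; exact Ideal.mul_mem_left _ r hu)
    have h0 : TateLib.theta φ (a * b.det - q) = 0 := by
      obtain ⟨w, hw⟩ := Ideal.mem_span_range_iff_exists_fun.1 ha
      rw [← hw, map_sum]
      refine Finset.sum_eq_zero fun i _ => ?_
      rw [map_mul, show TateLib.theta φ (f' i) = φ (f i) ⊗ₜ 1 from TateLib.theta_map φ _,
        show φ (f i) = 0 from Ideal.Quotient.eq_zero_iff_mem.2 (Ideal.subset_span ⟨i, rfl⟩), zero_tmul, mul_zero]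
    rw [map_sub, sub_eq_zero] at h0
    rw [Ideal.mem_comap, ← h0, map_mul, map_mul, TateLib.lmul_delta hb]
    exact Ideal.mul_mem_left _ _ (Ideal.subset_span rfl)
  · rw [Ideal.span_singleton_le_iff_mem]
    show φ (TateLib.jac f) ∈ _
    rw [← TateLib.lmul_delta hb]
    exact Ideal.mem_map_of_mem _ (TateLib.delta_mem hφ hker hb)

end TransLib
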