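import Groth.Agent.TransLib.Congr
import Groth.Agent.TransLib.Noether
import Groth.Agent.TateLib.Square
import Mathlib.RingTheory.Polynomial.IsIntegral

/-!
# Finite algebras with square presentations, examples
-/

set_option autoImplicit false

universe u

open TensorProduct

namespace TransLib

theorem isSyntomic_of_isSq {A B : Type u} [CommRing A] [CommRing B] [Algebra A B] [Module.Finite A B]
    (h : TateLib.IsSq A B) : Synt.IsSyntomic A B := by
  obtain ⟨n, φ, f, hφ, hker⟩ := h.exists_fin
  let e : Synt.RelGCIRing A n n f ≃ₐ[A] B :=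
    (Ideal.quotientEquivAlgOfEq A hker.symm).trans (Ideal.quotientKerAlgEquivOfSurjective (f := φ) hφ)
  have : Module.Finite A (Synt.RelGCIRing A n n f) := Module.Finite.equiv e.symm.toLinearEquiv
  exact isSyntomic_congr e (isSyntomic_relGCIRing (isRelGCI_of_quasiFinite f))

theorem isSq_self (A : Type u) [CommRing A] : TateLib.IsSq A A :=
  ⟨Fin 0, inferInstance, MvPolynomial.aeval fun i : Fin 0 => i.elim0, fun i => i.elim0,
    fun a => ⟨MvPolynomial.C a, by simp⟩, by
      rw [Set.range_eq_empty, Ideal.span_empty, eq_bot_iff]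
      intro p hp
      obtain ⟨a, rfl⟩ := MvPolynomial.C_surjective (Fin 0) p
      have ha : a = 0 := by simpa using hp
      simp [ha]⟩

/-- Adjoining a root keeps a square presentation. -/
theorem isSq_adjoinRoot {A B : Type u} [CommRing A] [CommRing B] [Algebra A B] (h : TateLib.IsSq A B)
    (Q : Polynomial B) : TateLib.IsSq A (AdjoinRoot Q) := by
  classical
  obtain ⟨ι, _, φ, f, hφ, hker⟩ := h
  let E := MvPolynomial.optionEquivLeft A ι
  let ψ : Polynomial (MvPolynomial ι A) →ₐ[A] AdjoinRoot Q :=
    ((AdjoinRoot.mkₐ Q).restrictScalars A).comp (Polynomial.mapAlgHom φ)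
  have hψ : Function.Surjective ψ := AdjoinRoot.mk_surjective.comp (Polynomial.map_surjective _ hφ)
  obtain ⟨Q', hQ'⟩ := Polynomial.map_surjective φ.toRingHom hφ Q
  let f₀ : Option ι → Polynomial (MvPolynomial ι A) := fun o => o.elim Q' fun i => Polynomial.C (f i)
  have hspan : RingHom.ker ψ.toRingHom = Ideal.span (Set.range f₀) := by
    have h1 : Set.range f₀ = insert Q' ((Polynomial.C : MvPolynomial ι A →+* _) '' Set.range f) := by
      ext x
      constructor
      · rintro ⟨o, rfl⟩
        cases o with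
        | none => exact Set.mem_insert _ _
        | some i => exact Set.mem_insert_of_mem _ ⟨_, ⟨i, rfl⟩, rfl⟩
      · rintro (rfl | ⟨_, ⟨i, rfl⟩, rfl⟩)
        · exact ⟨none, rfl⟩
        · exact ⟨some i, rfl⟩
    have h2 : RingHom.ker ψ.toRingHom = (Ideal.span {Q}).comap (Polynomial.mapRingHom φ.toRingHom) := by
      ext x
      rw [RingHom.mem_ker, Ideal.mem_comap, Ideal.mem_span_singleton, ← AdjoinRoot.mk_eq_zero]
      rfl
    rw [h1, h2, Ideal.span_insert, ← Ideal.map_span (Polynomial.C : MvPolynomial ι A →+* _), ← hker,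
      show Ideal.span {Q} = (Ideal.span {Q'}).map (Polynomial.mapRingHom φ.toRingHom) by
        rw [Ideal.map_span, Set.image_singleton, Polynomial.coe_mapRingHom, hQ'],
      Ideal.comap_map_of_surjective _ (Polynomial.map_surjective _ hφ), ← RingHom.ker_eq_comap_bot,
      Polynomial.ker_mapRingHom]
  refine ⟨Option ι, inferInstance, ψ.comp E.toAlgHom, fun o => E.symm (f₀ o), hψ.comp E.surjective, ?_⟩
  rw [show (fun o => E.symm (f₀ o)) = E.symm.toRingEquiv.toRingHom ∘ f₀ from rfl, Set.range_comp,
    ← Ideal.map_span, ← hspan]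
  ext x
  rw [Ideal.mem_map_iff_of_surjective E.symm.toRingEquiv.toRingHom E.symm.surjective]
  constructor
  · intro hx
    exact ⟨E x, hx, E.symm_apply_apply x⟩
  · rintro ⟨y, hy, rfl⟩
    show ψ (E (E.symm y)) = 0
    rw [E.apply_symm_apply]
    exact hy

theorem faithfullyFlat_of_finite {A B : Type u} [CommRing A] [CommRing B] [Algebra A B] [Module.Finite A B]
    [Module.Flat A B] (h : Function.Injective (algebraMap A B)) : Module.FaithfullyFlat A B := by
  refine Module.FaithfullyFlat.of_comap_surjective fun p => ?_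
  obtain ⟨P, -, hP, hPc⟩ := Ideal.exists_ideal_over_prime_of_isIntegral (S := B) p.asIdeal ⊥ (by
    rw [← RingHom.ker_eq_comap_bot, (RingHom.injective_iff_ker_eq_bot _).1 h]
    exact bot_le)
  exact ⟨⟨P, hP⟩, PrimeSpectrum.ext hPc⟩

theorem algebraMap_adjoinRoot_injective {B : Type u} [CommRing B] {Q : Polynomial B} (hQ : Q.Monic)
    (hd : 0 < Q.natDegree) : Function.Injective (algebraMap B (AdjoinRoot Q)) := by
  rw [injective_iff_map_eq_zero]
  intro b hb
  rcases subsingleton_or_nontrivial B with hB | hB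
  · exact Subsingleton.elim _ _
  have h1 : AdjoinRoot.mk Q (Polynomial.C b) = 0 := hb
  rw [AdjoinRoot.mk_eq_zero] at h1
  by_contra hb0
  exact hQ.not_dvd_of_natDegree_lt (fun h => hb0 (Polynomial.C_eq_zero.1 h))
    (by rwa [Polynomial.natDegree_C]) h1

/-- Monic polynomials split in a finite free algebra with a square presentation. -/
theorem exists_splitting (A : Type u) [CommRing A] : ∀ (n : ℕ) (B : Type u) [CommRing B] [Algebra A B]
    [Module.Finite A B] [Module.Free A B], TateLib.IsSq A B → Function.Injective (algebraMap A B) →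
    ∀ Q : Polynomial B, Q.Monic → Q.natDegree = n →
    ∃ (C : Type u) (_ : CommRing C) (_ : Algebra A C) (g : B →ₐ[A] C), Module.Finite A C ∧ Module.Free A C ∧
      TateLib.IsSq A C ∧ Function.Injective (algebraMap A C) ∧
      ∃ s : Multiset C, Q.map g.toRingHom = (s.map fun c => Polynomial.X - Polynomial.C c).prod
  | 0, B, _, _, _, _, hsq, hinj, Q, hQ, hn => by
    refine ⟨B, inferInstance, inferInstance, AlgHom.id A B, inferInstance, inferInstance, hsq, hinj, 0, ?_⟩
    rw [(hQ.natDegree_eq_zero).1 hn]
    simp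
  | n + 1, B, _, _, _, _, hsq, hinj, Q, hQ, hn => by
    rcases subsingleton_or_nontrivial B with hB | hB
    · exact absurd hn (by rw [Subsingleton.elim Q 0, Polynomial.natDegree_zero]; omega)
    have hQd : 0 < Q.natDegree := by omega
    let B' := AdjoinRoot Q
    have : Module.Finite B B' := hQ.finite_adjoinRoot
    have : Module.Free B B' := hQ.free_adjoinRoot
    have : Module.Finite A B' := Module.Finite.trans B B'
    have : Module.Free A B' := Module.Free.trans (R := A) (S := B) (M := B')
    have hBinj := algebraMap_adjoinRoot_injective hQ hQd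
    have : Nontrivial B' := hBinj.nontrivial
    have hroot : (Q.map (algebraMap B B')).IsRoot (AdjoinRoot.root Q) := AdjoinRoot.isRoot_root Q
    obtain ⟨R, hR⟩ := Polynomial.dvd_iff_isRoot.2 hroot
    have hRm : R.Monic := (Polynomial.monic_X_sub_C _).of_mul_monic_left (hR ▸ hQ.map _)
    have hRd : R.natDegree = n := by
      have h1 := congrArg Polynomial.natDegree hR
      rw [hQ.natDegree_map, (Polynomial.monic_X_sub_C _).natDegree_mul hRm, Polynomial.natDegree_X_sub_C, hn] at h1
      omega
    obtain ⟨C, _, _, g, hfin, hfree, hsqC, hinjC, s, hs⟩ :=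
      exists_splitting A n B' (isSq_adjoinRoot hsq Q) (by
        rw [IsScalarTower.algebraMap_eq A B B']
        exact hBinj.comp hinj) R hRm hRd
    refine ⟨C, inferInstance, inferInstance, g.comp (IsScalarTower.toAlgHom A B B'), hfin, hfree, hsqC, hinjC,
      g (AdjoinRoot.root Q) ::ₘ s, ?_⟩
    rw [show (g.comp (IsScalarTower.toAlgHom A B B')).toRingHom = g.toRingHom.comp (algebraMap B B') from rfl,
      ← Polynomial.map_map, hR, Polynomial.map_mul, hs, Multiset.map_cons, Multiset.prod_cons,
      Polynomial.map_sub, Polynomial.map_X, Polynomial.map_C]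
    rfl

open MvPolynomial in
theorem powMap_aux (A : Type u) [CommRing A] (m : ℕ) (p : ℕ) (hp : 0 < p) (P' : Type u) [CommRing P']
    [Algebra (MvPolynomial (Fin m) A) P'] (e : MvPolynomial (Fin m) A ≃+* P')
    (hC : ∀ a : A, algebraMap (MvPolynomial (Fin m) A) P' (C a) = e (C a))
    (hX : ∀ i : Fin m, algebraMap (MvPolynomial (Fin m) A) P' (X i) = e (X i) ^ p) :
    Synt.IsSyntomic (MvPolynomial (Fin m) A) P' ∧ Module.FaithfullyFlat (MvPolynomial (Fin m) A) P' := by
  let P := MvPolynomial (Fin m) A
  let ψ : MvPolynomial (Fin m) P →ₐ[P] P' := aeval fun i => e (X i)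
  let f : Fin m → MvPolynomial (Fin m) P := fun i => X i ^ p - C (X i : P)
  let J := Ideal.span (Set.range f)
  let s₀ : P →+* MvPolynomial (Fin m) P ⧸ J :=
    eval₂Hom ((Ideal.Quotient.mk J).comp ((C : P →+* MvPolynomial (Fin m) P).comp (C : A →+* P)))
      fun i => Ideal.Quotient.mk J (X i)
  let s : P' →+* MvPolynomial (Fin m) P ⧸ J := s₀.comp e.symm.toRingHom
  have hs : ∀ z, s (e z) = s₀ z := fun z => congrArg s₀ (e.symm_apply_apply z)
  have hψC : ∀ r : P, ψ (C r) = algebraMap P P' r := fun r => aeval_C _ r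
  have hψX : ∀ i, ψ (X i) = e (X i) := fun i => aeval_X _ i
  have hψs : Function.Surjective ψ := fun w => by
    obtain ⟨z, rfl⟩ := e.surjective w
    induction z using MvPolynomial.induction_on with
    | C a => exact ⟨C (C a), (hψC _).trans (hC a)⟩
    | add u v hu hv =>
      obtain ⟨x, hx⟩ := hu; obtain ⟨y, hy⟩ := hv
      exact ⟨x + y, by rw [map_add, map_add, hx, hy]⟩
    | mul_X u i hu =>
      obtain ⟨x, hx⟩ := hu
      exact ⟨x * X i, by rw [map_mul, map_mul, hx, hψX]⟩
  have hker : RingHom.ker ψ.toRingHom = J := by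
    refine le_antisymm ?_ (Ideal.span_le.2 (Set.range_subset_iff.2 fun i => ?_))
    · intro w hw
      have hcomp : s.comp ψ.toRingHom = Ideal.Quotient.mk J := by
        refine MvPolynomial.ringHom_ext (fun r => ?_) (fun i => ?_)
        · show s (ψ (C r)) = Ideal.Quotient.mk J (C r)
          rw [hψC]
          refine RingHom.congr_fun (f := s.comp (algebraMap P P')) (g := (Ideal.Quotient.mk J).comp C)
            (MvPolynomial.ringHom_ext (fun a => ?_) (fun i => ?_)) r
          · show s (algebraMap P P' (C a)) = _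
            rw [hC, hs]
            exact eval₂Hom_C _ _ a
          · show s (algebraMap P P' (X i)) = Ideal.Quotient.mk J (C (X i))
            rw [hX, map_pow, hs, show s₀ (X i) = _ from eval₂Hom_X' _ _ i, ← map_pow, Ideal.Quotient.eq]
            exact Ideal.subset_span ⟨i, rfl⟩
        · show s (ψ (X i)) = Ideal.Quotient.mk J (X i)
          rw [hψX, hs]
          exact eval₂Hom_X' _ _ i
      refine Ideal.Quotient.eq_zero_iff_mem.1 ?_
      rw [← hcomp, RingHom.comp_apply, RingHom.mem_ker.1 hw, map_zero]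
    · show ψ (X i ^ p - C (X i : P)) = 0
      rw [map_sub, map_pow, hψX, hψC, hX, sub_self]
  have : Algebra.FiniteType P P' := Algebra.FiniteType.of_surjective ψ hψs
  have : Algebra.IsIntegral P P' := ⟨fun w => by
    obtain ⟨z, rfl⟩ := hψs w
    induction z using MvPolynomial.induction_on with
    | C a => rw [hψC]; exact isIntegral_algebraMap
    | add u v hu hv => rw [map_add]; exact hu.add hv
    | mul_X u i hu =>
      rw [map_mul, hψX]
      refine hu.mul (IsIntegral.of_pow hp ?_)
      rw [← hX]
      exact isIntegral_algebraMap⟩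
  have : Module.Finite P P' := Algebra.IsIntegral.finite
  have hsyn := isSyntomic_of_isSq (A := P) (B := P') ⟨Fin m, inferInstance, ψ, f, hψs, hker⟩
  have := hsyn.1
  refine ⟨hsyn, faithfullyFlat_of_finite ?_⟩
  have h1 : (e.symm.toRingHom.comp (algebraMap P P')) = (expand p : P →ₐ[A] P).toRingHom := by
    refine MvPolynomial.ringHom_ext (fun a => ?_) (fun i => ?_)
    · show e.symm (algebraMap P P' (C a)) = expand p (C a)
      rw [hC, e.symm_apply_apply, expand_C]
    · show e.symm (algebraMap P P' (X i)) = expand p (X i)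
      rw [hX, map_pow, e.symm_apply_apply, expand_X]
  intro a b hab
  refine expand_injective hp (σ := Fin m) (R := A) ?_
  have h2 := congrArg e.symm hab
  exact (RingHom.congr_fun h1 a).symm.trans (h2.trans (RingHom.congr_fun h1 b))

/-- The `p`-th power map of affine space. -/
theorem powMap_syntomic (A : Type u) [CommRing A] (m : ℕ) (p : ℕ) (hp : 0 < p)
    (φ : MvPolynomial (Fin m) A →ₐ[A] MvPolynomial (Fin m) A)
    (hφ : ∀ i : Fin m, φ (MvPolynomial.X i) = MvPolynomial.X i ^ p) :
    @Synt.IsSyntomic (MvPolynomial (Fin m) A) _ (MvPolynomial (Fin m) A) _ φ.toRingHom.toAlgebra ∧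
      φ.toRingHom.FaithfullyFlat :=
  @powMap_aux A _ m p hp (MvPolynomial (Fin m) A) _ φ.toRingHom.toAlgebra (RingEquiv.refl _)
    (fun a => φ.commutes a) hφ

theorem adjoinRoot_syntomic (A : Type u) [CommRing A] {Q : Polynomial A} (hQ : Q.Monic) (hd : 0 < Q.natDegree) :
    Synt.IsSyntomic A (AdjoinRoot Q) ∧ Module.FaithfullyFlat A (AdjoinRoot Q) := by
  have : Module.Finite A (AdjoinRoot Q) := hQ.finite_adjoinRoot
  have h := isSyntomic_of_isSq (isSq_adjoinRoot (isSq_self A) Q)
  have := h.1
  exact ⟨h, faithfullyFlat_of_finite (algebraMap_adjoinRoot_injective hQ hd)⟩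

end TransLib
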