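import Groth.Agent.TransLib.SyntPoint
import Groth.Agent.TransLib.RelNhd
import Groth.Agent.S18934

/-!
# Lifting, descending and covering by relative global complete intersections
-/

set_option autoImplicit false

universe u

open TensorProduct CategoryTheory CategoryTheory.Limits AlgebraicGeometry

namespace TransLib

variable {R : Type u} [CommRing R] {n c : ℕ}

/-- The reduction of a presentation. -/
theorem exists_reduction (F : Fin c → MvPolynomial (Fin n) R) (I : Ideal R) :
    ∃ π : Synt.RelGCIRing R n c F →ₐ[R]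
        Synt.RelGCIRing (R ⧸ I) n c (fun i => MvPolynomial.map (Ideal.Quotient.mk I) (F i)),
      Function.Surjective π ∧
        RingHom.ker π.toRingHom = I.map (algebraMap R (Synt.RelGCIRing R n c F)) := by
  let Fb := fun i => MvPolynomial.map (Ideal.Quotient.mk I) (F i)
  let μ : MvPolynomial (Fin n) R →ₐ[R] MvPolynomial (Fin n) (R ⧸ I) :=
    MvPolynomial.mapAlgHom (Algebra.ofId R (R ⧸ I))
  have hμ : ∀ p, μ p = MvPolynomial.map (Ideal.Quotient.mk I) p := fun p => rfl
  let γ : MvPolynomial (Fin n) R →ₐ[R] Synt.RelGCIRing (R ⧸ I) n c Fb :=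
    (Ideal.Quotient.mkₐ R (Ideal.span (Set.range Fb))).comp μ
  have hker : RingHom.ker γ.toRingHom = Ideal.span (Set.range F) ⊔ I.map MvPolynomial.C := by
    have : RingHom.ker γ.toRingHom = (Ideal.span (Set.range Fb)).comap (MvPolynomial.map (Ideal.Quotient.mk I)) :=
      Ideal.ext fun x => Ideal.Quotient.eq_zero_iff_mem
    rw [this, show Set.range Fb = MvPolynomial.map (Ideal.Quotient.mk I) '' Set.range F from
      (Set.range_comp (MvPolynomial.map (Ideal.Quotient.mk I)) F), ← Ideal.map_span,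
      Ideal.comap_map_of_surjective (MvPolynomial.map (Ideal.Quotient.mk I)) (MvPolynomial.map_surjective (Ideal.Quotient.mk I) Ideal.Quotient.mk_surjective),
      ← RingHom.ker_eq_comap_bot, MvPolynomial.ker_map, Ideal.mk_ker]
  refine ⟨Ideal.Quotient.liftₐ _ γ fun p hp => (hker.ge (Submodule.mem_sup_left hp) : p ∈ RingHom.ker γ.toRingHom),
    fun z => ?_, ?_⟩
  · obtain ⟨z, rfl⟩ := Ideal.Quotient.mk_surjective z
    obtain ⟨p, rfl⟩ := MvPolynomial.map_surjective _ (Ideal.Quotient.mk_surjective (I := I)) z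
    exact ⟨Ideal.Quotient.mk _ p, rfl⟩
  · refine le_antisymm (fun z hz => ?_) ?_
    · obtain ⟨p, rfl⟩ := Ideal.Quotient.mk_surjective z
      have hp : p ∈ RingHom.ker γ.toRingHom := hz
      rw [hker, Submodule.mem_sup] at hp
      obtain ⟨a, ha, b, hb, rfl⟩ := hp
      rw [map_add, Ideal.Quotient.eq_zero_iff_mem.2 ha, zero_add]
      have := Ideal.mem_map_of_mem (Ideal.Quotient.mk (Ideal.span (Set.range F))) hb
      rwa [Ideal.map_map] at this
    · rw [Ideal.map_le_iff_le_comap]
      intro r hr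
      show γ (MvPolynomial.C r) = 0
      exact hker.ge (Submodule.mem_sup_right (Ideal.mem_map_of_mem _ hr))

/-- Relative global complete intersections lift along surjections. -/
theorem exists_relGCI_lift (I : Ideal R) (Fb : Fin c → MvPolynomial (Fin n) (R ⧸ I))
    (hFb : Synt.IsRelGCI (R ⧸ I) n c Fb) :
    ∃ G : Fin (c + 1) → MvPolynomial (Fin (n + 1)) R, Synt.IsRelGCI R (n + 1) (c + 1) G ∧
      Nonempty ((Synt.RelGCIRing R (n + 1) (c + 1) G ⧸ I.map (algebraMap R (Synt.RelGCIRing R (n + 1) (c + 1) G))) ≃ₐ[R]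
        Synt.RelGCIRing (R ⧸ I) n c Fb) := by
  choose F hF using fun i => MvPolynomial.map_surjective (σ := Fin n) _ (Ideal.Quotient.mk_surjective (I := I)) (Fb i)
  obtain rfl : Fb = fun i => MvPolynomial.map (Ideal.Quotient.mk I) (F i) := funext fun i => (hF i).symm
  obtain ⟨h, h1, hG⟩ := exists_away_of_mod_ideal F I hFb
  obtain ⟨e⟩ := nonempty_awayEquiv F h
  obtain ⟨π, hπ, hker⟩ := exists_reduction F I
  refine ⟨awayPres F h, hG, ?_⟩
  let S := Synt.RelGCIRing R n c F
  let g : S := Ideal.Quotient.mk (Ideal.span (Set.range F)) h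
  have hg : π g = 1 := by
    rw [← map_one π, ← sub_eq_zero, ← map_sub]
    have : g - 1 ∈ I.map (algebraMap R S) := by
      rw [← Ideal.Quotient.eq_zero_iff_mem, map_sub, map_one, sub_eq_zero]
      exact h1
    exact hker.ge this
  let σ : Localization.Away g →ₐ[R] Synt.RelGCIRing (R ⧸ I) n c (fun i => MvPolynomial.map (Ideal.Quotient.mk I) (F i)) :=
    IsLocalization.liftAlgHom (M := Submonoid.powers g) (f := π) (by
      rintro ⟨_, m, rfl⟩
      rw [map_pow, hg, one_pow]
      exact isUnit_one)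
  have hσ : ∀ s, σ (algebraMap S _ s) = π s := fun s => IsLocalization.lift_eq _ s
  let τ := σ.comp e.symm.toAlgHom
  have hτs : Function.Surjective τ := by
    refine Function.Surjective.comp (g := σ) ?_ e.symm.surjective
    intro y
    obtain ⟨s, rfl⟩ := hπ y
    exact ⟨algebraMap S _ s, hσ s⟩
  refine ⟨(Ideal.quotientEquivAlgOfEq R ?_).trans (Ideal.quotientKerAlgEquivOfSurjective (f := τ) hτs)⟩
  refine le_antisymm ?_ fun z hz => ?_
  · rw [Ideal.map_le_iff_le_comap]
    intro r hr
    show τ (algebraMap R _ r) = 0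
    have : π (algebraMap R S r) = 0 := hker.ge (Ideal.mem_map_of_mem _ hr)
    rw [AlgHom.commutes] at this ⊢
    exact this
  · obtain ⟨w, rfl⟩ := e.surjective z
    have hw : σ w = 0 := by
      have : τ (e w) = 0 := hz
      simpa [τ] using this
    obtain ⟨⟨s, m⟩, hsm⟩ := IsLocalization.surj (Submonoid.powers g) w
    have hs : s ∈ I.map (algebraMap R S) := by
      rw [← hker]
      show π s = 0
      rw [← hσ, ← hsm, map_mul, hw, zero_mul]
    have hws : w ∈ I.map (algebraMap R (Localization.Away g)) := by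
      rw [← Ideal.mul_unit_mem_iff_mem _ (IsLocalization.map_units (Localization.Away g) m), hsm,
        IsScalarTower.algebraMap_eq R S (Localization.Away g), ← Ideal.map_map]
      exact Ideal.mem_map_of_mem _ hs
    have := Ideal.mem_map_of_mem e.toRingEquiv.toRingHom hws
    rw [Ideal.map_map] at this
    rwa [show e.toRingEquiv.toRingHom.comp (algebraMap R (Localization.Away g)) = algebraMap R _ from
      RingHom.ext e.commutes] at this

/-- Syntomic algebras over a quotient are locally reductions of relative global complete intersections. -/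
theorem exists_lift_cover (I : Ideal R) (Sb : Type u) [CommRing Sb] [Algebra R Sb] [Algebra (R ⧸ I) Sb]
    [IsScalarTower R (R ⧸ I) Sb] (h : Synt.IsSyntomic (R ⧸ I) Sb) :
    ∃ s : Finset Sb, Ideal.span (s : Set Sb) = ⊤ ∧ ∀ g ∈ s,
      ∃ (n c : ℕ) (F : Fin c → MvPolynomial (Fin n) R), Synt.IsRelGCI R n c F ∧
        Nonempty (Localization.Away g ≃ₐ[R]
          (Synt.RelGCIRing R n c F ⧸ I.map (algebraMap R (Synt.RelGCIRing R n c F)))) := by
  obtain ⟨s, hs, hsF⟩ := exists_relGCI_cover h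
  refine ⟨s, hs, fun g hg => ?_⟩
  obtain ⟨n, c, F, -, hF, ⟨e⟩⟩ := hsF g hg
  obtain ⟨G, hG, ⟨E⟩⟩ := exists_relGCI_lift I F hF
  exact ⟨n + 1, c + 1, G, hG, ⟨(e.restrictScalars R).trans E.symm⟩⟩

/-- Standard syntomic morphisms descend to finite type over the integers. -/
theorem exists_descent_standard {X S : Scheme.{u}} (f : X ⟶ S) (hf : Synt.IsStandardSyntomic f) :
    ∃ (X₀ S₀ : Scheme.{u}) (f₀ : X₀ ⟶ S₀) (g : S ⟶ S₀) (g' : X ⟶ X₀), IsAffine X₀ ∧ IsAffine S₀ ∧ IsPullback g' f f₀ g ∧
      Algebra.FiniteType ℤ Γ(S₀, ⊤) ∧ LocallyOfFiniteType f₀ ∧ Synt.IsStandardSyntomic f₀ := by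
  obtain ⟨R, _, n, c, F, hF, e₁, e₂, he⟩ := hf
  obtain ⟨R₀, F₀, hfin, hF₀, hF₀'⟩ := exists_descent_isRelGCI hF
  let B₀ := Synt.RelGCIRing R₀ n c F₀
  let B := Synt.RelGCIRing R n c F
  let f₀ := Spec.map (CommRingCat.ofHom (algebraMap R₀ B₀))
  let q : Spec (CommRingCat.of R) ⟶ Spec (CommRingCat.of R₀) := Spec.map (CommRingCat.ofHom (algebraMap R₀ R))
  let E : R ⊗[R₀] B₀ ≃ₐ[R] B :=
    (fibreEquiv (R := R₀) R n c F₀).trans (Ideal.quotientEquivAlgOfEq R (by rw [funext hF₀]))
  let φ : Spec (CommRingCat.of B) ⟶ Spec (CommRingCat.of B₀) :=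
    Spec.map (CommRingCat.ofHom (E.toRingEquiv.toRingHom.comp
      (Algebra.TensorProduct.includeRight : B₀ →ₐ[R₀] R ⊗[R₀] B₀).toRingHom))
  have hpo : IsPullback φ (Spec.map (CommRingCat.ofHom (algebraMap R B))) f₀ q := by
    have h1 := (isPullback_SpecMap_of_isPushout _ _ _ _ (CommRingCat.isPushout_tensorProduct R₀ R B₀)).flip
    refine h1.of_iso (Scheme.Spec.mapIso E.toRingEquiv.toCommRingCatIso.op.symm) (Iso.refl _) (Iso.refl _)
      (Iso.refl _) ?_ ?_ (by simp [f₀]) (by simp [q])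
    · simp only [Iso.refl_hom, Category.comp_id]
      show Spec.map _ = Spec.map _ ≫ φ
      rw [← Spec.map_comp]
      congr 1
      refine CommRingCat.hom_ext (RingHom.ext fun x => ?_)
      exact (E.symm_apply_apply _).symm
    · simp only [Iso.refl_hom, Category.comp_id]
      show Spec.map _ = Spec.map _ ≫ Spec.map _
      rw [← Spec.map_comp]
      congr 1
      refine CommRingCat.hom_ext (RingHom.ext fun x => ?_)
      exact (E.symm.commutes x).symm
  refine ⟨Spec (CommRingCat.of B₀), Spec (CommRingCat.of R₀), f₀, e₂.hom ≫ q, e₁.hom ≫ φ, inferInstance, inferInstance,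
    ?_, ?_, ?_, ?_⟩
  · exact hpo.of_iso e₁.symm (Iso.refl _) e₂.symm (Iso.refl _) (by simp) (by
      rw [Iso.symm_hom, Iso.symm_hom, Iso.eq_inv_comp, ← Category.assoc, he, Category.assoc, e₂.hom_inv_id,
        Category.comp_id]) (by simp) (by simp)
  · exact Algebra.FiniteType.of_surjective
      (Scheme.ΓSpecIso (CommRingCat.of R₀)).inv.hom.toIntAlgHom
      (ConcreteCategory.bijective_of_isIso (Scheme.ΓSpecIso (CommRingCat.of R₀)).inv).2
  · exact (HasRingHomProperty.Spec_iff (P := @LocallyOfFiniteType)).2 (RingHom.finiteType_algebraMap.2 inferInstance)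
  · exact ⟨R₀, inferInstance, n, c, F₀, hF₀', Iso.refl _, Iso.refl _, by simp [f₀, B₀]⟩

/-- Adjoining `p`-th roots gives a syntomic covering. -/
theorem exists_syntomic_root_cover (p : ℕ) [Fact p.Prime] (X : Scheme.{u}) (a : Γ(X, ⊤)) :
    ∃ 𝒰 : Scheme.Cover.{u} (Scheme.precoverage @Synt.IsSyntomicMor) X,
      ∀ i : 𝒰.I₀, ∃ b : Γ(𝒰.X i, ⊤), b ^ p = (𝒰.f i).appTop a := by
  choose U hU hxU using fun x : X => exists_isAffineOpen_mem_and_subset (U := ⊤) (show x ∈ (⊤ : X.Opens) from trivial)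
  let aU : ∀ x, Γ(X, U x) := fun x => (Scheme.ΓSpecIso Γ(X, U x)).hom ((hU x).fromSpec.appTop a)
  let B : X → Type u := fun x => AdjoinRoot (Polynomial.X ^ p - Polynomial.C (aU x))
  let obj : X → Scheme.{u} := fun x => Spec (CommRingCat.of (B x))
  let map : ∀ x, obj x ⟶ X := fun x => Spec.map (CommRingCat.ofHom (algebraMap Γ(X, U x) (B x))) ≫ (hU x).fromSpec
  have hmap : ∀ x, Synt.IsSyntomicMor (map x) := fun x => by
    have h1 : SyntMor (Spec.map (CommRingCat.ofHom (algebraMap Γ(X, U x) (B x)))) :=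
      (HasRingHomProperty.Spec_iff (P := SyntMor)).2 (syntHom_algebraMap.2 (Groth.Agent.S18934.result p _ (aU x)).1)
    have := HasRingHomProperty.respects_isOpenImmersion (P := SyntMor) syntHom_stableUnderCompositionSource
    exact (isSyntomicMor_iff _).2 (MorphismProperty.RespectsRight.postcomp (Q := @IsOpenImmersion) (hU x).fromSpec inferInstance _ h1)
  refine ⟨Scheme.Cover.mkOfCovers X obj map (fun x => ?_) hmap, fun (x : X) => ?_⟩
  · have := (Groth.Agent.S18934.result p _ (aU x)).2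
    obtain ⟨y, hy⟩ := PrimeSpectrum.comap_surjective_of_faithfullyFlat (B := B x) ((hU x).primeIdealOf ⟨x, (hxU x).1⟩)
    refine ⟨x, y, ?_⟩
    show (hU x).fromSpec (Spec.map (CommRingCat.ofHom (algebraMap Γ(X, U x) (B x))) y) = x
    rw [show Spec.map (CommRingCat.ofHom (algebraMap Γ(X, U x) (B x))) y = (hU x).primeIdealOf ⟨x, (hxU x).1⟩ from hy]
    exact (hU x).fromSpec_primeIdealOf _
  · refine ⟨(Scheme.ΓSpecIso (CommRingCat.of (B x))).inv (AdjoinRoot.root _), ?_⟩
    show _ = (map x).appTop a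
    have h1 : (AdjoinRoot.root (Polynomial.X ^ p - Polynomial.C (aU x))) ^ p = algebraMap Γ(X, U x) (B x) (aU x) := by
      have := AdjoinRoot.eval₂_root (Polynomial.X ^ p - Polynomial.C (aU x))
      simpa [sub_eq_zero, B, AdjoinRoot.algebraMap_eq] using this
    refine ((map_pow (Scheme.ΓSpecIso (CommRingCat.of (B x))).inv.hom _ p).symm.trans (congrArg _ h1)).trans ?_
    have h2 := Scheme.ΓSpecIso_inv_naturality (CommRingCat.ofHom (algebraMap Γ(X, U x) (B x)))
    have h3 := congrArg (fun φ => φ.hom (aU x)) h2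
    refine h3.trans ?_
    simp [map, aU]
    show _ = (Scheme.Hom.appTop (Spec.map (CommRingCat.ofHom (algebraMap Γ(X, U x) (B x))))).hom
      ((hU x).fromSpec.appTop a)
    congr 1
    exact (Scheme.ΓSpecIso Γ(X, U x)).hom_inv_id_apply _

end TransLib
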