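import Groth.Agent.TransLib.FieldCI

/-!
# Characterisations of complete intersection local algebras
-/

set_option autoImplicit false

universe u

open RingTheory.Sequence IsLocalRing

namespace TransLib

variable {k : Type u} [Field k] {S : Type u} [CommRing S] [IsLocalRing S] [Algebra k S]

theorem isCIOver_iff_forall [Algebra.EssFiniteType k S] :
    Synt.IsCIOver k S ↔ ∀ (R : Type u) [CommRing R] [IsRegularLocalRing R] [Algebra k R], Algebra.EssFiniteType k R →
      ∀ π : R →ₐ[k] S, Function.Surjective π →
        ∃ rs : List R, IsRegular R rs ∧ RingHom.ker π.toRingHom = Ideal.ofList rs := by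
  constructor
  · intro h R _ _ _ hR π hπ
    obtain ⟨rs, hrs, hker⟩ := (isCIOver_iff π hπ).1 h
    exact ⟨rs, hrs, hker.symm⟩
  · intro h
    obtain ⟨R, _, _, _, π, hR, hπ⟩ := exists_regular_surjection (k := k) S
    obtain ⟨rs, hrs, hker⟩ := h R hR π hπ
    exact (isCIOver_iff π hπ).2 ⟨rs, hrs, hker.symm⟩

theorem isCIOver_iff_exists_dim :
    Synt.IsCIOver k S ↔ ∃ (R : Type u) (_ : CommRing R) (_ : IsRegularLocalRing R) (_ : Algebra k R),
      Algebra.EssFiniteType k R ∧ ∃ π : R →ₐ[k] S, Function.Surjective π ∧
        ∃ rs : List R, RingHom.ker π.toRingHom = Ideal.ofList rs ∧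
          ringKrullDim R = ringKrullDim S + (rs.length : WithBot ℕ∞) := by
  rw [isCIOver_iff_exists]
  constructor
  · rintro ⟨R, _, _, _, hR, π, hπ, rs, hrs, hker⟩
    refine ⟨R, inferInstance, inferInstance, inferInstance, hR, π, hπ, rs, hker.symm, ?_⟩
    have h := ringKrullDim_add_length_eq_ringKrullDim_of_isRegular rs hrs
    rw [hker, ringKrullDim_quotient_ker (π := π.toRingHom) hπ] at h
    exact h.symm
  · rintro ⟨R, _, _, _, hR, π, hπ, rs, hker, hd⟩
    refine ⟨R, inferInstance, inferInstance, inferInstance, hR, π, hπ, rs, ?_, hker.symm⟩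
    refine CommAlgDim.isRegular_of_dim (CommAlgDim.isCM_of_isRegularLocalRing R)
      (CommAlgDim.ofList_le_iff.1 (hker ▸ ker_le_maximalIdeal π.toRingHom)) (le_of_eq ?_)
    rw [← hker, ringKrullDim_quotient_ker (π := π.toRingHom) hπ, hd]

theorem exists_globalCI_of_isCIOver_local [Algebra.EssFiniteType k S] (h : Synt.IsCIOver k S) :
    ∃ (A : Type u) (_ : CommRing A) (_ : Algebra k A) (a : Ideal A) (_ : a.IsPrime),
      Algebra.FiniteType k A ∧ Synt.IsGlobalCI k A ∧ Nonempty (S ≃ₐ[k] Localization.AtPrime a) := by
  let A := Algebra.EssFiniteType.subalgebra k S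
  let a : Ideal A := (maximalIdeal S).comap (algebraMap A S)
  have hsub : Algebra.EssFiniteType.submonoid k S = a.primeCompl :=
    SetLike.ext fun x => (IsLocalRing.notMem_maximalIdeal (R := S)).symm
  have : IsLocalization.AtPrime S a := by
    show IsLocalization a.primeCompl S
    rw [← hsub]; infer_instance
  let e : S ≃ₐ[k] Localization.AtPrime a :=
    (IsLocalization.algEquiv a.primeCompl S (Localization.AtPrime a)).restrictScalars k
  obtain ⟨g, hg, hCI⟩ := exists_globalCI_of_isCIOver (S := A) a (isCIOver_congr e h)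
  obtain ⟨b, hb⟩ : (⟨a, inferInstance⟩ : PrimeSpectrum A) ∈
      Set.range (PrimeSpectrum.comap (algebraMap A (Localization.Away g))) := by
    rw [PrimeSpectrum.localization_away_comap_range (Localization.Away g) g]
    exact hg
  have hba : b.asIdeal.comap (algebraMap A (Localization.Away g)) = a := congrArg PrimeSpectrum.asIdeal hb
  have : IsLocalization.AtPrime (Localization.AtPrime b.asIdeal) a := by
    have h1 := IsLocalization.isLocalization_isLocalization_atPrime_isLocalization (Submonoid.powers g)
      (Localization.AtPrime b.asIdeal) b.asIdeal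
    simp only [hba] at h1
    exact h1
  have : Algebra.FiniteType A (Localization.Away g) := IsLocalization.finiteType_of_monoid_fg (Submonoid.powers g) _
  exact ⟨Localization.Away g, inferInstance, inferInstance, b.asIdeal, inferInstance,
    Algebra.FiniteType.trans (inferInstance : Algebra.FiniteType k A) this, hCI,
    ⟨e.trans ((IsLocalization.algEquiv a.primeCompl (Localization.AtPrime a) (Localization.AtPrime b.asIdeal)).restrictScalars k)⟩⟩

end TransLib
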