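import Groth.Agent.TransLib.SyntMor

/-!
# Syntomic schemes over a field
-/

set_option autoImplicit false

universe u

open TensorProduct CategoryTheory CategoryTheory.Limits AlgebraicGeometry

namespace TransLib

variable {k : Type u} [Field k]

/-- A presented algebra of the expected dimension is a relative global complete intersection. -/
theorem isRelGCI_of_dim {n c : ℕ} (hc : c ≤ n) (F : Fin c → MvPolynomial (Fin n) k)
    (hd : ringKrullDim (Synt.RelGCIRing k n c F) ≤ ((n - c : ℕ) : WithBot ℕ∞)) : Synt.IsRelGCI k n c F := by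
  refine isRelGCI_of_fibre_le hc fun p _ => ?_
  obtain rfl : p = ⊥ := (Ideal.eq_bot_or_top p).resolve_right (inferInstance : p.IsPrime).ne_top
  let κ := (⊥ : Ideal k).ResidueField
  let T := Synt.RelGCIRing k n c F
  have hbij : Function.Bijective (Algebra.ofId k κ) :=
    ⟨(algebraMap k κ).injective, (Ideal.bijective_algebraMap_quotient_residueField (⊥ : Ideal k)).2.comp
      Ideal.Quotient.mk_surjective⟩
  let E : (⊥ : Ideal k).Fiber T ≃ₐ[k] T :=
    (Algebra.TensorProduct.congr (AlgEquiv.ofBijective (Algebra.ofId k κ) hbij).symm AlgEquiv.refl).trans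
      (Algebra.TensorProduct.lid k T)
  exact (ringKrullDim_eq_of_ringEquiv E.toRingEquiv).trans_le hd

/-- Global complete intersections are syntomic. -/
theorem isSyntomic_of_isGlobalCI {T : Type u} [CommRing T] [Algebra k T] (h : Synt.IsGlobalCI k T) :
    Synt.IsSyntomic k T := by
  rcases h with h | ⟨n, c, hc, φ, r, hφ, hker, hd⟩
  · let F : Fin 1 → MvPolynomial (Fin 1) k := fun _ => 1
    have hs : Subsingleton (Synt.RelGCIRing k 1 1 F) :=
      Ideal.Quotient.subsingleton_iff.2 ((Ideal.eq_top_iff_one _).2 (Ideal.subset_span ⟨0, rfl⟩))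
    have hF : Synt.IsRelGCI k 1 1 F := isRelGCI_of_dim le_rfl F (by rw [ringKrullDim_eq_bot_of_subsingleton]; exact bot_le)
    let e0 : Synt.RelGCIRing k 1 1 F ≃+* T :=
      { toFun := fun _ => 0
        invFun := fun _ => 0
        left_inv := fun _ => Subsingleton.elim _ _
        right_inv := fun _ => Subsingleton.elim _ _
        map_mul' := fun _ _ => Subsingleton.elim _ _
        map_add' := fun _ _ => Subsingleton.elim _ _ }
    exact isSyntomic_congr (AlgEquiv.ofRingEquiv (f := e0) fun _ => Subsingleton.elim _ _)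
      (isSyntomic_relGCIRing hF)
  · let e : Synt.RelGCIRing k n c r ≃ₐ[k] T :=
      (Ideal.quotientEquivAlgOfEq k hker.symm).trans (Ideal.quotientKerAlgEquivOfSurjective (f := φ) hφ)
    refine isSyntomic_congr e (isSyntomic_relGCIRing (isRelGCI_of_dim hc r ?_))
    rw [← hd]
    exact (ringKrullDim_eq_of_ringEquiv e.toRingEquiv).le

/-- Local complete intersections are syntomic. -/
theorem isSyntomic_of_isLCIOver {T : Type u} [CommRing T] [Algebra k T] (h : Synt.IsLCIOver k T) :
    Synt.IsSyntomic k T := by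
  let G : Set T := {g | Synt.IsGlobalCI k (Localization.Away g)}
  have hG : Ideal.span G = ⊤ := by
    by_contra hne
    obtain ⟨M, hM, hle⟩ := Ideal.exists_le_maximal _ hne
    obtain ⟨g, hg, hCI⟩ := h.2 ⟨M, hM.isPrime⟩
    exact hg (hle (Ideal.subset_span hCI))
  obtain ⟨s, hs, hs'⟩ := (Ideal.span_eq_top_iff_finite G).1 hG
  exact isSyntomic_of_span s hs' fun g hg => isSyntomic_of_isGlobalCI (hs hg)

section Scheme

variable {X : Scheme.{u}} (p : X ⟶ Spec (CommRingCat.of k))

/-- The structure map of an affine open. -/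
noncomputable abbrev structMap (U : X.Opens) : CommRingCat.of k ⟶ Γ(X, U) :=
  (Scheme.ΓSpecIso (CommRingCat.of k)).inv ≫ p.appLE ⊤ U le_top

theorem structMap_res {U W : X.Opens} (h : W ≤ U) :
    structMap p U ≫ X.presheaf.map (homOfLE h).op = structMap p W := by
  rw [Category.assoc, Scheme.Hom.appLE_map]

theorem syntHom_structMap_iff (U : X.Opens) :
    SyntHom (structMap p U).hom ↔ SyntHom (p.appLE ⊤ U le_top).hom := by
  rw [CommRingCat.hom_comp, syntHom_isLocal.respectsIso.cancel_left_isIso]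

theorem exists_globalCI_basicOpen (U : X.affineOpens) (x : X) (hx : x ∈ U.1) (g : Γ(X, U.1))
    (hg : g ∉ (U.2.primeIdealOf ⟨x, hx⟩).asIdeal)
    (hCI : letI := (structMap p U.1).hom.toAlgebra; Synt.IsGlobalCI k (Localization.Away g)) :
    ∃ W : X.affineOpens, x ∈ W.1 ∧ (letI := (structMap p W.1).hom.toAlgebra; Synt.IsGlobalCI k Γ(X, W.1)) := by
  let W : X.affineOpens := ⟨X.basicOpen g, U.2.basicOpen g⟩
  refine ⟨W, ?_, ?_⟩
  · have hx' : U.2.fromSpec (U.2.primeIdealOf ⟨x, hx⟩) = x := U.2.fromSpec_primeIdealOf ⟨x, hx⟩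
    have hg' : U.2.primeIdealOf ⟨x, hx⟩ ∈ U.2.fromSpec ⁻¹ᵁ (X.basicOpen g) := by
      rw [U.2.fromSpec_preimage_basicOpen]
      exact hg
    have hg'' : U.2.fromSpec (U.2.primeIdealOf ⟨x, hx⟩) ∈ X.basicOpen g := hg'
    rwa [hx'] at hg''
  · letI := (structMap p U.1).hom.toAlgebra
    letI := (structMap p W.1).hom.toAlgebra
    have := U.2.isLocalization_basicOpen g
    have : IsScalarTower k Γ(X, U.1) Γ(X, W.1) := IsScalarTower.of_algebraMap_eq fun a => by
      show (structMap p W.1).hom a = _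
      rw [← structMap_res p (X.basicOpen_le g)]
      rfl
    exact isGlobalCI_congr
      ((IsLocalization.algEquiv (Submonoid.powers g) (Localization.Away g) Γ(X, W.1)).restrictScalars k) hCI

theorem exists_stalk_equiv (U : X.affineOpens) (x : X) (hx : x ∈ U.1) :
    letI := (structMap p U.1).hom.toAlgebra
    letI := (structMap p ⊤ ≫ X.presheaf.germ ⊤ x trivial).hom.toAlgebra
    Nonempty (Localization.AtPrime (U.2.primeIdealOf ⟨x, hx⟩).asIdeal ≃ₐ[k] X.presheaf.stalk x) := by
  letI := (structMap p U.1).hom.toAlgebra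
  letI := (structMap p ⊤ ≫ X.presheaf.germ ⊤ x trivial).hom.toAlgebra
  letI : Algebra Γ(X, U.1) (X.presheaf.stalk x) := TopCat.Presheaf.algebra_section_stalk X.presheaf ⟨x, hx⟩
  have := U.2.isLocalization_stalk ⟨x, hx⟩
  have : IsScalarTower k Γ(X, U.1) (X.presheaf.stalk x) := IsScalarTower.of_algebraMap_eq fun a => by
    show (X.presheaf.germ ⊤ x trivial).hom ((structMap p ⊤).hom a) = (X.presheaf.germ U.1 x hx).hom ((structMap p U.1).hom a)
    rw [← structMap_res p (le_top : U.1 ≤ ⊤)]
    exact (TopCat.Presheaf.germ_res_apply X.presheaf (homOfLE le_top) x hx _).symm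
  exact ⟨(IsLocalization.algEquiv (U.2.primeIdealOf ⟨x, hx⟩).asIdeal.primeCompl _ _).restrictScalars k⟩

theorem tfae_syntomic_field [LocallyOfFiniteType p] :
    [Synt.IsSyntomicMor p,
      ∀ x : ↑X, ∃ U : X.affineOpens, x ∈ U.1 ∧
        letI := (structMap p U.1).hom.toAlgebra
        Synt.IsGlobalCI k Γ(X, U.1),
      ∀ x : ↑X,
        letI := (structMap p ⊤ ≫ X.presheaf.germ ⊤ x trivial).hom.toAlgebra
        Synt.IsCIOver k (X.presheaf.stalk x)].TFAE := by
  have hft : ∀ U : X.affineOpens, letI := (structMap p U.1).hom.toAlgebra; Algebra.FiniteType k Γ(X, U.1) := by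
    intro U
    have h : (p.appLE ⊤ U.1 le_top).hom.FiniteType :=
      HasRingHomProperty.appLE (P := @LocallyOfFiniteType) p inferInstance ⟨⊤, isAffineOpen_top _⟩ U le_top
    show (structMap p U.1).hom.FiniteType
    rw [CommRingCat.hom_comp, RingHom.finiteType_respectsIso.cancel_left_isIso]
    exact h
  tfae_have 1 → 2 := by
    intro h x
    obtain ⟨U, hU, hxU, -⟩ := exists_isAffineOpen_mem_and_subset (U := ⊤) (show x ∈ (⊤ : X.Opens) from trivial)
    letI := (structMap p U).hom.toAlgebra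
    have h1 : SyntHom (structMap p U).hom := (syntHom_structMap_iff p U).2
      (HasRingHomProperty.appLE (P := SyntMor) p ((isSyntomicMor_iff p).1 h) ⟨⊤, isAffineOpen_top _⟩ ⟨U, hU⟩ le_top)
    obtain ⟨g, hg, hCI⟩ := (isLCIOver_of_isSyntomic h1).2 (hU.primeIdealOf ⟨x, hxU⟩)
    exact exists_globalCI_basicOpen p ⟨U, hU⟩ x hxU g hg hCI
  tfae_have 2 → 1 := by
    intro h x
    obtain ⟨U, hx, hU⟩ := h x
    letI := (structMap p U.1).hom.toAlgebra
    exact ⟨U, ⟨⊤, isAffineOpen_top _⟩, le_top, hx, (syntHom_structMap_iff p U.1).1 (isSyntomic_of_isGlobalCI hU)⟩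
  tfae_have 2 → 3 := by
    intro h x
    obtain ⟨U, hx, hU⟩ := h x
    letI := (structMap p U.1).hom.toAlgebra
    letI := (structMap p ⊤ ≫ X.presheaf.germ ⊤ x trivial).hom.toAlgebra
    obtain ⟨e⟩ := exists_stalk_equiv p U x hx
    exact isCIOver_congr e (isCIOver_of_isGlobalCI hU _)
  tfae_have 3 → 2 := by
    intro h x
    obtain ⟨U, hU, hxU, -⟩ := exists_isAffineOpen_mem_and_subset (U := ⊤) (show x ∈ (⊤ : X.Opens) from trivial)
    letI := (structMap p U).hom.toAlgebra
    letI := (structMap p ⊤ ≫ X.presheaf.germ ⊤ x trivial).hom.toAlgebra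
    have := hft ⟨U, hU⟩
    obtain ⟨e⟩ := exists_stalk_equiv p ⟨U, hU⟩ x hxU
    obtain ⟨g, hg, hCI⟩ := exists_globalCI_of_isCIOver (hU.primeIdealOf ⟨x, hxU⟩).asIdeal (isCIOver_congr e.symm (h x))
    exact exists_globalCI_basicOpen p ⟨U, hU⟩ x hxU g hg hCI
  tfae_finish

end Scheme

/-- Finitely generated pieces of a field extension are global complete intersections. -/
theorem exists_globalCI_subalgebra (K : Type u) [Field K] [Algebra k K] (E : Finset K) :
    ∃ A : Subalgebra k K, (↑E : Set K) ⊆ (A : Set K) ∧ Synt.IsGlobalCI k A := by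
  let A₀ : Subalgebra k K := Algebra.adjoin k (E : Set K)
  have hft : Algebra.FiniteType k A₀ := A₀.fg_iff_finiteType.1 (Subalgebra.fg_adjoin_finset E)
  have hCI : Synt.IsCIOver k (Localization.AtPrime (⊥ : Ideal A₀)) := by
    have : IsFractionRing A₀ (Localization.AtPrime (⊥ : Ideal A₀)) := by
      have h : (⊥ : Ideal A₀).primeCompl = nonZeroDivisors A₀ := by
        ext x
        exact mem_nonZeroDivisors_iff_ne_zero.symm
      show IsLocalization (nonZeroDivisors A₀) _
      rw [← h]
      infer_instance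
    have hF : IsField (Localization.AtPrime (⊥ : Ideal A₀)) :=
      (IsFractionRing.toField A₀ (K := Localization.AtPrime (⊥ : Ideal A₀))).toIsField
    have : IsPrincipalIdealRing (Localization.AtPrime (⊥ : Ideal A₀)) := ⟨fun I => by
      by_cases h : ∀ x ∈ I, x = 0
      · exact ⟨0, by rw [Submodule.span_zero_singleton]; exact (Submodule.eq_bot_iff I).2 h⟩
      · push Not at h
        obtain ⟨x, hx, hx0⟩ := h
        obtain ⟨y, hy⟩ := hF.mul_inv_cancel hx0
        exact ⟨1, (Ideal.eq_top_of_isUnit_mem I hx (IsUnit.of_mul_eq_one y hy)).trans Ideal.span_singleton_one.symm⟩⟩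
    have : IsDomain (Localization.AtPrime (⊥ : Ideal A₀)) := hF.isDomain
    have : Algebra.EssFiniteType k (Localization.AtPrime (⊥ : Ideal A₀)) := Algebra.EssFiniteType.comp k A₀ _
    exact isCIOver_of_isRegularLocalRing _
  obtain ⟨g, hg, hgci⟩ := exists_globalCI_of_isCIOver (⊥ : Ideal A₀) hCI
  have hg0 : g ≠ 0 := fun h => hg (Ideal.mem_bot.2 h)
  let φ : Localization.Away g →ₐ[k] K := IsLocalization.liftAlgHom (M := Submonoid.powers g) (f := A₀.val) (by
    rintro ⟨_, m, rfl⟩
    rw [map_pow]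
    exact ((Ne.isUnit fun h => hg0 (Subtype.ext h)).pow m))
  have hφ : ∀ a : A₀, φ (algebraMap A₀ _ a) = a := fun a => IsLocalization.lift_eq _ a
  have hinj : Function.Injective φ := (RingHom.injective_iff_ker_eq_bot φ.toRingHom).2 <| eq_bot_iff.2 fun z hz => by
    obtain ⟨⟨a, m⟩, ham⟩ := IsLocalization.surj (Submonoid.powers g) z
    have ha : a = 0 := Subtype.ext (by
      show (a : K) = 0
      rw [← hφ a, ← ham, map_mul, show φ z = 0 from hz, zero_mul])
    rw [ha, map_zero] at ham
    exact Ideal.mem_bot.2 ((IsLocalization.map_units (Localization.Away g) m).mul_left_eq_zero.1 ham)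
  refine ⟨φ.range, fun x hx => ⟨algebraMap A₀ _ ⟨x, Algebra.subset_adjoin hx⟩, hφ _⟩, ?_⟩
  exact isGlobalCI_congr (AlgEquiv.ofInjective φ hinj) hgci

end TransLib
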