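import Groth.Agent.TransLib.CIEquiv
import Groth.Agent.CohenLib.RegularField

/-!
# Smooth algebras over a field are local complete intersections
-/

set_option autoImplicit false

universe u

open RingTheory.Sequence

namespace TransLib

theorem isCIOver_of_isRegularLocalRing {k : Type u} [Field k] (S : Type u) [CommRing S] [Algebra k S]
    [IsRegularLocalRing S] [Algebra.EssFiniteType k S] : Synt.IsCIOver k S :=
  isCIOver_iff_exists.2 ⟨S, inferInstance, inferInstance, inferInstance, inferInstance, AlgHom.id k S,
    Function.surjective_id, [], IsRegular.nil S S, by
      rw [Ideal.ofList_nil]; exact ((RingHom.injective_iff_ker_eq_bot _).1 Function.injective_id).symm⟩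

theorem isLCIOver_of_smooth (k S : Type u) [Field k] [CommRing S] [Algebra k S] [Algebra.Smooth k S] :
    Synt.IsLCIOver k S := by
  have := CohenLib.isRegularRing_of_smooth k S
  refine isLCIOver_iff_forall.2 fun p => ?_
  have : IsRegularLocalRing (Localization.AtPrime p.asIdeal) := IsRegularRing.isRegularLocalRing_localization _
  have : Algebra.EssFiniteType k (Localization.AtPrime p.asIdeal) := Algebra.EssFiniteType.comp k S _
  exact isCIOver_of_isRegularLocalRing _

end TransLib
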