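import Groth.Agent.TransLib.SyntBC
import Groth.Agent.TransLib.SmoothCI

/-!
# Syntomic morphisms as a local property of ring maps
-/

set_option autoImplicit false

universe u

open TensorProduct CategoryTheory CategoryTheory.Limits AlgebraicGeometry

namespace TransLib

/-- Syntomic ring maps. -/
def SyntHom {R S : Type u} [CommRing R] [CommRing S] (f : R →+* S) : Prop :=
  letI := f.toAlgebra
  Synt.IsSyntomic R S

theorem syntHom_algebraMap {R S : Type u} [CommRing R] [CommRing S] [Algebra R S] :
    SyntHom (algebraMap R S) ↔ Synt.IsSyntomic R S := by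
  rw [SyntHom, toAlgebra_algebraMap]

theorem syntHom_ofLocalizationSpanTarget : RingHom.OfLocalizationSpanTarget @SyntHom := by
  classical
  intro R S _ _ f s hs h
  letI := f.toAlgebra
  obtain ⟨t, hts, ht⟩ := (Ideal.span_eq_top_iff_finite s).1 hs
  refine isSyntomic_of_span t ht fun g hg => ?_
  have h1 := h ⟨g, hts hg⟩
  rw [show (algebraMap S (Localization.Away g)).comp f = algebraMap R (Localization.Away g) from rfl] at h1
  exact syntHom_algebraMap.1 h1

theorem syntHom_stableUnderCompositionSource : RingHom.StableUnderCompositionWithLocalizationAwaySource @SyntHom := by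
  intro R S T _ _ _ _ r _ f h
  letI := f.toAlgebra
  letI : Algebra R T := (f.comp (algebraMap R S)).toAlgebra
  have : IsScalarTower R S T := IsScalarTower.of_algebraMap_eq fun _ => rfl
  exact isSyntomic_away_source r S h

theorem syntHom_stableUnderCompositionTarget : RingHom.StableUnderCompositionWithLocalizationAwayTarget @SyntHom := by
  intro R S T _ _ _ _ s _ f h
  letI := f.toAlgebra
  letI : Algebra R T := ((algebraMap S T).comp f).toAlgebra
  have : IsScalarTower R S T := IsScalarTower.of_algebraMap_eq fun _ => rfl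
  exact isSyntomic_away_target s T h

theorem syntHom_localizationAwayPreserves : RingHom.LocalizationAwayPreserves @SyntHom := by
  intro R S _ _ f r R' S' _ _ _ _ _ _ h
  letI := f.toAlgebra
  letI : Algebra R S' := ((algebraMap S S').comp f).toAlgebra
  have : IsScalarTower R S S' := IsScalarTower.of_algebraMap_eq fun _ => rfl
  letI : Algebra R' S' := (IsLocalization.Away.map R' S' f r).toAlgebra
  have : IsScalarTower R R' S' := IsScalarTower.of_algebraMap_eq fun x => by
    show algebraMap R S' x = IsLocalization.Away.map R' S' f r (algebraMap R R' x)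
    rw [IsLocalization.Away.map, IsLocalization.map_eq]
    rfl
  have h1 : Synt.IsSyntomic R S' := isSyntomic_away_target (f r) S' h
  have : SMulCommClass R' R' S' := inferInstance
  have : TensorProduct.CompatibleSMul R R' R' S' := IsLocalization.tensorProduct_compatibleSMul (Submonoid.powers r) R' R' S'
  exact isSyntomic_congr ((Algebra.TensorProduct.equivOfCompatibleSMul R R' R' R' S').symm.trans (Algebra.TensorProduct.lid R' S'))
    (isSyntomic_baseChange R' h1)

theorem syntHom_isLocal : RingHom.PropertyIsLocal @SyntHom :=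
  ⟨syntHom_localizationAwayPreserves, syntHom_ofLocalizationSpanTarget,
    syntHom_ofLocalizationSpanTarget.ofLocalizationSpan syntHom_stableUnderCompositionSource,
    syntHom_stableUnderCompositionTarget⟩

theorem syntHom_isStableUnderBaseChange : RingHom.IsStableUnderBaseChange @SyntHom := by
  refine RingHom.IsStableUnderBaseChange.mk syntHom_isLocal.respectsIso ?_
  intro R S T _ _ _ _ _ h
  exact syntHom_algebraMap.2 (isSyntomic_baseChange S (syntHom_algebraMap.1 h))

/-- Syntomic morphisms, as a property. -/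
def SyntMor : MorphismProperty Scheme.{u} :=
  affineLocally SyntHom

instance : HasRingHomProperty SyntMor.{u} SyntHom :=
  ⟨syntHom_isLocal, rfl⟩

instance : SyntMor.{u}.IsStableUnderBaseChange :=
  HasRingHomProperty.isStableUnderBaseChange syntHom_isStableUnderBaseChange

theorem isSyntomicMor_iff {X S : Scheme.{u}} (f : X ⟶ S) : Synt.IsSyntomicMor f ↔ SyntMor f := by
  rw [HasRingHomProperty.iff_exists_appLE (P := SyntMor) syntHom_stableUnderCompositionSource]
  refine forall_congr' fun x => ?_
  constructor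
  · rintro ⟨U, V, e, hx, h⟩
    exact ⟨V, U, hx, e, h⟩
  · rintro ⟨V, U, hx, e, h⟩
    exact ⟨U, V, e, hx, h⟩

theorem isSyntomicMor_iff_forall {X S : Scheme.{u}} (f : X ⟶ S) :
    Synt.IsSyntomicMor f ↔ ∀ (U : X.affineOpens) (V : S.affineOpens) (e : U.1 ≤ f ⁻¹ᵁ V.1),
      letI := (f.appLE V.1 U.1 e).hom.toAlgebra
      Synt.IsSyntomic Γ(S, V.1) Γ(X, U.1) := by
  rw [isSyntomicMor_iff, HasRingHomProperty.iff_appLE (P := SyntMor)]
  exact ⟨fun h U V e => h V U e, fun h V U e => h U V e⟩

theorem isSyntomic_of_smooth (R S : Type u) [CommRing R] [CommRing S] [Algebra R S] [Algebra.Smooth R S] :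
    Synt.IsSyntomic R S :=
  ⟨inferInstance, inferInstance, fun _ => isLCIOver_of_smooth _ _⟩

theorem syntMor_of_smooth {X S : Scheme.{u}} (f : X ⟶ S) [Smooth f] : SyntMor f := by
  rw [HasRingHomProperty.iff_appLE (P := SyntMor)]
  intro V U e
  have h : (f.appLE V.1 U.1 e).hom.Smooth := HasRingHomProperty.appLE (P := @Smooth) f inferInstance V U e
  letI := (f.appLE V.1 U.1 e).hom.toAlgebra
  have : Algebra.Smooth Γ(S, V.1) Γ(X, U.1) := h
  exact isSyntomic_of_smooth _ _

theorem isPullback_of_comp_mono {C : Type*} [Category C] {P A B Z W : C} {p : P ⟶ A} {q : P ⟶ B} {g : A ⟶ Z} {a : B ⟶ Z}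
    (m : Z ⟶ W) [Mono m] (h : IsPullback p q (g ≫ m) (a ≫ m)) : IsPullback p q g a := by
  have hw : p ≫ g = q ≫ a := by rw [← cancel_mono m, Category.assoc, Category.assoc, h.w]
  refine ⟨⟨hw⟩, ⟨PullbackCone.IsLimit.mk hw (fun t => h.lift t.fst t.snd (by rw [reassoc_of% t.condition])) ?_ ?_ ?_⟩⟩
  · intro t; exact h.lift_fst _ _ _
  · intro t; exact h.lift_snd _ _ _
  · intro t l h1 h2; apply h.hom_ext <;> simp [h1, h2]

/-- The affine pieces of the fibres. -/
theorem syntMor_fibre_piece {X S : Scheme.{u}} (f : X ⟶ S) (hfib : ∀ s : S, SyntMor (f.fiberToSpecResidueField s))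
    (U : X.affineOpens) (V : S.affineOpens) (e : U.1 ≤ f ⁻¹ᵁ V.1) (K : Type u) [Field K]
    (a : Γ(S, V.1) ⟶ CommRingCat.of K) :
    SyntMor (pullback.snd (Spec.map (f.appLE V.1 U.1 e)) (Spec.map a)) := by
  let ι : Spec (CommRingCat.of K) ⟶ S := Spec.map a ≫ V.2.fromSpec
  obtain ⟨⟨s, φ⟩, hsφ⟩ := (Scheme.SpecToEquivOfField K S).symm.surjective ι
  have hι : Spec.map φ ≫ S.fromSpecResidueField s = ι := hsφ
  have hbig : SyntMor (pullback.snd f ι) := by
    have h1 : IsPullback (pullback.fst (f.fiberToSpecResidueField s) (Spec.map φ) ≫ f.fiberι s)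
        (pullback.snd (f.fiberToSpecResidueField s) (Spec.map φ)) f ι :=
      hι ▸ (IsPullback.of_hasPullback _ _).paste_horiz (IsPullback.of_hasPullback f (S.fromSpecResidueField s))
    have h2 : SyntMor (pullback.snd (f.fiberToSpecResidueField s) (Spec.map φ)) :=
      MorphismProperty.of_isPullback (P := SyntMor) (IsPullback.of_hasPullback _ _) (hfib s)
    rw [← h1.isoPullback_inv_snd]
    exact (MorphismProperty.cancel_left_of_respectsIso SyntMor _ _).2 h2
  let j := U.2.fromSpec
  have hj : Spec.map (f.appLE V.1 U.1 e) ≫ V.2.fromSpec = j ≫ f :=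
    IsAffineOpen.SpecMap_appLE_fromSpec f V.2 U.2 e
  have hsq : IsPullback (pullback.fst (j ≫ f) ι) (pullback.snd (j ≫ f) ι) (Spec.map (f.appLE V.1 U.1 e)) (Spec.map a) := by
    refine isPullback_of_comp_mono V.2.fromSpec ?_
    rw [hj]
    exact IsPullback.of_hasPullback _ _
  rw [← hsq.isoPullback_inv_snd]
  rw [MorphismProperty.cancel_left_of_respectsIso SyntMor]
  rw [← pullbackRightPullbackFstIso_inv_snd_snd f ι j, MorphismProperty.cancel_left_of_respectsIso SyntMor]
  exact HasRingHomProperty.comp_of_isOpenImmersion SyntMor _ _ hbig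

/-- A flat morphism of finite presentation with syntomic fibres is syntomic. -/
theorem syntMor_of_fibres {X S : Scheme.{u}} (f : X ⟶ S) [Flat f] [LocallyOfFinitePresentation f]
    (hfib : ∀ s : S, SyntMor (f.fiberToSpecResidueField s)) : SyntMor f := by
  rw [HasRingHomProperty.iff_appLE (P := SyntMor)]
  intro V U e
  letI := (f.appLE V.1 U.1 e).hom.toAlgebra
  have hfl : Module.Flat Γ(S, V.1) Γ(X, U.1) := HasRingHomProperty.appLE (P := @Flat) f inferInstance V U e
  have hfp : Algebra.FinitePresentation Γ(S, V.1) Γ(X, U.1) :=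
    HasRingHomProperty.appLE (P := @LocallyOfFinitePresentation) f inferInstance V U e
  refine ⟨hfl, hfp, fun p => ?_⟩
  let K := p.asIdeal.ResidueField
  let a : Γ(S, V.1) ⟶ CommRingCat.of K := CommRingCat.ofHom (algebraMap Γ(S, V.1) K)
  have h1 := syntMor_fibre_piece f hfib U V e K a
  have hpo : IsPushout a (f.appLE V.1 U.1 e)
      (CommRingCat.ofHom (algebraMap K (K ⊗[Γ(S, V.1)] Γ(X, U.1))))
      (CommRingCat.ofHom (Algebra.TensorProduct.includeRight : Γ(X, U.1) →ₐ[Γ(S, V.1)] K ⊗[Γ(S, V.1)] Γ(X, U.1)).toRingHom) :=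
    CommRingCat.isPushout_tensorProduct Γ(S, V.1) K Γ(X, U.1)
  have hsq := (isPullback_SpecMap_of_isPushout _ _ _ _ hpo).flip
  have h2 : SyntMor (Spec.map (CommRingCat.ofHom (algebraMap K (K ⊗[Γ(S, V.1)] Γ(X, U.1))))) := by
    rw [← hsq.isoPullback_hom_snd]
    exact (MorphismProperty.cancel_left_of_respectsIso SyntMor _ _).2 h1
  rw [HasRingHomProperty.Spec_iff (P := SyntMor)] at h2
  exact isLCIOver_of_isSyntomic (syntHom_algebraMap.1 h2)

end TransLib
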