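import Groth.Agent.TransLib.RelGCI
import Groth.Agent.FibDimLib.Formula

/-!
# Purity of dimension of complete intersections, fibre dimension of relative ones
-/

set_option autoImplicit false

universe u

open TensorProduct CategoryTheory AlgebraicGeometry

namespace TransLib

/-- A subscheme of affine space cut by `c` equations of dimension at most `n - c` has that dimension everywhere. -/
theorem localDim_quotient_span (k : Type u) [Field k] (n c : ℕ) (hc : c ≤ n) (F : Fin c → MvPolynomial (Fin n) k)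
    (hd : ringKrullDim (MvPolynomial (Fin n) k ⧸ Ideal.span (Set.range F)) ≤ ((n - c : ℕ) : WithBot ℕ∞))
    (p : PrimeSpectrum (MvPolynomial (Fin n) k ⧸ Ideal.span (Set.range F))) :
    FlatMor.localDim (PrimeSpectrum (MvPolynomial (Fin n) k ⧸ Ideal.span (Set.range F))) p =
      ((n - c : ℕ) : WithBot ℕ∞) := by
  let A := MvPolynomial (Fin n) k ⧸ Ideal.span (Set.range F)
  refine le_antisymm ((FibDimLib.localDim_le _).trans ?_) ?_
  · rw [PrimeSpectrum.topologicalKrullDim_eq_ringKrullDim]; exact hd
  let q := p.asIdeal.comap (Ideal.Quotient.mk (Ideal.span (Set.range F)))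
  have hIq : Ideal.span (Set.range F) ≤ q := fun x hx => by
    show Ideal.Quotient.mk _ x ∈ p.asIdeal
    rw [Ideal.Quotient.eq_zero_iff_mem.2 hx]
    exact zero_mem _
  obtain ⟨P, hP, hPq⟩ := Ideal.exists_minimalPrimes_le (J := q) hIq
  have := hP.1.1
  have : (P.map (Ideal.Quotient.mk (Ideal.span (Set.range F)))).IsPrime :=
    Ideal.map_isPrime_of_surjective Ideal.Quotient.mk_surjective (by rw [Ideal.mk_ker]; exact hP.1.2)
  let P' : PrimeSpectrum A := ⟨P.map (Ideal.Quotient.mk _), this⟩
  have hsp : P' ≤ p := Ideal.map_le_iff_le_comap.2 hPq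
  let f : Spec (CommRingCat.of A) ⟶ Spec (CommRingCat.of k) := Spec.map (CommRingCat.ofHom (algebraMap k A))
  have : LocallyOfFiniteType f :=
    (HasRingHomProperty.Spec_iff (P := @LocallyOfFiniteType)).2 (RingHom.finiteType_algebraMap.2 inferInstance)
  refine le_trans ?_ (FibDimLib.le_localDim_of_specializes f
    (show (P' : Spec (CommRingCat.of A)) ⤳ p from (PrimeSpectrum.le_iff_specializes _ _).1 hsp))
  refine le_trans ?_ (FibDimLib.topologicalKrullDim_closure_prime P').ge
  show _ ≤ ringKrullDim (A ⧸ P.map (Ideal.Quotient.mk (Ideal.span (Set.range F))))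
  rw [ringKrullDim_eq_of_ringEquiv (DoubleQuot.quotQuotEquivQuotOfLE hP.1.2)]
  have h1 := ringKrullDim_quotient_add_height_mvPolynomial k n P
  have hne : ringKrullDim (MvPolynomial (Fin n) k ⧸ P) ≠ ⊥ := by
    intro h; rw [h, WithBot.bot_add] at h1; exact WithBot.bot_ne_natCast n h1
  obtain ⟨d, e, hd', he, -⟩ := exists_nat_of_add_le hne h1.le
  rw [hd', he] at h1
  have h1' : d + e = n := natCast_withBot_eq_iff.1 (by push_cast; exact h1)
  have hh : P.height ≤ c := by
    refine (Ideal.height_le_card_of_mem_minimalPrimes_span (Set.finite_range F) hP).trans (Nat.cast_le.2 ?_)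
    rw [← Set.image_univ]
    exact (Set.ncard_image_le (Set.finite_univ)).trans (by simp)
  have hec : e ≤ c := by rw [he] at hh; exact_mod_cast hh
  rw [hd']
  exact natCast_withBot_le (by omega)

theorem localDim_congr {α β : Type*} [TopologicalSpace α] [TopologicalSpace β] (e : α ≃ₜ β) (a : α) :
    FlatMor.localDim β (e a) = FlatMor.localDim α a :=
  FibDimLib.localDim_eq_of_isOpenEmbedding e.isOpenEmbedding a

variable {R : Type u} [CommRing R] {n c : ℕ} {F : Fin c → MvPolynomial (Fin n) R}

theorem localDim_fiber_relGCI (h : Synt.IsRelGCI R n c F) (p : Ideal R) [p.IsPrime]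
    (q : PrimeSpectrum (p.Fiber (Synt.RelGCIRing R n c F))) :
    FlatMor.localDim (PrimeSpectrum (p.Fiber (Synt.RelGCIRing R n c F))) q = ((n - c : ℕ) : WithBot ℕ∞) := by
  obtain ⟨hc, hd⟩ := h ⟨p, inferInstance⟩ (PrimeSpectrum.nonempty_iff_nontrivial.1 ⟨q⟩)
  let e := fibreEquiv (R := R) p.ResidueField n c F
  let φ := PrimeSpectrum.homeomorphOfRingEquiv (R := p.Fiber (Synt.RelGCIRing R n c F)) e.toRingEquiv
  rw [← localDim_congr φ q]
  exact localDim_quotient_span _ n c hc _
    ((ringKrullDim_eq_of_ringEquiv (R := p.Fiber (Synt.RelGCIRing R n c F)) e.toRingEquiv).symm.trans hd).le _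

theorem fibreDimAt_relGCI (h : Synt.IsRelGCI R n c F) (x : Spec (CommRingCat.of (Synt.RelGCIRing R n c F))) :
    FlatMor.fibreDimAt (Spec.map (CommRingCat.ofHom (algebraMap R (Synt.RelGCIRing R n c F)))) x =
      ((n - c : ℕ) : WithBot ℕ∞) := by
  let f := Spec.map (CommRingCat.ofHom (algebraMap R (Synt.RelGCIRing R n c F)))
  let p : PrimeSpectrum R := f.base x
  let φ : f.fiber (f.base x) ≃ₜ PrimeSpectrum (p.asIdeal.Fiber (Synt.RelGCIRing R n c F)) :=
    (f.fiberHomeo (f.base x)).trans (PrimeSpectrum.preimageHomeomorphFiber R (Synt.RelGCIRing R n c F) p)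
  show FlatMor.localDim _ (f.asFiber x) = _
  rw [← localDim_congr φ]
  exact localDim_fiber_relGCI h _ _

end TransLib
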