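import Groth.Agent.TransLib.SyntMor
import Groth.Agent.TransLib.PureDim
import Groth.Agent.FibDimLib.Smooth

/-!
# Local structure of syntomic morphisms
-/

set_option autoImplicit false

universe u

open TensorProduct CategoryTheory CategoryTheory.Limits AlgebraicGeometry

namespace TransLib

variable {X S : Scheme.{u}} (f : X ⟶ S)

theorem resLE_isoSpec (U : X.affineOpens) (V : S.affineOpens) (e : U.1 ≤ f ⁻¹ᵁ V.1) :
    U.2.isoSpec.hom ≫ Spec.map (f.appLE V.1 U.1 e) = f.resLE V.1 U.1 e ≫ V.2.isoSpec.hom := by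
  rw [← cancel_mono V.2.fromSpec, Category.assoc, Category.assoc, IsAffineOpen.SpecMap_appLE_fromSpec f V.2 U.2 e]
  simp

theorem syntMor_of_isStandardSyntomic (hf : Synt.IsStandardSyntomic f) : SyntMor f := by
  obtain ⟨R, _, n, c, F, hF, e₁, e₂, he⟩ := hf
  have h : SyntMor (Spec.map (CommRingCat.ofHom (algebraMap R (Synt.RelGCIRing R n c F)))) :=
    (HasRingHomProperty.Spec_iff (P := SyntMor)).2 (syntHom_algebraMap.2 (isSyntomic_relGCIRing hF))
  exact (MorphismProperty.arrow_mk_iso_iff SyntMor (Arrow.isoMk e₁ e₂ he)).2 h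

theorem syntHom_appLE_of_resLE (U : X.affineOpens) (V : S.affineOpens) (e : U.1 ≤ f ⁻¹ᵁ V.1)
    (h : SyntMor (f.resLE V.1 U.1 e)) : SyntHom (f.appLE V.1 U.1 e).hom := by
  have : IsAffine (U.1 : Scheme.{u}) := U.2
  have : IsAffine (V.1 : Scheme.{u}) := V.2
  have h1 : SyntMor (Spec.map (f.appLE V.1 U.1 e)) :=
    (MorphismProperty.arrow_mk_iso_iff SyntMor
      (Arrow.isoMk U.2.isoSpec V.2.isoSpec (resLE_isoSpec f U V e))).1 h
  exact (HasRingHomProperty.Spec_iff (P := SyntMor)).1 h1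

/-- Near a point, a syntomic morphism is a relative global complete intersection over any affine
neighbourhood of the image. -/
theorem exists_relGCI_chart (x : X) (h : Synt.IsSyntomicAt f x) (V : S.affineOpens) (hV : f.base x ∈ V.1) :
    ∃ (U : X.affineOpens) (e : U.1 ≤ f ⁻¹ᵁ V.1), x ∈ U.1 ∧
      ∃ (n c : ℕ) (F : Fin c → MvPolynomial (Fin n) Γ(S, V.1)), c ≤ n ∧ Synt.IsRelGCI Γ(S, V.1) n c F ∧
        letI := (f.appLE V.1 U.1 e).hom.toAlgebra
        Nonempty (Γ(X, U.1) ≃ₐ[Γ(S, V.1)] Synt.RelGCIRing Γ(S, V.1) n c F) := by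
  obtain ⟨U₀, V₀, e₀, hx₀, h₀⟩ := h
  obtain ⟨U₁, hU₁, hxU₁, hU₁V⟩ := exists_isAffineOpen_mem_and_subset (U := f ⁻¹ᵁ V.1) (show x ∈ f ⁻¹ᵁ V.1 from hV)
  obtain ⟨r, s, hxs, e', h'⟩ := exists_basicOpen_le_appLE_of_appLE_of_isAffine (P := @SyntHom) (f := f)
    syntHom_stableUnderCompositionTarget syntHom_localizationAwayPreserves x V V₀ ⟨U₁, hU₁⟩ U₀ hxU₁ hx₀ e₀ h₀ hV
  let W : X.affineOpens := ⟨X.basicOpen s, hU₁.basicOpen s⟩
  have eW : W.1 ≤ f ⁻¹ᵁ V.1 := (X.basicOpen_le s).trans hU₁V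
  letI algW : Algebra Γ(S, V.1) Γ(X, W.1) := (f.appLE V.1 W.1 eW).hom.toAlgebra
  have hW : Synt.IsSyntomic Γ(S, V.1) Γ(X, W.1) := by
    have := V.2.isLocalization_basicOpen r
    have hh := syntHom_stableUnderCompositionSource Γ(S, S.basicOpen r) r _ h'
    have heq : (f.appLE (S.basicOpen r) W.1 e').hom.comp (algebraMap Γ(S, V.1) Γ(S, S.basicOpen r)) =
        (f.appLE V.1 W.1 eW).hom := by
      show (S.presheaf.map (homOfLE (S.basicOpen_le r)).op ≫ f.appLE (S.basicOpen r) W.1 e').hom = _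
      rw [Scheme.Hom.map_appLE]
    rw [heq] at hh
    exact hh
  obtain ⟨g, hg, n, c, F, hF, ⟨eg⟩⟩ := exists_relGCI_of_isSyntomic hW (W.2.primeIdealOf ⟨x, hxs⟩).asIdeal
  let U : X.affineOpens := ⟨X.basicOpen g, W.2.basicOpen g⟩
  have hxU : x ∈ U.1 := by
    have hg' : W.2.primeIdealOf ⟨x, hxs⟩ ∈ W.2.fromSpec ⁻¹ᵁ (X.basicOpen g) := by
      rw [W.2.fromSpec_preimage_basicOpen]
      exact hg
    have hx' : W.2.fromSpec (W.2.primeIdealOf ⟨x, hxs⟩) = x := W.2.fromSpec_primeIdealOf ⟨x, hxs⟩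
    have hg'' : W.2.fromSpec (W.2.primeIdealOf ⟨x, hxs⟩) ∈ X.basicOpen g := hg'
    rwa [hx'] at hg''
  have eU : U.1 ≤ f ⁻¹ᵁ V.1 := (X.basicOpen_le g).trans eW
  refine ⟨U, eU, hxU, n, c, F, ?_, hF, ?_⟩
  · by_contra hc
    have := subsingleton_of_isRelGCI_of_lt hF hc
    have : Subsingleton (Localization.Away g) := eg.toEquiv.subsingleton
    obtain ⟨a, _, -, -⟩ := exists_atPrime_away Γ(S, V.1) g (W.2.primeIdealOf ⟨x, hxs⟩).asIdeal hg
    exact (inferInstance : a.IsPrime).ne_top (Subsingleton.elim _ _)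
  · letI : Algebra Γ(S, V.1) Γ(X, U.1) := (f.appLE V.1 U.1 eU).hom.toAlgebra
    have := W.2.isLocalization_basicOpen g
    have : IsScalarTower Γ(S, V.1) Γ(X, W.1) Γ(X, U.1) := IsScalarTower.of_algebraMap_eq fun a => by
      show (f.appLE V.1 U.1 eU).hom a = _
      rw [← Scheme.Hom.appLE_map f eW (homOfLE (X.basicOpen_le g)).op]
      rfl
    exact ⟨((IsLocalization.algEquiv (Submonoid.powers g) Γ(X, U.1) (Localization.Away g)).restrictScalars Γ(S, V.1)).trans eg⟩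

theorem isSyntomicAt_iff_standard (x : X) (V : S.affineOpens) (hV : f.base x ∈ V.1) :
    Synt.IsSyntomicAt f x ↔
      ∃ (U : X.affineOpens) (e : U.1 ≤ f ⁻¹ᵁ V.1), x ∈ U.1 ∧ Synt.IsStandardSyntomic (f.resLE V.1 U.1 e) := by
  constructor
  · intro h
    obtain ⟨U, e, hx, n, c, F, -, hF, he⟩ := exists_relGCI_chart f x h V hV
    letI : Algebra Γ(S, V.1) Γ(X, U.1) := (f.appLE V.1 U.1 e).hom.toAlgebra
    obtain ⟨E⟩ := he
    refine ⟨U, e, hx, Γ(S, V.1), inferInstance, n, c, F, hF,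
      U.2.isoSpec ≪≫ Scheme.Spec.mapIso (E.toRingEquiv.toCommRingCatIso).symm.op.symm.symm, V.2.isoSpec, ?_⟩
    rw [← resLE_isoSpec]
    simp only [Iso.trans_hom, Category.assoc]
    congr 1
    show Spec.map _ ≫ Spec.map _ = _
    rw [← Spec.map_comp]
    congr 1
    ext a
    exact E.symm.commutes a
  · rintro ⟨U, e, hx, h⟩
    exact ⟨U, V, e, hx, syntHom_appLE_of_resLE f U V e (syntMor_of_isStandardSyntomic _ h)⟩

theorem isLocallyConstant_fibreDimAt (hf : Synt.IsSyntomicMor f) :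
    IsLocallyConstant fun x : ↑X => FlatMor.fibreDimAt f x := by
  refine (IsLocallyConstant.iff_exists_open _).2 fun x => ?_
  obtain ⟨V, hV, hfx, -⟩ := exists_isAffineOpen_mem_and_subset (U := ⊤) (show f.base x ∈ (⊤ : S.Opens) from trivial)
  obtain ⟨U, e, hx, n, c, F, -, hF, he⟩ := exists_relGCI_chart f x (hf x) ⟨V, hV⟩ hfx
  letI : Algebra Γ(S, V) Γ(X, U.1) := (f.appLE V U.1 e).hom.toAlgebra
  obtain ⟨E⟩ := he
  have key : ∀ y ∈ U.1, FlatMor.fibreDimAt f y = ((n - c : ℕ) : WithBot ℕ∞) := by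
    intro y hy
    obtain ⟨w, rfl⟩ : y ∈ Set.range U.2.fromSpec.base := by rw [U.2.range_fromSpec]; exact hy
    let τ : Spec Γ(X, U.1) ⟶ Spec (CommRingCat.of (Synt.RelGCIRing Γ(S, V) n c F)) :=
      Spec.map E.toRingEquiv.toCommRingCatIso.inv
    have hτ : τ ≫ Spec.map (CommRingCat.ofHom (algebraMap Γ(S, V) (Synt.RelGCIRing Γ(S, V) n c F))) =
        Spec.map (f.appLE V U.1 e) := by
      rw [← Spec.map_comp]
      congr 1
      ext a
      exact E.symm.commutes a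
    rw [← FibDimLib.fibreDimAt_comp_isOpenImmersion, ← IsAffineOpen.SpecMap_appLE_fromSpec f hV U.2 e,
      FibDimLib.fibreDimAt_comp_of_discrete, ← hτ, FibDimLib.fibreDimAt_comp_isOpenImmersion]
    exact fibreDimAt_relGCI hF _
  exact ⟨U.1, U.1.isOpen, hx, fun y hy => (key y hy).trans (key x hx).symm⟩

end TransLib
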