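import Groth.Agent.TransLib.RelLocal
import Groth.Agent.KRLib.Seq
import Groth.Agent.KRLib.FF

/-!
# Koszul regularity of relative global complete intersections
-/

set_option autoImplicit false

universe u

open TensorProduct KoszDetLib RingTheory.Sequence

namespace TransLib

/-- Exactness of the Koszul complex may be checked in the local rings along the zero locus. -/
theorem isExactK_of_local {A : Type u} [CommRing A] {c : ℕ} (f : Fin c → A)
    (h : ∀ (q : Ideal A) [q.IsPrime], Ideal.span (Set.range f) ≤ q →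
      IsExactK fun i => algebraMap A (Localization.AtPrime q) (f i)) : IsExactK f := by
  classical
  intro x hx hε
  let C : Ideal A := (LinearMap.range (D f)).comap (LinearMap.toSpanSingleton A _ x)
  suffices hC : C = ⊤ by
    have h1 : (1 : A) • x ∈ LinearMap.range (D f) := (Ideal.eq_top_iff_one C).1 hC
    rwa [one_smul] at h1
  by_contra hne
  obtain ⟨M, hM, hCM⟩ := Ideal.exists_le_maximal C hne
  suffices hc : ∃ t ∉ M, t • x ∈ LinearMap.range (D f) by
    obtain ⟨t, ht, htx⟩ := hc
    exact ht (hCM htx)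
  by_cases hle : Ideal.span (Set.range f) ≤ M
  · let σ := algebraMap A (Localization.AtPrime M)
    obtain ⟨y, hy⟩ := h M hle (KRLib.mapK σ x) (by rw [← KRLib.mapK_D, hx, map_zero]) (by
      have h1 := Ideal.mem_map_of_mem σ hε
      rw [Ideal.map_span, ← Set.range_comp] at h1
      exact h1)
    obtain ⟨s, y₀, hy₀⟩ := KRLib.mapK_surj_num M.primeCompl y
    have h2 : KRLib.mapK σ ((s : A) • x) = KRLib.mapK σ (D f y₀) := by
      rw [KRLib.mapK_smul, KRLib.mapK_D, ← hy₀, map_smul, hy]
    obtain ⟨t, ht⟩ := KRLib.mapK_inj M.primeCompl _ _ h2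
    refine ⟨(t : A) * s, (M.primeCompl.mul_mem t.2 s.2), (t : A) • y₀, ?_⟩
    rw [map_smul, ← ht, smul_smul]
  · obtain ⟨_, ⟨i, rfl⟩, hi⟩ := Set.not_subset.1 fun hs => hle (Ideal.span_le.2 hs)
    refine ⟨f i, hi, L (Pi.single i 1) x, ?_⟩
    have h1 := D_L f (Pi.single i 1) x
    rwa [hx, map_zero, add_zero, Finset.sum_eq_single i (fun j _ hj => by simp [Pi.single_eq_of_ne hj]) (by simp),
      Pi.single_eq_same, one_mul] at h1

variable {R : Type u} [CommRing R] {n c : ℕ} {F : Fin c → MvPolynomial (Fin n) R}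

theorem isExactK_of_isRelGCI (h : Synt.IsRelGCI R n c F) : IsExactK F := by
  by_cases hc : c ≤ n
  · refine isExactK_of_local F fun q _ hq => ?_
    have hr := weaklyRegular_localization hc (fun p _ => fibre_le_of_isRelGCI h p) q hq
    rw [List.map_ofFn] at hr
    have hK := KRLib.isExactK_of_isWeaklyRegular _ hr
    exact KRLib.isExactK_cast hK List.length_ofFn fun i => (List.get_ofFn _ i).symm
  · have := subsingleton_of_isRelGCI_of_lt h hc
    exact KRLib.isExactK_of_one_mem F ((Ideal.eq_top_iff_one _).1 (Ideal.Quotient.subsingleton_iff.1 this))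

/-- The classes of exact equations form a basis of the conormal module. -/
theorem cotangent_basis_of_isExactK {A : Type u} [CommRing A] {c : ℕ} (f : Fin c → A) (hf : IsExactK f) :
    LinearIndependent (A ⧸ Ideal.span (Set.range f))
        (fun i : Fin c => (Ideal.span (Set.range f)).toCotangent ⟨f i, Ideal.subset_span (Set.mem_range_self i)⟩) ∧
      Submodule.span (A ⧸ Ideal.span (Set.range f)) (Set.range
        (fun i : Fin c => (Ideal.span (Set.range f)).toCotangent ⟨f i, Ideal.subset_span (Set.mem_range_self i)⟩)) = ⊤ := by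
  let I := Ideal.span (Set.range f)
  let v : Fin c → I := fun i => ⟨f i, Ideal.subset_span (Set.mem_range_self i)⟩
  have hcoe : ∀ a : Fin c → A, ((∑ i, a i • v i : I) : A) = ∑ i, a i * f i := fun a => by
    rw [AddSubmonoidClass.coe_finsetSum]
    rfl
  have hlin : ∀ a : Fin c → A, ∑ i, (Ideal.Quotient.mk I (a i)) • I.toCotangent (v i) = I.toCotangent (∑ i, a i • v i) := by
    intro a
    rw [map_sum]
    refine Finset.sum_congr rfl fun i _ => ?_
    rw [map_smul]
    rfl
  refine ⟨Fintype.linearIndependent_iff.2 fun g hg i => ?_, ?_⟩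
  · choose a ha using fun i => Ideal.Quotient.mk_surjective (g i)
    simp only [← ha] at hg
    rw [hlin, Ideal.toCotangent_eq_zero, hcoe, pow_two] at hg
    obtain ⟨b, hb, hb'⟩ : ∃ b : Fin c → A, (∀ j, b j ∈ I) ∧ ∑ j, b j * f j = ∑ j, a j * f j := by
      have h1 : ∑ j, a j * f j ∈ I • Submodule.span A (Set.range f) := hg
      rw [Submodule.mem_ideal_smul_span_iff_exists_sum] at h1
      obtain ⟨b, hbI, hb⟩ := h1
      exact ⟨b, hbI, by rw [← hb, Finsupp.sum_fintype _ _ (fun j => zero_smul A (f j))]; rfl⟩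
    have h2 := KRLib.coeff_mem_of_relation hf (fun j => a j - b j) (by
      simp only [sub_mul, Finset.sum_sub_distrib, hb', sub_self]) i
    rw [← ha, Ideal.Quotient.eq_zero_iff_mem]
    simpa using I.add_mem h2 (hb i)
  · rw [eq_top_iff]
    rintro y -
    obtain ⟨⟨x, hx⟩, rfl⟩ := I.toCotangent_surjective y
    obtain ⟨a, ha⟩ := Ideal.mem_span_range_iff_exists_fun.1 hx
    rw [show (⟨x, hx⟩ : I) = ∑ i, a i • v i from Subtype.ext (by rw [hcoe]; exact ha.symm), ← hlin]
    exact Submodule.sum_mem _ fun i _ => Submodule.smul_mem _ _ (Submodule.subset_span ⟨i, rfl⟩)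

end TransLib
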