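import Groth.Agent.TransLib.RegPres
import Groth.Agent.TransLib.Noether

/-!
# Base change and localisation of syntomic algebras
-/

set_option autoImplicit false

universe u

open TensorProduct

namespace TransLib

variable {R S : Type u} [CommRing R] [CommRing S] [Algebra R S]

/-- A finite cover by relative global complete intersections. -/
theorem exists_relGCI_cover (h : Synt.IsSyntomic R S) :
    ∃ s : Finset S, Ideal.span (s : Set S) = ⊤ ∧ ∀ g ∈ s, ∃ (n c : ℕ) (F : Fin c → MvPolynomial (Fin n) R),
      c ≤ n ∧ Synt.IsRelGCI R n c F ∧ Nonempty (Localization.Away g ≃ₐ[R] Synt.RelGCIRing R n c F) := by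
  let G : Set S := {g | ∃ (n c : ℕ) (F : Fin c → MvPolynomial (Fin n) R),
    c ≤ n ∧ Synt.IsRelGCI R n c F ∧ Nonempty (Localization.Away g ≃ₐ[R] Synt.RelGCIRing R n c F)}
  have hG : Ideal.span G = ⊤ := by
    by_contra hne
    obtain ⟨M, hM, hle⟩ := Ideal.exists_le_maximal _ hne
    have := hM.isPrime
    obtain ⟨g, hg, n, c, F, hF, ⟨e⟩⟩ := exists_relGCI_of_isSyntomic h M
    refine hg (hle (Ideal.subset_span ⟨n, c, F, ?_, hF, ⟨e⟩⟩))
    by_contra hc
    have := subsingleton_of_isRelGCI_of_lt hF hc
    have : Subsingleton (Localization.Away g) := e.toEquiv.subsingleton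
    obtain ⟨a, _, -, -⟩ := exists_atPrime_away R g M hg
    exact (inferInstance : a.IsPrime).ne_top (Subsingleton.elim _ _)
  obtain ⟨s, hs, hs'⟩ := (Ideal.span_eq_top_iff_finite G).1 hG
  exact ⟨s, hs', fun g hg => hs hg⟩

/-- Syntomic algebras are stable under base change. -/
theorem isSyntomic_baseChange (R' : Type u) [CommRing R'] [Algebra R R'] (h : Synt.IsSyntomic R S) :
    Synt.IsSyntomic R' (R' ⊗[R] S) := by
  classical
  obtain ⟨s, hs, hsF⟩ := exists_relGCI_cover h
  let ι : S →+* R' ⊗[R] S := (Algebra.TensorProduct.includeRight : S →ₐ[R] R' ⊗[R] S).toRingHom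
  refine isSyntomic_of_span (s.image ι) ?_ ?_
  · rw [Finset.coe_image, ← Ideal.map_span, hs, Ideal.map_top]
  · intro x hx
    obtain ⟨g, hg, rfl⟩ := Finset.mem_image.1 hx
    obtain ⟨n, c, F, hc, hF, ⟨e⟩⟩ := hsF g hg
    refine isSyntomic_congr ?_ (isSyntomic_relGCIRing (isRelGCI_map (B := R') F hc hF))
    exact ((fibreEquiv (R := R) R' n c F).symm.trans
      (Algebra.TensorProduct.congr (AlgEquiv.refl (R := R') (A₁ := R')) e.symm)).trans
      (IsLocalization.Away.tensorProductEquivTMulRight R R' g (Localization.Away g))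

theorem isGlobalCI_of_isRelGCI {k : Type u} [Field k] {n c : ℕ} {F : Fin c → MvPolynomial (Fin n) k}
    (h : Synt.IsRelGCI k n c F) : Synt.IsGlobalCI k (Synt.RelGCIRing k n c F) := by
  let κ := (⊥ : Ideal k).ResidueField
  let T := Synt.RelGCIRing k n c F
  have hbij : Function.Bijective (Algebra.ofId k κ) :=
    ⟨(algebraMap k κ).injective, (Ideal.bijective_algebraMap_quotient_residueField (⊥ : Ideal k)).2.comp
      Ideal.Quotient.mk_surjective⟩
  let E : (⊥ : Ideal k).Fiber T ≃ₐ[k] T :=
    (Algebra.TensorProduct.congr (AlgEquiv.ofBijective (Algebra.ofId k κ) hbij).symm AlgEquiv.refl).trans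
      (Algebra.TensorProduct.lid k T)
  rcases subsingleton_or_nontrivial T with hs | hn
  · exact Or.inl hs
  obtain ⟨hc, hd⟩ := h ⟨⊥, Ideal.bot_prime⟩ E.toEquiv.nontrivial
  refine Or.inr ⟨n, c, hc, Ideal.Quotient.mkₐ _ _, F, Ideal.Quotient.mkₐ_surjective _ _, Ideal.mk_ker, ?_⟩
  rw [← hd]
  exact ringKrullDim_eq_of_ringEquiv E.symm.toRingEquiv

/-- Over a field, syntomic means local complete intersection. -/
theorem isLCIOver_of_isSyntomic {k : Type u} [Field k] {T : Type u} [CommRing T] [Algebra k T]
    (h : Synt.IsSyntomic k T) : Synt.IsLCIOver k T := by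
  have := h.2.1
  refine ⟨inferInstance, fun p => ?_⟩
  obtain ⟨g, hg, n, c, F, hF, ⟨e⟩⟩ := exists_relGCI_of_isSyntomic h p.asIdeal
  exact ⟨g, hg, isGlobalCI_congr e.symm (isGlobalCI_of_isRelGCI hF)⟩

/-- Composition with a basic open of the base. -/
theorem isSyntomic_away_source (r : R) (R' : Type u) [CommRing R'] [Algebra R R'] [IsLocalization.Away r R']
    [Algebra R' S] [IsScalarTower R R' S] (h : Synt.IsSyntomic R' S) : Synt.IsSyntomic R S := by
  have := h.1
  have := h.2.1
  have : Module.Flat R R' := IsLocalization.flat R' (Submonoid.powers r)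
  have : Algebra.FinitePresentation R R' := IsLocalization.Away.finitePresentation r
  have hfl : Module.Flat R S := Module.Flat.trans R R' S
  have hfp : Algebra.FinitePresentation R S := Algebra.FinitePresentation.trans R R' S
  refine ⟨hfl, hfp, fun p => ?_⟩
  let κ := p.asIdeal.ResidueField
  by_cases hr : r ∈ p.asIdeal
  · have : Subsingleton (p.asIdeal.Fiber S) := by
      rw [← subsingleton_iff_zero_eq_one]
      have hu : IsUnit (algebraMap R S r) := by
        rw [IsScalarTower.algebraMap_apply R R' S]
        exact (IsLocalization.Away.algebraMap_isUnit r).map _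
      obtain ⟨u, hu'⟩ := hu
      show (0 : κ ⊗[R] S) = 1
      rw [Algebra.TensorProduct.one_def,
        show (1 : S) = r • ((u⁻¹ : Sˣ) : S) by rw [Algebra.smul_def, ← hu', Units.mul_inv],
        ← smul_tmul, ← Algebra.algebraMap_eq_smul_one, Ideal.algebraMap_residueField_eq_zero.2 hr, zero_tmul]
    exact ⟨inferInstance, fun q => absurd (Subsingleton.elim q.asIdeal ⊤) q.isPrime.ne_top⟩
  · let φ : R' →+* κ := IsLocalization.Away.lift r (g := algebraMap R κ)
      (Ne.isUnit fun h0 => hr (Ideal.algebraMap_residueField_eq_zero.1 h0))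
    letI : Algebra R' κ := φ.toAlgebra
    have : IsScalarTower R R' κ := IsScalarTower.of_algebraMap_eq fun x => (IsLocalization.Away.lift_eq r _ x).symm
    have : SMulCommClass R' κ κ := inferInstance
    have : TensorProduct.CompatibleSMul R R' κ S := IsLocalization.tensorProduct_compatibleSMul (Submonoid.powers r) R' κ S
    exact isLCIOver_congr (Algebra.TensorProduct.equivOfCompatibleSMul R R' κ κ S)
      (isLCIOver_of_isSyntomic (isSyntomic_baseChange κ h))

/-- Composition with a basic open of the target. -/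
theorem isSyntomic_away_target (t : S) (S' : Type u) [CommRing S'] [Algebra S S'] [Algebra R S'] [IsScalarTower R S S']
    [IsLocalization.Away t S'] (h : Synt.IsSyntomic R S) : Synt.IsSyntomic R S' := by
  suffices Synt.IsSyntomic R (Localization.Away t) from isSyntomic_congr
    ((IsLocalization.algEquiv (Submonoid.powers t) (Localization.Away t) S').restrictScalars R) this
  have := h.1
  have := h.2.1
  have : Module.Flat S (Localization.Away t) := IsLocalization.flat _ (Submonoid.powers t)
  have : Algebra.FinitePresentation S (Localization.Away t) := IsLocalization.Away.finitePresentation t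
  refine ⟨Module.Flat.trans R S _, Algebra.FinitePresentation.trans R S _, fun p => ?_⟩
  exact isLCIOver_congr (IsLocalization.Away.tensorProductEquivTMulRight R p.asIdeal.ResidueField t (Localization.Away t)).symm
    (isLCIOver_away (h.2.2 p) _)

end TransLib
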