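import Groth.Agent.GorLib.LCIFibre
import Groth.Agent.GorLib.RegSeq
import Groth.Agent.TransLib.SyntBC
import Groth.Agent.TransLib.RelKoszul
import Groth.Agent.KRLib.Pres

/-!
# Syntomic algebras and flat local complete intersection maps
-/

set_option autoImplicit false

universe u

open TensorProduct KoszDetLib

namespace TransLib

section Fibre

variable {A P B K : Type u} [CommRing A] [CommRing P] [CommRing B] [CommRing K] [Algebra A P] [Algebra A B] [Algebra A K]

/-- Koszul regularity passes to the fibres of a flat quotient. -/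
theorem krGen_tensor_of_locKR [Module.Flat A P] [Module.Flat A B] (σ : P →ₐ[A] B) (hσ : Function.Surjective σ)
    (h : KRLib.LocKR (RingHom.ker σ.toRingHom)) (Q' : Ideal (P ⊗[A] K)) [Q'.IsPrime]
    (hQ' : RingHom.ker (Algebra.TensorProduct.map σ (AlgHom.id A K)).toRingHom ≤ Q') :
    KRLib.KRGen ((RingHom.ker (Algebra.TensorProduct.map σ (AlgHom.id A K)).toRingHom).map
      (algebraMap (P ⊗[A] K) (Localization.AtPrime Q'))) := by
  let σ' : P ⊗[A] K →ₐ[A] B ⊗[A] K := Algebra.TensorProduct.map σ (AlgHom.id A K)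
  have hσ' : Function.Surjective σ' :=
    show Function.Surjective (TensorProduct.map σ.toLinearMap LinearMap.id) from
      TensorProduct.map_surjective hσ Function.surjective_id
  let Q := Q'.comap (Algebra.TensorProduct.includeLeftRingHom : P →+* P ⊗[A] K)
  have hle : RingHom.ker σ.toRingHom ≤ Q := fun x hx => by
    refine hQ' ?_
    show σ' (x ⊗ₜ 1) = 0
    rw [Algebra.TensorProduct.map_tmul]
    rw [show σ x = 0 from hx, zero_tmul]
  obtain ⟨g, hg, n, f, hf, hspan⟩ := h Q inferInstance hle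
  let L := Localization.Away g
  let T := Localization.AtPrime Q'
  have hgu : IsUnit ((algebraMap (P ⊗[A] K) T) (g ⊗ₜ 1)) := IsLocalization.map_units T (⟨g ⊗ₜ 1, hg⟩ : Q'.primeCompl)
  -- `L/(f)` is a localization of `B`
  haveI : Module.Flat A L := Module.Flat.trans A P L
  haveI : Module.Flat A (L ⧸ Ideal.span (Set.range f)) := by
    letI : Algebra P B := σ.toRingHom.toAlgebra
    let ρ : L →+* Localization.Away (σ g) := IsLocalization.Away.map L (Localization.Away (σ g)) σ.toRingHom g
    have hρ : Function.Surjective ρ := KRLib.awayMap_surjective σ.toRingHom g L (Localization.Away (σ g)) hσ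
    have hker : RingHom.ker ρ = Ideal.span (Set.range f) := (KRLib.ker_awayMap σ.toRingHom g L (Localization.Away (σ g))).trans hspan.symm
    haveI : Module.Flat A (Localization.Away (σ g)) := Module.Flat.trans A B _
    let ρ' : L →ₐ[A] Localization.Away (σ g) := { ρ with
      commutes' := fun a => by
        show ρ (algebraMap A L a) = _
        rw [IsScalarTower.algebraMap_apply A P L, IsScalarTower.algebraMap_apply A B (Localization.Away (σ g))]
        exact (IsLocalization.map_eq _ _).trans (congrArg _ (σ.commutes a)) }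
    exact Module.Flat.of_linearEquiv ((Ideal.quotientEquivAlgOfEq A hker.symm).trans
      (Ideal.quotientKerAlgEquivOfSurjective (f := ρ') hρ)).toLinearEquiv
  have hf' := GorLib.isExactK_baseChange (A := A) K f hf
  -- the flat map `L ⊗ K → T`
  let toT : P →ₐ[A] T := (IsScalarTower.toAlgHom A (P ⊗[A] K) T).comp Algebra.TensorProduct.includeLeft
  let lft : L →ₐ[A] T := IsLocalization.liftAlgHom (M := Submonoid.powers g) (f := toT) (by
    rintro ⟨_, m, rfl⟩
    show IsUnit (toT (g ^ m))
    rw [map_pow]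
    exact hgu.pow m)
  let θ : L ⊗[A] K →ₐ[A] T := Algebra.TensorProduct.lift lft
    ((IsScalarTower.toAlgHom A (P ⊗[A] K) T).comp Algebra.TensorProduct.includeRight) fun _ _ => Commute.all _ _
  let ι : P ⊗[A] K →ₐ[A] L ⊗[A] K := Algebra.TensorProduct.map (IsScalarTower.toAlgHom A P L) (AlgHom.id A K)
  have hθ : ∀ x, θ (ι x) = algebraMap (P ⊗[A] K) T x := by
    intro x
    induction x using TensorProduct.induction_on with
    | zero => simp
    | tmul p k =>
      show θ (algebraMap P L p ⊗ₜ k) = _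
      rw [Algebra.TensorProduct.lift_tmul]
      show lft (algebraMap P L p) * algebraMap (P ⊗[A] K) T (1 ⊗ₜ k) = _
      rw [IsLocalization.liftAlgHom_apply, IsLocalization.lift_eq]
      show algebraMap (P ⊗[A] K) T (p ⊗ₜ 1) * _ = _
      rw [← map_mul, Algebra.TensorProduct.tmul_mul_tmul, mul_one, one_mul]
    | add x y hx hy => simp only [map_add, hx, hy]
  letI : Algebra (L ⊗[A] K) T := θ.toRingHom.toAlgebra
  haveI : IsLocalization (Q'.primeCompl.map ι.toRingHom.toMonoidHom) T := by
    refine ⟨?_, fun z => ?_, @fun x y hxy => ?_⟩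
    · rintro ⟨_, c, hc, rfl⟩
      show IsUnit (θ (ι c))
      rw [hθ]
      exact IsLocalization.map_units T (⟨c, hc⟩ : Q'.primeCompl)
    · obtain ⟨⟨a, s⟩, hs⟩ := IsLocalization.surj Q'.primeCompl z
      refine ⟨⟨ι a, ⟨ι s, s, s.2, rfl⟩⟩, ?_⟩
      show z * θ (ι s) = θ (ι a)
      rw [hθ, hθ]; exact hs
    · obtain ⟨m, a, ha⟩ := GorLib.exists_mul_mem_range (A := A) (K := K) g (x - y)
      have hg' : algebraMap P L (g ^ m) ⊗ₜ[A] (1 : K) = ι ((g ^ m) ⊗ₜ 1) := by
        show _ = algebraMap P L (g ^ m) ⊗ₜ[A] (1 : K)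
        rfl
      have h0 : algebraMap (P ⊗[A] K) T a = 0 := by
        rw [← hθ]
        show θ (ι a) = 0
        rw [← ha, map_mul, map_sub]
        have : θ x = θ y := hxy
        rw [this, sub_self, zero_mul]
      obtain ⟨c, hc⟩ := (IsLocalization.map_eq_zero_iff Q'.primeCompl T a).1 h0
      have hmem : (c : P ⊗[A] K) * ((g ^ m) ⊗ₜ 1) ∈ Q'.primeCompl := by
        refine Submonoid.mul_mem _ c.2 ?_
        have := pow_mem (S := Q'.primeCompl) (x := (g ⊗ₜ 1 : P ⊗[A] K)) hg m
        rwa [Algebra.TensorProduct.tmul_pow, one_pow] at this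
      refine ⟨⟨_, _, hmem, rfl⟩, ?_⟩
      show ι ((c : P ⊗[A] K) * ((g ^ m) ⊗ₜ 1)) * x = ι ((c : P ⊗[A] K) * ((g ^ m) ⊗ₜ 1)) * y
      have h1 : ι (c : P ⊗[A] K) * ι a = 0 := by rw [← map_mul, hc, map_zero]
      rw [← sub_eq_zero, ← mul_sub, map_mul, mul_assoc, mul_comm (ι ((g ^ m) ⊗ₜ 1)), ← hg', ha]
      exact h1
  haveI : Module.Flat (L ⊗[A] K) T := IsLocalization.flat T (Q'.primeCompl.map ι.toRingHom.toMonoidHom)
  refine ⟨n, fun i => θ (f i ⊗ₜ 1), KRLib.isExactK_of_flat hf', ?_⟩
  -- the ideals agree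
  let inc : L →+* T := θ.toRingHom.comp Algebra.TensorProduct.includeLeftRingHom
  rw [show Ideal.span (Set.range fun i => θ (f i ⊗ₜ 1)) = (Ideal.span (Set.range f)).map inc by
    rw [Ideal.map_span, ← Set.range_comp]; rfl, hspan, Ideal.map_map]
  show _ = (RingHom.ker σ').map _
  rw [show RingHom.ker σ' = (RingHom.ker σ).map (Algebra.TensorProduct.includeLeft : P →ₐ[A] P ⊗[A] K) from
    Algebra.TensorProduct.rTensor_ker σ hσ, show (RingHom.ker σ).map (Algebra.TensorProduct.includeLeft : P →ₐ[A] P ⊗[A] K) =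
      (RingHom.ker σ).map (Algebra.TensorProduct.includeLeft : P →ₐ[A] P ⊗[A] K).toRingHom from rfl, Ideal.map_map]
  refine congrArg (fun φ => Ideal.map φ (RingHom.ker σ.toRingHom)) (RingHom.ext fun p => ?_)
  show θ (ι (p ⊗ₜ 1)) = algebraMap (P ⊗[A] K) T (p ⊗ₜ 1)
  exact hθ _

end Fibre

variable {R S : Type u} [CommRing R] [CommRing S] [Algebra R S]

/-- A syntomic algebra is a local complete intersection. -/
theorem isLCI_of_isSyntomic (h : Synt.IsSyntomic R S) : LCI.IsLCI R S := by
  obtain ⟨s, hs, hsF⟩ := exists_relGCI_cover h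
  refine KRLib.isLCI_of_span_eq_top (s : Set S) hs fun g hg => ?_
  obtain ⟨n, c, F, -, hF, ⟨e⟩⟩ := hsF g hg
  refine KRLib.isLCI_of_algEquiv e.symm ⟨inferInstance, n, Ideal.Quotient.mkₐ R _, Ideal.Quotient.mkₐ_surjective R _, ?_⟩
  rw [← KRLib.locKR_iff, show RingHom.ker (Ideal.Quotient.mkₐ R (Ideal.span (Set.range F))).toRingHom = _ from Ideal.mk_ker]
  exact KRLib.KRGen.locKR ⟨c, F, isExactK_of_isRelGCI hF, rfl⟩

/-- A flat local complete intersection is syntomic. -/
theorem isSyntomic_of_flat_isLCI (hfl : Module.Flat R S) (h : LCI.IsLCI R S) : Synt.IsSyntomic R S := by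
  obtain ⟨-, n, φ, hφ, hk⟩ := h
  have hkr : KRLib.LocKR (RingHom.ker φ.toRingHom) := (KRLib.locKR_iff _).2 hk
  have hfp : Algebra.FinitePresentation R S :=
    Algebra.FinitePresentation.of_surjective hφ hkr.fg
  refine ⟨hfl, hfp, fun p => ?_⟩
  let κ := p.asIdeal.ResidueField
  let P := MvPolynomial (Fin n) R
  refine isLCIOver_iff_forall.2 fun q => ?_
  obtain ⟨φb, hφb, hker, -⟩ := exists_fibre_presentation φ hφ p.asIdeal
    (AlgEquiv.refl (R := κ) (A₁ := p.asIdeal.Fiber S))
  let bb := q.asIdeal.comap φb.toRingHom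
  let w : P ⊗[R] κ ≃+* MvPolynomial (Fin n) κ :=
    (Algebra.TensorProduct.comm R P κ).toRingEquiv.trans (MvPolynomial.algebraTensorAlgEquiv R κ).toRingEquiv
  have hw : ∀ x : P, w (x ⊗ₜ 1) = MvPolynomial.map (algebraMap R κ) x := fun x => by
    simp [w]
    rw [MvPolynomial.algebraTensorAlgEquiv_tmul, one_smul]
  let σ' := Algebra.TensorProduct.map φ (AlgHom.id R κ)
  have hwker : (RingHom.ker σ'.toRingHom).map w.toRingHom = RingHom.ker φb.toRingHom := by
    rw [show RingHom.ker σ'.toRingHom = _ from Algebra.TensorProduct.rTensor_ker φ hφ, hker]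
    show Ideal.map w.toRingHom (Ideal.map (Algebra.TensorProduct.includeLeft : P →ₐ[R] P ⊗[R] κ).toRingHom (RingHom.ker φ.toRingHom)) = _
    rw [Ideal.map_map]
    exact congrArg (fun ψ => Ideal.map ψ (RingHom.ker φ.toRingHom)) (RingHom.ext hw)
  let Q' : Ideal (P ⊗[R] κ) := bb.comap w.toRingHom
  have hQ' : RingHom.ker σ'.toRingHom ≤ Q' := fun x hx => by
    have h1 : w x ∈ RingHom.ker φb.toRingHom := hwker ▸ Ideal.mem_map_of_mem _ hx
    show φb (w x) ∈ q.asIdeal
    rw [show φb (w x) = 0 from h1]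
    exact zero_mem _
  have h0 := krGen_tensor_of_locKR (K := κ) φ hφ hkr Q' hQ'
  have hT : Q'.primeCompl.map w.toMonoidHom = bb.primeCompl := by
    ext y
    constructor
    · rintro ⟨x, hx, rfl⟩
      exact hx
    · intro hy
      refine ⟨w.symm y, fun hm => hy ?_, w.apply_symm_apply y⟩
      have : w (w.symm y) ∈ bb := hm
      rwa [w.apply_symm_apply] at this
  let E : Localization.AtPrime Q' ≃+* Localization.AtPrime bb :=
    IsLocalization.ringEquivOfRingEquiv (Localization.AtPrime Q') (Localization.AtPrime bb) w hT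
  have h1 := h0.map_bijective E.toRingHom E.bijective
  have hEw : E.toRingHom.comp (algebraMap (P ⊗[R] κ) (Localization.AtPrime Q')) =
      (algebraMap _ (Localization.AtPrime bb)).comp w.toRingHom :=
    RingHom.ext fun x => IsLocalization.ringEquivOfRingEquiv_eq hT x
  rw [Ideal.map_map, hEw, ← Ideal.map_map, hwker] at h1
  obtain ⟨m, f, hf, hspan⟩ := h1
  have hfm : ∀ i, f i ∈ IsLocalRing.maximalIdeal (Localization.AtPrime bb) := fun i => by
    have h2 : f i ∈ (RingHom.ker φb.toRingHom).map (algebraMap _ (Localization.AtPrime bb)) :=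
      hspan ▸ Ideal.subset_span ⟨i, rfl⟩
    rw [← Localization.AtPrime.map_eq_maximalIdeal]
    exact Ideal.map_mono (fun x hx => by
      show φb x ∈ q.asIdeal
      rw [show φb x = 0 from hx]; exact zero_mem _) h2
  refine (isCIOver_atPrime_iff φb hφb q.asIdeal bb rfl).2 ⟨(List.ofFn f).reverse,
    ⟨GorLib.isWeaklyRegular_reverse_of_isExactK f hf hfm, fun htop => ?_⟩, ?_⟩
  · rw [smul_eq_mul, Ideal.mul_top] at htop
    refine (IsLocalRing.maximalIdeal.isMaximal (Localization.AtPrime bb)).ne_top (eq_top_iff.2 (htop ▸ ?_))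
    rw [CommAlgDim.ofList_le_iff]
    intro x hx
    rw [List.mem_reverse, List.mem_ofFn] at hx
    obtain ⟨i, rfl⟩ := hx
    exact hfm i
  · rw [← hspan]
    unfold Ideal.ofList
    congr 1
    ext x
    simp [List.mem_ofFn]

end TransLib
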