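import Groth.Agent.TransLib.Step

/-!
# Flatness up and down a regular sequence
-/

set_option autoImplicit false

universe u

open TensorProduct
open scoped Pointwise

namespace TransLib

variable {A B : Type u} [CommRing A] [CommRing B] [Algebra A B]

/-- If `f` in the radical is regular on `M` and `M / f M` is flat, so is `M`. -/
theorem flat_of_flat_quotSMulTop [IsNoetherianRing A] [IsNoetherianRing B] [IsLocalRing B] (f : B)
    (hf : f ∈ IsLocalRing.maximalIdeal B) (M : Type u) [AddCommGroup M] [Module B M] [Module A M]
    [IsScalarTower A B M] [Module.Finite B M] (hreg : IsSMulRegular M f)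
    (hflat : Module.Flat A (QuotSMulTop f M)) : Module.Flat A M := by
  refine Module.Flat.iff_lTensor_injective'.2 fun I => ?_
  let μ : M ⊗[A] I →ₗ[B] M ⊗[A] A := TensorProduct.AlgebraTensorModule.lTensor B M I.subtype
  have : Module.Finite A I := Module.Finite.of_fg (IsNoetherian.noetherian I)
  have : Module.Finite B (M ⊗[A] I) := FlatCrit.finite_tensor_fg
  have : IsNoetherian B (M ⊗[A] I) := isNoetherian_of_isNoetherianRing_of_finite B _
  have hreg' : IsSMulRegular (M ⊗[A] A) f := by
    intro x y hxy
    refine (TensorProduct.AlgebraTensorModule.rid A B M).injective (hreg ?_)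
    show f • (TensorProduct.AlgebraTensorModule.rid A B M x) = f • (TensorProduct.AlgebraTensorModule.rid A B M y)
    rw [← map_smul, ← map_smul]
    exact congrArg _ hxy
  let F : M →ₗ[A] M := ((LinearMap.lsmul B M) f).restrictScalars A
  let π : M →ₗ[A] QuotSMulTop f M := ((f • ⊤ : Submodule B M).mkQ).restrictScalars A
  have hex : Function.Exact F π := by
    intro y
    show Submodule.Quotient.mk y = (0 : QuotSMulTop f M) ↔ y ∈ Set.range F
    rw [Submodule.Quotient.mk_eq_zero, Submodule.mem_smul_pointwise_iff_exists]
    exact ⟨fun ⟨x, _, hx⟩ => ⟨x, hx⟩, fun ⟨x, hx⟩ => ⟨x, Submodule.mem_top, hx⟩⟩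
  have hπ : Function.Surjective π := Submodule.mkQ_surjective _
  have hK : LinearMap.ker μ ≤ (Ideal.span {f}) • LinearMap.ker μ := by
    intro x hx
    have h0 : π.rTensor I x = 0 := by
      refine Module.Flat.lTensor_preserves_injective_linearMap (M := QuotSMulTop f M) I.subtype
        I.injective_subtype ?_
      rw [map_zero, ← LinearMap.comp_apply, LinearMap.lTensor_comp_rTensor, ← LinearMap.rTensor_comp_lTensor,
        LinearMap.comp_apply]
      show π.rTensor A (μ x) = 0
      rw [LinearMap.mem_ker.1 hx, map_zero]
    obtain ⟨y, hy⟩ := (rTensor_exact I hex hπ x).1 h0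
    have hF : ∀ y, F.rTensor I y = f • y := fun y => by
      induction y using TensorProduct.induction_on with
      | zero => simp
      | add a b ha hb => simp only [map_add, smul_add, ha, hb]
      | tmul m i => rfl
    rw [hF] at hy
    refine hy ▸ Submodule.smul_mem_smul (Ideal.mem_span_singleton_self f) ?_
    rw [LinearMap.mem_ker]
    refine hreg' ?_
    show f • μ y = f • (0 : M ⊗[A] A)
    rw [← map_smul, hy, LinearMap.mem_ker.1 hx, smul_zero]
  have hbot := Submodule.eq_bot_of_le_smul_of_le_jacobson_bot (Ideal.span {f}) (LinearMap.ker μ)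
    (IsNoetherian.noetherian _) hK (by
      rw [IsLocalRing.jacobson_eq_maximalIdeal _ bot_ne_top]
      exact (Ideal.span_singleton_le_iff_mem _).2 hf)
  exact (LinearMap.ker_eq_bot (f := μ)).1 hbot

/-- If the last quotient by a regular sequence is flat then so are all. -/
theorem flat_of_flat_last [IsNoetherianRing A] [IsNoetherianRing B] [IsLocalRing B] (fs : List B)
    (hfs : ∀ f ∈ fs, f ∈ IsLocalRing.maximalIdeal B) (M : Type u) [AddCommGroup M] [Module B M] [Module A M]
    [IsScalarTower A B M] [Module.Finite B M] (hreg : RingTheory.Sequence.IsWeaklyRegular M fs)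
    (hflat : Module.Flat A (M ⧸ (Ideal.ofList fs • (⊤ : Submodule B M)))) :
    ∀ i ≤ fs.length, Module.Flat A (M ⧸ (Ideal.ofList (fs.take i) • (⊤ : Submodule B M))) := by
  induction fs generalizing M with
  | nil =>
    intro i hi
    rw [List.take_nil]
    exact hflat
  | cons f l ih =>
    rw [RingTheory.Sequence.isWeaklyRegular_cons_iff] at hreg
    have hflat' : Module.Flat A (QuotSMulTop f M ⧸ (Ideal.ofList l • (⊤ : Submodule B (QuotSMulTop f M)))) :=
      Module.Flat.of_linearEquiv
        ((Submodule.quotOfListConsSMulTopEquivQuotSMulTopInner M f l).symm.restrictScalars A)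
    have h2 := ih (fun g hg => hfs g (List.mem_cons_of_mem _ hg)) (QuotSMulTop f M) hreg.2 hflat'
    intro i hi
    cases i with
    | zero =>
      have h0 : Module.Flat A (QuotSMulTop f M) := by
        have := h2 0 (Nat.zero_le _)
        exact Module.Flat.of_linearEquiv
          (((Submodule.quotEquivOfEqBot (Ideal.ofList (l.take 0) • (⊤ : Submodule B (QuotSMulTop f M)))
            (by simp)).restrictScalars A).symm)
      have := flat_of_flat_quotSMulTop f (hfs f (List.mem_cons_self ..)) M hreg.1 h0
      exact flat_quot_zero M _ (by simp)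
    | succ j =>
      have := h2 j (by simpa using hi)
      rw [List.take_succ_cons]
      exact Module.Flat.of_linearEquiv
        ((Submodule.quotOfListConsSMulTopEquivQuotSMulTopInner M f (l.take j)).restrictScalars A)

/-- Tensoring an injective map with flat cokernel stays injective. -/
theorem lTensor_injective_of_flat_coker {N M C : Type u} [AddCommGroup N] [Module A N] [AddCommGroup M] [Module A M]
    [AddCommGroup C] [Module A C] (g : N →ₗ[A] M) (π : M →ₗ[A] C) (hg : Function.Injective g)
    (hex : Function.Exact g π) (hπ : Function.Surjective π) [Module.Flat A C] (X : Type u) [AddCommGroup X]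
    [Module A X] : Function.Injective (g.lTensor X) := by
  refine (injective_iff_map_eq_zero _).2 fun x hx => ?_
  let F := X →₀ A
  let p : F →ₗ[A] X := Finsupp.linearCombination A id
  have hp : Function.Surjective p := fun y => ⟨Finsupp.single y 1, by
    show Finsupp.linearCombination A id (Finsupp.single y 1) = y
    rw [Finsupp.linearCombination_single, one_smul]
    rfl⟩
  let K := LinearMap.ker p
  have hexk : Function.Exact K.subtype p := LinearMap.exact_subtype_ker_map p
  obtain ⟨y, rfl⟩ := LinearMap.rTensor_surjective N hp x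
  rw [← LinearMap.comp_apply, LinearMap.lTensor_comp_rTensor, ← LinearMap.rTensor_comp_lTensor,
    LinearMap.comp_apply] at hx
  obtain ⟨k, hk⟩ := (rTensor_exact M (M := (K : Submodule A F)) (f := K.subtype) (g := p) hexk hp _).1 hx
  have hk0 : π.lTensor K k = 0 := by
    refine Module.Flat.rTensor_preserves_injective_linearMap (M := C) K.subtype K.injective_subtype ?_
    rw [map_zero, ← LinearMap.comp_apply, LinearMap.rTensor_comp_lTensor, ← LinearMap.lTensor_comp_rTensor,
      LinearMap.comp_apply, hk, ← LinearMap.comp_apply, ← LinearMap.lTensor_comp,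
      hex.linearMap_comp_eq_zero, LinearMap.lTensor_zero, LinearMap.zero_apply]
  obtain ⟨l, rfl⟩ := (lTensor_exact K hex hπ k).1 hk0
  have hl : K.subtype.rTensor N l = y := by
    refine Module.Flat.lTensor_preserves_injective_linearMap (M := F) g hg ?_
    rw [← hk, ← LinearMap.comp_apply, LinearMap.lTensor_comp_rTensor, ← LinearMap.rTensor_comp_lTensor]
    rfl
  rw [← hl, ← LinearMap.comp_apply, ← LinearMap.rTensor_comp, hexk.linearMap_comp_eq_zero,
    LinearMap.rTensor_zero, LinearMap.zero_apply]

/-- A transversally regular element stays injective after tensoring. -/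
theorem lTensor_smul_injective (M : Type u) [AddCommGroup M] [Module B M] [Module A M] [IsScalarTower A B M]
    (f : B) (hreg : IsSMulRegular M f) [Module.Flat A (QuotSMulTop f M)] (X : Type u) [AddCommGroup X]
    [Module A X] : Function.Injective ((((LinearMap.lsmul B M) f).restrictScalars A).lTensor X) := by
  refine lTensor_injective_of_flat_coker _ (((f • ⊤ : Submodule B M).mkQ).restrictScalars A) (fun _ _ h => hreg h) ?_
    (Submodule.mkQ_surjective _) X
  intro y
  show Submodule.Quotient.mk y = (0 : QuotSMulTop f M) ↔ y ∈ Set.range _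
  rw [Submodule.Quotient.mk_eq_zero, Submodule.mem_smul_pointwise_iff_exists]
  exact ⟨fun ⟨x, _, hx⟩ => ⟨x, hx⟩, fun ⟨x, hx⟩ => ⟨x, Submodule.mem_top, hx⟩⟩

/-- The successive quotients of a transversally regular sequence stay regular after tensoring. -/
theorem lTensor_smul_injective_take (M : Type u) [AddCommGroup M] [Module B M] [Module A M] [IsScalarTower A B M]
    (fs : List B) (hreg : RingTheory.Sequence.IsWeaklyRegular M fs)
    (hflat : ∀ i : ℕ, i ≤ fs.length → Module.Flat A (M ⧸ (Ideal.ofList (fs.take i) • (⊤ : Submodule B M))))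
    (X : Type u) [AddCommGroup X] [Module A X] (i : Fin fs.length) :
    Function.Injective (LinearMap.lTensor X
      (((LinearMap.lsmul B (M ⧸ (Ideal.ofList (fs.take i) • (⊤ : Submodule B M)))) (fs.get i)).restrictScalars A)) := by
  have : Module.Flat A (QuotSMulTop (fs.get i) (M ⧸ (Ideal.ofList (fs.take i) • (⊤ : Submodule B M)))) := by
    have h1 := hflat (i + 1) (Nat.succ_le_of_lt i.2)
    have h2 : Ideal.ofList (fs.take (i + 1)) • (⊤ : Submodule B M) =
        Ideal.ofList (fs.get i :: fs.take i) • (⊤ : Submodule B M) := by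
      congr 1
      rw [List.take_add_one, List.getElem?_eq_getElem i.2, Option.toList_some, Ideal.ofList_append,
        Ideal.ofList_cons, Ideal.ofList_nil, sup_bot_eq, Ideal.ofList_cons, sup_comm]
      rfl
    exact Module.Flat.of_linearEquiv
      (((Submodule.quotEquivOfEq _ _ h2).trans
        (Submodule.quotOfListConsSMulTopEquivQuotSMulTopOuter M (fs.get i) (fs.take i))).symm.restrictScalars A)
  exact lTensor_smul_injective _ _ (hreg.regular_mod_prev i i.2) X


section BaseSeq

variable {R : Type u} [CommRing R] (M : Type u) [AddCommGroup M] [Module R M]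

/-- Multiplication by an ideal generated by an `M`-regular sequence is injective on `J ⊗ M`. -/
theorem lTensor_ofList_subtype_injective (fs : List R) (h : RingTheory.Sequence.IsWeaklyRegular M fs) :
    Function.Injective (FlatLib.idealMul (Ideal.ofList fs) M) := by
  induction fs using List.reverseRecOn with
  | nil =>
    intro x y _
    have hbot : ∀ z : (Ideal.ofList ([] : List R) : Ideal R) ⊗[R] M, z = 0 := by
      intro z
      induction z using TensorProduct.induction_on with
      | zero => rfl
      | add a b ha hb => rw [ha, hb, add_zero]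
      | tmul a m =>
        have : a = 0 := Subtype.ext (Submodule.mem_bot R |>.1 (Ideal.ofList_nil (R := R) ▸ a.2))
        rw [this, TensorProduct.zero_tmul]
    rw [hbot x, hbot y]
  | append_singleton l f ih =>
    have hl : RingTheory.Sequence.IsWeaklyRegular M l :=
      ((RingTheory.Sequence.isWeaklyRegular_append_iff M l [f]).1 h).1
    have hf : IsSMulRegular (M ⧸ (Ideal.ofList l • (⊤ : Submodule R M))) f :=
      ((RingTheory.Sequence.isWeaklyRegular_singleton_iff _ f).1
        ((RingTheory.Sequence.isWeaklyRegular_append_iff M l [f]).1 h).2)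
    refine (injective_iff_map_eq_zero _).2 fun z hz => ?_
    have hle : Ideal.ofList l ≤ Ideal.ofList (l ++ [f]) := by rw [Ideal.ofList_append]; exact le_sup_left
    have hfm : f ∈ Ideal.ofList (l ++ [f]) := Ideal.subset_span (by simp)
    let ι := Submodule.inclusion hle
    have hz' : ∃ y m, z = ι.rTensor M y + (⟨f, hfm⟩ : (Ideal.ofList (l ++ [f]) : Ideal R)) ⊗ₜ m := by
      clear hz
      induction z using TensorProduct.induction_on with
      | zero => exact ⟨0, 0, by simp⟩
      | add a b ha hb =>
        obtain ⟨y, m, rfl⟩ := ha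
        obtain ⟨y', m', rfl⟩ := hb
        exact ⟨y + y', m + m', by rw [map_add, TensorProduct.tmul_add]; abel⟩
      | tmul a x =>
        have ha2 : (a : R) ∈ Ideal.ofList l ⊔ Ideal.ofList [f] := (Ideal.ofList_append l [f]).le a.2
        obtain ⟨j, hj, c, hc, hjc⟩ := Submodule.mem_sup.1 ha2
        rw [Ideal.ofList_singleton] at hc
        obtain ⟨r, rfl⟩ := Ideal.mem_span_singleton'.1 hc
        refine ⟨(⟨j, hj⟩ : (Ideal.ofList l : Ideal R)) ⊗ₜ x, r • x, ?_⟩
        rw [LinearMap.rTensor_tmul, TensorProduct.tmul_smul, TensorProduct.smul_tmul', ← TensorProduct.add_tmul]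
        congr 1
        exact Subtype.ext hjc.symm
    obtain ⟨y, m, rfl⟩ := hz'
    rw [map_add, FlatLib.idealMul_rTensor,
      show FlatLib.idealMul (Ideal.ofList (l ++ [f])) M (⟨f, hfm⟩ ⊗ₜ m) = f • m by simp [FlatLib.idealMul]] at hz
    have hm : m ∈ Ideal.ofList l • (⊤ : Submodule R M) := by
      refine (Submodule.Quotient.mk_eq_zero _).1 (hf (?_ : f • _ = f • (0 : M ⧸ _)))
      rw [smul_zero, ← Submodule.Quotient.mk_smul, Submodule.Quotient.mk_eq_zero, eq_neg_of_add_eq_zero_right hz]
      exact Submodule.neg_mem _ ((FlatLib.range_idealMul _ M).le ⟨y, rfl⟩)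
    obtain ⟨w, rfl⟩ := (FlatLib.range_idealMul _ M).ge hm
    have hw : ι.rTensor M (f • w) =
        (⟨f, hfm⟩ : (Ideal.ofList (l ++ [f]) : Ideal R)) ⊗ₜ FlatLib.idealMul (Ideal.ofList l) M w := by
      clear hz hm
      induction w using TensorProduct.induction_on with
      | zero => simp
      | add a b ha hb => simp only [smul_add, map_add, TensorProduct.tmul_add, ha, hb]
      | tmul a x =>
        rw [show FlatLib.idealMul (Ideal.ofList l) M (a ⊗ₜ x) = (a : R) • x by simp [FlatLib.idealMul],
          TensorProduct.tmul_smul, TensorProduct.smul_tmul', TensorProduct.smul_tmul', LinearMap.rTensor_tmul]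
        congr 1
        exact Subtype.ext (mul_comm f (a : R))
    rw [← hw, ← map_add]
    rw [← map_smul (FlatLib.idealMul (Ideal.ofList l) M) f w, ← map_add] at hz
    rw [(injective_iff_map_eq_zero _).1 (ih hl) _ hz, map_zero]

/-- A flat module inherits regular sequences of the ring. -/
theorem isWeaklyRegular_of_flat [Module.Flat R M] (fs : List R) (h : RingTheory.Sequence.IsWeaklyRegular R fs) :
    RingTheory.Sequence.IsWeaklyRegular M fs := by
  refine ⟨fun i hi => ?_⟩
  let J := Ideal.ofList (fs.take i)
  have h1 : IsSMulRegular (R ⧸ J) fs[i] := by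
    have h2 := h.regular_mod_prev i hi
    rw [smul_eq_mul, Ideal.mul_top] at h2
    exact h2
  have h3 : IsSMulRegular ((R ⧸ J) ⊗[R] M) fs[i] := by
    have := Module.Flat.rTensor_preserves_injective_linearMap (M := M)
      (LinearMap.lsmul R (R ⧸ J) fs[i]) h1
    intro x y hxy
    refine this ?_
    have he : (LinearMap.lsmul R (R ⧸ J) fs[i]).rTensor M = LinearMap.lsmul R ((R ⧸ J) ⊗[R] M) fs[i] :=
      TensorProduct.ext' fun a m => rfl
    rw [he]
    exact hxy
  exact ((TensorProduct.quotTensorEquivQuotSMul M J).isSMulRegular_congr fs[i]).1 h3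

end BaseSeq

/-- Flatness along a regular sequence of the base. -/
theorem flat_iff_flat_quotient_and_regular [IsNoetherianRing A] [IsNoetherianRing B] (M : Type u) [AddCommGroup M]
    [Module B M] [Module A M] [IsScalarTower A B M] [Module.Finite B M] (fs : List A)
    (hfs : (Ideal.ofList fs).map (algebraMap A B) ≤ Ideal.jacobson ⊥)
    (hA : RingTheory.Sequence.IsWeaklyRegular A fs) :
    Module.Flat A M ↔
      Module.Flat (A ⧸ Ideal.ofList fs) (M ⧸ (Ideal.ofList fs • (⊤ : Submodule A M))) ∧
        RingTheory.Sequence.IsWeaklyRegular M fs := by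
  let J := Ideal.ofList fs
  let e := TensorProduct.quotTensorEquivQuotSMul M J
  let e' : (A ⧸ J) ⊗[A] M ≃ₗ[A ⧸ J] M ⧸ (J • (⊤ : Submodule A M)) :=
    { e with
      map_smul' := fun c x => by
        obtain ⟨c, rfl⟩ := Ideal.Quotient.mk_surjective c
        rw [RingHom.id_apply, ← Ideal.Quotient.algebraMap_eq, algebraMap_smul, algebraMap_smul]
        exact e.map_smul c x }
  constructor
  · intro h
    exact ⟨Module.Flat.of_linearEquiv e'.symm, isWeaklyRegular_of_flat M fs hA⟩
  · rintro ⟨h1, h2⟩
    refine FlatCrit.flat_of_injective_of_flat_quotient J hfs ?_ (Module.Flat.of_linearEquiv e')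
    have hinj := lTensor_ofList_subtype_injective M fs h2
    intro x y hxy
    refine (TensorProduct.comm A M J).injective (hinj ?_)
    have hc : ∀ z : M ⊗[A] J, FlatLib.idealMul J M (TensorProduct.comm A M J z) =
        TensorProduct.rid A M (LinearMap.lTensor M J.subtype z) := fun z => by
      induction z using TensorProduct.induction_on with
      | zero => simp
      | add a b ha hb => simp only [map_add, ha, hb]
      | tmul m a => simp [FlatLib.idealMul]
    rw [hc, hc, hxy]

end TransLib
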