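import Groth.Agent.FibDimLib.Formula
import Groth.Agent.CommAlgDim.CM
import Groth.Agent.J2Lib.Criterion
import Groth.Prelude.Def_RegImm

/-!
# Complete intersections in affine space over a field, and fibres of presentations
-/

set_option autoImplicit false

universe u

open TensorProduct RingTheory.Sequence

namespace TransLib

theorem isWeaklyRegular_of_ringEquiv {S S' : Type u} [CommRing S] [CommRing S'] (e : S ≃+* S') {l : List S}
    (h : IsWeaklyRegular S l) : IsWeaklyRegular S' (l.map e) := by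
  refine (AddEquiv.isWeaklyRegular_congr (e := e.toAddEquiv) ?_).1 h
  exact List.forall₂_map_right_iff.2 (List.forall₂_same.2 fun r _ x => by simp)

theorem isRegular_of_ringEquiv {S S' : Type u} [CommRing S] [CommRing S'] (e : S ≃+* S') {l : List S}
    (h : IsRegular S l) : IsRegular S' (l.map e) := by
  refine (AddEquiv.isRegular_congr (e := e.toAddEquiv) ?_).1 h
  exact List.forall₂_map_right_iff.2 (List.forall₂_same.2 fun r _ x => by simp)

theorem ofList_ofFn {S : Type u} [CommRing S] {c : ℕ} (F : Fin c → S) :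
    Ideal.ofList (List.ofFn F) = Ideal.span (Set.range F) := by
  exact congrArg Ideal.span (Set.ext fun x => List.mem_ofFn)

/-- `dim (k[x]/P) + ht P = n`. -/
theorem ringKrullDim_quotient_add_height_mvPolynomial (k : Type u) [Field k] (n : ℕ)
    (q : Ideal (MvPolynomial (Fin n) k)) [q.IsPrime] :
    ringKrullDim (MvPolynomial (Fin n) k ⧸ q) + (q.height : WithBot ℕ∞) = (n : WithBot ℕ∞) := by
  rw [FibDimLib.ringKrullDim_quotient_add_height_affine k, MvPolynomial.ringKrullDim_of_isNoetherianRing,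
    ringKrullDim_eq_zero_of_field, Nat.card_eq_fintype_card, Fintype.card_fin, zero_add]

theorem exists_nat_of_add_le {x : WithBot ℕ∞} {a : ℕ∞} {n : ℕ} (hx : x ≠ ⊥)
    (h : x + (a : WithBot ℕ∞) ≤ (n : WithBot ℕ∞)) : ∃ d e : ℕ, x = d ∧ a = e ∧ d + e ≤ n := by
  obtain ⟨d', rfl⟩ := WithBot.ne_bot_iff_exists.1 hx
  rw [← WithBot.coe_add, show (n : WithBot ℕ∞) = ((n : ℕ∞) : WithBot ℕ∞) from rfl, WithBot.coe_le_coe] at h
  obtain ⟨d, rfl⟩ : ∃ d : ℕ, (d : ℕ∞) = d' :=
    ENat.ne_top_iff_exists.1 (ne_top_of_le_ne_top (ENat.natCast_ne_top n) (le_trans le_self_add h))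
  obtain ⟨e, rfl⟩ : ∃ e : ℕ, (e : ℕ∞) = a :=
    ENat.ne_top_iff_exists.1 (ne_top_of_le_ne_top (ENat.natCast_ne_top n) (le_trans le_add_self h))
  exact ⟨d, e, rfl, rfl, by exact_mod_cast h⟩

theorem natCast_withBot_le {a b : ℕ} (h : a ≤ b) : (a : WithBot ℕ∞) ≤ (b : WithBot ℕ∞) := by
  exact_mod_cast h

theorem natCast_withBot_eq_iff {a b : ℕ} : (a : WithBot ℕ∞) = (b : WithBot ℕ∞) ↔ a = b :=
  ⟨fun h => by exact_mod_cast h, fun h => by rw [h]⟩

/-- The dimension of a nonzero quotient of affine space by `c` equations. -/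
theorem le_ringKrullDim_quotient_span (k : Type u) [Field k] (n c : ℕ) (F : Fin c → MvPolynomial (Fin n) k)
    (hF : Ideal.span (Set.range F) ≠ ⊤) (hc : c ≤ n) :
    ((n - c : ℕ) : WithBot ℕ∞) ≤ ringKrullDim (MvPolynomial (Fin n) k ⧸ Ideal.span (Set.range F)) := by
  let I := Ideal.span (Set.range F)
  obtain ⟨m, hm, hIm⟩ := Ideal.exists_le_maximal I hF
  obtain ⟨P, hP, -⟩ := Ideal.exists_minimalPrimes_le (J := m) hIm
  have := hP.1.1
  have hh : P.height ≤ c := by
    refine (Ideal.height_le_card_of_mem_minimalPrimes_span (Set.finite_range F) hP).trans (Nat.cast_le.2 ?_)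
    rw [← Set.image_univ]
    exact (Set.ncard_image_le (Set.finite_univ)).trans (by simp)
  have h1 := ringKrullDim_quotient_add_height_mvPolynomial k n P
  have hne : ringKrullDim (MvPolynomial (Fin n) k ⧸ P) ≠ ⊥ := by
    intro h; rw [h, WithBot.bot_add] at h1; exact WithBot.bot_ne_natCast n h1
  obtain ⟨d, e, hd, he, hde⟩ := exists_nat_of_add_le hne h1.le
  refine le_trans ?_ (ringKrullDim_le_of_surjective (Ideal.Quotient.factor hP.1.2) (Ideal.Quotient.factor_surjective hP.1.2))
  rw [hd, he] at h1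
  rw [hd]
  have h1' : d + e = n := natCast_withBot_eq_iff.1 (by push_cast; exact h1)
  have hec : e ≤ c := by rw [he] at hh; exact_mod_cast hh
  exact natCast_withBot_le (by omega)

/-- Over a field, equations cutting the expected dimension form a regular sequence in every local ring. -/
theorem regular_localization_of_dim (k : Type u) [Field k] (n c : ℕ) (hc : c ≤ n)
    (F : Fin c → MvPolynomial (Fin n) k)
    (hdim : ringKrullDim (MvPolynomial (Fin n) k ⧸ Ideal.span (Set.range F)) ≤ ((n - c : ℕ) : WithBot ℕ∞))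
    (q : Ideal (MvPolynomial (Fin n) k)) [q.IsPrime] (hq : Ideal.span (Set.range F) ≤ q) :
    IsRegular (Localization.AtPrime q)
      ((List.ofFn F).map (algebraMap (MvPolynomial (Fin n) k) (Localization.AtPrime q))) := by
  let P := MvPolynomial (Fin n) k
  let T := Localization.AtPrime q
  let I := Ideal.span (Set.range F)
  have : IsRegularLocalRing T := IsRegularRing.isRegularLocalRing_localization q
  refine CommAlgDim.isRegular_of_dim (CommAlgDim.isCM_of_isRegularLocalRing T) (fun r hr => ?_) ?_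
  · obtain ⟨a, ha, rfl⟩ := List.mem_map.1 hr
    obtain ⟨i, rfl⟩ := List.mem_ofFn.1 ha
    exact (IsLocalization.AtPrime.to_map_mem_maximal_iff T q (F i)).2 (hq (Ideal.subset_span ⟨i, rfl⟩))
  rw [← Ideal.map_ofList, ofList_ofFn, List.length_map, List.length_ofFn]
  let J := I.map (algebraMap P T)
  let qb := q.map (Ideal.Quotient.mk I)
  have hqb : qb.comap (Ideal.Quotient.mk I) = q := by
    rw [Ideal.comap_map_of_surjective _ Ideal.Quotient.mk_surjective, ← RingHom.ker_eq_comap_bot, Ideal.mk_ker]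
    exact sup_eq_left.2 hq
  have : qb.IsPrime := Ideal.map_isPrime_of_surjective Ideal.Quotient.mk_surjective (by rwa [Ideal.mk_ker])
  have : qb.LiesOver q := ⟨hqb.symm⟩
  have hsub : Algebra.algebraMapSubmonoid (P ⧸ I) q.primeCompl = qb.primeCompl :=
    Ideal.algebraMapSubmonoid_primeCompl_of_liesOver_surjective qb q Ideal.Quotient.mk_surjective
  have : IsLocalization.AtPrime (T ⧸ J) qb := by
    have : IsLocalization (Algebra.algebraMapSubmonoid (P ⧸ I) q.primeCompl) (T ⧸ J) := inferInstance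
    rwa [hsub] at this
  have h0 : ringKrullDim (T ⧸ J) = (qb.height : WithBot ℕ∞) := 
    IsLocalization.AtPrime.ringKrullDim_eq_height (R := P ⧸ I) qb (T ⧸ J)
  have h1 := J2Lib.ringKrullDim_quotient_add_height_le qb
  have h2 : ringKrullDim ((P ⧸ I) ⧸ qb) = ringKrullDim (P ⧸ q) :=
    ringKrullDim_eq_of_ringEquiv (DoubleQuot.quotQuotEquivQuotOfLE hq)
  have h3 := ringKrullDim_quotient_add_height_mvPolynomial k n q
  rw [h2] at h1
  replace h1 := h1.trans hdim
  rw [h0, IsLocalization.AtPrime.ringKrullDim_eq_height q T]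
  have hne : ringKrullDim (P ⧸ q) ≠ ⊥ := by
    intro h; rw [h, WithBot.bot_add] at h3; exact WithBot.bot_ne_natCast n h3
  obtain ⟨d, b, hd, hb, hdb⟩ := exists_nat_of_add_le hne h3.le
  obtain ⟨d', a, hd', ha, hda⟩ := exists_nat_of_add_le hne h1
  rw [hd, hb] at h3
  have h3' : d + b = n := natCast_withBot_eq_iff.1 (by push_cast; exact h3)
  have hdd : d = d' := natCast_withBot_eq_iff.1 (hd.symm.trans hd')
  rw [ha, hb]
  exact_mod_cast (show a + c ≤ b by omega)

variable {R : Type u} [CommRing R]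

/-- The fibre of a presentation, as a presentation over `K`. -/
noncomputable def fibreEquiv (K : Type u) [CommRing K] [Algebra R K] (n c : ℕ) (F : Fin c → MvPolynomial (Fin n) R) :
    K ⊗[R] (MvPolynomial (Fin n) R ⧸ Ideal.span (Set.range F)) ≃ₐ[K]
      MvPolynomial (Fin n) K ⧸ Ideal.span (Set.range fun i => MvPolynomial.map (algebraMap R K) (F i)) :=
  (Algebra.TensorProduct.tensorQuotientEquiv K _ K _).trans
    (Ideal.quotientEquivAlg _ _ (MvPolynomial.algebraTensorAlgEquiv (σ := Fin n) R K) (by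
      rw [Ideal.map_span, Ideal.map_span, ← Set.range_comp, ← Set.range_comp]
      congr 2
      funext i
      simp [MvPolynomial.algebraTensorAlgEquiv_tmul]))

end TransLib
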