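import Groth.Agent.TransLib.LiftSynt
import Groth.Agent.TransLib.SyntMor

/-!
# Smooth algebras lift along surjections
-/

set_option autoImplicit false

universe u

open TensorProduct

namespace TransLib

variable {R : Type u} [CommRing R]

theorem formallySmooth_fiber_reduce (I : Ideal R) {A A₀ : Type u} [CommRing A] [Algebra R A] [CommRing A₀]
    [Algebra (R ⧸ I) A₀] [Algebra.Smooth (R ⧸ I) A₀] [Algebra R A₀] [IsScalarTower R (R ⧸ I) A₀]
    (θ : A →ₐ[R] A₀) (hθ : Function.Surjective θ) (hker : RingHom.ker θ.toRingHom = I.map (algebraMap R A))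
    (p : Ideal R) [p.IsPrime] (hp : I ≤ p) : Algebra.FormallySmooth p.ResidueField (p.Fiber A) := by
  let κ := p.ResidueField
  letI : Algebra (R ⧸ I) κ := (Ideal.Quotient.lift I (algebraMap R κ) fun r hr =>
    Ideal.algebraMap_residueField_eq_zero.2 (hp hr)).toAlgebra
  have : IsScalarTower R (R ⧸ I) κ := IsScalarTower.of_algebraMap_eq fun _ => rfl
  have : TensorProduct.CompatibleSMul R (R ⧸ I) κ A₀ :=
    TensorProduct.CompatibleSMul.of_algebraMap_surjective _ _ Ideal.Quotient.mk_surjective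
  have : TensorProduct.CompatibleSMul (R ⧸ I) R κ A₀ :=
    ⟨fun r m n => by rw [← algebraMap_smul (R ⧸ I) r m, ← algebraMap_smul (R ⧸ I) r n, TensorProduct.smul_tmul]⟩
  let χ : κ ⊗[R] A →ₐ[κ] κ ⊗[R] A₀ := Algebra.TensorProduct.map (AlgHom.id κ κ) θ
  have hχs : Function.Surjective χ := fun z => by
    induction z using TensorProduct.induction_on with
    | zero => exact ⟨0, map_zero _⟩
    | tmul a b => obtain ⟨x, rfl⟩ := hθ b; exact ⟨a ⊗ₜ x, rfl⟩
    | add a b ha hb =>
      obtain ⟨x, rfl⟩ := ha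
      obtain ⟨y, rfl⟩ := hb
      exact ⟨x + y, map_add _ _ _⟩
  have hχi : Function.Injective χ := by
    rw [injective_iff_map_eq_zero]
    intro z hz
    have h : RingHom.ker χ.toRingHom = (RingHom.ker θ.toRingHom).map
        (Algebra.TensorProduct.includeRight : A →ₐ[R] κ ⊗[R] A).toRingHom :=
      Algebra.TensorProduct.lTensor_ker θ hθ
    have hz' : z ∈ RingHom.ker χ.toRingHom := hz
    rw [h, hker, Ideal.map_map] at hz'
    have hz'' : z ∈ I.map (algebraMap R (κ ⊗[R] A)) := by
      rwa [show algebraMap R (κ ⊗[R] A) = (Algebra.TensorProduct.includeRight : A →ₐ[R] κ ⊗[R] A).toRingHom.comp (algebraMap R A)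
        from RingHom.ext fun r => ((Algebra.TensorProduct.includeRight : A →ₐ[R] κ ⊗[R] A).commutes r).symm]
    have h0 : I.map (algebraMap R (κ ⊗[R] A)) ≤ ⊥ := Ideal.map_le_iff_le_comap.2 fun r hr => by
      show algebraMap R (κ ⊗[R] A) r ∈ (⊥ : Ideal (κ ⊗[R] A))
      rw [IsScalarTower.algebraMap_apply R κ (κ ⊗[R] A), Ideal.algebraMap_residueField_eq_zero.2 (hp hr), map_zero]
      exact zero_mem _
    exact h0 hz''
  have : Algebra.FormallySmooth κ (κ ⊗[R ⧸ I] A₀) := inferInstance
  have : Algebra.FormallySmooth κ (κ ⊗[R] A₀) :=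
    Algebra.FormallySmooth.of_equiv (Algebra.TensorProduct.equivOfCompatibleSMul (R ⧸ I) R κ κ A₀).symm
  exact Algebra.FormallySmooth.of_equiv (AlgEquiv.ofBijective χ ⟨hχi, hχs⟩).symm

/-- Smooth algebras lift along surjections. -/
theorem exists_smooth_lift {A₀ : Type u} (I : Ideal R) [CommRing A₀] [Algebra (R ⧸ I) A₀] [Algebra.Smooth (R ⧸ I) A₀] :
    ∃ (A : Type u) (_ : CommRing A) (_ : Algebra R A), Algebra.Smooth R A ∧
      Nonempty ((A ⧸ I.map (algebraMap R A)) ≃ₐ[R ⧸ I] A₀) := by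
  classical
  letI : Algebra R A₀ := ((algebraMap (R ⧸ I) A₀).comp (Ideal.Quotient.mk I)).toAlgebra
  have : IsScalarTower R (R ⧸ I) A₀ := IsScalarTower.of_algebraMap_eq fun _ => rfl
  obtain ⟨A, _, _, hA, ⟨e⟩⟩ := exists_syntomic_lift I (isSyntomic_of_smooth (R ⧸ I) A₀)
  have := hA.1
  have := hA.2.1
  let π : A →ₐ[R] A₀ :=
    { e.toAlgHom.toRingHom.comp (Ideal.Quotient.mk _) with
      commutes' := fun r => e.commutes (Ideal.Quotient.mk I r) }
  have hπ : Function.Surjective π := e.surjective.comp Ideal.Quotient.mk_surjective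
  have hπk : RingHom.ker π.toRingHom = I.map (algebraMap R A) :=
    Ideal.ext fun a => ⟨fun ha => Ideal.Quotient.eq_zero_iff_mem.1 (e.injective (ha.trans (map_zero e).symm)), fun ha => by
      show e (Ideal.Quotient.mk _ a) = 0
      rw [Ideal.Quotient.eq_zero_iff_mem.2 ha, map_zero]⟩
  let S : Set A := {g | ((PrimeSpectrum.basicOpen g : TopologicalSpace.Opens (PrimeSpectrum A)) : Set (PrimeSpectrum A)) ⊆ Algebra.smoothLocus R A}
  have hspan : Ideal.span S ⊔ I.map (algebraMap R A) = ⊤ := by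
    by_contra hne
    obtain ⟨M, hM, hle⟩ := Ideal.exists_le_maximal _ hne
    have := hM.isPrime
    have hp : I ≤ M.under R := Ideal.map_le_iff_le_comap.1 (le_sup_right.trans hle)
    have := formallySmooth_fiber_reduce I π hπ hπk (M.under R) hp
    have : Algebra.IsSmoothAt R M := Algebra.IsSmoothAt.of_formallySmooth_fiber (M.under R) M
    obtain ⟨g, hg, hgs⟩ := Algebra.IsSmoothAt.exists_notMem_smooth R M
    exact hg (hle (Ideal.mem_sup_left (Ideal.subset_span (Algebra.basicOpen_subset_smoothLocus_iff_smooth.2 hgs))))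
  obtain ⟨g, hg, i, hi, hgi⟩ := Submodule.mem_sup.1 ((Ideal.eq_top_iff_one _).1 hspan)
  have hgs : Algebra.Smooth R (Localization.Away g) := by
    refine Algebra.basicOpen_subset_smoothLocus_iff_smooth.1 fun Q hQ => ?_
    have hnot : ¬ Ideal.span S ≤ Q.asIdeal := fun hle => hQ (hle hg)
    obtain ⟨x, hx, hxQ⟩ := Set.not_subset.1 fun hs => hnot (Ideal.span_le.2 hs)
    exact hx hxQ
  have hπg : π g = 1 := by
    rw [show g = 1 - i from eq_sub_of_add_eq hgi, map_sub, map_one,
      show π i = 0 from (hπk.ge hi : i ∈ RingHom.ker π.toRingHom), sub_zero]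
  obtain ⟨θ, hθs, hθk, -⟩ := exists_away_reduce I π hπ 1 (fun x hx => by rw [one_mul]; exact hπk.le hx) (fun r hr => by
    show algebraMap (R ⧸ I) A₀ (Ideal.Quotient.mk I r) = 0
    rw [Ideal.Quotient.eq_zero_iff_mem.2 hr, map_zero]) g (one_dvd _)
  have : IsLocalization.Away (1 : A₀) (Localization.Away (π g)) := by rw [hπg]; infer_instance
  let e1 : Localization.Away (π g) ≃ₐ[R] A₀ :=
    ((IsLocalization.atOne A₀ (Localization.Away (π g))).restrictScalars R).symm
  have hΘk : RingHom.ker (e1.toAlgHom.comp θ).toRingHom = I.map (algebraMap R (Localization.Away g)) := by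
    rw [← hθk]
    exact Ideal.ext fun z => ⟨fun hz => e1.injective (hz.trans (map_zero e1).symm), fun hz => by
      show e1 (θ z) = 0
      rw [show θ z = 0 from hz, map_zero]⟩
  let e2 : (Localization.Away g ⧸ I.map (algebraMap R (Localization.Away g))) ≃ₐ[R] A₀ :=
    (Ideal.quotientEquivAlgOfEq R hΘk.symm).trans
      (Ideal.quotientKerAlgEquivOfSurjective (f := e1.toAlgHom.comp θ) (e1.surjective.comp hθs))
  refine ⟨Localization.Away g, inferInstance, inferInstance, hgs, ⟨AlgEquiv.ofRingEquiv (f := e2.toRingEquiv) fun r => ?_⟩⟩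
  obtain ⟨r, rfl⟩ := Ideal.Quotient.mk_surjective r
  exact e2.commutes r

end TransLib
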