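import Groth.Agent.TransLib.BundleGCI
import Groth.Agent.TransLib.SyntMor

/-!
# A smooth algebra is a smooth retract of a standard smooth algebra
-/

set_option autoImplicit false

universe u

open MvPolynomial TensorProduct

namespace TransLib

/-- Inverting a Jacobian determinant of equations and coordinates gives a standard smooth algebra. -/
theorem isStandardSmooth_away_jacobian {R S : Type u} [CommRing R] [CommRing S] [Algebra R S] {N c r : Type} [Finite N]
    [Fintype c] [DecidableEq c] [Fintype r] [DecidableEq r]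
    (G : c → MvPolynomial N R) (s : r → MvPolynomial N R) (eqv : c ⊕ r ≃ N)
    (φ : MvPolynomial N R →ₐ[R] S) (hφ : Function.Surjective φ) (hker : RingHom.ker φ.toRingHom = Ideal.span (Set.range G))
    (g : MvPolynomial N R)
    (hg : (Matrix.of fun a b => pderiv (eqv a) (Sum.elim G s b)).det ∣ g) :
    Algebra.IsStandardSmooth R (Localization.Away (φ g)) := by
  classical
  let ρ : MvPolynomial N R →ₐ[R] MvPolynomial (N ⊕ r) R := rename Sum.inl
  let v : c ⊕ r → MvPolynomial (N ⊕ r) R := Sum.elim (fun j => ρ (G j)) (fun i => ρ (s i) - X (Sum.inr i))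
  let S₀ := MvPolynomial (N ⊕ r) R ⧸ Ideal.span (Set.range v)
  let Φ : MvPolynomial (N ⊕ r) R →ₐ[R] S := aeval (Sum.elim (fun k => φ (X k)) fun i => φ (s i))
  have hΦρ : ∀ p, Φ (ρ p) = φ p := fun p => by
    refine AlgHom.congr_fun (φ₁ := Φ.comp ρ) (φ₂ := φ) (MvPolynomial.algHom_ext fun k => ?_) p
    show Φ (ρ (X k)) = _
    simp [ρ, Φ]
  have hv : ∀ b, Φ (v b) = 0 := fun b => by
    rcases b with j | i
    · show Φ (ρ (G j)) = 0
      rw [hΦρ]
      exact (hker.ge (Ideal.subset_span ⟨j, rfl⟩) : G j ∈ RingHom.ker φ.toRingHom)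
    · show Φ (ρ (s i) - X (Sum.inr i)) = 0
      rw [map_sub, hΦρ, aeval_X, Sum.elim_inr, sub_self]
  let ψ₀ : S₀ →ₐ[R] S := Ideal.Quotient.liftₐ _ Φ
    (show Ideal.span (Set.range v) ≤ RingHom.ker Φ from Ideal.span_le.2 (Set.range_subset_iff.2 hv))
  have hψ₀ : ∀ p, ψ₀ (Ideal.Quotient.mk _ (ρ p)) = φ p := hΦρ
  have hψs : Function.Surjective ψ₀ := fun y => by
    obtain ⟨p, rfl⟩ := hφ y
    exact ⟨_, hψ₀ p⟩
  have hψi : Function.Injective ψ₀ := by
    rw [injective_iff_map_eq_zero]
    intro z hz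
    obtain ⟨x, rfl⟩ := Ideal.Quotient.mk_surjective z
    let sub : MvPolynomial (N ⊕ r) R →ₐ[R] MvPolynomial N R := aeval (Sum.elim (fun k => X k) s)
    have h1 : (Ideal.Quotient.mkₐ R (Ideal.span (Set.range v))).comp (ρ.comp sub) = Ideal.Quotient.mkₐ R _ := by
      refine MvPolynomial.algHom_ext fun k => ?_
      show Ideal.Quotient.mk _ (ρ (sub (X k))) = Ideal.Quotient.mk _ (X k)
      rcases k with k | i
      · simp [sub, ρ]
      · rw [Ideal.Quotient.eq, aeval_X, Sum.elim_inr]
        exact Ideal.subset_span ⟨Sum.inr i, rfl⟩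
    have h2 : Ideal.Quotient.mk _ (ρ (sub x)) = Ideal.Quotient.mk (Ideal.span (Set.range v)) x := AlgHom.congr_fun h1 x
    rw [← h2] at hz ⊢
    rw [hψ₀] at hz
    have h3 : sub x ∈ Ideal.span (Set.range G) := hker.le hz
    rw [Ideal.Quotient.eq_zero_iff_mem]
    have h4 := Ideal.mem_map_of_mem ρ h3
    rw [Ideal.map_span, ← Set.range_comp] at h4
    refine Ideal.span_mono ?_ h4
    rintro _ ⟨j, rfl⟩
    exact ⟨Sum.inl j, rfl⟩
  let ψ : S₀ ≃ₐ[R] S := AlgEquiv.ofBijective ψ₀ ⟨hψi, hψs⟩
  let P₀ : Algebra.PreSubmersivePresentation R S₀ (N ⊕ r) (c ⊕ r) :=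
    { Algebra.Presentation.naive (R := R) (v := v) with
      map := fun a => Sum.inl (eqv a)
      map_inj := fun a b hab => eqv.injective (Sum.inl_injective hab) }
  let M : Matrix (c ⊕ r) (c ⊕ r) (MvPolynomial N R) := Matrix.of fun a b => pderiv (eqv a) (Sum.elim G s b)
  have hJ : P₀.jacobiMatrix = M.map ρ := by
    refine Matrix.ext fun a b => ?_
    rw [Algebra.PreSubmersivePresentation.jacobiMatrix_apply]
    show pderiv (Sum.inl (eqv a)) (v b) = ρ (pderiv (eqv a) (Sum.elim G s b))
    rcases b with j | i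
    · exact MvPolynomial.pderiv_rename Sum.inl_injective (eqv a) (G j)
    · show pderiv (Sum.inl (eqv a)) (ρ (s i) - X (Sum.inr i)) = _
      rw [map_sub, pderiv_X_of_ne Sum.inr_ne_inl, sub_zero]
      exact MvPolynomial.pderiv_rename Sum.inl_injective (eqv a) (s i)
  have hjac : P₀.jacobian = Ideal.Quotient.mk _ (ρ M.det) := by
    rw [P₀.jacobian_eq_jacobiMatrix_det, hJ, AlgHom.map_det]
    rfl
  let g₀ : S₀ := Ideal.Quotient.mk _ (ρ g)
  let T₀ := Localization.Away g₀
  let Q₀ := (Algebra.PreSubmersivePresentation.localizationAway T₀ g₀).comp P₀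
  have hgu : IsUnit (algebraMap S₀ T₀ g₀) := IsLocalization.Away.algebraMap_isUnit g₀
  have hu : IsUnit Q₀.jacobian := by
    rw [Algebra.PreSubmersivePresentation.comp_jacobian_eq_jacobian_smul_jacobian, Algebra.smul_def,
      Algebra.PreSubmersivePresentation.localizationAway_jacobian, hjac]
    refine IsUnit.mul ?_ ?_
    · first
        | exact hgu
        | exact isUnit_of_dvd_unit (map_dvd (algebraMap S₀ T₀) (map_dvd (Ideal.Quotient.mk (Ideal.span (Set.range v))) (map_dvd ρ hg))) hgu
    · first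
        | exact hgu
        | exact isUnit_of_dvd_unit (map_dvd (algebraMap S₀ T₀) (map_dvd (Ideal.Quotient.mk (Ideal.span (Set.range v))) (map_dvd ρ hg))) hgu
  have : Algebra.IsStandardSmooth R T₀ := ⟨⟨_, _, inferInstance, inferInstance, ⟨Q₀, hu⟩⟩⟩
  have hmap : Submonoid.map ψ.toRingEquiv.toMonoidHom (Submonoid.powers g₀) = Submonoid.powers (φ g) := by
    rw [Submonoid.map_powers]
    exact congrArg _ (hψ₀ g)
  exact Algebra.IsStandardSmooth.of_algEquiv (IsLocalization.algEquivOfAlgEquiv (A := R) T₀ (Localization.Away (φ g)) ψ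
    (M := Submonoid.powers g₀) (T := Submonoid.powers (φ g)) hmap)

theorem exists_tau {R : Type u} [CommRing R] {n m : ℕ} {I : Ideal (MvPolynomial (Fin n) R)} (D : IdemData I m)
    [Algebra.FormallySmooth R (MvPolynomial (Fin n) R ⧸ I)] :
    ∃ τ : Fin n → Fin m → MvPolynomial (Fin n) R, ∀ j k, ∑ i, τ i k * pderiv i (D.a j) - D.E k j ∈ I := by
  classical
  let P := MvPolynomial (Fin n) R
  let A := P ⧸ I
  obtain ⟨l, hl⟩ := (Algebra.FormallySmooth.iff_split_injection (P := P) (A := A) Ideal.Quotient.mk_surjective).1 ‹_›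
  let J := RingHom.ker (algebraMap P A)
  have hJ : J = I := Ideal.mk_ker
  choose x hx using fun i => Ideal.toCotangent_surjective J
    (l ((1 : A) ⊗ₜ KaehlerDifferential.D R P (X i)))
  choose τ₀ hτ₀ using fun i => Ideal.mem_span_range_iff_exists_fun.1 (D.gen.le (hJ.le (x i).2))
  have key : ∀ j, D.a j - ∑ i, pderiv i (D.a j) * ∑ k, τ₀ i k * D.a k ∈ I ^ 2 := fun j => by
    let v : J := ⟨D.a j, hJ.ge (D.mem j)⟩
    have h1 : J.toCotangent v = J.toCotangent (∑ i, pderiv i (D.a j) • x i) := by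
      have h := LinearMap.congr_fun hl (J.toCotangent v)
      rw [LinearMap.comp_apply, KaehlerDifferential.kerCotangentToTensor_toCotangent, LinearMap.id_apply] at h
      rw [← h, map_sum]
      have e : KaehlerDifferential.D R P (D.a j) =
          ∑ i, pderiv i (D.a j) • KaehlerDifferential.D R P (X i) := by
        conv_lhs => rw [← (KaehlerDifferential.mvPolynomialBasis R (Fin n)).sum_repr (KaehlerDifferential.D R P (D.a j))]
        exact Finset.sum_congr rfl fun i _ => by
          rw [KaehlerDifferential.mvPolynomialBasis_repr_apply, KaehlerDifferential.mvPolynomialBasis_apply]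
      rw [e, TensorProduct.tmul_sum, map_sum]
      refine Finset.sum_congr rfl fun i _ => ?_
      rw [map_smul, hx, TensorProduct.tmul_smul, map_smul]
    rw [Ideal.toCotangent_eq, AddSubmonoidClass.coe_finsetSum] at h1
    have h2 : J ^ 2 = I ^ 2 := by rw [hJ]
    rw [← h2]
    convert h1 using 2
    exact Finset.sum_congr rfl fun i _ => by rw [hτ₀]; rfl
  refine ⟨fun i l => ∑ k, D.E l k * τ₀ i k, fun j l => ?_⟩
  have h3 := D.ker (fun k => (if k = j then 1 else 0) - ∑ i, pderiv i (D.a j) * τ₀ i k) (by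
    convert key j using 1
    simp only [sub_mul, Finset.sum_sub_distrib, ite_mul, one_mul, zero_mul, Finset.sum_ite_eq', Finset.mem_univ, if_true,
      Finset.sum_mul, Finset.mul_sum]
    rw [Finset.sum_comm]
    exact congrArg _ (Finset.sum_congr rfl fun i _ => Finset.sum_congr rfl fun k _ => mul_assoc _ _ _)) l
  have h4 := neg_mem h3
  convert h4 using 1
  simp only [mul_sub, Finset.sum_sub_distrib, mul_ite, mul_one, mul_zero, Finset.sum_ite_eq', Finset.mem_univ, if_true,
    Finset.sum_mul, Finset.mul_sum, neg_sub]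
  rw [Finset.sum_comm]
  exact congrArg (· - _) (Finset.sum_congr rfl fun k _ => Finset.sum_congr rfl fun i _ => by ring)

theorem isUnit_det_fromBlocks_of_complement {A : Type u} [CommRing A] {α β : Type} [Fintype α] [Fintype β] [DecidableEq α]
    [DecidableEq β] (e : Matrix α α A) (T : Matrix α β A) (d : Matrix β α A) (h : T * d = e) :
    IsUnit (Matrix.fromBlocks (1 - e) (-T) d 1).det := by
  refine Matrix.isUnit_det_of_right_inverse (B := Matrix.fromBlocks 1 T (-d) (1 - d * T)) ?_
  rw [Matrix.fromBlocks_multiply]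
  simp only [Matrix.mul_one, Matrix.one_mul, Matrix.mul_neg, Matrix.neg_mul, neg_neg, Matrix.mul_sub, Matrix.sub_mul,
    ← Matrix.mul_assoc, h]
  rw [← Matrix.fromBlocks_one]
  congr 1 <;> abel

/-- A smooth quotient of a polynomial ring is a smooth retract of a standard smooth algebra. -/
theorem exists_retract_standardSmooth_quotient {R : Type u} [CommRing R] {n : ℕ} (I : Ideal (MvPolynomial (Fin n) R))
    (hI : I.FG) [Algebra.Smooth R (MvPolynomial (Fin n) R ⧸ I)] :
    ∃ (B : Type u) (_ : CommRing B) (_ : Algebra R B) (_ : Algebra (MvPolynomial (Fin n) R ⧸ I) B)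
      (_ : IsScalarTower R (MvPolynomial (Fin n) R ⧸ I) B),
      Algebra.Smooth (MvPolynomial (Fin n) R ⧸ I) B ∧
        Nonempty (B →ₐ[MvPolynomial (Fin n) R ⧸ I] MvPolynomial (Fin n) R ⧸ I) ∧ Algebra.IsStandardSmooth R B := by
  classical
  let P := MvPolynomial (Fin n) R
  let A := P ⧸ I
  obtain ⟨m, ⟨D⟩⟩ := nonempty_idemData I hI (isSyntomic_of_smooth R A)
  obtain ⟨τ, hτ⟩ := exists_tau D
  obtain ⟨C, _, _, _, _, hsm, φ, ρ, hφ, -, hι, hy, hρy, h', hh', hF, hkill⟩ := exists_bundle D
  let Q := MvPolynomial (Fin (n + m)) R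
  let ι : P →ₐ[R] Q := bundleIncl m
  let s : Fin n → Q := fun i => ι (X i) - ∑ k, ι (τ i k) * X (Fin.natAdd n k)
  let eqv : Fin m ⊕ Fin n ≃ Fin (n + m) := (Equiv.sumComm _ _).trans finSumFinEquiv
  let M : Matrix (Fin m ⊕ Fin n) (Fin m ⊕ Fin n) Q := Matrix.of fun a b => pderiv (eqv a) (Sum.elim (bundleEq D) s b)
  let z : Q →+* A := ρ.toRingHom.comp φ.toRingHom
  have hzι : ∀ x, z (ι x) = Ideal.Quotient.mk I x := fun x => by
    show ρ (φ (bundleIncl m x)) = _
    rw [hι, ρ.commutes]
    rfl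
  have hzy : ∀ k, z (X (Fin.natAdd n k)) = 0 := hρy
  have hxι : ∀ (p : P) (i : Fin n), pderiv (Fin.castAdd m i) (ι p) = ι (pderiv i p) := fun p i =>
    MvPolynomial.pderiv_rename (Fin.castAdd_injective n m) i p
  have hyι : ∀ (p : P) (k : Fin m), pderiv (Fin.natAdd n k) (ι p) = 0 := fun p k => by
    refine MvPolynomial.pderiv_eq_zero_of_notMem_vars fun hk => ?_
    obtain ⟨i, -, hi⟩ := Finset.mem_image.1 (MvPolynomial.vars_rename (Fin.castAdd m) p hk)
    exact absurd (congrArg Fin.val hi) (by simp only [Fin.val_castAdd, Fin.val_natAdd]; omega)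
  have hne : ∀ (k : Fin m) (i : Fin n), Fin.natAdd n k ≠ Fin.castAdd m i := fun k i h => by
    have := congrArg Fin.val h
    simp only [Fin.val_castAdd, Fin.val_natAdd] at this
    omega
  let e : Matrix (Fin m) (Fin m) A := D.E.map (Ideal.Quotient.mk I)
  let T : Matrix (Fin m) (Fin n) A := Matrix.of fun k i => Ideal.Quotient.mk I (τ i k)
  let d : Matrix (Fin n) (Fin m) A := Matrix.of fun i j => Ideal.Quotient.mk I (pderiv i (D.a j))
  have hTd : T * d = e := Matrix.ext fun k j => by
    rw [Matrix.mul_apply]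
    refine Eq.trans ?_ (Ideal.Quotient.eq.2 (hτ j k))
    rw [map_sum]
    exact Finset.sum_congr rfl fun i _ => by rw [map_mul]; rfl
  have hY1 : ∀ (p : P) (k k' : Fin m), z (pderiv (Fin.natAdd n k) (ι p * X (Fin.natAdd n k'))) =
      if k = k' then Ideal.Quotient.mk I p else 0 := fun p k k' => by
    rw [pderiv_mul, hyι, zero_mul, zero_add, map_mul, hzι, pderiv_X, Pi.single_apply]
    by_cases hk : k = k'
    · subst hk; simp
    · have : ¬ (Fin.natAdd n k = Fin.natAdd n k') := fun h => hk ((Fin.natAdd_injective _ _) h)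
      simp [hk, this, Ne.symm]
  have hX1 : ∀ (p : P) (i : Fin n) (k' : Fin m), z (pderiv (Fin.castAdd m i) (ι p * X (Fin.natAdd n k'))) = 0 := fun p i k' => by
    rw [pderiv_mul, pderiv_X_of_ne (hne k' i), mul_zero, add_zero, map_mul, hzy, mul_zero]
  have hM : z.mapMatrix M = Matrix.fromBlocks (1 - e) (-T) d 1 := by
    refine Matrix.ext fun a b => ?_
    show z (pderiv (eqv a) (Sum.elim (bundleEq D) s b)) = _
    rcases a with k | i <;> rcases b with j | l
    · show z (pderiv (eqv (Sum.inl k)) (ι (D.a j) + (X (Fin.natAdd n j) - ∑ x, ι (D.E x j) * X (Fin.natAdd n x)))) = _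
      rw [show eqv (Sum.inl k) = Fin.natAdd n k from finSumFinEquiv_apply_right k, map_add, map_sub, map_sum, map_add,
        map_sub, map_sum, hyι, map_zero, zero_add, pderiv_X, Pi.single_apply, Matrix.fromBlocks_apply₁₁, Matrix.sub_apply,
        Matrix.one_apply, Finset.sum_congr rfl fun x _ => hY1 (D.E x j) k x, Finset.sum_ite_eq Finset.univ k,
        if_pos (Finset.mem_univ k)]
      congr 1
      by_cases hk : k = j
      · subst hk; simp
      · have : ¬ (Fin.natAdd n k = Fin.natAdd n j) := fun h => hk ((Fin.natAdd_injective _ _) h)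
        simp [hk, this, Ne.symm]
    · show z (pderiv (eqv (Sum.inl k)) (ι (X l) - ∑ x, ι (τ l x) * X (Fin.natAdd n x))) = _
      rw [show eqv (Sum.inl k) = Fin.natAdd n k from finSumFinEquiv_apply_right k, map_sub, map_sum, map_sub, map_sum,
        hyι, map_zero, zero_sub, Finset.sum_congr rfl fun x _ => hY1 (τ l x) k x, Finset.sum_ite_eq Finset.univ k,
        if_pos (Finset.mem_univ k)]
      rfl
    · show z (pderiv (eqv (Sum.inr i)) (ι (D.a j) + (X (Fin.natAdd n j) - ∑ x, ι (D.E x j) * X (Fin.natAdd n x)))) = _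
      rw [show eqv (Sum.inr i) = Fin.castAdd m i from finSumFinEquiv_apply_left i, map_add, map_sub, map_sum, map_add,
        map_sub, map_sum, hxι, hzι, pderiv_X_of_ne (hne j i), map_zero, zero_sub,
        Finset.sum_eq_zero fun x _ => hX1 (D.E x j) i x, neg_zero, add_zero]
      rfl
    · show z (pderiv (eqv (Sum.inr i)) (ι (X l) - ∑ x, ι (τ l x) * X (Fin.natAdd n x))) = _
      rw [show eqv (Sum.inr i) = Fin.castAdd m i from finSumFinEquiv_apply_left i, map_sub, map_sum, map_sub, map_sum,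
        hxι, hzι, Finset.sum_eq_zero fun x _ => hX1 (τ l x) i x, sub_zero, Matrix.fromBlocks_apply₂₂, Matrix.one_apply,
        pderiv_X, Pi.single_apply]
      by_cases hk : i = l
      · subst hk; simp
      · simp [hk, Ne.symm]
  have hdu : IsUnit (z (h' * M.det)) := by
    rw [map_mul, RingHom.map_det, hM, show z h' = 1 from by show ρ (φ h') = 1; rw [hh', map_one], one_mul]
    exact isUnit_det_fromBlocks_of_complement e T d hTd
  let S := Q ⧸ Ideal.span (Set.range (bundleEq D))
  have hstd : Algebra.IsStandardSmooth R (Localization.Away (Ideal.Quotient.mkₐ R (Ideal.span (Set.range (bundleEq D))) (h' * M.det))) :=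
    isStandardSmooth_away_jacobian (S := S) (bundleEq D) s eqv (Ideal.Quotient.mkₐ R _) (Ideal.Quotient.mkₐ_surjective R _)
      Ideal.mk_ker (h' * M.det) (dvd_mul_left _ _)
  have : Algebra.IsStandardSmooth R (Localization.Away (Ideal.Quotient.mk (Ideal.span (Set.range (bundleEq D))) (h' * M.det))) := hstd
  obtain ⟨e₁⟩ := nonempty_awayEquiv_of_mul_le φ hφ (Ideal.span (Set.range (bundleEq D)))
    (Ideal.span_le.2 (Set.range_subset_iff.2 hF)) (h' * M.det) (fun x hx => by
      rw [mul_comm h', mul_assoc]; exact Ideal.mul_mem_left _ _ (hkill x hx))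
  let g := φ (h' * M.det)
  let B := Localization.Away g
  have : Algebra.Smooth C B := Algebra.Smooth.of_isLocalization_Away g
  exact ⟨B, inferInstance, inferInstance, inferInstance, inferInstance, Algebra.Smooth.comp A C B,
    ⟨IsLocalization.liftAlgHom (M := Submonoid.powers g) (S := B) (f := ρ) (by
      rintro ⟨_, k, rfl⟩
      show IsUnit (ρ (g ^ k))
      rw [map_pow]
      exact hdu.pow k)⟩,
    Algebra.IsStandardSmooth.of_algEquiv e₁⟩

/-- A smooth algebra is a smooth retract of a standard smooth algebra. -/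
theorem exists_retract_standardSmooth {R A : Type u} [CommRing R] [CommRing A] [Algebra R A] [Algebra.Smooth R A] :
    ∃ (B : Type u) (_ : CommRing B) (_ : Algebra R B) (_ : Algebra A B) (_ : IsScalarTower R A B),
      Algebra.Smooth A B ∧ Nonempty (B →ₐ[A] A) ∧ Algebra.IsStandardSmooth R B := by
  obtain ⟨n, φ, hφ, hI⟩ := (inferInstance : Algebra.FinitePresentation R A).out
  let e : (MvPolynomial (Fin n) R ⧸ RingHom.ker φ.toRingHom) ≃ₐ[R] A := Ideal.quotientKerAlgEquivOfSurjective hφ
  have : Algebra.Smooth R (MvPolynomial (Fin n) R ⧸ RingHom.ker φ.toRingHom) := Algebra.Smooth.of_equiv e.symm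
  obtain ⟨B, _, _, _, _, hsm, ⟨ρ⟩, hstd⟩ := exists_retract_standardSmooth_quotient _ hI
  let A' := MvPolynomial (Fin n) R ⧸ RingHom.ker φ.toRingHom
  letI : Algebra A A' := e.symm.toAlgHom.toRingHom.toAlgebra
  letI : Algebra A B := ((algebraMap A' B).comp e.symm.toAlgHom.toRingHom).toAlgebra
  have : IsScalarTower A A' B := IsScalarTower.of_algebraMap_eq fun _ => rfl
  have : IsScalarTower R A B := IsScalarTower.of_algebraMap_eq fun r => by
    show _ = algebraMap A' B (e.symm (algebraMap R A r))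
    rw [e.symm.commutes, ← IsScalarTower.algebraMap_apply]
  have : Algebra.Smooth A A' := Algebra.Smooth.of_equiv (AlgEquiv.ofRingEquiv (f := e.symm.toRingEquiv) fun _ => rfl : A ≃ₐ[A] A')
  refine ⟨B, inferInstance, inferInstance, inferInstance, inferInstance, Algebra.Smooth.comp A A' B,
    ⟨{ e.toAlgHom.toRingHom.comp ρ.toRingHom with commutes' := fun a => ?_ }⟩, hstd⟩
  show e (ρ (algebraMap A' B (e.symm a))) = a
  rw [ρ.commutes]
  exact e.apply_symm_apply a

end TransLib
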