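import Groth.Agent.TransLib.SingIdeal
import Groth.Agent.TransLib.BundleStd

/-!
# Delocalizing a smooth factorization
-/

set_option autoImplicit false

universe u

open TensorProduct MvPolynomial

attribute [local instance] MvPolynomial.algebraMvPolynomial

namespace TransLib

/-- Elementary standard elements from presentations with arbitrary index types. -/
theorem isElementaryStandard_of_data {R B : Type u} [CommRing R] [CommRing B] [Algebra R B] {ι σ : Type} {τ : Type*}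
    [Finite ι] [Fintype σ] [DecidableEq σ] [Finite τ] (φ : MvPolynomial ι R →ₐ[R] B) (hφ : Function.Surjective φ)
    (lead : σ → MvPolynomial ι R) (tail : τ → MvPolynomial ι R)
    (hker : RingHom.ker φ.toRingHom = Ideal.span (Set.range (Sum.elim lead tail))) (cols : σ ↪ ι) (a a' : B)
    (hdet : a = a' * φ (Matrix.of fun j k => pderiv (cols k) (lead j)).det)
    (htail : ∀ a₁, φ a₁ = a → ∀ l, a₁ * tail l ∈ Ideal.span (Set.range lead) ⊔
      Ideal.span (Set.range (Sum.elim lead tail)) ^ 2) :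
    Smoothing.IsElementaryStandard R B a := by
  classical
  cases nonempty_fintype ι
  cases nonempty_fintype τ
  let c := Fintype.card σ
  let m := Fintype.card τ
  let eσ : Fin c ≃ σ := (Fintype.equivFin σ).symm
  let eτ : Fin m ≃ τ := (Fintype.equivFin τ).symm
  let n := Fintype.card ι
  let eι : ι ≃ Fin n := Fintype.equivFin ι
  have hcn : c ≤ n := Fintype.card_le_of_embedding cols
  obtain ⟨π, hπ⟩ := exists_perm_extending hcn ⟨fun j => eι (cols (eσ j)),
    eι.injective.comp (cols.injective.comp eσ.injective)⟩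
  let e : ι ≃ Fin n := eι.trans π.symm
  let ρ : MvPolynomial ι R ≃ₐ[R] MvPolynomial (Fin n) R := renameEquiv R e
  let rel : Fin (c + m) → MvPolynomial (Fin n) R := Fin.append (fun j => ρ (lead (eσ j))) (fun l => ρ (tail (eτ l)))
  have hrange : Set.range rel = ρ '' Set.range (Sum.elim lead tail) := by
    ext x
    constructor
    · rintro ⟨i, rfl⟩
      induction i using Fin.addCases with
      | left i => exact ⟨lead (eσ i), ⟨Sum.inl _, rfl⟩, by simp [rel, Fin.append_left]⟩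
      | right i => exact ⟨tail (eτ i), ⟨Sum.inr _, rfl⟩, by simp [rel, Fin.append_right]⟩
    · rintro ⟨_, ⟨j | l, rfl⟩, rfl⟩
      · exact ⟨Fin.castAdd m (eσ.symm j), by simp [rel, Fin.append_left]⟩
      · exact ⟨Fin.natAdd c (eτ.symm l), by simp [rel, Fin.append_right]⟩
  let P : Smoothing.MarkedPresentation R B :=
    { n := n
      m := c + m
      c := c
      hcn := hcn
      hcm := Nat.le_add_right c m
      rel := rel
      hom := φ.comp ρ.symm.toAlgHom
      surj := hφ.comp ρ.symm.surjective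
      ker_eq := by
        ext x
        show ρ.symm x ∈ RingHom.ker φ.toRingHom ↔ x ∈ _
        rw [hker, hrange,
          show (ρ : _ → _) '' Set.range (Sum.elim lead tail) = ρ.toRingEquiv.toRingHom '' Set.range (Sum.elim lead tail)
            from rfl,
          ← Ideal.map_span, Ideal.mem_map_iff_of_surjective ρ.toRingEquiv.toRingHom ρ.surjective]
        exact ⟨fun h => ⟨_, h, ρ.apply_symm_apply x⟩, by rintro ⟨y, hy, rfl⟩; simpa using hy⟩ }
  have hcast : ∀ j : Fin c, rel (Fin.castLE (Nat.le_add_right c m) j) = ρ (lead (eσ j)) := fun j =>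
    Fin.append_left _ _ j
  refine ⟨P, ⟨a', hdet.trans (congrArg (a' * ·) ?_)⟩, fun a₁ ha₁ j hj => ?_⟩
  · show φ _ = φ (ρ.symm (Smoothing.jacobianMinor rel (Fin.castLE (Nat.le_add_right c m)) (Fin.castLE hcn)))
    refine congrArg φ (ρ.eq_symm_apply.2 ?_)
    rw [Smoothing.jacobianMinor, ← Matrix.det_submatrix_equiv_self eσ, AlgEquiv.map_det]
    congr 1
    ext1 i k
    show ρ (pderiv (cols (eσ k)) (lead (eσ i))) = pderiv (Fin.castLE hcn k) (rel (Fin.castLE _ i))
    rw [hcast, show Fin.castLE hcn k = e (cols (eσ k)) from π.injective (by rw [hπ]; simp [e])]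
    exact (pderiv_rename e.injective (cols (eσ k)) (lead (eσ i))).symm
  · induction j using Fin.addCases with
    | left i => exact absurd hj (not_le.2 i.2)
    | right l =>
      have h2 := Ideal.mem_map_of_mem ρ.toRingEquiv.toRingHom (htail (ρ.symm a₁) ha₁ (eτ l))
      rw [map_mul, Ideal.map_sup, Ideal.map_pow, Ideal.map_span, Ideal.map_span] at h2
      have e1 : ρ.toRingEquiv.toRingHom (ρ.symm a₁) = a₁ := ρ.apply_symm_apply a₁
      rw [e1] at h2
      show a₁ * rel (Fin.natAdd c l) ∈ _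
      rw [show rel (Fin.natAdd c l) = ρ (tail (eτ l)) from Fin.append_right _ _ l]
      refine SetLike.le_def.1 (sup_le_sup (Ideal.span_mono ?_) (Ideal.pow_right_mono (Ideal.span_mono ?_) 2)) h2
      · rintro _ ⟨_, ⟨i, rfl⟩, rfl⟩
        refine ⟨Fin.castLE (Nat.le_add_right c m) (eσ.symm i), (eσ.symm i).2, (hcast _).trans ?_⟩
        rw [eσ.apply_symm_apply]
        rfl
      · rw [hrange]
        exact subset_refl _

theorem exists_mul_eq_one_tmul {R Rₛ Λ : Type u} [CommRing R] [CommRing Rₛ] [Algebra R Rₛ] (S : Submonoid R)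
    [IsLocalization S Rₛ] [CommRing Λ] [Algebra R Λ] {κ : Type} [Finite κ] (z : κ → Rₛ ⊗[R] Λ) :
    ∃ s ∈ S, ∃ l : κ → Λ, ∀ j, algebraMap R (Rₛ ⊗[R] Λ) s * z j = (1 : Rₛ) ⊗ₜ[R] l j := by
  classical
  cases nonempty_fintype κ
  choose y hy using fun j => IsLocalizedModule.surj S (TensorProduct.mk R Rₛ Λ 1) (z j)
  refine ⟨∏ j, ((y j).2 : R), Submonoid.prod_mem S fun j _ => (y j).2.2,
    fun j => (∏ i ∈ Finset.univ.erase j, ((y i).2 : R)) • (y j).1, fun j => ?_⟩
  rw [← Finset.prod_erase_mul _ _ (Finset.mem_univ j), map_mul, mul_assoc, ← Algebra.smul_def, ← Algebra.smul_def,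
    show ((y j).2 : R) • z j = (1 : Rₛ) ⊗ₜ[R] (y j).1 from hy j, TensorProduct.tmul_smul]

theorem pderiv_aeval_scale {K : Type u} [CommRing K] {ι : Type} (u : K) (i : ι) (p : MvPolynomial ι K) :
    pderiv i (aeval (fun j => MvPolynomial.C u * X j) p : MvPolynomial ι K) =
      MvPolynomial.C u * aeval (fun j => MvPolynomial.C u * X j) (pderiv i p) := by
  classical
  induction p using MvPolynomial.induction_on with
  | C a => simp
  | add a b ha hb => simp only [map_add, ha, hb, mul_add]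
  | mul_X a j ha =>
    simp only [map_mul, aeval_X, pderiv_mul, ha, map_add, pderiv_C, pderiv_X, Pi.single_apply]
    split_ifs <;> simp <;> ring

/-- Delocalization along a multiplicative subset of the base. -/
theorem delocalize_base {R A Λ Rₛ B' : Type u} [CommRing R] [CommRing A] [Algebra R A]
    [Algebra.FinitePresentation R A] [CommRing Λ] [Algebra R Λ] (φ : A →ₐ[R] Λ) (S : Submonoid R)
    [CommRing Rₛ] [Algebra R Rₛ] [IsLocalization S Rₛ] [CommRing B'] [Algebra Rₛ B']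
    [Algebra.Smooth Rₛ B'] (g : Rₛ ⊗[R] A →ₐ[Rₛ] B') (h : B' →ₐ[Rₛ] Rₛ ⊗[R] Λ)
    (hgh : h.comp g = Algebra.TensorProduct.map (AlgHom.id Rₛ Rₛ) φ) :
    ∃ (B : Type u) (_ : CommRing B) (_ : Algebra R B) (α : A →ₐ[R] B) (β : B →ₐ[R] Λ),
      β.comp α = φ ∧ ∃ s ∈ S, Smoothing.IsElementaryStandard R B (algebraMap R B s) := by
  classical
  obtain ⟨C, _, _, _, _, -, ⟨ret⟩, hstd⟩ := exists_retract_standardSmooth (R := Rₛ) (A := B')
  obtain ⟨ι, σ, _, _, ⟨P⟩⟩ := hstd.out
  cases nonempty_fintype σ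
  cases nonempty_fintype ι
  letI algRC : Algebra R C := ((algebraMap Rₛ C).comp (algebraMap R Rₛ)).toAlgebra
  have : IsScalarTower R Rₛ C := IsScalarTower.of_algebraMap_eq fun _ => rfl
  let L := Rₛ ⊗[R] Λ
  let gC : Rₛ ⊗[R] A →ₐ[Rₛ] C := (IsScalarTower.toAlgHom Rₛ B' C).comp g
  let hC : C →ₐ[Rₛ] L := h.comp (ret.restrictScalars Rₛ)
  have hhg : ∀ x : A, hC (gC ((1 : Rₛ) ⊗ₜ[R] x)) = (1 : Rₛ) ⊗ₜ[R] φ x := fun x => by
    show h (ret (algebraMap B' C (g _))) = _
    rw [AlgHom.commutes, Algebra.algebraMap_self, RingHom.id_apply]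
    exact AlgHom.congr_fun hgh _
  have halgC : ∀ r : R, hC (algebraMap R C r) = algebraMap R L r := fun r => by
    rw [IsScalarTower.algebraMap_apply R Rₛ C, AlgHom.commutes, ← IsScalarTower.algebraMap_apply]
  have heqL : ∀ u v : Λ, (1 : Rₛ) ⊗ₜ[R] u = (1 : Rₛ) ⊗ₜ[R] v → ∃ s ∈ S, s • u = s • v := fun u v huv => by
    obtain ⟨s, hs⟩ := IsLocalizedModule.exists_of_eq (S := S) (f := TensorProduct.mk R Rₛ Λ 1) huv
    exact ⟨s, s.2, hs⟩
  -- scaled generators
  obtain ⟨s, hs, lam, hlam⟩ := exists_mul_eq_one_tmul S fun j => hC (P.val j)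
  obtain ⟨u, hu⟩ := IsLocalization.map_units Rₛ (⟨s, hs⟩ : S)
  let v : ι → C := fun j => algebraMap R C s * P.val j
  have hv : ∀ j, hC (v j) = (1 : Rₛ) ⊗ₜ[R] lam j := fun j => by rw [map_mul, halgC, hlam]
  let θ : MvPolynomial ι Rₛ →ₐ[Rₛ] MvPolynomial ι Rₛ := aeval fun j => MvPolynomial.C (↑u⁻¹ : Rₛ) * X j
  let Φ : MvPolynomial ι Rₛ →ₐ[Rₛ] C := aeval v
  have hΦθ : ∀ p, Φ (θ p) = aeval P.val p := fun p => by
    refine AlgHom.congr_fun (show Φ.comp θ = aeval P.val from MvPolynomial.algHom_ext fun j => ?_) p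
    show aeval v (θ (X j)) = aeval P.val (X j)
    rw [show θ (X j) = MvPolynomial.C (↑u⁻¹ : Rₛ) * X j from aeval_X _ j, map_mul, aeval_C, aeval_X, aeval_X,
      show v j = algebraMap R C s * P.val j from rfl, IsScalarTower.algebraMap_apply R Rₛ C, ← mul_assoc, ← map_mul,
      show algebraMap R Rₛ s = ↑u from hu.symm, Units.inv_mul, map_one, one_mul]
  have hθsurj : Function.Surjective θ := fun p => ⟨aeval (fun j => MvPolynomial.C (↑u : Rₛ) * X j) p, by
    refine AlgHom.congr_fun (show θ.comp (aeval fun j => MvPolynomial.C (↑u : Rₛ) * X j) = AlgHom.id _ _ from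
      MvPolynomial.algHom_ext fun j => ?_) p
    show θ (aeval _ (X j)) = X j
    rw [aeval_X, map_mul, show θ (X j) = MvPolynomial.C (↑u⁻¹ : Rₛ) * X j from aeval_X _ j,
      show θ (MvPolynomial.C (↑u : Rₛ)) = MvPolynomial.C ↑u from aeval_C _ _, ← mul_assoc, ← map_mul, Units.mul_inv,
      map_one, one_mul]⟩
  have hkerΦ : RingHom.ker Φ.toRingHom = Ideal.span (Set.range fun k => θ (P.relation k)) := by
    refine le_antisymm (fun p hp => ?_) (Ideal.span_le.2 ?_)
    · obtain ⟨q, rfl⟩ := hθsurj p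
      have hq : q ∈ Ideal.span (Set.range P.relation) := by
        rw [P.span_range_relation_eq_ker, Algebra.Generators.ker_eq_ker_aeval_val]
        show aeval P.val q = 0
        rw [← hΦθ]; exact hp
      have hq2 := Ideal.mem_map_of_mem θ.toRingHom hq
      rw [Ideal.map_span, ← Set.range_comp] at hq2
      exact hq2
    · rintro _ ⟨k, rfl⟩
      show Φ (θ (P.relation k)) = 0
      rw [hΦθ]
      exact P.aeval_val_relation k
  let mapS : MvPolynomial ι R →+* MvPolynomial ι Rₛ := MvPolynomial.map (algebraMap R Rₛ)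
  let Φ₀ : MvPolynomial ι R →ₐ[R] C := aeval v
  have hΦ₀ : ∀ p, Φ₀ p = Φ (mapS p) := fun p => (MvPolynomial.aeval_map_algebraMap Rₛ v p).symm
  have hΦlam : ∀ p : MvPolynomial ι R, hC (Φ₀ p) = (1 : Rₛ) ⊗ₜ[R] aeval lam p := fun p =>
    AlgHom.congr_fun (show (hC.restrictScalars R).comp Φ₀ =
      (Algebra.TensorProduct.includeRight : Λ →ₐ[R] L).comp (aeval lam) from MvPolynomial.algHom_ext fun j => by
        show hC (aeval v (X j)) = (1 : Rₛ) ⊗ₜ[R] aeval lam (X j)
        rw [aeval_X, aeval_X, hv]) p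
  have hG : ∀ k, ∃ (g₁ : MvPolynomial ι R) (t : R), t ∈ S ∧
      mapS g₁ = MvPolynomial.C (algebraMap R Rₛ t) * θ (P.relation k) ∧ aeval lam g₁ = 0 := fun k => by
    obtain ⟨⟨g₁, ⟨_, t, ht, rfl⟩⟩, hgt⟩ :=
      IsLocalization.surj (S.map (MvPolynomial.C : R →+* MvPolynomial ι R)) (θ (P.relation k))
    have hg₁ : mapS g₁ = MvPolynomial.C (algebraMap R Rₛ t) * θ (P.relation k) := by
      rw [mul_comm, ← map_C (algebraMap R Rₛ) t]; exact hgt.symm
    have h0 : (1 : Rₛ) ⊗ₜ[R] aeval lam g₁ = (1 : Rₛ) ⊗ₜ[R] (0 : Λ) := by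
      rw [← hΦlam, hΦ₀, hg₁, map_mul, hΦθ, P.aeval_val_relation, mul_zero, map_zero, TensorProduct.tmul_zero]
    obtain ⟨t', ht', ht'0⟩ := heqL _ _ h0
    refine ⟨MvPolynomial.C t' * g₁, t' * t, S.mul_mem ht' ht, ?_, ?_⟩
    · rw [map_mul mapS, show mapS (MvPolynomial.C t') = MvPolynomial.C (algebraMap R Rₛ t') from map_C _ _, hg₁,
        ← mul_assoc, ← map_mul, ← map_mul]
    · rw [map_mul, aeval_C, ← Algebra.smul_def, ht'0, smul_zero]
  choose G t htS hGmap hGlam using hG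
  have hGker : ∀ p : MvPolynomial ι R, Φ₀ p = 0 → ∃ s₁ ∈ S, MvPolynomial.C s₁ * p ∈ Ideal.span (Set.range G) := by
    intro p hp
    have hp' : mapS p ∈ (Ideal.span (Set.range G)).map (algebraMap (MvPolynomial ι R) (MvPolynomial ι Rₛ)) := by
      have h2 : mapS p ∈ RingHom.ker Φ.toRingHom := by
        show Φ (mapS p) = 0
        rw [← hΦ₀, hp]
      rw [hkerΦ] at h2
      refine (show Ideal.span (Set.range fun k => θ (P.relation k)) ≤
        (Ideal.span (Set.range G)).map (algebraMap (MvPolynomial ι R) (MvPolynomial ι Rₛ)) from ?_) h2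
      refine Ideal.span_le.2 ?_
      rintro _ ⟨k, rfl⟩
      obtain ⟨w, hw⟩ := (IsLocalization.map_units Rₛ (⟨t k, htS k⟩ : S)).map (MvPolynomial.C (σ := ι))
      have hmem : mapS (G k) ∈ (Ideal.span (Set.range G)).map (algebraMap (MvPolynomial ι R) (MvPolynomial ι Rₛ)) :=
        Ideal.mem_map_of_mem _ (Ideal.subset_span ⟨k, rfl⟩)
      rw [hGmap, show MvPolynomial.C (algebraMap R Rₛ (t k)) = ↑w from hw.symm] at hmem
      exact (Ideal.unit_mul_mem_iff_mem _ w.isUnit).1 hmem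
    obtain ⟨_, ⟨s₁, hs₁, rfl⟩, h3⟩ :=
      (IsLocalization.algebraMap_mem_map_algebraMap_iff (S.map (MvPolynomial.C : R →+* MvPolynomial ι R))
        (MvPolynomial ι Rₛ) _ p).1 hp'
    exact ⟨s₁, hs₁, h3⟩
  -- the images of the variables of `A`
  obtain ⟨m, ψ, hψ, T, hT⟩ := (inferInstance : Algebra.FinitePresentation R A).out
  let xA : Fin m → A := fun i => ψ (X i)
  have hlift : ∀ i, ∃ (p : MvPolynomial ι R) (σ₁ : R), σ₁ ∈ S ∧
      algebraMap R C σ₁ * gC ((1 : Rₛ) ⊗ₜ[R] xA i) = Φ₀ p ∧ aeval lam p = σ₁ • φ (xA i) := fun i => by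
    obtain ⟨q, hq⟩ : ∃ q, Φ q = gC ((1 : Rₛ) ⊗ₜ[R] xA i) := by
      refine ⟨θ (P.σ (gC ((1 : Rₛ) ⊗ₜ[R] xA i))), ?_⟩
      rw [hΦθ, P.aeval_val_σ]
    obtain ⟨⟨p, ⟨_, σ₀, hσ₀, rfl⟩⟩, hpσ⟩ := IsLocalization.surj (S.map (MvPolynomial.C : R →+* MvPolynomial ι R)) q
    have hp : algebraMap R C σ₀ * gC ((1 : Rₛ) ⊗ₜ[R] xA i) = Φ₀ p := by
      rw [hΦ₀, show mapS p = q * algebraMap (MvPolynomial ι R) (MvPolynomial ι Rₛ) (MvPolynomial.C σ₀) from hpσ.symm,
        map_mul, hq, mul_comm]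
      refine congrArg (_ * ·) ?_
      show _ = Φ (MvPolynomial.map (algebraMap R Rₛ) (MvPolynomial.C σ₀))
      rw [map_C, aeval_C, ← IsScalarTower.algebraMap_apply]
    have h0 : (1 : Rₛ) ⊗ₜ[R] aeval lam p = (1 : Rₛ) ⊗ₜ[R] (σ₀ • φ (xA i)) := by
      rw [← hΦlam, ← hp, map_mul, halgC, hhg, TensorProduct.tmul_smul, Algebra.smul_def]
    obtain ⟨t', ht', ht'0⟩ := heqL _ _ h0
    refine ⟨MvPolynomial.C t' * p, t' * σ₀, S.mul_mem ht' hσ₀, ?_, ?_⟩
    · rw [map_mul Φ₀, show Φ₀ (MvPolynomial.C t') = algebraMap R C t' from aeval_C _ _, ← hp, map_mul, mul_assoc]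
    · rw [map_mul, aeval_C, ← Algebra.smul_def, ht'0, mul_smul]
  choose Pp σ₁ hσS hσC hσΛ using hlift
  -- the algebra
  let J := ι ⊕ Fin m
  let T₀ := MvPolynomial J R
  let inY : MvPolynomial ι R →ₐ[R] T₀ := rename Sum.inl
  let inX : MvPolynomial (Fin m) R →ₐ[R] T₀ := rename Sum.inr
  let lead : σ ⊕ Fin m → T₀ :=
    Sum.elim (fun k => inY (G k)) (fun i => MvPolynomial.C (σ₁ i) * X (Sum.inr i) - inY (Pp i))
  let tail : T → T₀ := fun f => inX f.1
  let I₀ : Ideal T₀ := Ideal.span (Set.range (Sum.elim lead tail))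
  let B := T₀ ⧸ I₀
  have hinYC : ∀ r : R, inY (MvPolynomial.C r) = MvPolynomial.C r := fun r => rename_C _ r
  have hinYX : ∀ j : ι, inY (X j) = X (Sum.inl j) := fun j => rename_X _ j
  have hinXX : ∀ i : Fin m, inX (X i) = X (Sum.inr i) := fun i => rename_X _ i
  let βT : T₀ →ₐ[R] Λ := aeval (Sum.elim lam fun i => φ (xA i))
  have hβX : ∀ p, βT (inX p) = φ (ψ p) := fun p =>
    AlgHom.congr_fun (show βT.comp inX = φ.comp ψ from MvPolynomial.algHom_ext fun i => by
      rw [AlgHom.comp_apply, AlgHom.comp_apply, hinXX]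
      exact aeval_X _ (Sum.inr i)) p
  have hβY : ∀ p, βT (inY p) = aeval lam p := fun p =>
    AlgHom.congr_fun (show βT.comp inY = aeval lam from MvPolynomial.algHom_ext fun i => by
      rw [AlgHom.comp_apply, hinYX, aeval_X]
      exact (aeval_X lam i).symm) p
  have hTzero : ∀ f : T, ψ f.1 = 0 := fun f =>
    show f.1 ∈ RingHom.ker ψ.toRingHom from hT ▸ Ideal.subset_span f.2
  have hI₀ : I₀ ≤ RingHom.ker βT.toRingHom := Ideal.span_le.2 (by
    rintro _ ⟨(k | i) | f, rfl⟩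
    · show βT (inY (G k)) = 0
      rw [hβY, hGlam]
    · show βT (MvPolynomial.C (σ₁ i) * X (Sum.inr i) - inY (Pp i)) = 0
      rw [map_sub, map_mul, hβY, hσΛ, Algebra.smul_def, show βT (MvPolynomial.C (σ₁ i)) = algebraMap R Λ (σ₁ i) from
        aeval_C _ _, show βT (X (Sum.inr i)) = φ (xA i) from aeval_X _ _, sub_self]
    · show βT (inX f.1) = 0
      rw [hβX, hTzero, map_zero])
  let αT : MvPolynomial (Fin m) R →ₐ[R] B := (Ideal.Quotient.mkₐ R I₀).comp inX
  have hα : RingHom.ker ψ.toRingHom ≤ RingHom.ker αT.toRingHom := by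
    rw [← hT]
    refine Ideal.span_le.2 fun f hf => ?_
    exact Ideal.Quotient.eq_zero_iff_mem.2 (Ideal.subset_span ⟨Sum.inr ⟨f, hf⟩, rfl⟩)
  let α : A →ₐ[R] B := (Ideal.Quotient.liftₐ _ αT hα).comp (Ideal.quotientKerAlgEquivOfSurjective hψ).symm.toAlgHom
  have hαψ : ∀ p, α (ψ p) = αT p := fun p => by
    show Ideal.Quotient.liftₐ _ _ hα ((Ideal.quotientKerAlgEquivOfSurjective hψ).symm (ψ p)) = _
    rw [show (Ideal.quotientKerAlgEquivOfSurjective hψ).symm (ψ p) = Ideal.Quotient.mk _ p from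
      (Ideal.quotientKerAlgEquivOfSurjective hψ).symm_apply_eq.2
        (Ideal.quotientKerAlgEquivOfSurjective_mk hψ p).symm]
    rfl
  refine ⟨B, inferInstance, inferInstance, α, Ideal.Quotient.liftₐ I₀ βT hI₀, AlgHom.ext fun x => ?_, ?_⟩
  · obtain ⟨p, rfl⟩ := hψ x
    rw [AlgHom.comp_apply, hαψ]
    exact hβX p
  let ΦT : T₀ →ₐ[R] C := aeval (Sum.elim v fun i => gC ((1 : Rₛ) ⊗ₜ[R] xA i))
  have hΦY : ∀ p, ΦT (inY p) = Φ₀ p := fun p =>
    AlgHom.congr_fun (show ΦT.comp inY = Φ₀ from MvPolynomial.algHom_ext fun i => by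
      rw [AlgHom.comp_apply, hinYX]
      exact (aeval_X _ (Sum.inl i)).trans (aeval_X v i).symm) p
  -- elements vanishing over the localization
  let L₀ : Ideal T₀ := Ideal.span (Set.range lead)
  have hred : ∀ z : T₀, ∃ s₁ ∈ S, ∃ q : MvPolynomial ι R, MvPolynomial.C s₁ * z - inY q ∈ L₀ := fun z => by
    induction z using MvPolynomial.induction_on with
    | C a => exact ⟨1, S.one_mem, MvPolynomial.C a, by rw [map_one, one_mul, hinYC, sub_self]; exact zero_mem _⟩
    | add a b ha hb =>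
      obtain ⟨s₁, hs₁, q₁, h₁⟩ := ha
      obtain ⟨s₂, hs₂, q₂, h₂⟩ := hb
      refine ⟨s₁ * s₂, S.mul_mem hs₁ hs₂, MvPolynomial.C s₂ * q₁ + MvPolynomial.C s₁ * q₂, ?_⟩
      have hh := add_mem (Ideal.mul_mem_left L₀ (MvPolynomial.C s₂) h₁) (Ideal.mul_mem_left L₀ (MvPolynomial.C s₁) h₂)
      refine (congrArg (· ∈ L₀) ?_).mp hh
      simp only [map_add, map_mul, hinYC]
      ring
    | mul_X a j ha =>
      obtain ⟨s₁, hs₁, q₁, h₁⟩ := ha
      rcases j with j | i
      · refine ⟨s₁, hs₁, q₁ * X j, (congrArg (· ∈ L₀) ?_).mp (Ideal.mul_mem_right (X (Sum.inl j)) L₀ h₁)⟩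
        simp only [map_mul, hinYX]
        ring
      · refine ⟨s₁ * σ₁ i, S.mul_mem hs₁ (hσS i), q₁ * Pp i, ?_⟩
        have hl : MvPolynomial.C (σ₁ i) * X (Sum.inr i) - inY (Pp i) ∈ L₀ := Ideal.subset_span ⟨Sum.inr i, rfl⟩
        have hh := add_mem (Ideal.mul_mem_right (MvPolynomial.C (σ₁ i) * X (Sum.inr i)) L₀ h₁)
          (Ideal.mul_mem_left L₀ (inY q₁) hl)
        refine (congrArg (· ∈ L₀) ?_).mp hh
        simp only [map_mul]
        ring
  have hΦlead : L₀ ≤ RingHom.ker ΦT.toRingHom := Ideal.span_le.2 (by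
    rintro _ ⟨k | i, rfl⟩
    · show ΦT (inY (G k)) = 0
      rw [hΦY, hΦ₀, hGmap, map_mul, hΦθ, P.aeval_val_relation, mul_zero]
    · show ΦT (MvPolynomial.C (σ₁ i) * X (Sum.inr i) - inY (Pp i)) = 0
      rw [map_sub, map_mul, hΦY, show ΦT (MvPolynomial.C (σ₁ i)) = algebraMap R C (σ₁ i) from aeval_C _ _,
        show ΦT (X (Sum.inr i)) = gC ((1 : Rₛ) ⊗ₜ[R] xA i) from aeval_X _ _, hσC, sub_self])
  have hkill : ∀ z : T₀, ΦT z = 0 → ∃ s₁ ∈ S, MvPolynomial.C s₁ * z ∈ L₀ := fun z hz => by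
    obtain ⟨s₁, hs₁, q, hq⟩ := hred z
    have hq0 : Φ₀ q = 0 := by
      have h1 : ΦT (MvPolynomial.C s₁ * z - inY q) = 0 := hΦlead hq
      rw [map_sub, map_mul, hz, mul_zero, hΦY, zero_sub, neg_eq_zero] at h1
      exact h1
    obtain ⟨s₂, hs₂, hs₂q⟩ := hGker q hq0
    refine ⟨s₂ * s₁, S.mul_mem hs₂ hs₁, ?_⟩
    have h2 : inY (MvPolynomial.C s₂ * q) ∈ L₀ :=
      (show Ideal.span (Set.range G) ≤ L₀.comap inY.toRingHom from Ideal.span_le.2 (by
        rintro _ ⟨k, rfl⟩; exact Ideal.subset_span ⟨Sum.inl k, rfl⟩)) hs₂q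
    have hh := add_mem (Ideal.mul_mem_left L₀ (MvPolynomial.C s₂) hq) h2
    refine (congrArg (· ∈ L₀) ?_).mp hh
    simp only [map_mul, hinYC]
    ring
  -- the minor
  let colsJ : σ ⊕ Fin m ↪ J := ⟨Sum.map P.map id, P.map_inj.sumMap Function.injective_id⟩
  let M : Matrix (σ ⊕ Fin m) (σ ⊕ Fin m) T₀ := Matrix.of fun j k => pderiv (colsJ k) (lead j)
  have hunit : IsUnit (ΦT M.det) := by
    have hM : M.map ΦT = Matrix.fromBlocks
        (Matrix.of fun k l => algebraMap Rₛ C (algebraMap R Rₛ (t k) * ↑u⁻¹) *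
          aeval P.val (pderiv (P.map l) (P.relation k))) 0
        (Matrix.of fun (i : Fin m) (l : σ) => ΦT (pderiv (Sum.inl (P.map l)) (lead (Sum.inr i))))
        (Matrix.diagonal fun i => algebraMap R C (σ₁ i)) := by
      ext (k | i) (l | i') <;> simp only [Matrix.fromBlocks_apply₁₁, Matrix.fromBlocks_apply₁₂,
        Matrix.fromBlocks_apply₂₁, Matrix.fromBlocks_apply₂₂, Matrix.of_apply, Matrix.map_apply, Matrix.zero_apply, M]
      · show ΦT (pderiv (Sum.inl (P.map l)) (inY (G k))) = _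
        rw [pderiv_rename Sum.inl_injective, hΦY, hΦ₀, ← MvPolynomial.pderiv_map, hGmap, pderiv_C_mul,
          show pderiv (P.map l) (θ (P.relation k)) = MvPolynomial.C (↑u⁻¹ : Rₛ) * θ (pderiv (P.map l) (P.relation k))
            from pderiv_aeval_scale _ _ _, map_mul, map_mul, hΦθ,
          show Φ (MvPolynomial.C (↑u⁻¹ : Rₛ)) = algebraMap Rₛ C ↑u⁻¹ from aeval_C _ _,
          show Φ (MvPolynomial.C (algebraMap R Rₛ (t k))) = algebraMap Rₛ C (algebraMap R Rₛ (t k)) from aeval_C _ _,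
          map_mul, mul_assoc]
      · show ΦT (pderiv (Sum.inr i') (inY (G k))) = 0
        rw [show pderiv (Sum.inr i' : J) (inY (G k)) = 0 from pderiv_eq_zero_of_notMem_vars fun hmem => by
          have := MvPolynomial.vars_rename Sum.inl (G k) hmem
          simp at this, map_zero]
      · rfl
      · show ΦT (pderiv (Sum.inr i') (MvPolynomial.C (σ₁ i) * X (Sum.inr i) - inY (Pp i))) = _
        rw [map_sub, pderiv_C_mul, pderiv_X,
          show pderiv (Sum.inr i' : J) (inY (Pp i)) = 0 from pderiv_eq_zero_of_notMem_vars fun hmem => by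
            have := MvPolynomial.vars_rename Sum.inl (Pp i) hmem
            simp at this,
          sub_zero, map_mul, show ΦT (MvPolynomial.C (σ₁ i)) = algebraMap R C (σ₁ i) from aeval_C _ _,
          Matrix.diagonal_apply]
        by_cases hii : i = i'
        · subst hii; rw [if_pos rfl, Pi.single_eq_same, map_one, mul_one]
        · rw [if_neg hii, Pi.single_eq_of_ne (fun e => hii (Sum.inr_injective e)), map_zero, mul_zero]
    rw [AlgHom.map_det, show ΦT.mapMatrix M = M.map ΦT from rfl, hM, Matrix.det_fromBlocks_zero₁₂, Matrix.det_diagonal]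
    refine IsUnit.mul ?_ ?_
    · rw [Matrix.det_mul_column]
      refine IsUnit.mul ?_ ?_
      · rw [IsUnit.prod_iff]
        exact fun k _ => (((IsLocalization.map_units Rₛ (⟨t k, htS k⟩ : S))).mul (Units.isUnit _)).map _
      · have hj := P.jacobian_isUnit
        rw [Algebra.PreSubmersivePresentation.jacobian_eq_jacobiMatrix_det] at hj
        rw [← Matrix.det_transpose]
        refine (congrArg IsUnit ?_).mp hj
        rw [RingHom.map_det]
        congr 1
        ext l k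
        show algebraMap P.Ring C (P.jacobiMatrix l k) = _
        rw [Algebra.PreSubmersivePresentation.jacobiMatrix_apply, Algebra.Generators.algebraMap_apply]
        rfl
    · rw [IsUnit.prod_iff]
      intro i _
      rw [IsScalarTower.algebraMap_apply R Rₛ C]
      exact (IsLocalization.map_units Rₛ (⟨σ₁ i, hσS i⟩ : S)).map _
  obtain ⟨z, s₀, hs₀, hz⟩ : ∃ z : T₀, ∃ s₀ ∈ S, ΦT (z * M.det - MvPolynomial.C s₀) = 0 := by
    obtain ⟨w, hw⟩ := hunit
    obtain ⟨⟨q, ⟨_, s₀, hs₀, rfl⟩⟩, hq⟩ :=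
      IsLocalization.surj (S.map (MvPolynomial.C : R →+* MvPolynomial ι R)) (θ (P.σ ↑w⁻¹))
    refine ⟨inY q, s₀, hs₀, ?_⟩
    have h1 : Φ₀ q = (↑w⁻¹ : C) * algebraMap R C s₀ := by
      rw [hΦ₀, show mapS q = θ (P.σ ↑w⁻¹) * algebraMap (MvPolynomial ι R) (MvPolynomial ι Rₛ) (MvPolynomial.C s₀) from
        hq.symm, map_mul, hΦθ, P.aeval_val_σ]
      refine congrArg (_ * ·) ?_
      show Φ (MvPolynomial.map (algebraMap R Rₛ) (MvPolynomial.C s₀)) = _
      rw [map_C, aeval_C, ← IsScalarTower.algebraMap_apply]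
    rw [map_sub, map_mul, hΦY, h1, ← hw, show ΦT (MvPolynomial.C s₀) = algebraMap R C s₀ from aeval_C _ _,
      mul_right_comm, Units.inv_mul, one_mul, sub_self]
  obtain ⟨s₁, hs₁, hs₁z⟩ := hkill _ hz
  have hTail : ∀ f : T, ∃ s₂ ∈ S, MvPolynomial.C s₂ * tail f ∈ L₀ := fun f => hkill _ (by
    have h1 : ΦT.comp inX =
        ((gC.restrictScalars R).comp Algebra.TensorProduct.includeRight).comp ψ :=
      MvPolynomial.algHom_ext fun i => by
        rw [AlgHom.comp_apply, AlgHom.comp_apply, hinXX]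
        exact aeval_X _ (Sum.inr i)
    refine (AlgHom.congr_fun h1 f.1).trans ?_
    rw [AlgHom.comp_apply, hTzero, map_zero])
  choose s₂ hs₂ hs₂f using hTail
  let sT := ∏ f, s₂ f
  refine ⟨s₁ * s₀ * sT, S.mul_mem (S.mul_mem hs₁ hs₀) (Submonoid.prod_mem S fun f _ => hs₂ f),
    isElementaryStandard_of_data (Ideal.Quotient.mkₐ R I₀) Ideal.Quotient.mk_surjective lead tail (Ideal.mk_ker (I := I₀)) colsJ _
      (Ideal.Quotient.mk I₀ (MvPolynomial.C (sT * s₁) * z)) ?_ fun a₁ ha₁ f => ?_⟩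
  · show Ideal.Quotient.mk I₀ (MvPolynomial.C (s₁ * s₀ * sT)) = Ideal.Quotient.mk I₀ _ * Ideal.Quotient.mk I₀ M.det
    rw [← map_mul, Ideal.Quotient.eq]
    have hle : L₀ ≤ I₀ := Ideal.span_mono (by rintro _ ⟨j, rfl⟩; exact ⟨Sum.inl j, rfl⟩)
    have hh := Ideal.mul_mem_left I₀ (-MvPolynomial.C sT) (hle hs₁z)
    refine (congrArg (· ∈ I₀) ?_).mp hh
    simp only [map_mul]
    ring
  · have hdiff : a₁ - MvPolynomial.C (s₁ * s₀ * sT) ∈ I₀ := by
      rw [← Ideal.Quotient.eq]; exact ha₁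
    rw [show a₁ * tail f = MvPolynomial.C (s₁ * s₀ * sT) * tail f + (a₁ - MvPolynomial.C (s₁ * s₀ * sT)) * tail f by ring]
    refine Submodule.add_mem _ (Ideal.mem_sup_left ?_) (Ideal.mem_sup_right ?_)
    · have hh := Ideal.mul_mem_left L₀ (MvPolynomial.C (s₁ * s₀ * ∏ f' ∈ Finset.univ.erase f, s₂ f')) (hs₂f f)
      refine (congrArg (· ∈ L₀) ?_).mp hh
      rw [← mul_assoc, ← map_mul, mul_assoc (s₁ * s₀), Finset.prod_erase_mul _ _ (Finset.mem_univ f)]
    · rw [sq]
      exact Ideal.mul_mem_mul hdiff (Ideal.subset_span ⟨Sum.inr f, rfl⟩)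

end TransLib
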