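import Groth.Agent.TransLib.LiftLemmaMain

/-!
# Desingularization through a lifting
-/

set_option autoImplicit false

universe u

namespace TransLib

theorem mul_eq_zero_of_pow {M : Type u} [CommRing M] {p : M} (h : ∀ x : M, p ^ 2 * x = 0 → p * x = 0) :
    ∀ (k : ℕ) (x : M), p ^ (k + 1) * x = 0 → p * x = 0
  | 0, x, hx => by simpa using hx
  | k + 1, x, hx => by
    refine mul_eq_zero_of_pow h k x ?_
    have := h (p ^ k * x) (by rw [← mul_assoc, ← pow_add, show 2 + k = k + 1 + 1 by ring]; exact hx)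
    rwa [← mul_assoc, ← pow_succ'] at this

theorem exists_mem_singularIdeal_notMem {R D : Type u} [CommRing R] [CommRing D] [Algebra R D]
    [Algebra.FinitePresentation R D] (P : Ideal D) [P.IsPrime] (hP : Algebra.IsSmoothAt R P) :
    ∃ e ∈ Smoothing.singularIdeal R D, e ∉ P := by
  by_contra h
  push Not at h
  have h1 : (⟨P, inferInstance⟩ : PrimeSpectrum D) ∈
      PrimeSpectrum.zeroLocus (PrimeSpectrum.vanishingIdeal (Algebra.smoothLocus R D)ᶜ : Set D) := h
  rw [PrimeSpectrum.zeroLocus_vanishingIdeal_eq_closure, Algebra.isOpen_smoothLocus.isClosed_compl.closure_eq] at h1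
  exact h1 hP

theorem desingularize_lifting_apply {R Λ A C : Type u} [CommRing R] [IsNoetherianRing R] [CommRing Λ]
    [Algebra R Λ] (π : R) (hR : ∀ r : R, π ^ 2 * r = 0 → π * r = 0)
    (hΛ : ∀ x : Λ, π ^ 2 • x = 0 → π • x = 0) [CommRing A] [Algebra R A]
    [Algebra.FinitePresentation R A] (φ : A →ₐ[R] Λ)
    (hπ : Smoothing.IsStrictlyStandard R A (algebraMap R A π))
    [CommRing C] [Algebra R C] [Algebra (R ⧸ Ideal.span {π ^ 8}) C] [IsScalarTower R (R ⧸ Ideal.span {π ^ 8}) C]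
    [Algebra.FinitePresentation (R ⧸ Ideal.span {π ^ 8}) C]
    (γ : A →ₐ[R] C) (g : C →ₐ[R] Λ ⧸ Ideal.span {algebraMap R Λ (π ^ 8)})
    (hfac : ∀ a : A, g (γ a) = Ideal.Quotient.mk (Ideal.span {algebraMap R Λ (π ^ 8)}) (φ a)) :
    ∃ (B : Type u) (_ : CommRing B) (_ : Algebra R B), Algebra.FinitePresentation R B ∧
      ∃ (α : A →ₐ[R] B) (β : B →ₐ[R] Λ), β.comp α = φ ∧
        (∀ (Q : Ideal B) [Q.IsPrime], algebraMap R B π ∉ Q → Algebra.IsSmoothAt R Q) ∧
        (Smoothing.singularIdeal (R ⧸ Ideal.span {π ^ 8}) C).map g ≤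
          ((Smoothing.singularIdeal R B).map β).radical.map (Ideal.Quotient.mk (Ideal.span {algebraMap R Λ (π ^ 8)})) := by
  classical
  have hΛ' : ∀ x : Λ, algebraMap R Λ π ^ 2 * x = 0 → algebraMap R Λ π * x = 0 := fun x hx => by
    rw [← map_pow, ← Algebra.smul_def] at hx
    rw [← Algebra.smul_def]; exact hΛ x hx
  have hR4 : ∀ r : R, (π ^ 4) ^ 2 * r = 0 → π ^ 4 * r = 0 := fun r hr => by
    rw [← pow_mul] at hr
    have := mul_eq_zero_of_pow hR 7 r hr
    rw [pow_succ π 3, mul_assoc, this, mul_zero]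
  have hΛ4 : ∀ x : Λ, (π ^ 4) ^ 2 • x = 0 → π ^ 4 • x = 0 := fun x hx => by
    rw [Algebra.smul_def, ← pow_mul, map_pow] at hx
    have := mul_eq_zero_of_pow hΛ' 7 x hx
    rw [Algebra.smul_def, map_pow, pow_succ (algebraMap R Λ π) 3, mul_assoc, this, mul_zero]
  have hspanR : Ideal.span {π ^ 8} = Ideal.span {(π ^ 4) ^ 2} := by rw [← pow_mul]
  have hspanΛ : Ideal.span {algebraMap R Λ (π ^ 8)} = Ideal.span {algebraMap R Λ ((π ^ 4) ^ 2)} := by rw [← pow_mul]
  letI : Algebra (R ⧸ Ideal.span {(π ^ 4) ^ 2}) C :=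
    ((algebraMap (R ⧸ Ideal.span {π ^ 8}) C).comp (Ideal.quotEquivOfEq hspanR.symm).toRingHom).toAlgebra
  have : IsScalarTower R (R ⧸ Ideal.span {(π ^ 4) ^ 2}) C := IsScalarTower.of_algebraMap_eq fun r => by
    rw [IsScalarTower.algebraMap_apply R (R ⧸ Ideal.span {π ^ 8}) C]
    exact congrArg (algebraMap (R ⧸ Ideal.span {π ^ 8}) C) (Ideal.quotEquivOfEq_mk _ r).symm
  letI : Algebra (R ⧸ Ideal.span {(π ^ 4) ^ 2}) (R ⧸ Ideal.span {π ^ 8}) :=
    (Ideal.quotEquivOfEq hspanR.symm).toRingHom.toAlgebra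
  have : IsScalarTower (R ⧸ Ideal.span {(π ^ 4) ^ 2}) (R ⧸ Ideal.span {π ^ 8}) C :=
    IsScalarTower.of_algebraMap_eq fun _ => rfl
  let ee : (R ⧸ Ideal.span {(π ^ 4) ^ 2}) ≃ₐ[R ⧸ Ideal.span {(π ^ 4) ^ 2}] (R ⧸ Ideal.span {π ^ 8}) :=
    AlgEquiv.ofRingEquiv (f := Ideal.quotEquivOfEq hspanR.symm) fun _ => rfl
  have : Algebra.FinitePresentation (R ⧸ Ideal.span {(π ^ 4) ^ 2}) (R ⧸ Ideal.span {π ^ 8}) :=
    Algebra.FinitePresentation.equiv ee
  have : Algebra.FinitePresentation (R ⧸ Ideal.span {(π ^ 4) ^ 2}) C :=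
    Algebra.FinitePresentation.trans _ (R ⧸ Ideal.span {π ^ 8}) C
  have : Algebra.FormallySmooth (R ⧸ Ideal.span {(π ^ 4) ^ 2}) (R ⧸ Ideal.span {π ^ 8}) :=
    Algebra.FormallySmooth.of_equiv ee
  let qe := Ideal.quotientEquivAlgOfEq R hspanΛ
  obtain ⟨D, _, _, hD, δ, ψC, hcompat, hsmπ, hsmQ⟩ :=
    lifting_lemma (π ^ 4) hR4 hΛ4 (qe.toAlgHom.comp g)
  have hψ : ∀ (a : A) (d : D), Ideal.Quotient.mk (Ideal.span {algebraMap R D (π ^ 4)}) d = (ψC.comp γ) a →
      δ d - φ a ∈ Ideal.span {algebraMap R Λ (π ^ 4)} := fun a d hd => by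
    refine hcompat (γ a) d (φ a) hd ?_
    show _ = qe (g (γ a))
    rw [hfac]
    exact (Ideal.quotientEquivAlgOfEq_mk R hspanΛ (φ a)).symm
  obtain ⟨B, _, _, _, _, hB, α, β, hαβ, hβδ, -, hsingB⟩ :=
    desingularize_strictly_standard π hR hΛ φ δ hπ (ψC.comp γ) hψ
  have hsmB : ∀ (Q : Ideal B) [Q.IsPrime], algebraMap R B π ∉ Q → Algebra.IsSmoothAt R Q := fun Q _ hQ => by
    have hP : algebraMap R D (π ^ 4) ∉ Q.comap (algebraMap D B) := fun h => hQ (by
      rw [Ideal.mem_comap, ← IsScalarTower.algebraMap_apply, map_pow] at h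
      exact ‹Q.IsPrime›.mem_of_pow_mem 4 h)
    obtain ⟨e, he, heP⟩ := exists_mem_singularIdeal_notMem _ (hsmπ _ hP)
    by_contra hns
    exact heP ((mem_singularIdeal_iff _).1 (hsingB (Ideal.mem_map_of_mem _ he)) Q hns)
  refine ⟨B, inferInstance, inferInstance, hB, α, β, hαβ, hsmB, Ideal.map_le_iff_le_comap.2 fun c hc => ?_⟩
  let J := ((Smoothing.singularIdeal R B).map β).radical
  have hπJ : algebraMap R Λ π ∈ J := by
    refine Ideal.le_radical ?_
    rw [← β.commutes]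
    refine Ideal.mem_map_of_mem _ ((mem_singularIdeal_iff _).2 fun Q _ hQ => ?_)
    by_contra h
    exact hQ (hsmB Q h)
  obtain ⟨l, hl⟩ := Ideal.Quotient.mk_surjective (g c)
  obtain ⟨d, hd⟩ := Ideal.Quotient.mk_surjective (ψC c)
  have hdsing : d ∈ Smoothing.singularIdeal R D := by
    rw [mem_singularIdeal_iff]
    intro P _ hP
    have hπP : algebraMap R D (π ^ 4) ∈ P := by
      by_contra h
      exact hP (hsmπ P h)
    let mkD := Ideal.Quotient.mk (Ideal.span {algebraMap R D (π ^ 4)})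
    have hker : RingHom.ker mkD ≤ P := by
      rw [Ideal.mk_ker, Ideal.span_singleton_le_iff_mem]; exact hπP
    let Pb := P.map mkD
    have hPb : Pb.IsPrime := Ideal.map_isPrime_of_surjective Ideal.Quotient.mk_surjective hker
    have hcomap : Pb.comap mkD = P := by
      rw [Ideal.comap_map_of_surjective mkD Ideal.Quotient.mk_surjective, ← RingHom.ker_eq_comap_bot,
        sup_eq_left.2 hker]
    have hcq : c ∈ Pb.comap ψC := by
      refine (mem_singularIdeal_iff c).1 hc _ fun hsm => hP ?_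
      have : Algebra.FormallySmooth (R ⧸ Ideal.span {π ^ 8}) (Localization.AtPrime (Pb.comap ψC)) := hsm
      have h1 : Algebra.IsSmoothAt (R ⧸ Ideal.span {(π ^ 4) ^ 2}) (Pb.comap ψC) :=
        Algebra.FormallySmooth.comp _ (R ⧸ Ideal.span {π ^ 8}) _
      have h2 := hsmQ Pb h1
      simp only [mkD] at hcomap
      convert h2 using 1
      exact hcomap.symm
    rw [← hcomap]
    show mkD d ∈ Pb
    rw [show mkD d = ψC c from hd]
    exact hcq
  have hδd : δ d ∈ J := by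
    refine Ideal.le_radical ?_
    rw [← hβδ]
    exact Ideal.mem_map_of_mem _ (hsingB (Ideal.mem_map_of_mem _ hdsing))
  have hdl := hcompat c d l hd (by
    show _ = qe (g c)
    rw [← hl]
    exact (Ideal.quotientEquivAlgOfEq_mk R hspanΛ l).symm)
  have hl' : l ∈ J := by
    have h4 : Ideal.span {algebraMap R Λ (π ^ 4)} ≤ J := by
      rw [Ideal.span_singleton_le_iff_mem, map_pow]
      exact Ideal.pow_mem_of_mem _ hπJ 4 (by norm_num)
    have h := sub_mem hδd (h4 hdl)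
    rwa [sub_sub_cancel] at h
  show g c ∈ J.map _
  rw [← hl]
  exact Ideal.mem_map_of_mem _ hl'

end TransLib
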