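import Groth.Agent.CommAlgDim.CM

/-!
# Parameters with an annihilator condition
-/

set_option autoImplicit false

universe u

open IsLocalRing RingTheory.Sequence

namespace TransLib

theorem exists_mul_regular_mod {Λ : Type u} [CommRing Λ] [IsNoetherianRing Λ] (q J : Ideal Λ) [q.IsPrime] (p : Λ)
    (hreg : ∀ c : Localization.AtPrime q,
      algebraMap Λ (Localization.AtPrime q) p * c ∈ J.map (algebraMap Λ (Localization.AtPrime q)) →
        c ∈ J.map (algebraMap Λ (Localization.AtPrime q))) :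
    ∃ s ∉ q, ∀ x : Λ, (s * p) ^ 2 * x ∈ J → s * p * x ∈ J := by
  classical
  let L := Localization.AtPrime q
  have hpow : ∀ (a : ℕ) (c : L), algebraMap Λ L p ^ a * c ∈ J.map (algebraMap Λ L) → c ∈ J.map (algebraMap Λ L) := by
    intro a
    induction a with
    | zero => intro c hc; simpa using hc
    | succ a ih => intro c hc; exact hreg c (ih _ (by rwa [← mul_assoc, ← pow_succ]))
  let K : Ideal Λ :=
    { carrier := {x | ∃ a : ℕ, p ^ a * x ∈ J}
      add_mem' := by
        rintro x y ⟨a, ha⟩ ⟨b, hb⟩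
        refine ⟨a + b, ?_⟩
        rw [mul_add, pow_add, show p ^ a * p ^ b * x = p ^ b * (p ^ a * x) by ring,
          show p ^ a * p ^ b * y = p ^ a * (p ^ b * y) by ring]
        exact add_mem (Ideal.mul_mem_left _ _ ha) (Ideal.mul_mem_left _ _ hb)
      zero_mem' := ⟨0, by simp⟩
      smul_mem' := by
        rintro c x ⟨a, ha⟩
        exact ⟨a, by rw [smul_eq_mul, mul_left_comm]; exact Ideal.mul_mem_left _ _ ha⟩ }
  obtain ⟨t, ht⟩ := IsNoetherian.noetherian K
  have hloc : ∀ x ∈ t, ∃ u ∉ q, u * x ∈ J := fun x hx => by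
    obtain ⟨a, ha⟩ : x ∈ K := ht ▸ Ideal.subset_span hx
    have h2 := Ideal.mem_map_of_mem (algebraMap Λ L) ha
    rw [map_mul, map_pow] at h2
    obtain ⟨u, hu, hux⟩ := (IsLocalization.algebraMap_mem_map_algebraMap_iff q.primeCompl L J x).1 (hpow a _ h2)
    exact ⟨u, hu, hux⟩
  choose u hu hux using hloc
  let s₀ := ∏ x : t, u x.1 x.2
  have hs₀ : s₀ ∉ q := fun h => by
    obtain ⟨x, -, hx⟩ := (‹q.IsPrime›.prod_mem_iff (s := Finset.univ)).1 h
    exact hu x.1 x.2 hx
  have hK : ∀ x ∈ K, s₀ * x ∈ J := fun x hx => by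
    rw [← ht] at hx
    induction hx using Submodule.span_induction with
    | mem y hy =>
      rw [show s₀ = (∏ x ∈ (Finset.univ : Finset t).erase ⟨y, hy⟩, u x.1 x.2) * u y hy from
        (Finset.prod_erase_mul Finset.univ (fun x : t => u x.1 x.2) (Finset.mem_univ _)).symm, mul_assoc]
      exact Ideal.mul_mem_left _ _ (hux y hy)
    | zero => rw [mul_zero]; exact zero_mem _
    | add y z _ _ hy hz => rw [mul_add]; exact add_mem hy hz
    | smul c y _ hy => rw [smul_eq_mul, mul_left_comm]; exact Ideal.mul_mem_left _ _ hy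
  let K' : ℕ →o Ideal Λ :=
    { toFun := fun a => Submodule.comap (LinearMap.mulLeft Λ (s₀ ^ a)) J
      monotone' := fun a b hab x hx => by
        show s₀ ^ b * x ∈ J
        rw [← Nat.sub_add_cancel hab, pow_add, mul_assoc]
        exact Ideal.mul_mem_left _ _ hx }
  obtain ⟨m, hm⟩ := monotone_stabilizes_iff_noetherian.2 ‹IsNoetherianRing Λ› K'
  refine ⟨s₀ ^ m, fun h => hs₀ (‹q.IsPrime›.mem_of_pow_mem m h), fun x hx => ?_⟩
  have h1 : s₀ ^ m * s₀ ^ m * x ∈ K := ⟨2, by
    rw [show p ^ 2 * (s₀ ^ m * s₀ ^ m * x) = (s₀ ^ m * p) ^ 2 * x by ring]; exact hx⟩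
  have h2 : x ∈ K' (m + m + 1) := by
    show s₀ ^ (m + m + 1) * x ∈ J
    rw [show s₀ ^ (m + m + 1) * x = s₀ * (s₀ ^ m * s₀ ^ m * x) by ring]
    exact hK _ h1
  rw [← hm _ (by omega)] at h2
  rw [show s₀ ^ m * p * x = p * (s₀ ^ m * x) by ring]
  exact Ideal.mul_mem_left _ _ h2

theorem map_span_pow_eq {Λ L : Type u} [CommRing Λ] [CommRing L] (f : Λ →+* L) {d : ℕ} (π : Fin d → Λ) (e : ℕ) (i : Fin d) :
    (Ideal.span (Set.range fun j : {j : Fin d // (j : ℕ) < (i : ℕ)} => π j ^ e)).map f =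
      Ideal.ofList ((List.ofFn fun j => f (π j) ^ e).take i) := by
  rw [Ideal.map_span, ← Set.range_comp, Ideal.ofList]
  congr 1
  ext r
  constructor
  · rintro ⟨⟨j, hj⟩, rfl⟩
    refine List.mem_take_iff_getElem.2 ⟨j, ?_, ?_⟩
    · rw [List.length_ofFn]; exact lt_min hj j.2
    · rw [List.getElem_ofFn]; exact (map_pow f _ _).symm
  · intro hr
    obtain ⟨j, hj, rfl⟩ := List.mem_take_iff_getElem.1 hr
    rw [List.length_ofFn] at hj
    refine ⟨⟨⟨j, hj.trans_le (min_le_right _ _)⟩, hj.trans_le (min_le_left _ _)⟩, ?_⟩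
    rw [List.getElem_ofFn]
    exact map_pow f _ _

theorem regular_mod_powers {L : Type u} [CommRing L] [IsRegularLocalRing L] {d : ℕ} (hd : ringKrullDim L = d)
    (x : Fin d → L) (hx : Ideal.span (Set.range x) = maximalIdeal L) (e : ℕ) (he : 0 < e) (i : Fin d) (c : L)
    (hc : x i * c ∈ Ideal.ofList ((List.ofFn fun j => x j ^ e).take i)) :
    c ∈ Ideal.ofList ((List.ofFn fun j => x j ^ e).take i) := by
  classical
  let rs := List.ofFn fun j => x j ^ e
  have hxm : ∀ j, x j ∈ maximalIdeal L := fun j => hx ▸ Ideal.subset_span ⟨j, rfl⟩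
  have hm : ∀ r ∈ rs, r ∈ maximalIdeal L := fun r hr => by
    obtain ⟨j, rfl⟩ := List.mem_ofFn.1 hr
    exact Ideal.pow_mem_of_mem _ (hxm j) e he
  have hzero : Ring.KrullDimLE 0 (L ⧸ Ideal.ofList rs) := by
    refine Ring.KrullDimLE.mk₀ fun P hP => ?_
    have hle : maximalIdeal L ≤ P.comap (Ideal.Quotient.mk _) := by
      rw [← hx]
      refine Ideal.span_le.2 ?_
      rintro _ ⟨j, rfl⟩
      refine (hP.comap _).mem_of_pow_mem e ?_
      show Ideal.Quotient.mk _ (x j ^ e) ∈ P
      rw [(Ideal.Quotient.eq_zero_iff_mem (I := Ideal.ofList rs)).2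
        (Ideal.subset_span (show x j ^ e ∈ rs from List.mem_ofFn.2 ⟨j, rfl⟩))]
      exact zero_mem _
    have hmax : (P.comap (Ideal.Quotient.mk (Ideal.ofList rs))).IsMaximal := by
      rw [← (maximalIdeal.isMaximal L).eq_of_le (Ideal.comap_ne_top _ hP.ne_top) hle]
      exact maximalIdeal.isMaximal L
    have h := (Ideal.map_eq_top_or_isMaximal_of_surjective (Ideal.Quotient.mk (Ideal.ofList rs))
      Ideal.Quotient.mk_surjective hmax)
    rw [Ideal.map_comap_of_surjective _ Ideal.Quotient.mk_surjective P] at h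
    exact h.resolve_left hP.ne_top
  have hdim : ringKrullDim (L ⧸ Ideal.ofList rs) + rs.length ≤ ringKrullDim L := by
    have h0 : ringKrullDim (L ⧸ Ideal.ofList rs) ≤ 0 := by
      have := Ring.krullDimLE_iff.1 hzero
      exact_mod_cast this
    refine (add_le_add_left h0 _).trans ?_
    rw [zero_add, hd, List.length_ofFn]
  have hreg := (CommAlgDim.isRegular_of_dim (CommAlgDim.isCM_of_isRegularLocalRing L) hm hdim).toIsWeaklyRegular.regular_mod_prev
    i (by rw [List.length_ofFn]; exact i.2)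
  rw [List.getElem_ofFn] at hreg
  have hI : (Ideal.ofList (rs.take i) • ⊤ : Submodule L L) = Ideal.ofList (rs.take i) := by
    rw [smul_eq_mul, Ideal.mul_top]
  have h1 : x i ^ e * c ∈ Ideal.ofList (rs.take i) := by
    rw [show x i ^ e = x i ^ (e - 1) * x i by rw [← pow_succ, Nat.sub_add_cancel he], mul_assoc]
    exact Ideal.mul_mem_left _ _ hc
  have h2 : x i ^ e • Submodule.Quotient.mk (p := (Ideal.ofList (rs.take i) • ⊤ : Submodule L L)) c =
      x i ^ e • 0 := by
    rw [smul_zero, ← Submodule.Quotient.mk_smul, Submodule.Quotient.mk_eq_zero, hI, smul_eq_mul]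
    exact h1
  have h3 := hreg h2
  rw [Submodule.Quotient.mk_eq_zero, hI] at h3
  exact h3

theorem exists_parameters_pow_mem {Λ : Type u} [CommRing Λ] [IsNoetherianRing Λ] (I q : Ideal Λ)
    [q.IsPrime] (n e d : ℕ) (hn : 0 < n) (he : 0 < e)
    (hpow : (q ^ n).map (algebraMap Λ (Localization.AtPrime q)) ≤ I.map (algebraMap Λ (Localization.AtPrime q)))
    [IsRegularLocalRing (Localization.AtPrime q)] (hd : ringKrullDim (Localization.AtPrime q) = d) :
    ∃ (π : Fin d → Λ),
      Ideal.span (Set.range fun i => algebraMap Λ (Localization.AtPrime q) (π i)) =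
        q.map (algebraMap Λ (Localization.AtPrime q)) ∧
      (∀ i, π i ^ n ∈ I) ∧
      ∀ i : Fin d, ∀ x : Λ ⧸ Ideal.span (Set.range fun j : {j : Fin d // (j : ℕ) < (i : ℕ)} => π j ^ e),
        Ideal.Quotient.mk _ (π i) ^ 2 * x = 0 → Ideal.Quotient.mk _ (π i) * x = 0 := by
  classical
  let L := Localization.AtPrime q
  have hqm : q.map (algebraMap Λ L) = maximalIdeal L := Localization.AtPrime.map_eq_maximalIdeal
  obtain ⟨g, hg⟩ : ∃ g : Fin d → L, Ideal.span (Set.range g) = maximalIdeal L := by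
    have hrank : (maximalIdeal L).spanFinrank = d := by
      have := IsRegularLocalRing.spanFinrank_maximalIdeal (R := L)
      rw [hd] at this
      exact_mod_cast this
    obtain ⟨t, htc, ht⟩ := Submodule.FG.exists_span_finset_card_eq_spanFinrank (IsNoetherian.noetherian (maximalIdeal L))
    rw [hrank] at htc
    refine ⟨fun i => (t.equivFinOfCardEq htc).symm i, ?_⟩
    rw [← ht]
    congr 1
    ext x
    refine ⟨?_, fun hx => ⟨t.equivFinOfCardEq htc ⟨x, hx⟩, by simp⟩⟩
    rintro ⟨i, rfl⟩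
    exact ((t.equivFinOfCardEq htc).symm i).2
  choose a hag using fun i => IsLocalization.surj q.primeCompl (g i)
  have hunit : ∀ s : Λ, s ∉ q → IsUnit (algebraMap Λ L s) := fun s hs => IsLocalization.map_units L (⟨s, hs⟩ : q.primeCompl)
  have hspan₀ : Ideal.span (Set.range fun i => algebraMap Λ L (a i).1) = maximalIdeal L := by
    rw [← hg]
    refine le_antisymm (Ideal.span_le.2 ?_) (Ideal.span_le.2 ?_)
    · rintro _ ⟨i, rfl⟩
      show algebraMap Λ L (a i).1 ∈ _
      rw [← hag i]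
      exact Ideal.mul_mem_right _ _ (Ideal.subset_span ⟨i, rfl⟩)
    · rintro _ ⟨i, rfl⟩
      refine (Ideal.mul_unit_mem_iff_mem _ (IsLocalization.map_units L (a i).2)).1 ?_
      rw [hag i]
      exact Ideal.subset_span ⟨i, rfl⟩
  have ha : ∀ i, (a i).1 ∈ q := fun i => by
    have h : algebraMap Λ L (a i).1 ∈ maximalIdeal L := hspan₀ ▸ Ideal.subset_span ⟨i, rfl⟩
    exact (IsLocalization.AtPrime.to_map_mem_maximal_iff L q _).1 h
  have ht : ∀ i, ∃ t ∉ q, t * (a i).1 ^ n ∈ I := fun i => by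
    obtain ⟨t, ht, htI⟩ := (IsLocalization.algebraMap_mem_map_algebraMap_iff q.primeCompl L I _).1
      (hpow (Ideal.mem_map_of_mem _ (Ideal.pow_mem_pow (ha i) n)))
    exact ⟨t, ht, htI⟩
  choose t htq htI using ht
  have hmain : ∀ k : ℕ, ∃ u : Fin d → Λ, (∀ i, u i ∉ q) ∧ (∀ i, (u i * (a i).1) ^ n ∈ I) ∧
      ∀ i : Fin d, (i : ℕ) < k → ∀ x : Λ,
        (u i * (a i).1) ^ 2 * x ∈ Ideal.span (Set.range fun j : {j : Fin d // (j : ℕ) < (i : ℕ)} => (u j * (a j).1) ^ e) →
        u i * (a i).1 * x ∈ Ideal.span (Set.range fun j : {j : Fin d // (j : ℕ) < (i : ℕ)} => (u j * (a j).1) ^ e) := by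
    intro k
    induction k with
    | zero =>
      refine ⟨t, htq, fun i => ?_, fun i hi => absurd hi (Nat.not_lt_zero _)⟩
      rw [mul_pow, ← Nat.sub_add_cancel hn, pow_succ (t i), mul_assoc, Nat.sub_add_cancel hn]
      exact Ideal.mul_mem_left _ _ (htI i)
    | succ k ih =>
      obtain ⟨u, huq, huI, hu⟩ := ih
      by_cases hk : k < d
      swap
      · exact ⟨u, huq, huI, fun i _ => hu i (by omega)⟩
      let i₀ : Fin d := ⟨k, hk⟩
      let x : Fin d → L := fun i => algebraMap Λ L (u i * (a i).1)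
      have hx : Ideal.span (Set.range x) = maximalIdeal L := by
        rw [← hspan₀]
        refine le_antisymm (Ideal.span_le.2 ?_) (Ideal.span_le.2 ?_)
        · rintro _ ⟨i, rfl⟩
          show algebraMap Λ L (u i * (a i).1) ∈ _
          rw [map_mul]
          exact Ideal.mul_mem_left _ _ (Ideal.subset_span ⟨i, rfl⟩)
        · rintro _ ⟨i, rfl⟩
          refine (Ideal.unit_mul_mem_iff_mem _ (hunit _ (huq i))).1 ?_
          rw [← map_mul]
          exact Ideal.subset_span ⟨i, rfl⟩
      obtain ⟨s, hs, hsx⟩ := exists_mul_regular_mod q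
        (Ideal.span (Set.range fun j : {j : Fin d // (j : ℕ) < (i₀ : ℕ)} => (u j * (a j).1) ^ e))
        (u i₀ * (a i₀).1) (fun c hc => by
          rw [map_span_pow_eq (algebraMap Λ L) (fun j => u j * (a j).1) e i₀] at hc ⊢
          exact regular_mod_powers hd x hx e he i₀ c hc)
      refine ⟨Function.update u i₀ (s * u i₀), fun i => ?_, fun i => ?_, fun i hi y hy => ?_⟩
      · rcases eq_or_ne i i₀ with rfl | hne
        · rw [Function.update_self]
          exact fun h => (‹q.IsPrime›.mem_or_mem h).elim hs (huq _)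
        · rw [Function.update_of_ne hne]; exact huq i
      · rcases eq_or_ne i i₀ with rfl | hne
        · rw [Function.update_self, mul_assoc, mul_pow]; exact Ideal.mul_mem_left _ _ (huI _)
        · rw [Function.update_of_ne hne]; exact huI i
      · have heq : (fun j : {j : Fin d // (j : ℕ) < (i : ℕ)} => (Function.update u i₀ (s * u i₀) j * (a j).1) ^ e) =
            fun j : {j : Fin d // (j : ℕ) < (i : ℕ)} => (u j * (a j).1) ^ e := funext fun j => by
          rw [Function.update_of_ne]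
          intro h
          have := congrArg Fin.val h
          simp only [i₀] at this
          omega
        rw [heq] at hy ⊢
        rcases eq_or_ne i i₀ with rfl | hne
        · rw [Function.update_self, mul_assoc s] at hy ⊢
          exact hsx y hy
        · have hne' : (i : ℕ) ≠ k := fun h => hne (Fin.ext h)
          rw [Function.update_of_ne hne] at hy ⊢
          exact hu i (by omega) y hy
  obtain ⟨u, huq, huI, hu⟩ := hmain d
  refine ⟨fun i => u i * (a i).1, ?_, huI, fun i x hx => ?_⟩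
  · rw [hqm, ← hspan₀]
    refine le_antisymm (Ideal.span_le.2 ?_) (Ideal.span_le.2 ?_)
    · rintro _ ⟨i, rfl⟩
      show algebraMap Λ L (u i * (a i).1) ∈ _
      rw [map_mul]
      exact Ideal.mul_mem_left _ _ (Ideal.subset_span ⟨i, rfl⟩)
    · rintro _ ⟨i, rfl⟩
      refine (Ideal.unit_mul_mem_iff_mem _ (hunit _ (huq i))).1 ?_
      rw [← map_mul]
      exact Ideal.subset_span ⟨i, rfl⟩
  · obtain ⟨x, rfl⟩ := Ideal.Quotient.mk_surjective x
    rw [← map_pow, ← map_mul, Ideal.Quotient.eq_zero_iff_mem] at hx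
    rw [← map_mul, Ideal.Quotient.eq_zero_iff_mem]
    exact hu i i.2 x hx

theorem exists_parameters_with_annihilator_condition {Λ : Type u} [CommRing Λ] [IsNoetherianRing Λ] (I q : Ideal Λ)
    [q.IsPrime] (n e d : ℕ) (hn : 0 < n) (he : 0 < e)
    (hpow : (q ^ n).map (algebraMap Λ (Localization.AtPrime q)) ≤ I.map (algebraMap Λ (Localization.AtPrime q)))
    [IsRegularLocalRing (Localization.AtPrime q)] (hd : ringKrullDim (Localization.AtPrime q) = d) :
    ∃ (N : ℕ) (π : Fin d → Λ), 0 < N ∧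
      Ideal.span (Set.range fun i => algebraMap Λ (Localization.AtPrime q) (π i)) =
        q.map (algebraMap Λ (Localization.AtPrime q)) ∧
      (∀ i, π i ^ N ∈ I) ∧
      ∀ i : Fin d, ∀ x : Λ ⧸ Ideal.span (Set.range fun j : {j : Fin d // (j : ℕ) < (i : ℕ)} => π j ^ e),
        Ideal.Quotient.mk _ (π i) ^ 2 * x = 0 → Ideal.Quotient.mk _ (π i) * x = 0 := by
  obtain ⟨π, h1, h2, h3⟩ := exists_parameters_pow_mem I q n e d hn he hpow hd
  exact ⟨n, π, hn, h1, h2, h3⟩

end TransLib
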