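import Groth.Agent.TransLib.GeomFlat
import Groth.Agent.TransLib.ParamAnn
import Groth.Agent.CohenLib.FlatUnramified
import Groth.Prelude.Def_Smoothing

/-!
# Polynomial extensions at extended primes
-/

set_option autoImplicit false

universe u

open IsLocalRing Polynomial

namespace TransLib

/-- Elements outside the upper prime can be moved to elements outside the lower prime by retractions. -/
def Descends {k Λ Λ' : Type u} [CommRing k] [CommRing Λ] [Algebra k Λ] [CommRing Λ'] [Algebra k Λ']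
    (ι : Λ →ₐ[k] Λ') (q : Ideal Λ) (q' : Ideal Λ') : Prop :=
  ∀ e ∉ q', ∃ σ : Λ' →ₐ[k] Λ, σ.comp ι = AlgHom.id k Λ ∧ σ e ∉ q

theorem descends_id {k Λ : Type u} [CommRing k] [CommRing Λ] [Algebra k Λ] (q : Ideal Λ) :
    Descends (AlgHom.id k Λ) q q :=
  fun _ he => ⟨AlgHom.id k Λ, AlgHom.id_comp _, he⟩

theorem Descends.trans {k Λ Λ' Λ'' : Type u} [CommRing k] [CommRing Λ] [Algebra k Λ] [CommRing Λ'] [Algebra k Λ']
    [CommRing Λ''] [Algebra k Λ''] {ι : Λ →ₐ[k] Λ'} {ι' : Λ' →ₐ[k] Λ''} {q : Ideal Λ} {q' : Ideal Λ'}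
    {q'' : Ideal Λ''} (h : Descends ι q q') (h' : Descends ι' q' q'') : Descends (ι'.comp ι) q q'' := fun e he => by
  obtain ⟨σ', h1, h2⟩ := h' e he
  obtain ⟨σ, h3, h4⟩ := h _ h2
  refine ⟨σ.comp σ', ?_, h4⟩
  rw [AlgHom.comp_assoc, ← AlgHom.comp_assoc σ', h1, AlgHom.id_comp, h3]

/-- The inclusion of constants. -/
noncomputable def constHom (k Λ : Type u) [CommRing k] [CommRing Λ] [Algebra k Λ] : Λ →ₐ[k] Λ[X] :=
  { (C : Λ →+* Λ[X]) with commutes' := fun _ => rfl }

theorem constHom_apply (k : Type u) {Λ : Type u} [CommRing k] [CommRing Λ] [Algebra k Λ] (a : Λ) :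
    constHom k Λ a = C a := rfl

theorem comap_map_C {Λ : Type u} [CommRing Λ] (q : Ideal Λ) : (q.map C).comap C = q := by
  ext a
  rw [Ideal.mem_comap, Ideal.mem_map_C_iff]
  refine ⟨fun h => by simpa using h 0, fun h n => ?_⟩
  rw [coeff_C]
  split_ifs
  exacts [h, zero_mem _]

theorem X_notMem_map_C {Λ : Type u} [CommRing Λ] (q : Ideal Λ) [q.IsPrime] : (X : Λ[X]) ∉ q.map C := fun h => by
  have h1 := Ideal.mem_map_C_iff.1 h 1
  rw [coeff_X_one] at h1
  exact ‹q.IsPrime›.ne_top ((Ideal.eq_top_iff_one _).2 h1)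

theorem infinite_quotient_map_C {Λ : Type u} [CommRing Λ] (q : Ideal Λ) (h : Infinite (Λ ⧸ q)) :
    Infinite (Λ[X] ⧸ q.map C) :=
  Infinite.of_injective (Ideal.quotientMap (q.map C) C (comap_map_C q).ge)
    (Ideal.quotientMap_injective' (comap_map_C q).le)

theorem descends_constHom {k Λ : Type u} [CommRing k] [CommRing Λ] [Algebra k Λ] (q : Ideal Λ) [q.IsPrime]
    (hinf : Infinite (Λ ⧸ q)) : Descends (constHom k Λ) q (q.map C) := fun e he => by
  obtain ⟨z, hz⟩ : ∃ z : Λ ⧸ q, (e.map (Ideal.Quotient.mk q)).eval z ≠ 0 := by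
    by_contra h
    push Not at h
    refine he (Ideal.mem_map_C_iff.2 fun n => Ideal.Quotient.eq_zero_iff_mem.1 ?_)
    rw [← coeff_map, Polynomial.funext (p := e.map (Ideal.Quotient.mk q)) (q := 0) (fun r => by rw [h r, eval_zero]),
      coeff_zero]
  obtain ⟨z, rfl⟩ := Ideal.Quotient.mk_surjective z
  refine ⟨(aeval z : Λ[X] →ₐ[Λ] Λ).restrictScalars k, AlgHom.ext fun a => ?_, fun h => hz ?_⟩
  · show aeval z (C a) = a
    rw [aeval_C, Algebra.algebraMap_self, RingHom.id_apply]
  · rw [eval_map, eval₂_at_apply]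
    exact Ideal.Quotient.eq_zero_iff_mem.2 h

/-- Descending a resolution along retractions. -/
theorem resolvable_of_descends {k A Λ Λ' : Type u} [CommRing k] [CommRing A] [Algebra k A] [CommRing Λ] [Algebra k Λ]
    [CommRing Λ'] [Algebra k Λ'] (φ : A →ₐ[k] Λ) {ι : Λ →ₐ[k] Λ'} {q : Ideal Λ} {q' : Ideal Λ'}
    (hι : Descends ι q q') (h : Smoothing.Resolvable k (ι.comp φ) q') : Smoothing.Resolvable k φ q := by
  obtain ⟨B, _, _, hB, g, h', hgh, hle, hne⟩ := h
  obtain ⟨e, heS, he⟩ : ∃ e, e ∈ Smoothing.singRad k h' ∧ e ∉ q' := by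
    simpa [SetLike.le_def] using hne
  obtain ⟨σ, hσι, hσe⟩ := hι e he
  have hmap : (Smoothing.singRad k h').map σ ≤ Smoothing.singRad k (σ.comp h') := by
    refine (Ideal.map_radical_le σ.toRingHom).trans (Ideal.radical_mono (le_of_eq ?_))
    exact Ideal.map_map (f := h'.toRingHom) σ.toRingHom
  refine ⟨B, inferInstance, inferInstance, hB, g, σ.comp h', ?_, ?_, fun hle' => hσe (hle' (hmap (Ideal.mem_map_of_mem σ heS)))⟩
  · rw [AlgHom.comp_assoc, hgh, ← AlgHom.comp_assoc, hσι, AlgHom.id_comp]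
  · intro x hx
    have hx' : ι x ∈ Smoothing.singRad k (ι.comp φ) := by
      obtain ⟨n, hn⟩ := hx
      refine ⟨n, ?_⟩
      rw [← map_pow]
      have h1 := Ideal.mem_map_of_mem ι hn
      rwa [show ((Smoothing.singularIdeal k A).map φ).map ι = (Smoothing.singularIdeal k A).map (ι.comp φ) from
        Ideal.map_map (f := φ.toRingHom) ι.toRingHom] at h1
    have h2 := hmap (Ideal.mem_map_of_mem σ (hle hx'))
    rwa [show σ (ι x) = x from AlgHom.congr_fun hσι x] at h2

/-- The extended local ring. -/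
theorem regular_dim_map_C {Λ : Type u} [CommRing Λ] [IsNoetherianRing Λ] (q : Ideal Λ) [q.IsPrime]
    [IsRegularLocalRing (Localization.AtPrime q)] {d : ℕ} (hd : ringKrullDim (Localization.AtPrime q) = d) :
    IsRegularLocalRing (Localization.AtPrime (q.map (C : Λ →+* Λ[X]))) ∧
      ringKrullDim (Localization.AtPrime (q.map (C : Λ →+* Λ[X]))) = d ∧
      (maximalIdeal (Localization.AtPrime q)).map
        (Localization.localRingHom q (q.map (C : Λ →+* Λ[X])) C (comap_map_C q).symm) =
        maximalIdeal (Localization.AtPrime (q.map (C : Λ →+* Λ[X]))) := by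
  let L := Localization.AtPrime q
  let L' := Localization.AtPrime (q.map (C : Λ →+* Λ[X]))
  let f := Localization.localRingHom q (q.map (C : Λ →+* Λ[X])) C (comap_map_C q).symm
  have hflat : (C : Λ →+* Λ[X]).Flat := by
    rw [show (C : Λ →+* Λ[X]) = algebraMap Λ Λ[X] from rfl, RingHom.flat_algebraMap_iff]
    infer_instance
  letI : Algebra L L' := f.toAlgebra
  haveI : Module.Flat L L' := RingHom.Flat.localRingHom hflat (q.map (C : Λ →+* Λ[X])) q (comap_map_C q).symm
  haveI : IsNoetherianRing L' := IsLocalization.isNoetherianRing (q.map (C : Λ →+* Λ[X])).primeCompl L' inferInstance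
  have hm : (maximalIdeal L).map (algebraMap L L') = maximalIdeal L' := by
    rw [← Localization.AtPrime.map_eq_maximalIdeal, ← Localization.AtPrime.map_eq_maximalIdeal, Ideal.map_map,
      Ideal.map_map]
    congr 1
    exact RingHom.ext fun a => Localization.localRingHom_to_map q _ (C : Λ →+* Λ[X]) (comap_map_C q).symm a
  have hdim : ringKrullDim L' = d := (CohenLib.ringKrullDim_eq_of_flat_unramified L L' hm).trans hd
  refine ⟨IsRegularLocalRing.of_spanFinrank_maximalIdeal_le L' ?_, hdim, hm⟩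
  have h1 := IsRegularLocalRing.spanFinrank_maximalIdeal (R := L)
  rw [hd] at h1
  rw [hdim]
  have hfg : (maximalIdeal L).FG := IsNoetherian.noetherian _
  have h2 : maximalIdeal L' = Ideal.span (algebraMap L L' '' (maximalIdeal L).generators) := by
    rw [← Ideal.map_span, show Ideal.span (maximalIdeal L).generators = maximalIdeal L from
      Submodule.span_generators _, hm]
  have h3 : (maximalIdeal L').spanFinrank ≤ (maximalIdeal L).spanFinrank := by
    rw [h2]
    refine (Submodule.spanFinrank_span_le_ncard_of_finite ((Submodule.FG.finite_generators hfg).image _)).trans ?_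
    refine (Set.ncard_image_le (Submodule.FG.finite_generators hfg)).trans ?_
    rw [Submodule.FG.generators_ncard hfg]
  have h4 : (maximalIdeal L).spanFinrank = d := by exact_mod_cast h1
  exact_mod_cast h3.trans h4.le

/-- Generators of an extended prime, up to factors outside it. -/
theorem span_extend {Λ Λ' : Type u} [CommRing Λ] [CommRing Λ'] (f : Λ →+* Λ') (q : Ideal Λ) [q.IsPrime] (q' : Ideal Λ')
    [q'.IsPrime] (hcomap : q = q'.comap f) (hmap : q' = q.map f) {d : ℕ} (g : Fin d → Λ)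
    (hg : Ideal.span (Set.range fun j => algebraMap Λ (Localization.AtPrime q) (g j)) =
      maximalIdeal (Localization.AtPrime q))
    (g' : Fin d → Λ') (hg' : ∀ j, ∃ w ∉ q', g' j = w * f (g j)) :
    Ideal.span (Set.range fun j => algebraMap Λ' (Localization.AtPrime q') (g' j)) =
      maximalIdeal (Localization.AtPrime q') := by
  let L := Localization.AtPrime q
  let L' := Localization.AtPrime q'
  have h1 : maximalIdeal L' = (maximalIdeal L).map (Localization.localRingHom q q' f hcomap) := by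
    conv_lhs => rw [← Localization.AtPrime.map_eq_maximalIdeal (I := q')]
    rw [← Localization.AtPrime.map_eq_maximalIdeal, Ideal.map_map,
      show (Localization.localRingHom q q' f hcomap).comp (algebraMap Λ L) = (algebraMap Λ' L').comp f from
        RingHom.ext fun a => Localization.localRingHom_to_map q q' f hcomap a, ← Ideal.map_map, ← hmap]
  rw [h1, ← hg, Ideal.map_span, ← Set.range_comp]
  refine le_antisymm (Ideal.span_le.2 ?_) (Ideal.span_le.2 ?_)
  · rintro _ ⟨j, rfl⟩
    obtain ⟨w, -, hw⟩ := hg' j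
    show algebraMap Λ' L' (g' j) ∈ _
    rw [hw, map_mul]
    exact Ideal.mul_mem_left _ _ (Ideal.subset_span ⟨j, Localization.localRingHom_to_map q q' f hcomap (g j)⟩)
  · rintro _ ⟨j, rfl⟩
    obtain ⟨w, hwq, hw⟩ := hg' j
    show Localization.localRingHom q q' f hcomap (algebraMap Λ L (g j)) ∈ _
    rw [Localization.localRingHom_to_map]
    refine (Ideal.unit_mul_mem_iff_mem _ (IsLocalization.map_units L' (⟨w, hwq⟩ : q'.primeCompl))).1 ?_
    show algebraMap Λ' L' w * _ ∈ _
    rw [← map_mul, ← hw]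
    exact Ideal.subset_span ⟨j, rfl⟩

/-- The map `∑ c n s^n ↦ ∑ f (c n) (u X)^n`. -/
noncomputable def scaleHom {R Λ : Type u} [CommRing R] [CommRing Λ] (f : R →+* Λ) (u : Λ) : R[X] →+* Λ[X] :=
  eval₂RingHom ((C : Λ →+* Λ[X]).comp f) (C u * X)

theorem scaleHom_C {R Λ : Type u} [CommRing R] [CommRing Λ] (f : R →+* Λ) (u : Λ) (r : R) :
    scaleHom f u (C r) = C (f r) :=
  eval₂_C _ _

theorem scaleHom_X {R Λ : Type u} [CommRing R] [CommRing Λ] (f : R →+* Λ) (u : Λ) :
    scaleHom f u X = C u * X :=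
  eval₂_X _ _

theorem coeff_scaleHom {R Λ : Type u} [CommRing R] [CommRing Λ] (f : R →+* Λ) (u : Λ) (p : R[X]) (n : ℕ) :
    (scaleHom f u p).coeff n = f (p.coeff n) * u ^ n := by
  induction p using Polynomial.induction_on' with
  | add p q hp hq => rw [map_add, coeff_add, hp, hq, coeff_add, map_add, add_mul]
  | monomial m a =>
    rw [show scaleHom f u (monomial m a) = C (f a * u ^ m) * X ^ m by
      show eval₂ ((C : Λ →+* Λ[X]).comp f) (C u * X) (monomial m a) = _
      rw [eval₂_monomial, RingHom.comp_apply, mul_pow, ← C_pow, ← mul_assoc, ← C_mul], coeff_C_mul_X_pow, coeff_monomial]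
    split_ifs with h1 h2 h2 <;> simp_all

theorem comap_scaleHom {R Λ : Type u} [CommRing R] [CommRing Λ] (f : R →+* Λ) (q : Ideal Λ) [q.IsPrime] (u : Λ)
    (hu : u ∉ q) : (q.map C).comap (scaleHom f u) = (q.comap f).map C := by
  ext p
  rw [Ideal.mem_comap, Ideal.mem_map_C_iff, Ideal.mem_map_C_iff]
  refine forall_congr' fun n => ?_
  rw [coeff_scaleHom, Ideal.mem_comap]
  exact ⟨fun h => (‹q.IsPrime›.mem_or_mem h).resolve_right fun h' => hu (‹q.IsPrime›.mem_of_pow_mem n h'),
    fun h => Ideal.mul_mem_right _ _ h⟩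

theorem sq_cond_C {R : Type u} [CommRing R] (I : Ideal R) (a : R) (h : ∀ x, a ^ 2 * x ∈ I → a * x ∈ I) (x : R[X])
    (hx : C a ^ 2 * x ∈ I.map C) : C a * x ∈ I.map C := by
  rw [Ideal.mem_map_C_iff] at hx ⊢
  intro n
  rw [coeff_C_mul]
  refine h _ ?_
  have := hx n
  rwa [← C_pow, coeff_C_mul] at this

theorem sq_cond_X_mul_C {R : Type u} [CommRing R] (I : Ideal R) (a : R) (h : ∀ x, a ^ 2 * x ∈ I → a * x ∈ I)
    (x : R[X]) (hx : (X * C a) ^ 2 * x ∈ I.map C) : X * C a * x ∈ I.map C := by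
  have hx' : C a ^ 2 * x ∈ I.map C := by
    rw [Ideal.mem_map_C_iff] at hx ⊢
    intro n
    have := hx (n + 1 + 1)
    rwa [show (X * C a) ^ 2 * x = X * (X * (C a ^ 2 * x)) by ring, coeff_X_mul, coeff_X_mul] at this
  rw [mul_assoc]
  exact Ideal.mul_mem_left _ _ (sq_cond_C I a h x hx')

end TransLib
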