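import Groth.Agent.TransLib.Glue

/-!
# A smooth model from a resolved localized problem
-/

set_option autoImplicit false

universe u

open TensorProduct

namespace TransLib

theorem exists_clear_denominators {R Rₚ B : Type u} [CommRing R] [CommRing Rₚ] [Algebra R Rₚ] (M : Submonoid R)
    [IsLocalization M Rₚ] [CommRing B] [Algebra R B] [Algebra Rₚ B] [IsScalarTower R Rₚ B] {l : ℕ} (y : Fin l → B)
    (q : MvPolynomial (Fin l) Rₚ) : ∃ (s : R) (p : MvPolynomial (Fin l) R),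
      s ∈ M ∧ algebraMap R B s * MvPolynomial.aeval y q = MvPolynomial.aeval y p := by
  induction q using MvPolynomial.induction_on with
  | C c =>
    obtain ⟨⟨r, s⟩, hs⟩ := IsLocalization.surj M c
    refine ⟨s, MvPolynomial.C r, s.2, ?_⟩
    rw [MvPolynomial.aeval_C, MvPolynomial.aeval_C, IsScalarTower.algebraMap_apply R Rₚ B, ← map_mul, mul_comm, hs,
      ← IsScalarTower.algebraMap_apply]
  | add p q hp hq =>
    obtain ⟨s, p', hs, hp⟩ := hp
    obtain ⟨t, q', ht, hq⟩ := hq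
    refine ⟨s * t, MvPolynomial.C t * p' + MvPolynomial.C s * q', M.mul_mem hs ht, ?_⟩
    simp only [map_add, map_mul, MvPolynomial.aeval_C, ← hp, ← hq]
    ring
  | mul_X p j hp =>
    obtain ⟨s, p', hs, hp⟩ := hp
    refine ⟨s, p' * MvPolynomial.X j, hs, ?_⟩
    rw [map_mul, map_mul, MvPolynomial.aeval_X, MvPolynomial.aeval_X, ← mul_assoc, hp]

theorem exists_local_model {R A Λ Rₚ Λq : Type u} [CommRing R] [CommRing A]
    [Algebra R A] [CommRing Λ] [Algebra R Λ] (φ : A →ₐ[R] Λ) (𝔮 : Ideal Λ) [𝔮.IsPrime]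
    [CommRing Rₚ] [Algebra R Rₚ] [IsLocalization.AtPrime Rₚ (𝔮.comap (algebraMap R Λ))] [IsNoetherianRing Rₚ]
    [CommRing Λq] [Algebra Λ Λq] [IsLocalization.AtPrime Λq 𝔮] [Algebra R Λq] [IsScalarTower R Λ Λq]
    [Algebra Rₚ Λq] [IsScalarTower R Rₚ Λq]
    (hres : Smoothing.Resolvable Rₚ
      (Algebra.TensorProduct.lift (Algebra.ofId Rₚ Λq) ((IsScalarTower.toAlgHom R Λ Λq).comp φ)
        (fun _ _ => Commute.all _ _) : Rₚ ⊗[R] A →ₐ[Rₚ] Λq) (𝔮.map (algebraMap Λ Λq))) :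
    ∃ (B : Type u) (_ : CommRing B) (_ : Algebra R B), Algebra.FormallySmooth R B ∧
      ∃ (αB : A →ₐ[R] B) (χB : B →ₐ[R] Λq) (l : ℕ) (y : Fin l → B),
        (∀ x, χB (αB x) = algebraMap Λ Λq (φ x)) ∧
        ∀ b : B, ∃ (s : R) (p : MvPolynomial (Fin l) R), s ∉ 𝔮.comap (algebraMap R Λ) ∧
          algebraMap R B s * b = MvPolynomial.aeval y p := by
  classical
  have : IsLocalRing Λq := IsLocalization.AtPrime.isLocalRing Λq 𝔮
  obtain ⟨B', _, _, hB', g', h', hgh, -, hne⟩ := hres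
  have hmax : 𝔮.map (algebraMap Λ Λq) = IsLocalRing.maximalIdeal Λq := IsLocalization.AtPrime.map_eq_maximalIdeal 𝔮 Λq
  rw [hmax] at hne
  obtain ⟨e, he, heu⟩ : ∃ e ∈ Smoothing.singularIdeal Rₚ B', IsUnit (h' e) := by
    by_contra h
    push Not at h
    exact hne ((Ideal.IsPrime.radical_le_iff inferInstance).2
      (Ideal.map_le_iff_le_comap.2 fun e he => (IsLocalRing.mem_maximalIdeal _).2 (h e he)))
  let B := Localization.Away e
  have hsm : Algebra.Smooth Rₚ B := smooth_away_of_mem_singularIdeal he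
  let χ : B →ₐ[Rₚ] Λq := IsLocalization.liftAlgHom (M := Submonoid.powers e) (f := h') (by
    rintro ⟨_, i, rfl⟩
    show IsUnit (h' (e ^ i))
    rw [map_pow]; exact heu.pow i)
  letI : Algebra R B := ((algebraMap Rₚ B).comp (algebraMap R Rₚ)).toAlgebra
  haveI : IsScalarTower R Rₚ B := IsScalarTower.of_algebraMap_eq fun _ => rfl
  have : Algebra.FormallyEtale R Rₚ :=
    Algebra.FormallyEtale.of_isLocalization (𝔮.comap (algebraMap R Λ)).primeCompl
  have : Algebra.FormallySmooth R B := Algebra.FormallySmooth.comp R Rₚ B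
  let gB : Rₚ ⊗[R] A →ₐ[Rₚ] B := (IsScalarTower.toAlgHom Rₚ B' B).comp g'
  obtain ⟨l, ψ, hψ, -⟩ := hsm.finitePresentation.out
  refine ⟨B, inferInstance, inferInstance, inferInstance,
    (gB.restrictScalars R).comp Algebra.TensorProduct.includeRight, χ.restrictScalars R, l,
    fun i => ψ (MvPolynomial.X i), fun x => ?_, fun b => ?_⟩
  · show χ (algebraMap B' B (g' ((1 : Rₚ) ⊗ₜ[R] x))) = _
    rw [show χ (algebraMap B' B (g' ((1 : Rₚ) ⊗ₜ[R] x))) = h' (g' ((1 : Rₚ) ⊗ₜ[R] x)) from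
      IsLocalization.lift_eq _ _, ← AlgHom.comp_apply, hgh, Algebra.TensorProduct.lift_tmul, map_one, one_mul]
    rfl
  · obtain ⟨q, rfl⟩ := hψ b
    obtain ⟨s, p, hs, hsp⟩ := exists_clear_denominators (Rₚ := Rₚ) (𝔮.comap (algebraMap R Λ)).primeCompl
      (fun i => ψ (MvPolynomial.X i)) q
    refine ⟨s, p, hs, ?_⟩
    rwa [show MvPolynomial.aeval (fun i => ψ (MvPolynomial.X i)) q = ψ q from
      (AlgHom.congr_fun (MvPolynomial.aeval_unique ψ) q).symm] at hsp

theorem exists_mem_of_isSmoothAt {R C Λ : Type u} [CommRing R] [CommRing C] [Algebra R C]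
    [Algebra.FinitePresentation R C] [CommRing Λ] [Algebra R Λ] (h : C →ₐ[R] Λ) (r : Ideal Λ) [r.IsPrime]
    (hsm : Algebra.IsSmoothAt R (r.comap h)) : ¬ (Smoothing.singularIdeal R C).map h ≤ r := fun hle => by
  obtain ⟨e, he, her⟩ := exists_mem_singularIdeal_notMem _ hsm
  exact her (hle (Ideal.mem_map_of_mem _ he))

end TransLib
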