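import Groth.Prelude.Def_Smoothing
import Groth.Agent.TransLib.LiftSmooth

/-!
# Ind-smoothness along nilpotent flat deformations
-/

set_option autoImplicit false

universe u

open TensorProduct MvPolynomial

namespace TransLib

theorem exists_sum_of_mem_map {R B : Type u} [CommRing R] [CommRing B] [Algebra R B] (I : Ideal R) {x : B}
    (hx : x ∈ I.map (algebraMap R B)) :
    ∃ (n : ℕ) (a : Fin n → R) (l : Fin n → B), (∀ i, a i ∈ I) ∧ x = ∑ i, algebraMap R B (a i) * l i := by
  rw [Ideal.map, Ideal.span, Submodule.mem_span_set'] at hx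
  obtain ⟨n, f, g, hfg⟩ := hx
  choose a ha hag using fun i => (g i).2
  refine ⟨n, a, f, ha, hfg.symm.trans (Finset.sum_congr rfl fun i _ => ?_)⟩
  rw [smul_eq_mul, hag i, mul_comm]

theorem map_sq_eq_bot {R B : Type u} [CommRing R] [CommRing B] [Algebra R B] {I : Ideal R} (hI : I ^ 2 = ⊥) :
    (I.map (algebraMap R B)) ^ 2 = ⊥ := by
  rw [← Ideal.map_pow, hI, Ideal.map_bot]

theorem algebraMap_mul_eq_zero {R B : Type u} [CommRing R] [CommRing B] [Algebra R B] {I : Ideal R} (hI : I ^ 2 = ⊥)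
    {a : R} (ha : a ∈ I) {x : B} (hx : x ∈ I.map (algebraMap R B)) : algebraMap R B a * x = 0 := by
  have h : algebraMap R B a * x ∈ (I.map (algebraMap R B)) ^ 2 := by
    rw [sq]; exact Ideal.mul_mem_mul (Ideal.mem_map_of_mem _ ha) hx
  rwa [map_sq_eq_bot hI, Ideal.mem_bot] at h

/-- The ind-smoothness modulo an ideal, for algebras over the original ring. -/
theorem exists_smooth_factor_mod {R Λ : Type u} [CommRing R] [CommRing Λ] [Algebra R Λ] (I : Ideal R)
    (h : Smoothing.IndSmooth (R ⧸ I) (Λ ⧸ I.map (algebraMap R Λ))) {A : Type u} [CommRing A] [Algebra R A]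
    [Algebra.FinitePresentation R A] (f : A →ₐ[R] Λ ⧸ I.map (algebraMap R Λ)) :
    ∃ (C : Type u) (_ : CommRing C) (_ : Algebra R C), Algebra.Smooth R C ∧
      ∃ (g : A →ₐ[R] C ⧸ I.map (algebraMap R C)) (k : (C ⧸ I.map (algebraMap R C)) →ₐ[R] Λ ⧸ I.map (algebraMap R Λ)),
        k.comp g = f := by
  let Λ₀ := Λ ⧸ I.map (algebraMap R Λ)
  let f₀ : (R ⧸ I) ⊗[R] A →ₐ[R ⧸ I] Λ₀ :=
    Algebra.TensorProduct.lift (Algebra.ofId (R ⧸ I) Λ₀) f (fun _ _ => Commute.all _ _)
  obtain ⟨B, _, _, hB, g, k, hgk⟩ := h ((R ⧸ I) ⊗[R] A) inferInstance f₀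
  obtain ⟨C, _, _, hC, ⟨e⟩⟩ := exists_smooth_lift (A₀ := B) I
  let toC : (R ⧸ I) ⊗[R] A →ₐ[R ⧸ I] C ⧸ I.map (algebraMap R C) := e.symm.toAlgHom.comp g
  let ofC : (C ⧸ I.map (algebraMap R C)) →ₐ[R ⧸ I] Λ₀ := k.comp e.toAlgHom
  refine ⟨C, inferInstance, inferInstance, hC,
    (toC.restrictScalars R).comp Algebra.TensorProduct.includeRight, ofC.restrictScalars R, AlgHom.ext fun x => ?_⟩
  show k (e (e.symm (g ((1 : R ⧸ I) ⊗ₜ[R] x)))) = f x
  rw [e.apply_symm_apply]
  refine (AlgHom.congr_fun hgk _).trans ?_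
  show Algebra.TensorProduct.lift _ f _ ((1 : R ⧸ I) ⊗ₜ[R] x) = f x
  rw [Algebra.TensorProduct.lift_tmul, map_one, one_mul]

/-- First lifting step. -/
theorem lift_once {R Λ A : Type u} [CommRing R] [CommRing Λ] [Algebra R Λ] (I : Ideal R) (hI : I ^ 2 = ⊥)
    (h : Smoothing.IndSmooth (R ⧸ I) (Λ ⧸ I.map (algebraMap R Λ))) [CommRing A] [Algebra R A]
    [Algebra.FinitePresentation R A] (φ : A →ₐ[R] Λ) :
    ∃ (B : Type u) (_ : CommRing B) (_ : Algebra R B), Algebra.Smooth R B ∧
      ∃ J : Ideal B, J ≤ I.map (algebraMap R B) ∧ J.FG ∧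
        ∃ (g : A →ₐ[R] B ⧸ J) (k : (B ⧸ J) →ₐ[R] Λ), k.comp g = φ := by
  classical
  obtain ⟨C, _, _, hC, g₀, k₀, hgk⟩ := exists_smooth_factor_mod I h ((Ideal.Quotient.mkₐ R _).comp φ)
  have hnil : IsNilpotent (I.map (algebraMap R Λ)) := ⟨2, map_sq_eq_bot hI⟩
  let k : C →ₐ[R] Λ := Algebra.FormallySmooth.lift _ hnil (k₀.comp (Ideal.Quotient.mkₐ R _))
  have hk : ∀ c, Ideal.Quotient.mk (I.map (algebraMap R Λ)) (k c) = k₀ (Ideal.Quotient.mk _ c) := fun c =>
    Algebra.FormallySmooth.mk_lift _ hnil _ c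
  obtain ⟨n, ψ, hψ, t, ht⟩ := (inferInstance : Algebra.FinitePresentation R A).out
  choose c hc using fun i => Ideal.Quotient.mk_surjective (g₀ (ψ (X i)))
  have hmem : ∀ i, φ (ψ (X i)) - k (c i) ∈ I.map (algebraMap R Λ) := fun i => by
    rw [← Ideal.Quotient.eq, hk, hc]
    exact (AlgHom.congr_fun hgk _).symm
  choose d a l ha hal using fun i => exists_sum_of_mem_map I (hmem i)
  let σ := Σ i : Fin n, Fin (d i)
  let C' := MvPolynomial σ C
  have : Algebra.Smooth C C' := ⟨inferInstance, inferInstance⟩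
  have : Algebra.Smooth R C' := Algebra.Smooth.comp R C C'
  let w : Fin n → C' := fun i => MvPolynomial.C (c i) + ∑ j, algebraMap R C' (a i j) * X ⟨i, j⟩
  let k' : C' →ₐ[R] Λ := aevalTower k fun s => l s.1 s.2
  have hk' : ∀ i, k' (w i) = φ (ψ (X i)) := fun i => by
    show k' (MvPolynomial.C (c i) + _) = _
    rw [map_add, aevalTower_C, map_sum,
      Finset.sum_congr rfl fun j _ => show k' (algebraMap R C' (a i j) * X ⟨i, j⟩) = algebraMap R Λ (a i j) * l i j by
        rw [map_mul, AlgHom.commutes, aevalTower_X],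
      ← hal i, add_sub_cancel]
  have hk'w : ∀ p : MvPolynomial (Fin n) R, k' (aeval w p) = φ (ψ p) := fun p =>
    AlgHom.congr_fun (show k'.comp (aeval w) = φ.comp ψ from MvPolynomial.algHom_ext fun i => by
      rw [AlgHom.comp_apply, AlgHom.comp_apply, aeval_X, hk']) p
  let J : Ideal C' := Ideal.span ((t.image (aeval w : MvPolynomial (Fin n) R →ₐ[R] C') : Finset C') : Set C')
  have hJI : J ≤ I.map (algebraMap R C') := by
    refine Ideal.span_le.2 fun x hx => ?_
    obtain ⟨p, hp, rfl⟩ := Finset.mem_image.1 hx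
    let q := Ideal.Quotient.mkₐ R (I.map (algebraMap R C'))
    let inC : C →ₐ[R] C' := IsScalarTower.toAlgHom R C C'
    have h1 : q.comp (aeval w) = q.comp (inC.comp (aeval c)) := MvPolynomial.algHom_ext fun i => by
      simp only [AlgHom.comp_apply, aeval_X]
      show Ideal.Quotient.mk _ (w i) = Ideal.Quotient.mk _ (MvPolynomial.C (c i))
      rw [Ideal.Quotient.eq]
      show MvPolynomial.C (c i) + _ - _ ∈ _
      rw [add_sub_cancel_left]
      exact Submodule.sum_mem _ fun j _ => Ideal.mul_mem_right _ _ (Ideal.mem_map_of_mem _ (ha i j))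
    have h2 : aeval c p ∈ I.map (algebraMap R C) := by
      rw [← Ideal.Quotient.eq_zero_iff_mem]
      have h3 : (Ideal.Quotient.mkₐ R (I.map (algebraMap R C))).comp (aeval c) = g₀.comp ψ :=
        MvPolynomial.algHom_ext fun i => by
          rw [AlgHom.comp_apply, AlgHom.comp_apply, aeval_X]; exact hc i
      refine (AlgHom.congr_fun h3 p).trans ?_
      have hp0 : ψ p = 0 := (show p ∈ RingHom.ker ψ.toRingHom from ht ▸ Ideal.subset_span hp)
      rw [AlgHom.comp_apply, hp0, map_zero]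
    show aeval w p ∈ I.map (algebraMap R C')
    rw [← Ideal.Quotient.eq_zero_iff_mem]
    refine (AlgHom.congr_fun h1 p).trans ?_
    show Ideal.Quotient.mk _ (algebraMap C C' (aeval c p)) = 0
    rw [Ideal.Quotient.eq_zero_iff_mem, IsScalarTower.algebraMap_eq R C C', ← Ideal.map_map]
    exact Ideal.mem_map_of_mem _ h2
  have hker : RingHom.ker ψ.toRingHom ≤
      RingHom.ker ((Ideal.Quotient.mkₐ R J).comp (aeval w)).toRingHom := by
    rw [← ht]
    refine Ideal.span_le.2 fun p hp => ?_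
    exact Ideal.Quotient.eq_zero_iff_mem.2 (Ideal.subset_span (Finset.mem_image_of_mem _ hp))
  let g : A →ₐ[R] C' ⧸ J :=
    (Ideal.Quotient.liftₐ (RingHom.ker ψ.toRingHom) ((Ideal.Quotient.mkₐ R J).comp (aeval w)) hker).comp
      (Ideal.quotientKerAlgEquivOfSurjective hψ).symm.toAlgHom
  have hg : ∀ p, g (ψ p) = Ideal.Quotient.mk J (aeval w p) := fun p => by
    show Ideal.Quotient.liftₐ _ _ hker ((Ideal.quotientKerAlgEquivOfSurjective hψ).symm (ψ p)) = _
    rw [show (Ideal.quotientKerAlgEquivOfSurjective hψ).symm (ψ p) = Ideal.Quotient.mk _ p from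
      (Ideal.quotientKerAlgEquivOfSurjective hψ).symm_apply_eq.2
        (Ideal.quotientKerAlgEquivOfSurjective_mk hψ p).symm]
    rfl
  have hJk : J ≤ RingHom.ker k'.toRingHom := Ideal.span_le.2 fun x hx => by
    obtain ⟨p, hp, rfl⟩ := Finset.mem_image.1 hx
    show k' (aeval w p) = 0
    rw [hk'w, show ψ p = 0 from (show p ∈ RingHom.ker ψ.toRingHom from ht ▸ Ideal.subset_span hp), map_zero]
  refine ⟨C', inferInstance, inferInstance, inferInstance, J, hJI, ⟨_, rfl⟩, g, Ideal.Quotient.liftₐ J k' hJk,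
    AlgHom.ext fun x => ?_⟩
  obtain ⟨p, rfl⟩ := hψ x
  rw [AlgHom.comp_apply, hg]
  exact hk'w p

/-- Second lifting step. -/
theorem lift_twice {R Λ B : Type u} [CommRing R] [CommRing Λ] [Algebra R Λ] [Module.Flat R Λ]
    (I : Ideal R) (hI : I ^ 2 = ⊥) (h : Smoothing.IndSmooth (R ⧸ I) (Λ ⧸ I.map (algebraMap R Λ)))
    [CommRing B] [Algebra R B] [Algebra.Smooth R B] (φ : B →ₐ[R] Λ) (J : Ideal B)
    (hJ : J ≤ I.map (algebraMap R B)) (hJfg : J.FG) (hφJ : ∀ x ∈ J, φ x = 0) :
    ∃ (B' : Type u) (_ : CommRing B') (_ : Algebra R B'), Algebra.Smooth R B' ∧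
      ∃ (α : B →ₐ[R] B') (β : B' →ₐ[R] Λ), (∀ x ∈ J, α x = 0) ∧
        ∀ b : B, β (α b) - φ b ∈ I.map (algebraMap R Λ) := by
  classical
  obtain ⟨t, ht⟩ := hJfg
  let gen : t → B := Subtype.val
  have hgen : ∀ s : t, gen s ∈ I.map (algebraMap R B) := fun s => hJ (ht ▸ Ideal.subset_span s.2)
  choose d a b ha hab using fun s => exists_sum_of_mem_map I (hgen s)
  have hrel : ∀ s, ∑ i, a s i • φ (b s i) = 0 := fun s => by
    have h0 := hφJ (gen s) (ht ▸ Ideal.subset_span s.2)
    rw [hab s, map_sum] at h0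
    rw [← h0]
    exact Finset.sum_congr rfl fun i _ => by rw [Algebra.smul_def, map_mul, AlgHom.commutes]
  choose m r μ hμ hr using fun s => Module.Flat.isTrivialRelation_of_sum_smul_eq_zero (R := R) (M := Λ)
    (f := a s) (x := fun i => φ (b s i)) (hrel s)
  let σ := Σ s : t, Fin (m s)
  let P := MvPolynomial σ B
  let eqn : (Σ s : t, Fin (d s)) → P := fun p =>
    MvPolynomial.C (b p.1 p.2) - ∑ j, algebraMap R P (r p.1 p.2 j) * X ⟨p.1, j⟩
  let Q := P ⧸ Ideal.span (Set.range eqn)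
  have : Algebra.FinitePresentation R P := Algebra.FinitePresentation.trans R B P
  have : Algebra.FinitePresentation R Q :=
    Algebra.FinitePresentation.quotient (Submodule.fg_span (Set.finite_range eqn))
  let φP : P →ₐ[R] Λ := aevalTower φ fun s => μ s.1 s.2
  have hφP : Ideal.span (Set.range eqn) ≤ RingHom.ker φP.toRingHom := Ideal.span_le.2 (by
    rintro _ ⟨⟨s, i⟩, rfl⟩
    show φP (MvPolynomial.C (b s i) - _) = 0
    rw [map_sub, aevalTower_C, map_sum, show φ (b s i) = ∑ j, r s i j • μ s j from hμ s i, sub_eq_zero]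
    refine Finset.sum_congr rfl fun j _ => ?_
    rw [map_mul, AlgHom.commutes, aevalTower_X, Algebra.smul_def])
  obtain ⟨C, _, _, hC, g₀, k₀, hgk⟩ :=
    exists_smooth_factor_mod I h ((Ideal.Quotient.mkₐ R _).comp (Ideal.Quotient.liftₐ _ φP hφP))
  have hnilC : IsNilpotent (I.map (algebraMap R C)) := ⟨2, map_sq_eq_bot hI⟩
  have hnil : IsNilpotent (I.map (algebraMap R Λ)) := ⟨2, map_sq_eq_bot hI⟩
  let inB : B →ₐ[R] Q := (Ideal.Quotient.mkₐ R _).comp (IsScalarTower.toAlgHom R B P)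
  let α : B →ₐ[R] C := Algebra.FormallySmooth.lift _ hnilC (g₀.comp inB)
  let β : C →ₐ[R] Λ := Algebra.FormallySmooth.lift _ hnil (k₀.comp (Ideal.Quotient.mkₐ R _))
  have hα : ∀ x, Ideal.Quotient.mk (I.map (algebraMap R C)) (α x) = g₀ (inB x) := fun x =>
    Algebra.FormallySmooth.mk_lift _ hnilC _ x
  have hβ : ∀ x, Ideal.Quotient.mk (I.map (algebraMap R Λ)) (β x) = k₀ (Ideal.Quotient.mk _ x) := fun x =>
    Algebra.FormallySmooth.mk_lift _ hnil _ x
  refine ⟨C, inferInstance, inferInstance, hC, α, β, ?_, fun x => ?_⟩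
  · suffices hz : J ≤ RingHom.ker α.toRingHom from fun x hx => hz hx
    rw [← ht]
    refine Ideal.span_le.2 fun x hx => ?_
    show α x = 0
    let s : t := ⟨x, hx⟩
    choose y hy using fun j => Ideal.Quotient.mk_surjective (g₀ (Ideal.Quotient.mk _ (X (⟨s, j⟩ : σ))))
    have hdiff : ∀ i, α (b s i) - ∑ j, algebraMap R C (r s i j) * y j ∈ I.map (algebraMap R C) := fun i => by
      rw [← Ideal.Quotient.eq_zero_iff_mem, map_sub, hα, map_sum]
      have h0 : g₀ (Ideal.Quotient.mk _ (eqn ⟨s, i⟩)) = 0 := by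
        rw [(Ideal.Quotient.eq_zero_iff_mem (I := Ideal.span (Set.range eqn))).2
          (Ideal.subset_span (Set.mem_range_self (f := eqn) ⟨s, i⟩)), map_zero]
      rw [show eqn ⟨s, i⟩ = MvPolynomial.C (b s i) - ∑ j, algebraMap R P (r s i j) * X ⟨s, j⟩ from rfl,
        map_sub, map_sub, map_sum, map_sum] at h0
      refine Eq.trans ?_ h0
      refine congrArg₂ (· - ·) rfl (Finset.sum_congr rfl fun j _ => ?_)
      rw [map_mul, map_mul, map_mul, hy, Ideal.Quotient.mk_algebraMap, Ideal.Quotient.mk_algebraMap, AlgHom.commutes]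
    have h1 : ∀ i, algebraMap R C (a s i) * α (b s i) = ∑ j, algebraMap R C (a s i * r s i j) * y j := fun i => by
      rw [← sub_eq_zero, Finset.sum_congr rfl fun j _ => show algebraMap R C (a s i * r s i j) * y j =
          algebraMap R C (a s i) * (algebraMap R C (r s i j) * y j) by rw [map_mul, mul_assoc],
        ← Finset.mul_sum, ← mul_sub]
      exact algebraMap_mul_eq_zero hI (ha s i) (hdiff i)
    show α (gen s) = 0
    have h2 : ∀ i, α (algebraMap R B (a s i) * b s i) = ∑ j, algebraMap R C (a s i * r s i j) * y j := fun i => by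
      rw [map_mul, AlgHom.commutes, h1]
    rw [hab s, map_sum, Finset.sum_congr rfl fun i _ => h2 i, Finset.sum_comm]
    refine Finset.sum_eq_zero fun j _ => ?_
    rw [← Finset.sum_mul, ← map_sum, hr s j, map_zero, zero_mul]
  · rw [← Ideal.Quotient.eq, hβ, hα]
    refine (AlgHom.congr_fun hgk (inB x)).trans ?_
    show Ideal.Quotient.mk _ (φP (MvPolynomial.C x)) = _
    rw [aevalTower_C]

/-- Ind-smoothness deforms along square zero ideals. -/
theorem indSmooth_of_sq_zero {R Λ : Type u} [CommRing R] [CommRing Λ] [Algebra R Λ] (I : Ideal R) (hI : I ^ 2 = ⊥)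
    [Module.Flat R Λ] (h : Smoothing.IndSmooth (R ⧸ I) (Λ ⧸ I.map (algebraMap R Λ))) :
    Smoothing.IndSmooth R Λ := by
  classical
  intro A _ _ hA φ
  obtain ⟨B, _, _, hB, J, hJI, hJfg, g, k, hgk⟩ := lift_once I hI h φ
  let kB : B →ₐ[R] Λ := k.comp (Ideal.Quotient.mkₐ R J)
  obtain ⟨C, _, _, hC, α, β, hαJ, hβα⟩ := lift_twice I hI h kB J hJI hJfg
    (fun x hx => by show k (Ideal.Quotient.mk J x) = 0; rw [Ideal.Quotient.eq_zero_iff_mem.2 hx, map_zero])
  -- correct by a derivation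
  have hnilmem : ∀ {x y : Λ}, x ∈ I.map (algebraMap R Λ) → y ∈ I.map (algebraMap R Λ) → x * y = 0 := fun hx hy => by
    have h2 := Ideal.mul_mem_mul hx hy
    rwa [← sq, map_sq_eq_bot hI, Ideal.mem_bot] at h2
  let IL := I.map (algebraMap R Λ)
  letI : Algebra B Λ := kB.toRingHom.toAlgebra
  have : IsScalarTower R B Λ := IsScalarTower.of_algebraMap_eq fun x => (kB.commutes x).symm
  let θ₀ : B →ₗ[R] Λ := kB.toLinearMap - (β.comp α).toLinearMap
  have hθ₀ : ∀ x, θ₀ x ∈ IL := fun x => by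
    show kB x - β (α x) ∈ IL
    rw [← neg_sub]; exact neg_mem (hβα x)
  let D : Derivation R B Λ := Derivation.mk' θ₀ fun x y => by
    show kB (x * y) - β (α (x * y)) = kB x * (kB y - β (α y)) + kB y * (kB x - β (α x))
    rw [map_mul, map_mul, map_mul]
    have := hnilmem (hθ₀ x) (hθ₀ y)
    simp only [θ₀, LinearMap.sub_apply, AlgHom.toLinearMap_apply, AlgHom.comp_apply] at this
    linear_combination -this
  let θ : Ω[B⁄R] →ₗ[B] Λ := D.liftKaehlerDifferential
  obtain ⟨n, P, ξ, -, -, hPξ⟩ := Module.Finite.exists_comp_eq_id_of_projective B Ω[B⁄R]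
  have hθmem : ∀ ω, θ ω ∈ IL := fun ω => by
    have hω : ω ∈ Submodule.span B (Set.range (KaehlerDifferential.D R B)) := by
      rw [KaehlerDifferential.span_range_derivation]; trivial
    induction hω using Submodule.span_induction with
    | mem z hz =>
      obtain ⟨x, rfl⟩ := hz
      show D.liftKaehlerDifferential _ ∈ IL
      rw [Derivation.liftKaehlerDifferential_comp_D]
      exact hθ₀ x
    | zero => rw [map_zero]; exact zero_mem _
    | add z w _ _ hz hw => rw [map_add]; exact add_mem hz hw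
    | smul c z _ hz => rw [map_smul, Algebra.smul_def]; exact Ideal.mul_mem_left _ _ hz
  choose d a l ha hal using fun i => exists_sum_of_mem_map I (hθmem (P (Pi.single i 1)))
  let σ := Σ i : Fin n, Fin (d i)
  let C' := MvPolynomial σ C
  have : Algebra.Smooth C C' := ⟨inferInstance, inferInstance⟩
  have : Algebra.Smooth R C' := Algebra.Smooth.comp R C C'
  let inC : B →ₐ[R] C' := (IsScalarTower.toAlgHom R C C').comp α
  let z : Fin n → C' := fun i => ∑ j, algebraMap R C' (a i j) * X ⟨i, j⟩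
  have hz : ∀ i, z i ∈ I.map (algebraMap R C') := fun i =>
    Submodule.sum_mem _ fun j _ => Ideal.mul_mem_right _ _ (Ideal.mem_map_of_mem _ (ha i j))
  have hzz : ∀ i j, z i * z j = 0 := fun i j => by
    have h2 := Ideal.mul_mem_mul (hz i) (hz j)
    rwa [← sq, map_sq_eq_bot hI, Ideal.mem_bot] at h2
  letI : Algebra B C' := inC.toRingHom.toAlgebra
  have : IsScalarTower R B C' := IsScalarTower.of_algebraMap_eq fun x => (inC.commutes x).symm
  let Θ : Ω[B⁄R] →ₗ[B] C' := (Fintype.linearCombination B z).comp ξ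
  let E : Derivation R B C' := Θ.compDer (KaehlerDifferential.D R B)
  have hE : ∀ x y, E x * E y = 0 := fun x y => by
    show (∑ i, ξ _ i • z i) * (∑ i, ξ _ i • z i) = 0
    rw [Finset.sum_mul]
    refine Finset.sum_eq_zero fun i _ => ?_
    rw [Finset.mul_sum]
    refine Finset.sum_eq_zero fun j _ => ?_
    rw [smul_mul_smul_comm, hzz, smul_zero]
  let α' : B →ₐ[R] C' := AlgHom.ofLinearMap (inC.toLinearMap + E.toLinearMap)
    (by show inC 1 + E 1 = 1; rw [map_one, Derivation.map_one_eq_zero, add_zero])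
    (fun x y => by
      show inC (x * y) + E (x * y) = (inC x + E x) * (inC y + E y)
      rw [Derivation.leibniz, Algebra.smul_def, Algebra.smul_def, map_mul]
      show inC x * inC y + (inC x * E y + inC y * E x) = _
      linear_combination -(hE x y))
  let β' : C' →ₐ[R] Λ := aevalTower β fun s => l s.1 s.2
  have hβ'α' : ∀ x, β' (α' x) = kB x := fun x => by
    have hA1 : ∀ c, β' (inC c) = β (α c) := fun c => aevalTower_C _ _ _
    show β' (inC x + ∑ i, ξ (KaehlerDifferential.D R B x) i • z i) = kB x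
    rw [map_add, hA1, map_sum]
    have hterm : ∀ i, β' (ξ (KaehlerDifferential.D R B x) i • z i) =
        θ (ξ (KaehlerDifferential.D R B x) i • P (Pi.single i 1)) := fun i => by
      rw [map_smul θ, Algebra.smul_def, Algebra.smul_def]
      show β' (inC _ * z i) = kB _ * θ (P (Pi.single i 1))
      rw [map_mul, hA1, hal i, map_sum, Finset.sum_congr rfl fun j _ =>
        show β' (algebraMap R C' (a i j) * X ⟨i, j⟩) = algebraMap R Λ (a i j) * l i j by
          rw [map_mul, AlgHom.commutes, aevalTower_X]]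
      rw [← hal i, ← sub_eq_zero, ← sub_mul]
      exact hnilmem (hβα _) (hθmem _)
    rw [Finset.sum_congr rfl fun i _ => hterm i, ← map_sum]
    have hsum : ∑ i, ξ (KaehlerDifferential.D R B x) i • P (Pi.single i 1) = KaehlerDifferential.D R B x := by
      have hx := LinearMap.congr_fun hPξ (KaehlerDifferential.D R B x)
      rw [LinearMap.comp_apply, LinearMap.id_apply] at hx
      conv_rhs => rw [← hx, pi_eq_sum_univ' (ξ (KaehlerDifferential.D R B x)), map_sum]
      exact Finset.sum_congr rfl fun i _ => (map_smul P _ _).symm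
    rw [hsum]
    show β (α x) + D.liftKaehlerDifferential _ = _
    rw [Derivation.liftKaehlerDifferential_comp_D]
    show β (α x) + (kB x - β (α x)) = kB x
    abel
  have hα'J : J ≤ RingHom.ker α'.toRingHom := fun x hx => by
    show inC x + E x = 0
    have h1 : inC x = 0 := by show algebraMap C C' (α x) = 0; rw [hαJ x hx, map_zero]
    obtain ⟨m, c, y, hc, hxy⟩ := exists_sum_of_mem_map I (hJI hx)
    rw [h1, zero_add, hxy, map_sum]
    refine Finset.sum_eq_zero fun i _ => ?_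
    rw [← Algebra.smul_def, Derivation.map_smul, Algebra.smul_def]
    refine algebraMap_mul_eq_zero hI (hc i) ?_
    show (∑ j, ξ _ j • z j) ∈ _
    exact Submodule.sum_mem _ fun j _ => by rw [Algebra.smul_def]; exact Ideal.mul_mem_left _ _ (hz j)
  refine ⟨C', inferInstance, inferInstance, inferInstance, (Ideal.Quotient.liftₐ J α' hα'J).comp g, β',
    AlgHom.ext fun x => ?_⟩
  obtain ⟨y, hy⟩ := Ideal.Quotient.mk_surjective (g x)
  show β' (Ideal.Quotient.liftₐ J α' hα'J (g x)) = φ x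
  rw [← hy, ← AlgHom.congr_fun hgk x, AlgHom.comp_apply, ← hy]
  exact hβ'α' y

/-- Ind-smoothness transfers along isomorphisms. -/
theorem indSmooth_of_equiv {R₁ R₂ Λ₁ Λ₂ : Type u} [CommRing R₁] [CommRing R₂] [CommRing Λ₁] [CommRing Λ₂]
    [Algebra R₁ Λ₁] [Algebra R₂ Λ₂] (e : R₁ ≃+* R₂) (e' : Λ₁ ≃+* Λ₂)
    (hc : ∀ r, e' (algebraMap R₁ Λ₁ r) = algebraMap R₂ Λ₂ (e r)) (h : Smoothing.IndSmooth R₁ Λ₁) :
    Smoothing.IndSmooth R₂ Λ₂ := by
  intro A _ _ hA f
  letI : Algebra R₁ R₂ := e.toRingHom.toAlgebra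
  letI : Algebra R₁ A := ((algebraMap R₂ A).comp e.toRingHom).toAlgebra
  have : IsScalarTower R₁ R₂ A := IsScalarTower.of_algebraMap_eq fun _ => rfl
  let ee : R₁ ≃ₐ[R₁] R₂ := AlgEquiv.ofRingEquiv (f := e) fun _ => rfl
  have : Algebra.FinitePresentation R₁ R₂ := Algebra.FinitePresentation.equiv ee
  have : Algebra.FormallyUnramified R₁ R₂ := Algebra.FormallyUnramified.of_equiv ee
  have : Algebra.FinitePresentation R₁ A := Algebra.FinitePresentation.trans R₁ R₂ A
  let f₁ : A →ₐ[R₁] Λ₁ :=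
    { e'.symm.toRingHom.comp f.toRingHom with
      commutes' := fun r => by
        show e'.symm (f (algebraMap R₂ A (e r))) = algebraMap R₁ Λ₁ r
        rw [f.commutes, ← hc, e'.symm_apply_apply] }
  obtain ⟨B, _, _, hB, g, k, hgk⟩ := h A inferInstance f₁
  letI : Algebra R₂ B := ((algebraMap R₁ B).comp e.symm.toRingHom).toAlgebra
  have : IsScalarTower R₁ R₂ B := IsScalarTower.of_algebraMap_eq fun r => by
    show algebraMap R₁ B r = algebraMap R₁ B (e.symm (e r))
    rw [e.symm_apply_apply]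
  have : Algebra.FinitePresentation R₂ B := Algebra.FinitePresentation.of_restrict_scalars_finitePresentation R₁ R₂ B
  have : Algebra.FormallySmooth R₂ B := Algebra.FormallySmooth.of_restrictScalars R₁ R₂ B
  let g₂ : A →ₐ[R₂] B :=
    { g.toRingHom with
      commutes' := fun r => by
        show g (algebraMap R₂ A r) = algebraMap R₁ B (e.symm r)
        rw [← g.commutes]
        show _ = g (algebraMap R₂ A (e (e.symm r)))
        rw [e.apply_symm_apply] }
  let k₂ : B →ₐ[R₂] Λ₂ :=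
    { e'.toRingHom.comp k.toRingHom with
      commutes' := fun r => by
        show e' (k (algebraMap R₁ B (e.symm r))) = algebraMap R₂ Λ₂ r
        rw [k.commutes, hc, e.apply_symm_apply] }
  refine ⟨B, inferInstance, inferInstance, ⟨inferInstance, inferInstance⟩, g₂, k₂, AlgHom.ext fun x => ?_⟩
  show e' (k (g x)) = f x
  rw [show k (g x) = e'.symm (f x) from AlgHom.congr_fun hgk x, e'.apply_symm_apply]

theorem indSmooth_of_pow_two_pow : ∀ (k : ℕ) {R Λ : Type u} [CommRing R] [CommRing Λ] [Algebra R Λ] (I : Ideal R),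
    I ^ (2 ^ k) = ⊥ → Module.Flat R Λ → Smoothing.IndSmooth (R ⧸ I) (Λ ⧸ I.map (algebraMap R Λ)) →
    Smoothing.IndSmooth R Λ
  | 0, R, Λ, _, _, _, I, hI, _, h => by
    rw [pow_zero, pow_one] at hI
    subst hI
    exact indSmooth_of_sq_zero ⊥ (by rw [← Ideal.zero_eq_bot, zero_pow two_ne_zero]) h
  | k + 1, R, Λ, _, _, _, I, hI, _, h => by
    let J : Ideal R := I ^ (2 ^ k)
    have hJI : J ≤ I := Ideal.pow_le_self (pow_ne_zero _ two_ne_zero)
    have hJ : J ^ 2 = ⊥ := by rw [← pow_mul, ← pow_succ, hI]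
    refine indSmooth_of_sq_zero J hJ ?_
    let I' : Ideal (R ⧸ J) := I.map (Ideal.Quotient.mk J)
    have : Module.Flat (R ⧸ J) (Λ ⧸ J.map (algebraMap R Λ)) :=
      Module.Flat.of_linearEquiv (Algebra.TensorProduct.quotIdealMapEquivQuotTensor Λ J).toLinearEquiv
    refine indSmooth_of_pow_two_pow k I' (by rw [← Ideal.map_pow, Ideal.map_quotient_self]) inferInstance ?_
    let qJ := Ideal.Quotient.mk (J.map (algebraMap R Λ))
    have hmap : I'.map (algebraMap (R ⧸ J) (Λ ⧸ J.map (algebraMap R Λ))) = (I.map (algebraMap R Λ)).map qJ := by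
      rw [Ideal.map_map, Ideal.map_map]
      rfl
    refine indSmooth_of_equiv (DoubleQuot.quotQuotEquivQuotOfLE hJI).symm
      ((DoubleQuot.quotQuotEquivQuotOfLE (Ideal.map_mono hJI)).symm.trans (Ideal.quotEquivOfEq hmap.symm))
      (fun r => ?_) h
    obtain ⟨r, rfl⟩ := Ideal.Quotient.mk_surjective r
    rfl

theorem indSmooth_of_nilpotent {R Λ : Type u} [CommRing R] [CommRing Λ] [Algebra R Λ] (I : Ideal R)
    (hI : IsNilpotent I) [Module.Flat R Λ] (h : Smoothing.IndSmooth (R ⧸ I) (Λ ⧸ I.map (algebraMap R Λ))) :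
    Smoothing.IndSmooth R Λ := by
  obtain ⟨n, hn⟩ := hI
  exact indSmooth_of_pow_two_pow n I
    (le_bot_iff.1 ((Ideal.pow_le_pow_right Nat.lt_two_pow_self.le).trans hn.le)) inferInstance h

end TransLib
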