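import Groth.Agent.CohenLib.SmoothPoint
import Groth.Agent.CMFlatLib.RegFlat
import Groth.Agent.CommAlgDim.CM
import Groth.Agent.TransLib.IndSmoothNil
import Groth.Agent.TransLib.DesingLift

/-!
# Ind-smoothness of Artinian thickenings of separable field extensions
-/

set_option autoImplicit false

universe u

open MvPolynomial RingTheory.Sequence

namespace TransLib

/-- A geometrically reduced field extension is ind-smooth. -/
theorem indSmooth_of_field {k K : Type u} [Field k] [Field K] [Algebra k K] [Algebra.IsGeometricallyReduced k K] :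
    Smoothing.IndSmooth k K := by
  intro A _ _ hA f
  let B₀ := f.range
  have : Algebra.FiniteType k B₀ := Algebra.FiniteType.of_surjective f.rangeRestrict f.rangeRestrict_surjective
  have : Algebra.FinitePresentation k B₀ := Algebra.FinitePresentation.of_finiteType.1 inferInstance
  let P : Ideal B₀ := ⊥
  have hPp : P.IsPrime := Ideal.isPrime_bot
  let F := FractionRing B₀
  have hinj : Function.Injective B₀.val := Subtype.val_injective
  let toK : P.ResidueField →ₐ[k] K := Ideal.ResidueField.liftₐ P B₀.val bot_le (fun x hx => by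
    exact (isUnit_iff_ne_zero.2 fun h => hx (hinj (h.trans (map_zero _).symm))))
  have : Algebra.IsGeometricallyReduced k P.ResidueField :=
    Algebra.IsGeometricallyReduced.of_injective toK toK.toRingHom.injective
  have hreg : IsRegularLocalRing (Localization.AtPrime P) := by
    have hfield : IsField (Localization.AtPrime P) := by
      rw [IsLocalRing.isField_iff_maximalIdeal_eq, ← Localization.AtPrime.map_eq_maximalIdeal, Ideal.map_bot]
    letI := hfield.toField
    infer_instance
  obtain ⟨e, he, he0⟩ := exists_mem_singularIdeal_notMem P ((CohenLib.isSmoothAt_iff_isRegularLocalRing k B₀ P).2 hreg)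
  let B := Localization.Away e
  have : Algebra.Smooth k B := smooth_away_of_mem_singularIdeal he
  let h : B →ₐ[k] K := IsLocalization.liftAlgHom (M := Submonoid.powers e) (f := B₀.val) (by
    rintro ⟨_, i, rfl⟩
    exact isUnit_iff_ne_zero.2 fun h => he0 (Ideal.mem_bot.2 (eq_zero_of_pow_eq_zero
      (hinj (h.trans (map_zero _).symm)))))
  exact ⟨B, inferInstance, inferInstance, inferInstance, (IsScalarTower.toAlgHom k B₀ B).comp f.rangeRestrict, h,
    AlgHom.ext fun a => IsLocalization.lift_eq _ (f.rangeRestrict a)⟩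

theorem mem_span_X_pow_of_mul {k : Type u} [CommRing k] {σ : Type} (s : Set σ) (i : σ) (hi : i ∉ s) (a e : ℕ)
    (f : MvPolynomial σ k) (hf : (X i : MvPolynomial σ k) ^ a * f ∈ Ideal.span ((fun j => (X j : MvPolynomial σ k) ^ e) '' s)) :
    f ∈ Ideal.span ((fun j => (X j : MvPolynomial σ k) ^ e) '' s) := by
  classical
  have himg : (fun j => (X j : MvPolynomial σ k) ^ e) '' s =
      (fun m => monomial m (1 : k)) '' ((fun j => Finsupp.single j e) '' s) := by
    rw [Set.image_image]
    exact Set.image_congr fun j _ => MvPolynomial.X_pow_eq_monomial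
  rw [himg, mem_ideal_span_monomial_image] at hf ⊢
  intro m hm
  have h1 : Finsupp.single i a + m ∈ ((X i : MvPolynomial σ k) ^ a * f).support := by
    rw [MvPolynomial.mem_support_iff, MvPolynomial.X_pow_eq_monomial, MvPolynomial.coeff_monomial_mul, one_mul]
    exact MvPolynomial.mem_support_iff.1 hm
  obtain ⟨_, ⟨j, hj, rfl⟩, hle⟩ := hf _ h1
  refine ⟨_, ⟨j, hj, rfl⟩, Finsupp.single_le_iff.2 ?_⟩
  have h2 := Finsupp.single_le_iff.1 hle
  rwa [Finsupp.add_apply, Finsupp.single_eq_of_ne (fun h => hi (by subst h; exact hj)), zero_add] at h2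

theorem ofList_take_ofFn' {L : Type u} [CommRing L] {d : ℕ} (f : Fin d → L) (i : Fin d) :
    Ideal.ofList ((List.ofFn f).take i) = Ideal.span (f '' {j | j < i}) := by
  rw [Ideal.ofList]
  congr 1
  ext r
  constructor
  · intro hr
    obtain ⟨j, hj, rfl⟩ := List.mem_take_iff_getElem.1 hr
    rw [List.length_ofFn] at hj
    refine ⟨⟨j, hj.trans_le (min_le_right _ _)⟩, hj.trans_le (min_le_left _ _), ?_⟩
    rw [List.getElem_ofFn]
  · rintro ⟨j, hj, rfl⟩
    refine List.mem_take_iff_getElem.2 ⟨j, ?_, ?_⟩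
    · rw [List.length_ofFn]; exact lt_min hj j.2
    · rw [List.getElem_ofFn]

theorem isWeaklyRegular_ofFn {L : Type u} [CommRing L] {d : ℕ} (f : Fin d → L)
    (h : ∀ i c, f i * c ∈ Ideal.span (f '' {j | j < i}) → c ∈ Ideal.span (f '' {j | j < i})) :
    IsWeaklyRegular L (List.ofFn f) := by
  refine (isWeaklyRegular_iff _ _).2 fun i hi => ?_
  have hi' : i < d := by simpa using hi
  have hI : (Ideal.ofList ((List.ofFn f).take i) • ⊤ : Submodule L L) = Ideal.span (f '' {j | j < (⟨i, hi'⟩ : Fin d)}) := by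
    rw [smul_eq_mul, Ideal.mul_top]
    exact ofList_take_ofFn' f ⟨i, hi'⟩
  rw [List.getElem_ofFn]
  intro x y hxy
  obtain ⟨x, rfl⟩ := Submodule.Quotient.mk_surjective _ x
  obtain ⟨y, rfl⟩ := Submodule.Quotient.mk_surjective _ y
  simp only [← Submodule.Quotient.mk_smul, Submodule.Quotient.eq] at hxy
  rw [hI, ← smul_sub, smul_eq_mul] at hxy
  rw [Submodule.Quotient.eq, hI]
  exact h _ _ hxy

/-- The origin of affine space. -/
noncomputable abbrev origin (k : Type u) [Field k] (d : ℕ) : Ideal (MvPolynomial (Fin d) k) :=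
  RingHom.ker (constantCoeff : MvPolynomial (Fin d) k →+* k)

theorem origin_eq_span (k : Type u) [Field k] (d : ℕ) :
    origin k d = Ideal.span (Set.range (X : Fin d → MvPolynomial (Fin d) k)) := by
  refine le_antisymm (fun x hx => ?_) (Ideal.span_le.2 (Set.range_subset_iff.2 fun i => constantCoeff_X _ i))
  rw [← Set.image_univ, mem_ideal_span_X_image]
  intro m hm
  by_contra h
  push Not at h
  have h0 : m = 0 := Finsupp.ext fun i => h i (Set.mem_univ i)
  exact (MvPolynomial.mem_support_iff.1 hm) (h0 ▸ hx)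

instance origin_isMaximal (k : Type u) [Field k] (d : ℕ) : (origin k d).IsMaximal :=
  RingHom.ker_isMaximal_of_surjective _ fun c => ⟨MvPolynomial.C c, constantCoeff_C (Fin d) c⟩

/-- A regular local algebra over affine space whose parameters come from the coordinates is flat. -/
theorem flat_of_params {k L : Type u} [Field k] {d : ℕ} [CommRing L] [IsRegularLocalRing L]
    [Algebra (MvPolynomial (Fin d) k) L] (hd : ringKrullDim L = d)
    (hspan : Ideal.span (Set.range fun i => algebraMap (MvPolynomial (Fin d) k) L (X i)) = IsLocalRing.maximalIdeal L) :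
    Module.Flat (MvPolynomial (Fin d) k) L := by
  classical
  let R := MvPolynomial (Fin d) k
  let R' := Localization.AtPrime (origin k d)
  have hmax : IsLocalRing.maximalIdeal L = Ideal.span (Set.range fun i => algebraMap R L (X i)) := hspan.symm
  have hle : (origin k d).map (algebraMap R L) ≤ IsLocalRing.maximalIdeal L := by
    rw [origin_eq_span, Ideal.map_span, ← Set.range_comp, hmax]
    rfl
  have hcomap : origin k d = (IsLocalRing.maximalIdeal L).comap (algebraMap R L) :=
    (origin_isMaximal k d).eq_of_le (Ideal.comap_ne_top _ (IsLocalRing.maximalIdeal.isMaximal L).ne_top)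
      (Ideal.map_le_iff_le_comap.1 hle)
  have hu : ∀ s : (origin k d).primeCompl, IsUnit (algebraMap R L s) := fun s => by
    refine IsLocalRing.notMem_maximalIdeal.1 fun hm => s.2 ?_
    show (s : R) ∈ origin k d
    exact (SetLike.ext_iff.1 hcomap (s : R)).2 hm
  letI : Algebra R' L := (IsLocalization.lift (M := (origin k d).primeCompl) hu).toAlgebra
  haveI : IsScalarTower R R' L := IsScalarTower.of_algebraMap_eq fun x => (IsLocalization.lift_eq hu x).symm
  let xs : Fin d → R' := fun i => algebraMap R R' (X i)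
  have hm' : Ideal.ofList (List.ofFn xs) = IsLocalRing.maximalIdeal R' := by
    rw [← Localization.AtPrime.map_eq_maximalIdeal, show (origin k d).map (algebraMap R R') = _ from
      congrArg (Ideal.map (algebraMap R R')) (origin_eq_span k d), Ideal.map_span, Ideal.ofList, ← Set.range_comp]
    congr 1
    ext r
    exact List.mem_ofFn
  have hloc : IsLocalHom (algebraMap R' L) := ⟨fun y hy => by
    by_contra hny
    have h1 : algebraMap R' L y ∈ (IsLocalRing.maximalIdeal R').map (algebraMap R' L) :=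
      Ideal.mem_map_of_mem _ ((IsLocalRing.mem_maximalIdeal _).2 hny)
    rw [← Localization.AtPrime.map_eq_maximalIdeal, Ideal.map_map, ← IsScalarTower.algebraMap_eq] at h1
    exact (IsLocalRing.mem_maximalIdeal _).1 (hle h1) hy⟩
  have hR' : IsWeaklyRegular R' (List.ofFn xs) := by
    refine isWeaklyRegular_ofFn xs fun i c hc => ?_
    have himg : Ideal.span (xs '' {j | j < i}) =
        (Ideal.span ((fun j => (X j : R) ^ 1) '' {j | j < i})).map (algebraMap R R') := by
      rw [Ideal.map_span, Set.image_image]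
      simp only [pow_one]
      rfl
    rw [himg] at hc ⊢
    obtain ⟨⟨a, s⟩, hs⟩ := IsLocalization.surj (origin k d).primeCompl c
    have h1 : algebraMap R R' (X i * a) ∈ (Ideal.span ((fun j => (X j : R) ^ 1) '' {j | j < i})).map (algebraMap R R') := by
      rw [map_mul, ← hs, ← mul_assoc]
      exact Ideal.mul_mem_right _ _ hc
    obtain ⟨u, hu', hux⟩ := (IsLocalization.algebraMap_mem_map_algebraMap_iff (origin k d).primeCompl R' _ _).1 h1
    have h2 : u * a ∈ Ideal.span ((fun j => (X j : R) ^ 1) '' {j | j < i}) :=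
      mem_span_X_pow_of_mul _ i (lt_irrefl i) 1 1 (u * a) (by rwa [pow_one, mul_left_comm])
    refine (Ideal.mul_unit_mem_iff_mem _ (IsLocalization.map_units R' s)).1 ?_
    rw [hs]
    exact (IsLocalization.algebraMap_mem_map_algebraMap_iff (origin k d).primeCompl R' _ _).2 ⟨u, hu', h2⟩
  have hlist : (List.ofFn xs).map (algebraMap R' L) = List.ofFn fun i => algebraMap R L (X i) := by
    rw [List.map_ofFn]
    exact congrArg List.ofFn (funext fun i => (IsScalarTower.algebraMap_apply R R' L (X i)).symm)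
  have hL : IsWeaklyRegular L ((List.ofFn xs).map (algebraMap R' L)) := by
    rw [hlist]
    have he : Ideal.ofList (List.ofFn fun i => algebraMap R L (X i)) = IsLocalRing.maximalIdeal L := by
      rw [hmax, Ideal.ofList]
      congr 1
      ext r
      exact List.mem_ofFn
    refine (CommAlgDim.isRegular_of_dim (CommAlgDim.isCM_of_isRegularLocalRing L) (fun r hr => ?_) ?_).toIsWeaklyRegular
    · rw [← he]
      exact Ideal.subset_span hr
    · rw [ringKrullDim_eq_of_ringEquiv (Ideal.quotEquivOfEq he), List.length_ofFn, hd]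
      letI := Ideal.Quotient.field (IsLocalRing.maximalIdeal L)
      rw [ringKrullDim_eq_zero_of_field, zero_add]
  have : Module.Flat R' L := CMFlatLib.flat_of_regular_seq _ R' L (List.ofFn xs) rfl hR' hL hm'
  have : Module.Flat R R' := IsLocalization.flat R' (origin k d).primeCompl
  exact Module.Flat.trans R R' L

/-- Localization commutes with quotients. -/
theorem isLocalization_atPrime_quotient {Λ : Type u} [CommRing Λ] (I q : Ideal Λ) [q.IsPrime] (hI : I ≤ q)
    (Λq : Type u) [CommRing Λq] [Algebra Λ Λq] [IsLocalization.AtPrime Λq q] (J : Ideal Λq)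
    (hJ : J = I.map (algebraMap Λ Λq))
    [(q.map (Ideal.Quotient.mk I)).IsPrime] [Algebra (Λ ⧸ I) (Λq ⧸ J)] [IsScalarTower Λ (Λ ⧸ I) (Λq ⧸ J)] :
    IsLocalization.AtPrime (Λq ⧸ J) (q.map (Ideal.Quotient.mk I)) := by
  subst hJ
  have hmem : ∀ x : Λ, Ideal.Quotient.mk I x ∈ q.map (Ideal.Quotient.mk I) ↔ x ∈ q := fun x => by
    rw [Ideal.mem_quotient_iff_mem_sup, sup_eq_left.2 hI]
  have halg : ∀ x : Λ, algebraMap (Λ ⧸ I) (Λq ⧸ I.map (algebraMap Λ Λq)) (Ideal.Quotient.mk I x) =
      Ideal.Quotient.mk _ (algebraMap Λ Λq x) := fun x =>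
    (IsScalarTower.algebraMap_apply Λ (Λ ⧸ I) (Λq ⧸ I.map (algebraMap Λ Λq)) x).symm
  refine (isLocalization_iff _ _).2 ⟨?_, ?_, ?_⟩
  · rintro ⟨y, hy⟩
    obtain ⟨y, rfl⟩ := Ideal.Quotient.mk_surjective y
    show IsUnit (algebraMap (Λ ⧸ I) _ (Ideal.Quotient.mk I y))
    rw [halg]
    exact (IsLocalization.map_units Λq (⟨y, fun h => hy ((hmem y).2 h)⟩ : q.primeCompl)).map _
  · intro z
    obtain ⟨z, rfl⟩ := Ideal.Quotient.mk_surjective z
    obtain ⟨⟨a, s⟩, hs⟩ := IsLocalization.surj q.primeCompl z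
    refine ⟨⟨Ideal.Quotient.mk I a, ⟨Ideal.Quotient.mk I s, fun h => s.2 ((hmem _).1 h)⟩⟩, ?_⟩
    show _ * algebraMap (Λ ⧸ I) _ (Ideal.Quotient.mk I s) = algebraMap (Λ ⧸ I) _ (Ideal.Quotient.mk I a)
    rw [halg, halg, ← map_mul, hs]
  · intro x y hxy
    obtain ⟨x, rfl⟩ := Ideal.Quotient.mk_surjective x
    obtain ⟨y, rfl⟩ := Ideal.Quotient.mk_surjective y
    rw [halg, halg, Ideal.Quotient.eq, ← map_sub,
      IsLocalization.algebraMap_mem_map_algebraMap_iff q.primeCompl Λq] at hxy
    obtain ⟨u, hu, hux⟩ := hxy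
    refine ⟨⟨Ideal.Quotient.mk I u, fun h => hu ((hmem _).1 h)⟩, ?_⟩
    show Ideal.Quotient.mk I u * _ = Ideal.Quotient.mk I u * _
    rw [← map_mul, ← map_mul, Ideal.Quotient.eq, ← mul_sub]
    exact hux

/-- Ind-smoothness of a regular local algebra modulo powers of its parameters. -/
theorem indSmooth_mod_powers {k L : Type u} [Field k] {d : ℕ} [CommRing L] [IsRegularLocalRing L]
    [Algebra k L] [Algebra (MvPolynomial (Fin d) k) L] [IsScalarTower k (MvPolynomial (Fin d) k) L]
    [Algebra.IsGeometricallyReduced k (IsLocalRing.ResidueField L)] (hd : ringKrullDim L = d)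
    (hspan : Ideal.span (Set.range fun i => algebraMap (MvPolynomial (Fin d) k) L (X i)) = IsLocalRing.maximalIdeal L)
    (K : Ideal (MvPolynomial (Fin d) k)) (hK : K ≤ origin k d)
    (hnil : ∀ i, ∃ e : ℕ, (X i : MvPolynomial (Fin d) k) ^ e ∈ K)
    [Algebra (MvPolynomial (Fin d) k ⧸ K) (L ⧸ K.map (algebraMap (MvPolynomial (Fin d) k) L))]
    [IsScalarTower (MvPolynomial (Fin d) k) (MvPolynomial (Fin d) k ⧸ K)
      (L ⧸ K.map (algebraMap (MvPolynomial (Fin d) k) L))] :
    Smoothing.IndSmooth (MvPolynomial (Fin d) k ⧸ K) (L ⧸ K.map (algebraMap (MvPolynomial (Fin d) k) L)) := by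
  classical
  let R := MvPolynomial (Fin d) k
  let R₀ := R ⧸ K
  let L₀ := L ⧸ K.map (algebraMap R L)
  have := flat_of_params hd hspan
  let eT : L₀ ≃ₐ[R] TensorProduct R R₀ L :=
    (Algebra.TensorProduct.quotIdealMapEquivTensorQuot L K).restrictScalars R |>.trans
      (Algebra.TensorProduct.comm R L R₀)
  let eT' : L₀ ≃ₐ[R₀] TensorProduct R R₀ L := eT.extendScalarsOfSurjective Ideal.Quotient.mk_surjective
  have : Module.Flat R₀ L₀ := Module.Flat.of_linearEquiv eT'.toLinearEquiv
  let I₀ : Ideal R₀ := (origin k d).map (Ideal.Quotient.mk K)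
  have hI₀ : IsNilpotent I₀ := by
    refine (Ideal.FG.isNilpotent_iff_le_nilradical (IsNoetherian.noetherian I₀)).2 ?_
    rw [Ideal.map_le_iff_le_comap, origin_eq_span, Ideal.span_le]
    rintro _ ⟨i, rfl⟩
    obtain ⟨e, he⟩ := hnil i
    exact ⟨e, by rw [← map_pow]; exact Ideal.Quotient.eq_zero_iff_mem.2 he⟩
  refine indSmooth_of_nilpotent I₀ hI₀ ?_
  let Q := L₀ ⧸ I₀.map (algebraMap R₀ L₀)
  have halg : ∀ x : R, algebraMap R₀ L₀ (Ideal.Quotient.mk K x) = Ideal.Quotient.mk _ (algebraMap R L x) := fun x =>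
    (IsScalarTower.algebraMap_apply R R₀ L₀ x).symm
  have hI₀L : I₀.map (algebraMap R₀ L₀) = (IsLocalRing.maximalIdeal L).map (Ideal.Quotient.mk _) := by
    rw [← hspan, Ideal.map_map, origin_eq_span, Ideal.map_span, Ideal.map_span, ← Set.range_comp, ← Set.range_comp]
    exact congrArg Ideal.span (congrArg Set.range (funext fun i => halg (X i)))
  let qm : L →+* Q := (Ideal.Quotient.mk (I₀.map (algebraMap R₀ L₀))).comp (Ideal.Quotient.mk _)
  have hqm : RingHom.ker qm = IsLocalRing.maximalIdeal L := by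
    have h1 : K.map (algebraMap R L) ≤ IsLocalRing.maximalIdeal L := by
      refine (Ideal.map_mono hK).trans ?_
      rw [origin_eq_span, Ideal.map_span, ← Set.range_comp, ← hspan]
      rfl
    rw [← RingHom.comap_ker, Ideal.mk_ker, hI₀L, Ideal.comap_map_of_surjective _ Ideal.Quotient.mk_surjective,
      ← RingHom.ker_eq_comap_bot, Ideal.mk_ker, sup_eq_left.2 h1]
  let e' : IsLocalRing.ResidueField L ≃+* Q :=
    (Ideal.quotEquivOfEq hqm.symm).trans
      (RingHom.quotientKerEquivOfSurjective (f := qm) (Ideal.Quotient.mk_surjective.comp Ideal.Quotient.mk_surjective))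
  let kmap : k →+* R₀ ⧸ I₀ := (Ideal.Quotient.mk I₀).comp ((Ideal.Quotient.mk K).comp MvPolynomial.C)
  have hsurj : Function.Surjective kmap := fun z => by
    obtain ⟨z, rfl⟩ := Ideal.Quotient.mk_surjective z
    obtain ⟨z, rfl⟩ := Ideal.Quotient.mk_surjective z
    refine ⟨constantCoeff z, (Ideal.Quotient.eq.2 ?_)⟩
    show Ideal.Quotient.mk K (MvPolynomial.C (constantCoeff z)) - Ideal.Quotient.mk K z ∈ I₀
    rw [← map_sub]
    refine Ideal.mem_map_of_mem _ ?_
    show constantCoeff (MvPolynomial.C (constantCoeff z) - z) = 0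
    rw [map_sub, constantCoeff_C, sub_self]
  have : Nontrivial (R₀ ⧸ I₀) := Ideal.Quotient.nontrivial_iff.2 fun h => by
    have h1 : (origin k d) = ⊤ := by
      have h2 := congrArg (Ideal.comap (Ideal.Quotient.mk K)) h
      rwa [Ideal.comap_map_of_surjective _ Ideal.Quotient.mk_surjective, ← RingHom.ker_eq_comap_bot, Ideal.mk_ker,
        sup_eq_left.2 hK, Ideal.comap_top] at h2
    exact (origin_isMaximal k d).ne_top h1
  let e : k ≃+* R₀ ⧸ I₀ := RingEquiv.ofBijective kmap ⟨kmap.injective, hsurj⟩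
  refine indSmooth_of_equiv e e' (fun r => ?_) indSmooth_of_field
  show qm (algebraMap k L r) = algebraMap (R₀ ⧸ I₀) Q (Ideal.Quotient.mk I₀ (Ideal.Quotient.mk K (MvPolynomial.C r)))
  rw [IsScalarTower.algebraMap_apply k R L]
  show _ = Ideal.Quotient.mk _ (algebraMap R₀ L₀ (Ideal.Quotient.mk K (MvPolynomial.C r)))
  rw [halg]
  rfl

end TransLib
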