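import Groth.Agent.TransLib.GeomBase
import Groth.Agent.TransLib.GeomPoly
import Groth.Agent.TransLib.GlueLocal
import Groth.Agent.TransLib.SepRes
import Groth.Agent.FlatLib.FibreLocal
import Groth.Agent.CatLib.Flat

/-!
# A smooth model of the reduced problem
-/

set_option autoImplicit false

universe u

open IsLocalRing TensorProduct

namespace TransLib

theorem span_pow_le_span_pow {R : Type u} [CommRing R] (e : ℕ) : ∀ (d : ℕ) (x : Fin d → R) (N : ℕ), d * e ≤ N →
    0 < N → Ideal.span (Set.range x) ^ N ≤ Ideal.span (Set.range fun i => x i ^ e)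
  | 0, x, N, _, hN => by
    rw [Set.range_eq_empty x, Ideal.span_empty, ← Ideal.zero_eq_bot, zero_pow (Nat.pos_iff_ne_zero.1 hN)]
    exact bot_le
  | d + 1, x, N, h, hN => by
    have hx : Ideal.span (Set.range x) = Ideal.span {x 0} ⊔ Ideal.span (Set.range (Fin.tail x)) := by
      rw [← Ideal.span_union, ← Set.insert_eq]
      congr 1
      rw [← Fin.range_cons, Fin.cons_self_tail]
    rcases Nat.eq_zero_or_pos (d * e) with h0 | h0
    · rcases Nat.eq_zero_or_pos e with rfl | he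
      · exact le_trans le_top (le_of_eq (by rw [eq_comm, Ideal.eq_top_iff_one]; exact Ideal.subset_span ⟨0, by simp⟩))
      · have hd : d = 0 := by simpa [Nat.pos_iff_ne_zero.1 he] using h0
        subst hd
        rw [hx, Set.range_eq_empty (Fin.tail x), Ideal.span_empty, sup_bot_eq, Ideal.span_singleton_pow,
          Ideal.span_singleton_le_iff_mem]
        rw [← Nat.sub_add_cancel (show e ≤ N by simpa using h), pow_add]
        exact Ideal.mul_mem_left _ _ (Ideal.subset_span ⟨0, rfl⟩)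
    · have hsplit : e + d * e ≤ N := by rw [Nat.succ_mul] at h; omega
      refine (Ideal.pow_le_pow_right hsplit).trans ?_
      rw [hx]
      refine Ideal.sup_pow_add_le_pow_sup_pow.trans (sup_le ?_ ?_)
      · rw [Ideal.span_singleton_pow, Ideal.span_singleton_le_iff_mem]
        exact Ideal.subset_span ⟨0, rfl⟩
      · refine (span_pow_le_span_pow e d (Fin.tail x) (d * e) le_rfl h0).trans (Ideal.span_mono ?_)
        rintro _ ⟨i, rfl⟩
        exact ⟨i.succ, rfl⟩

theorem flat_of_isField {F : Type u} [CommRing F] (hF : IsField F) (M : Type u) [AddCommGroup M] [Module F M] :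
    Module.Flat F M := by
  letI := hF.toField
  infer_instance

/-- A finite étale algebra mapping to a flat unramified algebra has a faithfully flat local factor. -/
theorem exists_etale_local_factor {P L : Type u} [CommRing P] [IsLocalRing P] [IsNoetherianRing P]
    (hnil : IsNilpotent (maximalIdeal P)) [CommRing L] [IsLocalRing L] [IsNoetherianRing L] [Algebra P L]
    [Module.Flat P L] (hm : (maximalIdeal P).map (algebraMap P L) = maximalIdeal L)
    {D : Type u} [CommRing D] [Algebra P D] [Module.Finite P D] [Algebra.Etale P D] (e : D →ₐ[P] L) :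
    ∃ (D₁ : Type u) (_ : CommRing D₁) (_ : Algebra P D₁) (_ : Algebra D₁ L) (_ : IsScalarTower P D₁ L),
      Module.Finite P D₁ ∧ Algebra.FormallySmooth P D₁ ∧ Module.FaithfullyFlat D₁ L ∧
        ∀ x, e x ∈ Set.range (algebraMap D₁ L) := by
  have hP : IsArtinianRing P := by
    have : Ring.KrullDimLE 0 P := Ring.KrullDimLE.mk₀ fun Q hQ => by
      obtain ⟨N, hN⟩ := hnil
      have : maximalIdeal P ≤ Q := fun x hx => hQ.mem_of_pow_mem N (by
        have h := Ideal.pow_mem_pow hx N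
        rw [hN, Ideal.zero_eq_bot, Ideal.mem_bot] at h
        rw [h]; exact zero_mem _)
      rw [← (maximalIdeal.isMaximal P).eq_of_le hQ.ne_top this]
      exact maximalIdeal.isMaximal P
    exact isArtinianRing_iff_isNoetherianRing_krullDimLE_zero.2 ⟨inferInstance, inferInstance⟩
  have : IsArtinianRing D := IsArtinianRing.of_finite P D
  let Q := (maximalIdeal L).comap e.toRingHom
  let D₁ := Localization.AtPrime Q
  have hu : ∀ y : Q.primeCompl, IsUnit (e (y : D)) := fun y => notMem_maximalIdeal.1 y.2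
  let e₁ : D₁ →ₐ[P] L := IsLocalization.liftAlgHom (M := Q.primeCompl) (f := e) hu
  have he₁ : ∀ x, e₁ (algebraMap D D₁ x) = e x := fun x => IsLocalization.lift_eq _ x
  letI : Algebra D₁ L := e₁.toRingHom.toAlgebra
  haveI : IsScalarTower P D₁ L := IsScalarTower.of_algebraMap_eq fun c => (e₁.commutes c).symm
  have hfin : Module.Finite P D₁ := Module.Finite.of_surjective (IsScalarTower.toAlgHom P D D₁).toLinearMap
    (IsArtinianRing.localization_surjective Q.primeCompl D₁)
  have : Algebra.FormallyEtale D D₁ := Algebra.FormallyEtale.of_isLocalization Q.primeCompl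
  have hfs : Algebra.FormallySmooth P D₁ := Algebra.FormallySmooth.comp P D D₁
  have hfu : Algebra.FormallyUnramified P D₁ := Algebra.FormallyUnramified.comp P D D₁
  have : Module.Flat D D₁ := IsLocalization.flat D₁ Q.primeCompl
  have : Module.Flat P D₁ := Module.Flat.trans P D D₁
  have hloc : IsLocalHom (algebraMap D₁ L) := ⟨fun y hy => by
    obtain ⟨x, rfl⟩ := IsArtinianRing.localization_surjective Q.primeCompl D₁ y
    refine IsLocalization.map_units D₁ (⟨x, fun h => ?_⟩ : Q.primeCompl)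
    exact (mem_maximalIdeal _).1 h (show IsUnit (e x) by rw [← he₁]; exact hy)⟩
  have hPL : IsLocalHom (algebraMap P L) := ((local_hom_TFAE (algebraMap P L)).out 0 2 rfl rfl).2 hm.le
  have hPD : IsLocalHom (algebraMap P D₁) := ⟨fun y hy => by
    refine isUnit_of_map_unit (algebraMap P L) y ?_
    rw [IsScalarTower.algebraMap_apply P D₁ L]
    exact hy.map _⟩
  have hmD : (maximalIdeal P).map (algebraMap P D₁) = maximalIdeal D₁ :=
    Algebra.FormallyUnramified.map_maximalIdeal
  have : IsNoetherianRing D₁ := IsLocalization.isNoetherianRing Q.primeCompl D₁ inferInstance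
  have hmax : ((maximalIdeal P).map (algebraMap P D₁)).IsMaximal := hmD ▸ maximalIdeal.isMaximal D₁
  obtain ⟨-, hflat⟩ := FlatLib.flat_and_flat_of_fibre (R := P) (S := D₁) (S' := L) (M := L)
    (flat_of_isField ((Ideal.Quotient.maximal_ideal_iff_isField_quotient _).1 hmax) _)
  refine ⟨D₁, inferInstance, inferInstance, inferInstance, inferInstance, hfin, hfs,
    Module.FaithfullyFlat.of_flat_of_isLocalHom, fun x => ⟨algebraMap D D₁ x, he₁ x⟩⟩

/-- Solutions of a linear equation over a faithfully flat extension. -/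
theorem exists_solution_param {D L : Type u} [CommRing D] [CommRing L] [Algebra D L] [Module.FaithfullyFlat D L] {m : ℕ}
    (c : Fin m → D) (y : D) (z : Fin m → L) (hz : ∑ j, z j * algebraMap D L (c j) = algebraMap D L y) :
    ∃ (l : ℕ) (z₀ : Fin m → D) (s : Fin m → Fin l → D) (σ : Fin l → L), ∑ j, z₀ j * c j = y ∧
      (∀ i, ∑ j, c j * s j i = 0) ∧ ∀ j, z j = algebraMap D L (z₀ j) + ∑ i, algebraMap D L (s j i) * σ i := by
  have h1 : algebraMap D L y ∈ (Ideal.span (Set.range c)).map (algebraMap D L) := by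
    rw [← hz]
    exact Ideal.sum_mem _ fun j _ => Ideal.mul_mem_left _ _ (Ideal.mem_map_of_mem _ (Ideal.subset_span ⟨j, rfl⟩))
  rw [← Ideal.mem_comap, Ideal.comap_map_eq_self_of_faithfullyFlat] at h1
  obtain ⟨z₀, hz₀⟩ := (Submodule.mem_span_range_iff_exists_fun D).1 h1
  simp only [smul_eq_mul] at hz₀
  obtain ⟨l, s, σ, h2, h3⟩ := Module.Flat.isTrivialRelation_of_sum_smul_eq_zero
    (f := c) (x := fun j => z j - algebraMap D L (z₀ j)) (by
      simp only [Algebra.smul_def, mul_sub, Finset.sum_sub_distrib]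
      rw [sub_eq_zero, show ∑ j, algebraMap D L (c j) * z j = algebraMap D L y from
        (Finset.sum_congr rfl fun j _ => mul_comm _ _).trans hz, ← hz₀, map_sum]
      exact Finset.sum_congr rfl fun j _ => by rw [map_mul, mul_comm])
  refine ⟨l, z₀, s, σ, hz₀, h3, fun j => ?_⟩
  have h4 := h2 j
  simp only [Algebra.smul_def, sub_eq_iff_eq_add'] at h4
  exact h4

/-- Every element of a polynomial ring over a finite algebra is, up to a denominator, a polynomial over the base. -/
theorem exists_generators {R Rₚ D : Type u} [CommRing R] [CommRing Rₚ] [Algebra R Rₚ] (M : Submonoid R)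
    [IsLocalization M Rₚ] [CommRing D] [Algebra R D] [Algebra Rₚ D] [IsScalarTower R Rₚ D] [Module.Finite Rₚ D]
    (V : Type) [Fintype V] :
    ∃ (l : ℕ) (y : Fin l → MvPolynomial V D), ∀ b, ∃ (s : R) (p : MvPolynomial (Fin l) R), s ∈ M ∧
      algebraMap R (MvPolynomial V D) s * b = MvPolynomial.aeval y p := by
  classical
  obtain ⟨r, w, hw⟩ := Module.Finite.exists_fin (R := Rₚ) (M := D)
  let eV := Fintype.equivFin (Fin r ⊕ V)
  let y : Fin (Fintype.card (Fin r ⊕ V)) → MvPolynomial V D :=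
    fun i => Sum.elim (fun l => MvPolynomial.C (w l)) MvPolynomial.X (eV.symm i)
  have hy : ∀ o, y (eV o) = Sum.elim (fun l => MvPolynomial.C (w l)) MvPolynomial.X o := fun o => by
    simp only [y, Equiv.symm_apply_apply]
  refine ⟨_, y, fun b => ?_⟩
  obtain ⟨Q, hQ⟩ : ∃ Q : MvPolynomial (Fin (Fintype.card (Fin r ⊕ V))) Rₚ, MvPolynomial.aeval y Q = b := by
    induction b using MvPolynomial.induction_on with
    | C d =>
      obtain ⟨c, hc⟩ := (Submodule.mem_span_range_iff_exists_fun Rₚ).1 (hw ▸ Submodule.mem_top (x := d))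
      refine ⟨∑ l, MvPolynomial.C (c l) * MvPolynomial.X (eV (Sum.inl l)), ?_⟩
      rw [← hc, map_sum, map_sum]
      refine Finset.sum_congr rfl fun l _ => ?_
      rw [map_mul, MvPolynomial.aeval_C, MvPolynomial.aeval_X, hy, Sum.elim_inl, Algebra.smul_def, map_mul,
        IsScalarTower.algebraMap_apply Rₚ D (MvPolynomial V D), MvPolynomial.algebraMap_eq]
    | add p q hp hq =>
      obtain ⟨P, rfl⟩ := hp
      obtain ⟨Q, rfl⟩ := hq
      exact ⟨P + Q, map_add _ _ _⟩
    | mul_X p i hp =>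
      obtain ⟨P, rfl⟩ := hp
      exact ⟨P * MvPolynomial.X (eV (Sum.inr i)), by rw [map_mul, MvPolynomial.aeval_X, hy, Sum.elim_inr]⟩
  obtain ⟨s, p, hs, hp⟩ := exists_clear_denominators (Rₚ := Rₚ) M y Q
  exact ⟨s, p, hs, by rw [← hQ]; exact hp⟩

/-- The local model over the reduced base. -/
theorem exists_reduced_model {k R Λ R₀ L₀ : Type u} [Field k] [CommRing R] [IsNoetherianRing R] [IsRegularRing R]
    [Algebra k R] [CommRing Λ] [IsNoetherianRing Λ] [Algebra R Λ] [Algebra k Λ] [IsScalarTower k R Λ]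
    (q : Ideal Λ) [q.IsPrime] [IsRegularLocalRing (Localization.AtPrime q)]
    {d : ℕ} (hd : ringKrullDim (Localization.AtPrime q) = d) (π : Fin d → R)
    (hπR : Ideal.span (Set.range fun i => algebraMap R (Localization.AtPrime (q.comap (algebraMap R Λ))) (π i)) =
      maximalIdeal (Localization.AtPrime (q.comap (algebraMap R Λ))))
    (hπΛ : Ideal.span (Set.range fun i => algebraMap Λ (Localization.AtPrime q) (algebraMap R Λ (π i))) =
      maximalIdeal (Localization.AtPrime q))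
    (e : ℕ) (he : 0 < e) (K : Ideal R) (hK : K = Ideal.span (Set.range fun i => π i ^ e))
    [CommRing R₀] [IsLocalRing R₀] [CommRing L₀] [IsLocalRing L₀] (ρ : R₀ →+* L₀)
    (j : R₀ →+* Localization.AtPrime (q.comap (algebraMap R Λ))) (i : L₀ →+* Localization.AtPrime q)
    [IsLocalHom j] [IsLocalHom i]
    (hji : ∀ x, Localization.localRingHom _ q (algebraMap R Λ) rfl (j x) = i (ρ x))
    {N : ℕ} (hN : d * e ≤ N) (hN₀ : 0 < N) {E : Finset (L₀ ⧸ maximalIdeal L₀ ^ N)} (T : EtaleTrunc ρ N E)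
    {A : Type u} [CommRing A] [Algebra k A] {nA : ℕ} (x : Fin nA → A) (hx : Algebra.adjoin k (Set.range x) = ⊤)
    (φ : A →ₐ[k] Localization.AtPrime q ⧸ K.map (algebraMap R (Localization.AtPrime q)))
    (hφ : ∀ l, ∃ y : L₀, Ideal.Quotient.mk _ y ∈ E ∧ Ideal.Quotient.mk _ (i y) = φ (x l))
    (n : ℕ) {m : ℕ} (a : Fin m → A)
    (z : Fin d → Fin m → Localization.AtPrime q ⧸ K.map (algebraMap R (Localization.AtPrime q)))
    (hz : ∀ l, ∑ t, z l t * φ (a t) =
      algebraMap (R ⧸ K) (Localization.AtPrime q ⧸ K.map (algebraMap R (Localization.AtPrime q))) (Ideal.Quotient.mk K (π l ^ n))) :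
    ∃ (B : Type u) (_ : CommRing B) (_ : Algebra (R ⧸ K) B) (_ : Algebra k B) (_ : IsScalarTower k (R ⧸ K) B),
      Algebra.FormallySmooth (R ⧸ K) B ∧
      ∃ (χ : B →ₐ[R ⧸ K] Localization.AtPrime q ⧸ K.map (algebraMap R (Localization.AtPrime q)))
        (g : A →ₐ[k] B) (ζ : Fin d → Fin m → B) (l : ℕ) (y : Fin l → B),
        (∀ c, χ (g c) = φ c) ∧ (∀ l t, χ (ζ l t) = z l t) ∧
        (∀ l, ∑ t, ζ l t * g (a t) = algebraMap (R ⧸ K) B (Ideal.Quotient.mk K (π l ^ n))) ∧
        ∀ b : B, ∃ (s : R) (p : MvPolynomial (Fin l) (R ⧸ K)), s ∉ q.comap (algebraMap R Λ) ∧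
          algebraMap (R ⧸ K) B (Ideal.Quotient.mk K s) * b = MvPolynomial.aeval y p := by
  classical
  let p := q.comap (algebraMap R Λ)
  let Rp := Localization.AtPrime p
  let L := Localization.AtPrime q
  let fp : Rp →+* L := Localization.localRingHom p q (algebraMap R Λ) rfl
  letI algRpL : Algebra Rp L := fp.toAlgebra
  haveI : IsLocalHom (algebraMap Rp L) := Localization.isLocalHom_localRingHom p q (algebraMap R Λ) rfl
  have hfp : ∀ r, fp (algebraMap R Rp r) = algebraMap R L r := fun r =>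
    (Localization.localRingHom_to_map p q (algebraMap R Λ) rfl r).trans (IsScalarTower.algebraMap_apply R Λ L r).symm
  obtain ⟨-, hflat⟩ := flat_of_regular_params (A := Rp) (B := L) hd (fun l => algebraMap R Rp (π l)) hπR
    (by rw [← hπΛ]; exact congrArg Ideal.span (congrArg Set.range (funext fun l =>
      (hfp (π l)).trans (IsScalarTower.algebraMap_apply R Λ L _))))
  -- quotients
  let I := K.map (algebraMap R Rp)
  let J := K.map (algebraMap R L)
  have hIJ : I.map fp = J := by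
    show (K.map (algebraMap R Rp)).map fp = _
    rw [Ideal.map_map]
    congr 1
    exact RingHom.ext hfp
  have hKp : K ≤ p := by
    rw [hK, Ideal.span_le]
    rintro _ ⟨l, rfl⟩
    refine Ideal.pow_mem_of_mem _ ((IsLocalization.AtPrime.to_map_mem_maximal_iff Rp p _).1 ?_) e he
    rw [← hπR]
    exact Ideal.subset_span ⟨l, rfl⟩
  have hIm : I ≤ maximalIdeal Rp := by
    rw [← Localization.AtPrime.map_eq_maximalIdeal]
    exact Ideal.map_mono hKp
  have hJm : J ≤ maximalIdeal L := by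
    rw [← hIJ, Ideal.map_le_iff_le_comap]
    exact fun r hr hu => hIm hr (isUnit_of_map_unit (algebraMap Rp L) r hu)
  haveI : Nontrivial (Rp ⧸ I) := Ideal.Quotient.nontrivial_iff.2 fun h =>
    (maximalIdeal.isMaximal Rp).ne_top (top_le_iff.1 (h ▸ hIm))
  haveI : Nontrivial (L ⧸ J) := Ideal.Quotient.nontrivial_iff.2 fun h =>
    (maximalIdeal.isMaximal L).ne_top (top_le_iff.1 (h ▸ hJm))
  haveI : IsLocalRing (Rp ⧸ I) := .of_surjective' _ Ideal.Quotient.mk_surjective
  haveI : IsLocalRing (L ⧸ J) := .of_surjective' _ Ideal.Quotient.mk_surjective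
  letI algIJ : Algebra (Rp ⧸ I) (L ⧸ J) := (Ideal.quotientMap J fp (Ideal.map_le_iff_le_comap.1 hIJ.le)).toAlgebra
  haveI : IsScalarTower (R ⧸ K) (Rp ⧸ I) (L ⧸ J) :=
    IsScalarTower.of_algebraMap_eq (R := R ⧸ K) (S := Rp ⧸ I) (A := L ⧸ J) fun c => by
      obtain ⟨c, rfl⟩ := Ideal.Quotient.mk_surjective c
      exact (congrArg (Ideal.Quotient.mk J) (hfp c)).symm
  have hflatQ : Module.Flat (Rp ⧸ I) (L ⧸ J) := by
    have h := CatLib.flat_quotient (A := Rp) (B := L) I
    let eJ : (L ⧸ I.map (algebraMap Rp L)) ≃ₗ[Rp ⧸ I] L ⧸ J :=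
      { Ideal.quotEquivOfEq hIJ with
        map_smul' := fun c w => by
          obtain ⟨c, rfl⟩ := Ideal.Quotient.mk_surjective c
          obtain ⟨w, rfl⟩ := Ideal.Quotient.mk_surjective w
          exact map_mul (Ideal.Quotient.mk J) (fp c) w }
    exact Module.Flat.of_linearEquiv eJ.symm
  have hfpm : (maximalIdeal Rp).map fp = maximalIdeal L := by
    rw [← hπR, Ideal.map_span, ← Set.range_comp, ← hπΛ]
    exact congrArg Ideal.span (congrArg Set.range (funext fun l => (hfp (π l)).trans (IsScalarTower.algebraMap_apply R Λ L _)))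
  have hm : (maximalIdeal (Rp ⧸ I)).map (algebraMap (Rp ⧸ I) (L ⧸ J)) = maximalIdeal (L ⧸ J) := by
    rw [← map_mk_maximalIdeal I hIm, ← map_mk_maximalIdeal J hJm, Ideal.map_map, ← hfpm, Ideal.map_map]
    rfl
  have hpow : maximalIdeal Rp ^ N ≤ I := by
    rw [← hπR]
    refine (span_pow_le_span_pow e d _ N hN hN₀).trans (Ideal.span_le.2 ?_)
    rintro _ ⟨l, rfl⟩
    show algebraMap R Rp (π l) ^ e ∈ _
    rw [← map_pow]
    exact Ideal.mem_map_of_mem _ (hK ▸ Ideal.subset_span ⟨l, rfl⟩)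
  have hnil : IsNilpotent (maximalIdeal (Rp ⧸ I)) := ⟨N, by
    rw [← map_mk_maximalIdeal I hIm, ← Ideal.map_pow, Ideal.zero_eq_bot, Ideal.map_eq_bot_iff_le_ker, Ideal.mk_ker]
    exact hpow⟩
  -- the truncated base acts
  have hjI : ∀ c ∈ maximalIdeal R₀ ^ N, Ideal.Quotient.mk I (j c) = 0 := fun c hc => by
    rw [Ideal.Quotient.eq_zero_iff_mem]
    refine hpow ?_
    have h1 := Ideal.mem_map_of_mem j hc
    rw [Ideal.map_pow] at h1
    have h2 : (maximalIdeal R₀).map j ≤ maximalIdeal Rp :=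
      Ideal.map_le_iff_le_comap.2 fun r hr => Ideal.mem_comap.2 ((mem_maximalIdeal (j r)).2 fun hu =>
        (mem_maximalIdeal r).1 hr (isUnit_of_map_unit j r hu))
    exact Ideal.pow_right_mono h2 N h1
  have hiJ : ∀ c ∈ maximalIdeal L₀ ^ N, Ideal.Quotient.mk J (i c) = 0 := fun c hc => by
    rw [Ideal.Quotient.eq_zero_iff_mem, ← hIJ]
    have h1 := Ideal.mem_map_of_mem i hc
    rw [Ideal.map_pow] at h1
    have h2 : (maximalIdeal L₀).map i ≤ (maximalIdeal Rp).map fp := by
      rw [hfpm]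
      exact Ideal.map_le_iff_le_comap.2 fun r hr => (mem_maximalIdeal (i r)).2 fun hu =>
        (mem_maximalIdeal r).1 hr (isUnit_of_map_unit i r hu)
    have h3 := Ideal.pow_right_mono h2 N h1
    rw [← Ideal.map_pow] at h3
    exact Ideal.map_mono hpow h3
  let P₀ := R₀ ⧸ maximalIdeal R₀ ^ N
  let qm : L₀ ⧸ maximalIdeal L₀ ^ N →+* L ⧸ J :=
    Ideal.Quotient.lift _ ((Ideal.Quotient.mk J).comp i) hiJ
  letI algP₀ : Algebra P₀ (Rp ⧸ I) := (Ideal.Quotient.lift _ ((Ideal.Quotient.mk I).comp j) hjI).toAlgebra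
  letI algP₀L : Algebra P₀ (L ⧸ J) := ((algebraMap (Rp ⧸ I) (L ⧸ J)).comp (algebraMap P₀ (Rp ⧸ I))).toAlgebra
  haveI : IsScalarTower P₀ (Rp ⧸ I) (L ⧸ J) := IsScalarTower.of_algebraMap_eq fun _ => rfl
  let e₀ : T.carrier →ₐ[P₀] L ⧸ J :=
    { qm.comp T.toTrunc with
      commutes' := fun c => by
        obtain ⟨c, rfl⟩ := Ideal.Quotient.mk_surjective c
        show qm (T.toTrunc (algebraMap P₀ T.carrier (Ideal.Quotient.mk _ c))) = _
        rw [T.compat]
        exact congrArg (Ideal.Quotient.mk J) (hji c).symm }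
  let eD : (Rp ⧸ I) ⊗[P₀] T.carrier →ₐ[Rp ⧸ I] L ⧸ J :=
    Algebra.TensorProduct.lift (Algebra.ofId (Rp ⧸ I) (L ⧸ J)) e₀ fun _ _ => Commute.all _ _
  obtain ⟨D, _, _, _, _, hDfin, hDfs, hDff, hDrange⟩ := exists_etale_local_factor hnil hm (D := (Rp ⧸ I) ⊗[P₀] T.carrier) eD
  have hinj : Function.Injective (algebraMap D (L ⧸ J)) := FaithfulSMul.algebraMap_injective D (L ⧸ J)
  -- algebra structures
  letI : Algebra (R ⧸ K) D := ((algebraMap (Rp ⧸ I) D).comp (algebraMap (R ⧸ K) (Rp ⧸ I))).toAlgebra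
  haveI : IsScalarTower (R ⧸ K) (Rp ⧸ I) D := IsScalarTower.of_algebraMap_eq fun _ => rfl
  letI : Algebra k D := ((algebraMap (R ⧸ K) D).comp (algebraMap k (R ⧸ K))).toAlgebra
  haveI : IsScalarTower k (R ⧸ K) D := IsScalarTower.of_algebraMap_eq fun _ => rfl
  haveI : IsScalarTower (R ⧸ K) D (L ⧸ J) := IsScalarTower.of_algebraMap_eq fun c => by
    rw [IsScalarTower.algebraMap_apply (R ⧸ K) (Rp ⧸ I) (L ⧸ J), IsScalarTower.algebraMap_apply (Rp ⧸ I) D (L ⧸ J)]
    rfl
  haveI : IsScalarTower k (R ⧸ K) (L ⧸ J) :=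
    IsScalarTower.of_algebraMap_eq (R := k) (S := R ⧸ K) (A := L ⧸ J) fun c => by
      show Ideal.Quotient.mk J (algebraMap k L c) = Ideal.Quotient.mk J (algebraMap R L (algebraMap k R c))
      rw [IsScalarTower.algebraMap_apply k Λ L, IsScalarTower.algebraMap_apply k R Λ,
        ← IsScalarTower.algebraMap_apply R Λ L]
  haveI : IsScalarTower k D (L ⧸ J) := IsScalarTower.of_algebraMap_eq fun c => by
    rw [IsScalarTower.algebraMap_apply k (R ⧸ K) (L ⧸ J), IsScalarTower.algebraMap_apply (R ⧸ K) D (L ⧸ J)]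
    rfl
  have hpK : (p.map (Ideal.Quotient.mk K)).IsPrime :=
    Ideal.map_isPrime_of_surjective Ideal.Quotient.mk_surjective (by rw [Ideal.mk_ker]; exact hKp)
  haveI : IsScalarTower R (R ⧸ K) (Rp ⧸ I) :=
    IsScalarTower.of_algebraMap_eq (R := R) (S := R ⧸ K) (A := Rp ⧸ I) fun _ => rfl
  haveI : IsLocalization.AtPrime (Rp ⧸ I) (p.map (Ideal.Quotient.mk K)) :=
    isLocalization_atPrime_quotient K p hKp Rp I rfl
  have : Algebra.FormallyEtale (R ⧸ K) (Rp ⧸ I) :=
    Algebra.FormallyEtale.of_isLocalization (p.map (Ideal.Quotient.mk K)).primeCompl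
  have hfsD : Algebra.FormallySmooth (R ⧸ K) D := Algebra.FormallySmooth.comp (R ⧸ K) (Rp ⧸ I) D
  -- the map from `A`
  let ιD : D →ₐ[k] L ⧸ J := IsScalarTower.toAlgHom k D (L ⧸ J)
  have hrange : ∀ c, φ c ∈ ιD.range := fun c => by
    have hc : c ∈ Algebra.adjoin k (Set.range x) := hx ▸ Algebra.mem_top
    refine (Algebra.adjoin_le (S := ιD.range.comap φ) ?_) hc
    rintro _ ⟨l, rfl⟩
    obtain ⟨y, hyE, hy⟩ := hφ l
    obtain ⟨w, hw⟩ := T.mem_range _ hyE
    obtain ⟨v, hv⟩ := hDrange ((1 : Rp ⧸ I) ⊗ₜ[P₀] w)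
    refine ⟨v, ?_⟩
    show algebraMap D (L ⧸ J) v = φ (x l)
    rw [hv, Algebra.TensorProduct.lift_tmul, map_one, one_mul, ← hy]
    exact congrArg qm hw
  let g : A →ₐ[k] D := (AlgEquiv.ofInjective ιD hinj).symm.toAlgHom.comp (φ.codRestrict ιD.range hrange)
  have hg : ∀ c, algebraMap D (L ⧸ J) (g c) = φ c := fun c =>
    congrArg Subtype.val ((AlgEquiv.ofInjective ιD hinj).apply_symm_apply (φ.codRestrict ιD.range hrange c))
  -- solutions
  have hsol : ∀ l, ∃ (r : ℕ) (z₀ : Fin m → D) (s : Fin m → Fin r → D) (σ : Fin r → L ⧸ J),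
      ∑ t, z₀ t * g (a t) = algebraMap (R ⧸ K) D (Ideal.Quotient.mk K (π l ^ n)) ∧
      (∀ i, ∑ t, g (a t) * s t i = 0) ∧
      ∀ t, z l t = algebraMap D (L ⧸ J) (z₀ t) + ∑ i, algebraMap D (L ⧸ J) (s t i) * σ i := fun l => by
    refine exists_solution_param (fun t => g (a t)) _ (z l) ?_
    rw [← IsScalarTower.algebraMap_apply (R ⧸ K) D (L ⧸ J), ← hz l]
    exact Finset.sum_congr rfl fun t _ => by rw [hg]
  choose r z₀ s σ hz₀ hs hzσ using hsol
  let V := Σ l : Fin d, Fin (r l)
  let B := MvPolynomial V D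
  have hfsB : Algebra.FormallySmooth (R ⧸ K) B := Algebra.FormallySmooth.comp (R ⧸ K) D B
  let χ : B →ₐ[R ⧸ K] L ⧸ J :=
    (MvPolynomial.aeval fun v : V => σ v.1 v.2 : B →ₐ[D] L ⧸ J).restrictScalars (R ⧸ K)
  have hχC : ∀ c, χ (MvPolynomial.C c) = algebraMap D (L ⧸ J) c := fun c => MvPolynomial.aeval_C _ c
  have hχX : ∀ v, χ (MvPolynomial.X v) = σ v.1 v.2 := fun v => MvPolynomial.aeval_X _ v
  let ζ : Fin d → Fin m → B := fun l t =>
    MvPolynomial.C (z₀ l t) + ∑ o, MvPolynomial.C (s l t o) * MvPolynomial.X ⟨l, o⟩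
  let gB : A →ₐ[k] B := (IsScalarTower.toAlgHom k D B).comp g
  obtain ⟨lB, y, hy⟩ := exists_generators (R := R ⧸ K) (Rₚ := Rp ⧸ I) (p.map (Ideal.Quotient.mk K)).primeCompl (D := D) V
  refine ⟨B, inferInstance, inferInstance, inferInstance, inferInstance, hfsB, χ, gB, ζ, lB, y, fun c => ?_,
    fun l t => ?_, fun l => ?_, fun b => ?_⟩
  · show χ (MvPolynomial.C (g c)) = φ c
    rw [hχC, hg]
  · simp only [ζ, map_add, map_sum, map_mul, hχC, hχX]
    exact (hzσ l t).symm
  · show ∑ t, ζ l t * MvPolynomial.C (g (a t)) = _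
    have h : ∀ t, ζ l t * MvPolynomial.C (g (a t)) = MvPolynomial.C (z₀ l t * g (a t)) +
        ∑ o, MvPolynomial.C (g (a t) * s l t o) * MvPolynomial.X (⟨l, o⟩ : V) := fun t => by
      refine (add_mul _ _ _).trans (congrArg₂ (· + ·) (map_mul _ _ _).symm ?_)
      refine (Finset.sum_mul _ _ _).trans (Finset.sum_congr rfl fun o _ => ?_)
      rw [MvPolynomial.C_mul]
      ring
    rw [Finset.sum_congr rfl fun t _ => h t, Finset.sum_add_distrib, Finset.sum_comm, ← map_sum, hz₀,
      Finset.sum_eq_zero fun o _ => ?_, add_zero, IsScalarTower.algebraMap_apply (R ⧸ K) D B]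
    · rfl
    · rw [← Finset.sum_mul, ← map_sum, hs, map_zero, zero_mul]
  · obtain ⟨c, P, hc, hP⟩ := hy b
    obtain ⟨c, rfl⟩ := Ideal.Quotient.mk_surjective c
    exact ⟨c, P, fun h => hc (Ideal.mem_map_of_mem _ h), hP⟩

end TransLib
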