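import Groth.Agent.TransLib.SepResMain

/-!
# The universal problem over affine space
-/

set_option autoImplicit false

universe u

open MvPolynomial TensorProduct

namespace TransLib

variable {k A : Type u} [Field k] [CommRing A] [Algebra k A]

/-- The inclusion of the algebra. -/
noncomputable def powIncl (d n : ℕ) {m : ℕ} (a : Fin m → A) : A →ₐ[k] PowAlg d n a :=
  (Ideal.Quotient.mkₐ k (powRelIdeal d n a)).comp
    (IsScalarTower.toAlgHom k A (MvPolynomial (Fin d ⊕ Fin d × Fin m) A))

theorem powIncl_apply (d n : ℕ) {m : ℕ} (a : Fin m → A) (c : A) :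
    powIncl (k := k) d n a c = Ideal.Quotient.mk (powRelIdeal d n a) (MvPolynomial.C c) := rfl

/-- The new coefficients. -/
noncomputable def powCoeff (d n : ℕ) {m : ℕ} (a : Fin m → A) (i : Fin d) (j : Fin m) : PowAlg d n a :=
  Ideal.Quotient.mk (powRelIdeal d n a) (X (Sum.inr (i, j)))

/-- Maps out of the universal problem. -/
theorem exists_powHom {d n : ℕ} {m : ℕ} (a : Fin m → A) {T : Type u} [CommRing T]
    [Algebra (MvPolynomial (Fin d) k) T] [Algebra k T] [IsScalarTower k (MvPolynomial (Fin d) k) T] (g : A →ₐ[k] T)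
    (z : Fin d → Fin m → T) (hz : ∀ i, ∑ j, z i j * g (a j) = algebraMap (MvPolynomial (Fin d) k) T (X i) ^ n) :
    ∃ h : PowAlg d n a →ₐ[MvPolynomial (Fin d) k] T,
      (∀ c, h (powIncl (k := k) d n a c) = g c) ∧ ∀ i j, h (powCoeff d n a i j) = z i j := by
  let R := MvPolynomial (Fin d) k
  let ev : MvPolynomial (Fin d ⊕ Fin d × Fin m) A →+* T :=
    eval₂Hom g.toRingHom (Sum.elim (fun i => algebraMap R T (X i)) fun p => z p.1 p.2)
  have hev : powRelIdeal d n a ≤ RingHom.ker ev := by
    refine Ideal.span_le.2 ?_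
    rintro _ ⟨i, rfl⟩
    show ev _ = 0
    simp only [ev, map_sub, map_pow, map_sum, map_mul, eval₂Hom_X', eval₂Hom_C, Sum.elim_inl, Sum.elim_inr]
    rw [← hz i]
    exact sub_self _
  refine ⟨{ Ideal.Quotient.lift (powRelIdeal d n a) ev hev with
    commutes' := fun r => RingHom.congr_fun
      (f := (Ideal.Quotient.lift (powRelIdeal d n a) ev hev).comp (algebraMap R (PowAlg d n a)))
      (g := algebraMap R T) (MvPolynomial.ringHom_ext (fun c => by
        show Ideal.Quotient.lift _ ev hev (algebraMap R (PowAlg d n a) (algebraMap k R c)) = algebraMap R T (algebraMap k R c)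
        rw [← IsScalarTower.algebraMap_apply, ← IsScalarTower.algebraMap_apply,
          IsScalarTower.algebraMap_apply k A (PowAlg d n a)]
        show ev (MvPolynomial.C (algebraMap k A c)) = _
        rw [eval₂Hom_C]
        exact g.commutes c) fun i => by
        show Ideal.Quotient.lift _ ev hev (algebraMap R (PowAlg d n a) (X i)) = _
        rw [powAlg_algebraMap_X, Ideal.Quotient.lift_mk, eval₂Hom_X']
        rfl) r }, fun c => ?_, fun i j => ?_⟩
  · show ev (MvPolynomial.C c) = g c
    exact eval₂Hom_C _ _ c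
  · show ev (X (Sum.inr (i, j))) = z i j
    exact eval₂Hom_X' _ _ _

theorem powHom_ext {d n : ℕ} {m : ℕ} {a : Fin m → A} {T : Type u} [CommRing T]
    [Algebra (MvPolynomial (Fin d) k) T] (h h' : PowAlg d n a →ₐ[MvPolynomial (Fin d) k] T)
    (hA : ∀ c, h (powIncl (k := k) d n a c) = h' (powIncl (k := k) d n a c))
    (hz : ∀ i j, h (powCoeff d n a i j) = h' (powCoeff d n a i j)) : h = h' := by
  refine AlgHom.ext fun b => ?_
  obtain ⟨b, rfl⟩ := Ideal.Quotient.mk_surjective b
  refine RingHom.congr_fun (MvPolynomial.ringHom_ext (f := h.toRingHom.comp (Ideal.Quotient.mk (powRelIdeal d n a)))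
    (g := h'.toRingHom.comp (Ideal.Quotient.mk (powRelIdeal d n a))) (fun c => hA c) fun o => ?_) b
  rcases o with i | ⟨i, j⟩
  · show h (Ideal.Quotient.mk _ (X (Sum.inl i))) = h' (Ideal.Quotient.mk _ (X (Sum.inl i)))
    rw [← powAlg_algebraMap_X (k := k), h.commutes, h'.commutes]
  · exact hz i j

/-- The universal problem with strictly standard parameters. -/
theorem exists_universal [Algebra.FinitePresentation k A] (d n : ℕ) {m : ℕ} (a : Fin m → A)
    (ha : ∀ j, a j ∈ Smoothing.singularIdeal k A) :
    ∃ (C : Type u) (_ : CommRing C) (_ : Algebra (MvPolynomial (Fin d) k) C)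
      (_ : Algebra.FinitePresentation (MvPolynomial (Fin d) k) C)
      (ρ : C →ₐ[MvPolynomial (Fin d) k] PowAlg d n a) (g : A →+* C) (M : ℕ), 0 < M ∧
      (∀ c, ρ (g c) = powIncl (k := k) d n a c) ∧
      (∀ c : k, g (algebraMap k A c) = algebraMap (MvPolynomial (Fin d) k) C (MvPolynomial.C c)) ∧
      (∀ i, Smoothing.IsStrictlyStandard (MvPolynomial (Fin d) k) C
        (algebraMap (MvPolynomial (Fin d) k) C (X i ^ M))) ∧
      ∀ j, g (a j) ∈ Smoothing.singularIdeal (MvPolynomial (Fin d) k) C := by
  classical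
  let R := MvPolynomial (Fin d) k
  let B := PowAlg d n a
  have hBfp : Algebra.FinitePresentation R B := finitePresentation_powAlg d n a
  obtain ⟨C, _, _, _, _, hCft, ⟨ρ⟩, hCsm⟩ := exists_retract_free_kaehler_smooth (R := R) (A := B)
  have : IsNoetherianRing B := Algebra.FiniteType.isNoetherianRing R B
  have : Algebra.FinitePresentation B C := Algebra.FinitePresentation.of_finiteType.1 hCft
  have hCfp : Algebra.FinitePresentation R C := Algebra.FinitePresentation.trans R B C
  have hbsm : ∀ b ∈ Smoothing.singularIdeal R B,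
      Algebra.FormallySmooth R (Localization.Away (algebraMap B C b)) ∧
        Module.Free (Localization.Away (algebraMap B C b)) Ω[Localization.Away (algebraMap B C b)⁄R] :=
    fun b hb => hCsm b (smooth_away_of_mem_singularIdeal hb)
  have hx : ∀ i : Fin d, algebraMap R B (X i) ∈ Smoothing.singularIdeal R B := X_mem_singularIdeal_powAlg d n a ha
  have hstd₀ : ∀ i : Fin d, ∃ e₀ : ℕ, ∀ N : ℕ, e₀ ≤ N →
      Smoothing.IsStrictlyStandard R C (algebraMap R C (X i ^ N)) := fun i => by
    obtain ⟨hfs, hfree⟩ := hbsm _ (hx i)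
    have : Algebra.FinitePresentation C (Localization.Away (algebraMap B C (algebraMap R B (X i)))) :=
      IsLocalization.Away.finitePresentation (algebraMap B C (algebraMap R B (X i)))
    have : Algebra.Smooth R (Localization.Away (algebraMap B C (algebraMap R B (X i)))) :=
      ⟨hfs, Algebra.FinitePresentation.trans _ C _⟩
    obtain ⟨e₀, he₀⟩ := exists_pow_isStrictlyStandard_of_free (R := R) (algebraMap B C (algebraMap R B (X i)))
    refine ⟨e₀, fun N hN => ?_⟩
    rw [map_pow, IsScalarTower.algebraMap_apply R B C]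
    exact he₀ N hN
  choose e₀ he₀ using hstd₀
  refine ⟨C, inferInstance, inferInstance, hCfp, ρ.restrictScalars R,
    (algebraMap B C).comp (powIncl (k := k) d n a).toRingHom, Finset.univ.sup e₀ + 1, Nat.succ_pos _,
    fun c => ρ.commutes _, fun c => ?_,
    fun i => he₀ i _ ((Finset.le_sup (Finset.mem_univ i)).trans (Nat.le_succ _)), fun j => ?_⟩
  · show algebraMap B C (powIncl (k := k) d n a (algebraMap k A c)) = _
    rw [AlgHom.commutes, IsScalarTower.algebraMap_apply k R B, ← IsScalarTower.algebraMap_apply R B C]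
    rfl
  · obtain ⟨hfs, -⟩ := hbsm _ (mem_singularIdeal_powAlg (k := k) d n a j (ha j))
    exact @mem_singularIdeal_of_formallySmooth_away R C _ _ _ hCfp _ hfs

end TransLib
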