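import Groth.Agent.TransLib.GeomDenom
import Groth.Agent.TransLib.GeomModel
import Groth.Agent.TransLib.GeomUniversal
import Groth.Agent.CohenLib.FSField

/-!
# Resolving at a prime of a geometrically regular algebra
-/

set_option autoImplicit false

universe u

open IsLocalRing TensorProduct

namespace TransLib

/-- A problem with a smooth local model and nilpotent maximal ideal can be resolved. -/
theorem resolvable_of_model {R A Λ L B : Type u} [CommRing R] [IsNoetherianRing R] [CommRing A] [Algebra R A]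
    [Algebra.FinitePresentation R A] [CommRing Λ] [Algebra R Λ] (φ : A →ₐ[R] Λ) (q : Ideal Λ) [q.IsPrime]
    [CommRing L] [Algebra Λ L] [IsLocalization.AtPrime L q] [Algebra R L] [IsScalarTower R Λ L]
    [CommRing B] [Algebra R B] [Algebra.FormallySmooth R B] (αB : A →ₐ[R] B) (χ : B →ₐ[R] L)
    (hαχ : ∀ x, χ (αB x) = algebraMap Λ L (φ x)) {l : ℕ} (y : Fin l → B)
    (hgen : ∀ b : B, ∃ (s : R) (p : MvPolynomial (Fin l) R), s ∉ q.comap (algebraMap R Λ) ∧
      algebraMap R B s * b = MvPolynomial.aeval y p)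
    (hnil : ∀ x ∈ q, IsNilpotent (algebraMap Λ L x)) : Smoothing.Resolvable R φ q := by
  classical
  by_cases hA : Smoothing.singRad R φ ≤ q
  swap
  · exact ⟨A, inferInstance, inferInstance, inferInstance, AlgHom.id R A, φ, φ.comp_id, le_rfl, hA⟩
  have : IsNoetherianRing A := Algebra.FiniteType.isNoetherianRing R A
  obtain ⟨m, a, ha⟩ := Submodule.fg_iff_exists_fin_generating_family.1
    (IsNoetherian.noetherian (Smoothing.singularIdeal R A))
  have hak : ∀ j, a j ∈ Smoothing.singularIdeal R A := fun j => ha ▸ Submodule.subset_span ⟨j, rfl⟩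
  obtain ⟨C, _, _, hC, g, h, hgh, hsm, hsm'⟩ := exists_glue φ q (Λq := L) αB χ hαχ y hgen a
    (fun j => smooth_away_of_mem_singularIdeal (hak j)) (fun j => hnil _ (hA (apply_mem_singRad φ (hak j))))
  refine ⟨C, inferInstance, inferInstance, hC, g, h, hgh, ?_,
    fun hle => exists_mem_of_isSmoothAt h q hsm (Ideal.le_radical.trans hle)⟩
  unfold Smoothing.singRad
  refine Ideal.radical_le_radical_iff.2 ?_
  rw [Ideal.map_le_iff_le_comap, ← ha]
  refine Submodule.span_le.2 ?_
  rintro _ ⟨j, rfl⟩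
  show φ (a j) ∈ Ideal.radical _
  rw [Ideal.radical_eq_sInf, Submodule.mem_sInf]
  rintro r ⟨hr, hrp⟩
  by_contra hj
  exact exists_mem_of_isSmoothAt h r (hsm' r ⟨j, hj⟩) hr

/-- The reduced problem with a model over the reduced base. -/
theorem resolvable_quotient_of_model {R C Λ L B : Type u} [CommRing R] [IsNoetherianRing R] [CommRing C] [Algebra R C]
    [Algebra.FinitePresentation R C] [CommRing Λ] [Algebra R Λ] (φ : C →ₐ[R] Λ) (q : Ideal Λ) [q.IsPrime]
    [CommRing L] [Algebra Λ L] [IsLocalization.AtPrime L q] [Algebra R L] [IsScalarTower R Λ L] (K : Ideal R)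
    (hK : K.map (algebraMap R Λ) ≤ q) [CommRing B] [Algebra (R ⧸ K) B] [Algebra.FormallySmooth (R ⧸ K) B]
    (αB : (C ⧸ K.map (algebraMap R C)) →ₐ[R ⧸ K] B) (χ : B →ₐ[R ⧸ K] L ⧸ K.map (algebraMap R L))
    (hαχ : ∀ c, χ (αB (Ideal.Quotient.mk _ c)) = Ideal.Quotient.mk _ (algebraMap Λ L (φ c)))
    {l : ℕ} (y : Fin l → B)
    (hgen : ∀ b : B, ∃ (s : R) (p : MvPolynomial (Fin l) (R ⧸ K)), s ∉ q.comap (algebraMap R Λ) ∧
      algebraMap (R ⧸ K) B (Ideal.Quotient.mk K s) * b = MvPolynomial.aeval y p)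
    (hnil : ∀ y ∈ q, IsNilpotent (Ideal.Quotient.mk (K.map (algebraMap R L)) (algebraMap Λ L y))) :
    Smoothing.Resolvable (R ⧸ K) (quotMapₐ φ K) (q.map (Ideal.Quotient.mk (K.map (algebraMap R Λ)))) := by
  let I := K.map (algebraMap R Λ)
  let J := K.map (algebraMap R L)
  have hJ : J = I.map (algebraMap Λ L) := by
    show K.map (algebraMap R L) = (K.map (algebraMap R Λ)).map (algebraMap Λ L)
    rw [Ideal.map_map, ← IsScalarTower.algebraMap_eq]
  have hIJ : I ≤ J.comap (algebraMap Λ L) := Ideal.map_le_iff_le_comap.1 hJ.ge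
  letI algL : Algebra (Λ ⧸ I) (L ⧸ J) := (Ideal.quotientMap J (algebraMap Λ L) hIJ).toAlgebra
  haveI : IsScalarTower Λ (Λ ⧸ I) (L ⧸ J) :=
    IsScalarTower.of_algebraMap_eq (R := Λ) (S := Λ ⧸ I) (A := L ⧸ J) fun _ => rfl
  haveI : IsScalarTower (R ⧸ K) (Λ ⧸ I) (L ⧸ J) :=
    IsScalarTower.of_algebraMap_eq (R := R ⧸ K) (S := Λ ⧸ I) (A := L ⧸ J) fun x => by
    obtain ⟨x, rfl⟩ := Ideal.Quotient.mk_surjective x
    show Ideal.Quotient.mk J (algebraMap R L x) = Ideal.Quotient.mk J (algebraMap Λ L (algebraMap R Λ x))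
    rw [← IsScalarTower.algebraMap_apply]
  have hk : RingHom.ker (Ideal.Quotient.mk I) ≤ q := by rw [Ideal.mk_ker]; exact hK
  have hq₀ : (q.map (Ideal.Quotient.mk I)).IsPrime := Ideal.map_isPrime_of_surjective Ideal.Quotient.mk_surjective hk
  have hloc := isLocalization_atPrime_quotient I q hK L J hJ
  have : Algebra.FinitePresentation (R ⧸ K) (C ⧸ K.map (algebraMap R C)) :=
    Algebra.FinitePresentation.equiv (R := R ⧸ K) (A := TensorProduct R (R ⧸ K) C) (B := C ⧸ K.map (algebraMap R C))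
      (Algebra.TensorProduct.quotIdealMapEquivQuotTensor C K).symm
  refine resolvable_of_model (L := L ⧸ J) (quotMapₐ φ K) (q.map (Ideal.Quotient.mk I)) αB χ (fun c => ?_) y
    (fun b => ?_) fun x hx => ?_
  · obtain ⟨c, rfl⟩ := Ideal.Quotient.mk_surjective c
    rw [hαχ]
    rfl
  · obtain ⟨s, p, hs, hsp⟩ := hgen b
    refine ⟨Ideal.Quotient.mk K s, p, fun h => hs ?_, hsp⟩
    have h' : Ideal.Quotient.mk I (algebraMap R Λ s) ∈ q.map (Ideal.Quotient.mk I) := h
    rwa [Ideal.mem_quotient_iff_mem_sup, sup_eq_left.2 hK] at h'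
  · rw [← mem_nilradical]
    refine Ideal.mem_comap.1 ((Ideal.map_le_iff_le_comap.2 ?_) hx)
    intro y hy
    exact mem_nilradical.2 (hnil y hy)

theorem mul_mem_of_sq_cond {R : Type u} [CommRing R] (J : Ideal R) (p : R) (h : ∀ x, p ^ 2 * x ∈ J → p * x ∈ J) :
    ∀ (a : ℕ) (x : R), p ^ (a + 1) * x ∈ J → p * x ∈ J
  | 0, x, hx => by rwa [zero_add, pow_one] at hx
  | a + 1, x, hx => by
    refine mul_mem_of_sq_cond J p h a x ?_
    rw [pow_succ', mul_assoc]
    refine h _ ?_
    rwa [← mul_assoc, ← pow_add, show 2 + a = a + 1 + 1 by omega]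

theorem SqCond.pow {R : Type u} [CommRing R] {d : ℕ} {π : Fin d → R} {M : ℕ} (h : SqCond π (8 * M) d) (hM : 0 < M)
    (i : Fin d) (x : R) (hx : (π i ^ M) ^ 2 * x ∈ Ideal.span ((fun j => (π j ^ M) ^ 8) '' {j | j < i})) :
    π i ^ M * x ∈ Ideal.span ((fun j => (π j ^ M) ^ 8) '' {j | j < i}) := by
  have hJ : Ideal.span ((fun j => (π j ^ M) ^ 8) '' {j | j < i}) = prevIdeal π (8 * M) i := by
    unfold prevIdeal
    congr 1
    ext z
    exact ⟨fun ⟨j, hj, hz⟩ => ⟨⟨j, hj⟩, (pow_mul' (π j) 8 M).trans hz⟩,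
      fun ⟨⟨j, hj⟩, hz⟩ => ⟨j, hj, (pow_mul' (π j) 8 M).symm.trans hz⟩⟩
  rw [hJ] at hx ⊢
  have h1 := mul_mem_of_sq_cond (prevIdeal π (8 * M) i) (π i) (h i i.2) (2 * M - 1) x
    (by rwa [Nat.sub_add_cancel (by omega), mul_comm 2 M, pow_mul])
  rw [show π i ^ M = π i ^ (M - 1) * π i by rw [← pow_succ, Nat.sub_add_cancel hM], mul_assoc]
  exact Ideal.mul_mem_left _ _ h1

/-- The final computation at a stage. -/
theorem resolvable_of_stage {k R Λ R₀ L₀ A : Type u} [Field k] [CommRing R] [IsNoetherianRing R] [IsRegularRing R]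
    [Algebra k R] [Algebra.FinitePresentation k R] [Algebra.FormallySmooth k R] [CommRing Λ] [IsNoetherianRing Λ]
    [Algebra R Λ] [Algebra k Λ] [IsScalarTower k R Λ] (q : Ideal Λ) [q.IsPrime]
    [IsRegularLocalRing (Localization.AtPrime q)] {d : ℕ} (hd : ringKrullDim (Localization.AtPrime q) = d)
    (π : Fin d → R)
    (hπR : Ideal.span (Set.range fun i => algebraMap R (Localization.AtPrime (q.comap (algebraMap R Λ))) (π i)) =
      maximalIdeal (Localization.AtPrime (q.comap (algebraMap R Λ))))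
    (hπΛ : Ideal.span (Set.range fun i => algebraMap Λ (Localization.AtPrime q) (algebraMap R Λ (π i))) =
      maximalIdeal (Localization.AtPrime q))
    [CommRing R₀] [IsLocalRing R₀] [CommRing L₀] [IsLocalRing L₀] (ρ : R₀ →+* L₀)
    (j : R₀ →+* Localization.AtPrime (q.comap (algebraMap R Λ))) (i : L₀ →+* Localization.AtPrime q)
    [IsLocalHom j] [IsLocalHom i]
    (hji : ∀ x, Localization.localRingHom _ q (algebraMap R Λ) rfl (j x) = i (ρ x))
    [CommRing A] [Algebra k A] (φ : A →ₐ[k] Λ)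
    {n m : ℕ} (a : Fin m → A) (ha : Ideal.span (Set.range a) = Smoothing.singularIdeal k A)
    {C : Type u} [CommRing C] [Algebra (MvPolynomial (Fin d) k) C]
    [Algebra.FinitePresentation (MvPolynomial (Fin d) k) C]
    (ρC : C →ₐ[MvPolynomial (Fin d) k] PowAlg d n a) (g : A →+* C) {M : ℕ} (hM : 0 < M)
    (hρg : ∀ c, ρC (g c) = powIncl (k := k) d n a c)
    (hgk : ∀ c : k, g (algebraMap k A c) = algebraMap (MvPolynomial (Fin d) k) C (MvPolynomial.C c))
    (hstd : ∀ l, Smoothing.IsStrictlyStandard (MvPolynomial (Fin d) k) C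
      (algebraMap (MvPolynomial (Fin d) k) C (MvPolynomial.X l ^ M)))
    (hgsing : ∀ t, g (a t) ∈ Smoothing.singularIdeal (MvPolynomial (Fin d) k) C)
    (hsqR : SqCond π (8 * M) d) (hsqΛ : SqCond (fun l => algebraMap R Λ (π l)) (8 * M) d)
    (hpow : ∀ l, algebraMap R Λ (π l) ^ n ∈ Ideal.span (Set.range fun t => φ (a t)))
    {N : ℕ} (hN : d * (8 * M) ≤ N) (hN₀ : 0 < N) {E : Finset (L₀ ⧸ maximalIdeal L₀ ^ N)} (T : EtaleTrunc ρ N E)
    {nA : ℕ} (x : Fin nA → A) (hx : Algebra.adjoin k (Set.range x) = ⊤)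
    (hE : ∀ l, ∃ y : L₀, Ideal.Quotient.mk _ y ∈ E ∧ i y = algebraMap Λ (Localization.AtPrime q) (φ (x l))) :
    Smoothing.Resolvable k φ q := by
  classical
  let R₁ := MvPolynomial (Fin d) k
  letI algR₁ : Algebra R₁ R := (MvPolynomial.aeval π : R₁ →ₐ[k] R).toRingHom.toAlgebra
  haveI : IsScalarTower k R₁ R :=
    IsScalarTower.of_algebraMap_eq fun c => ((MvPolynomial.aeval π : R₁ →ₐ[k] R).commutes c).symm
  have hX : ∀ l, algebraMap R₁ R (MvPolynomial.X l) = π l := fun l => MvPolynomial.aeval_X π l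
  letI algR₁Λ : Algebra R₁ Λ := ((algebraMap R Λ).comp (algebraMap R₁ R)).toAlgebra
  haveI : IsScalarTower R₁ R Λ := IsScalarTower.of_algebraMap_eq fun _ => rfl
  haveI : IsScalarTower k R₁ Λ := IsScalarTower.of_algebraMap_eq fun c => by
    show algebraMap k Λ c = algebraMap R Λ (algebraMap R₁ R (algebraMap k R₁ c))
    rw [← IsScalarTower.algebraMap_apply k R₁ R, ← IsScalarTower.algebraMap_apply k R Λ]
  have hlam : ∀ l, ∃ c : Fin m → Λ, ∑ t, c t * φ (a t) = algebraMap R Λ (π l) ^ n := fun l =>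
    (Submodule.mem_span_range_iff_exists_fun Λ).1 (hpow l)
  choose lam hlam using hlam
  obtain ⟨h₁, h₁A, h₁z⟩ := exists_powHom (d := d) (n := n) a φ lam (fun l => by
    rw [hlam l, IsScalarTower.algebraMap_apply R₁ R Λ, hX])
  let C' := R ⊗[R₁] C
  let φC : C' →ₐ[R] Λ :=
    Algebra.TensorProduct.lift (Algebra.ofId R Λ) (h₁.comp ρC) fun _ _ => Commute.all _ _
  have hφC : ∀ c, φC ((1 : R) ⊗ₜ[R₁] c) = h₁ (ρC c) := fun c => by
    rw [Algebra.TensorProduct.lift_tmul, map_one, one_mul]
    rfl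
  let π' : Fin d → R := fun l => π l ^ M
  have hπq : ∀ l, algebraMap R Λ (π l) ∈ q := fun l => by
    refine (IsLocalization.AtPrime.to_map_mem_maximal_iff (Localization.AtPrime q) q _).1 ?_
    rw [← hπΛ]
    exact Ideal.subset_span ⟨l, rfl⟩
  have hstd' : ∀ l, Smoothing.IsStrictlyStandard R C' (algebraMap R C' (π' l)) := fun l => by
    have h := (isStandard_baseChange (R' := R) _).2 (hstd l)
    rwa [Algebra.algebraMap_eq_smul_one (A := C), TensorProduct.tmul_smul, TensorProduct.smul_tmul', Algebra.smul_def,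
      mul_one, map_pow, hX] at h
  let K : Ideal R := Ideal.span (Set.range fun l => π l ^ (8 * M))
  have hKeq : K = Ideal.span (Set.range fun l => π' l ^ 8) := by
    show Ideal.span _ = _
    congr 1
    exact congrArg Set.range (funext fun l => by rw [← pow_mul, mul_comm M])
  have hKq : K.map (algebraMap R Λ) ≤ q := by
    refine Ideal.map_le_iff_le_comap.2 (Ideal.span_le.2 ?_)
    rintro _ ⟨l, rfl⟩
    show algebraMap R Λ (π l ^ (8 * M)) ∈ q
    rw [map_pow]
    exact Ideal.pow_mem_of_mem _ (hπq l) _ (by omega)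
  let L := Localization.AtPrime q
  let J := K.map (algebraMap R L)
  let φbar : A →ₐ[k] L ⧸ J :=
    ((Ideal.Quotient.mkₐ R J).restrictScalars k).comp ((IsScalarTower.toAlgHom k Λ L).comp φ)
  obtain ⟨B, _, _, _, _, hfsB, χ, gB, ζ, l', y, hχg, hχζ, hζ, hgen⟩ := exists_reduced_model q hd π hπR hπΛ (8 * M)
    (by omega) K rfl ρ j i hji hN hN₀ T x hx φbar (fun l => by
      obtain ⟨y, hy, hy'⟩ := hE l
      exact ⟨y, hy, congrArg (Ideal.Quotient.mk J) hy'⟩)
    n a (fun l t => Ideal.Quotient.mk J (algebraMap Λ L (lam l t))) (fun l => by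
      show ∑ t, Ideal.Quotient.mk J (algebraMap Λ L (lam l t)) * Ideal.Quotient.mk J (algebraMap Λ L (φ (a t))) = _
      simp only [← map_mul, ← map_sum, hlam l]
      show _ = Ideal.Quotient.mk J (algebraMap R L (π l ^ n))
      rw [IsScalarTower.algebraMap_apply R Λ L]
      simp only [map_pow])
  letI algB : Algebra R B := ((algebraMap (R ⧸ K) B).comp (Ideal.Quotient.mk K)).toAlgebra
  haveI : IsScalarTower R (R ⧸ K) B := IsScalarTower.of_algebraMap_eq (R := R) (S := R ⧸ K) (A := B) fun _ => rfl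
  letI algR₁B : Algebra R₁ B := ((algebraMap R B).comp (algebraMap R₁ R)).toAlgebra
  haveI : IsScalarTower R₁ R B := IsScalarTower.of_algebraMap_eq fun _ => rfl
  haveI : IsScalarTower k R₁ B := IsScalarTower.of_algebraMap_eq fun c => by
    show _ = algebraMap (R ⧸ K) B (Ideal.Quotient.mk K (algebraMap R₁ R (algebraMap k R₁ c)))
    rw [← IsScalarTower.algebraMap_apply k R₁ R, IsScalarTower.algebraMap_apply k (R ⧸ K) B]
    rfl
  obtain ⟨hB₁, hB₁A, hB₁z⟩ := exists_powHom (d := d) (n := n) a gB ζ (fun l => by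
    rw [hζ l, IsScalarTower.algebraMap_apply R₁ R B, hX, map_pow (Ideal.Quotient.mk K), map_pow]
    rfl)
  let αC : C' →ₐ[R] B :=
    Algebra.TensorProduct.lift (Algebra.ofId R B) (hB₁.comp ρC) fun _ _ => Commute.all _ _
  have hαC : K.map (algebraMap R C') ≤ RingHom.ker αC.toRingHom := by
    refine Ideal.map_le_iff_le_comap.2 fun r hr => ?_
    show αC (algebraMap R C' r) = 0
    rw [αC.commutes]
    show algebraMap (R ⧸ K) B (Ideal.Quotient.mk K r) = 0
    rw [Ideal.Quotient.eq_zero_iff_mem.2 hr, map_zero]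
  let αB : (C' ⧸ K.map (algebraMap R C')) →ₐ[R ⧸ K] B :=
    { Ideal.Quotient.lift _ αC.toRingHom hαC with
      commutes' := fun r => by
        obtain ⟨r, rfl⟩ := Ideal.Quotient.mk_surjective r
        exact αC.commutes r }
  have hcompat : ∀ c, χ (αC c) = Ideal.Quotient.mk J (algebraMap Λ L (φC c)) := by
    let χR : B →ₐ[R] L ⧸ J :=
      { χ.toRingHom with
        commutes' := fun r => χ.commutes (Ideal.Quotient.mk K r) }
    let tgt : Λ →ₐ[R] L ⧸ J := (Ideal.Quotient.mkₐ R J).comp (IsScalarTower.toAlgHom R Λ L)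
    suffices h : χR.comp αC = tgt.comp φC from fun c => AlgHom.congr_fun h c
    haveI : IsScalarTower R₁ R (L ⧸ J) :=
      IsScalarTower.of_algebraMap_eq (R := R₁) (S := R) (A := L ⧸ J) fun c => by
        show Ideal.Quotient.mk J (algebraMap R₁ L c) = Ideal.Quotient.mk J (algebraMap R L (algebraMap R₁ R c))
        rw [IsScalarTower.algebraMap_apply R₁ Λ L, IsScalarTower.algebraMap_apply R₁ R Λ,
          ← IsScalarTower.algebraMap_apply R Λ L]
    have h2 : (χR.restrictScalars R₁).comp hB₁ = (tgt.restrictScalars R₁).comp h₁ := by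
      refine powHom_ext (k := k) _ _ (fun c => ?_) fun l t => ?_
      · show χ (hB₁ (powIncl (k := k) d n a c)) = tgt (h₁ (powIncl (k := k) d n a c))
        rw [hB₁A, h₁A, hχg]
        rfl
      · show χ (hB₁ (powCoeff d n a l t)) = tgt (h₁ (powCoeff d n a l t))
        rw [hB₁z, h₁z, hχζ]
        rfl
    refine Algebra.TensorProduct.ext (AlgHom.ext fun r => ?_) (AlgHom.ext fun c => ?_)
    · show (χR.comp αC) (r ⊗ₜ[R₁] (1 : C)) = (tgt.comp φC) (r ⊗ₜ[R₁] (1 : C))
      rw [show (r ⊗ₜ[R₁] (1 : C) : C') = algebraMap R C' r from rfl, AlgHom.commutes, AlgHom.commutes]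
    · show χ (αC ((1 : R) ⊗ₜ[R₁] c)) = tgt (φC ((1 : R) ⊗ₜ[R₁] c))
      rw [hφC, Algebra.TensorProduct.lift_tmul, map_one, one_mul]
      exact AlgHom.congr_fun h2 (ρC c)
  have hnil : ∀ y ∈ q, IsNilpotent (Ideal.Quotient.mk J (algebraMap Λ L y)) := fun y hy => by
    rw [← mem_nilradical]
    have hmax : algebraMap Λ L y ∈ maximalIdeal L := (IsLocalization.AtPrime.to_map_mem_maximal_iff L q y).2 hy
    rw [← hπΛ] at hmax
    refine (Ideal.span_le (I := (nilradical (L ⧸ J)).comap (Ideal.Quotient.mk J))).2 ?_ hmax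
    rintro _ ⟨l, rfl⟩
    refine ⟨8 * M, ?_⟩
    rw [← map_pow, ← map_pow, ← map_pow, ← IsScalarTower.algebraMap_apply R Λ L]
    exact Ideal.Quotient.eq_zero_iff_mem.2 (Ideal.mem_map_of_mem _ (Ideal.subset_span ⟨l, rfl⟩))
  obtain ⟨D, _, _, hD, gD, h, hgh, hle, hne⟩ := resolvesOn_of_resolvable_quotient φC q π'
    (fun l => by rw [map_pow]; exact Ideal.pow_mem_of_mem _ (hπq l) M hM)
    (fun l z hz => hsqR.pow hM l z hz)
    (fun l z hz => by
      simp only [π', map_pow] at hz ⊢
      exact hsqΛ.pow hM l z hz)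
    hstd' K hKeq (resolvable_quotient_of_model (L := L) φC q K hKq αB χ hcompat y hgen hnil)
  letI : Algebra k D := ((algebraMap R D).comp (algebraMap k R)).toAlgebra
  haveI : IsScalarTower k R D := IsScalarTower.of_algebraMap_eq fun _ => rfl
  let gA : A →ₐ[k] D :=
    { gD.toRingHom.comp ((Algebra.TensorProduct.includeRight : C →ₐ[R₁] C').toRingHom.comp g) with
      commutes' := fun c => by
        show gD ((1 : R) ⊗ₜ[R₁] g (algebraMap k A c)) = algebraMap R D (algebraMap k R c)
        rw [hgk, Algebra.algebraMap_eq_smul_one (A := C), TensorProduct.tmul_smul, TensorProduct.smul_tmul',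
          Algebra.smul_def, mul_one, ← gD.commutes]
        refine congrArg gD (congrArg (fun r => r ⊗ₜ[R₁] (1 : C)) ?_)
        exact (IsScalarTower.algebraMap_apply k R₁ R c).symm }
  have hφ₁ : ∀ c, φC ((1 : R) ⊗ₜ[R₁] g c) = φ c := fun c => by rw [hφC, hρg, h₁A]
  refine ⟨D, inferInstance, inferInstance, Algebra.FinitePresentation.trans k R D, gA, h.restrictScalars k, ?_, ?_, ?_⟩
  · refine AlgHom.ext fun c => ?_
    show h (gD ((1 : R) ⊗ₜ[R₁] g c)) = φ c
    rw [← AlgHom.comp_apply, hgh, hφ₁]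
  · have hsing := Ideal.radical_mono (Ideal.map_mono (f := h) (singularIdeal_le_of_formallySmooth k R D))
    refine Ideal.IsRadical.radical_le_iff (Ideal.radical_isRadical _) |>.2 ?_
    rw [← ha, Ideal.map_span, Ideal.span_le]
    rintro _ ⟨_, ⟨t, rfl⟩, rfl⟩
    refine hsing (hle ?_)
    rw [← hφ₁]
    exact apply_mem_singRad φC (map_mem_singularIdeal_baseChange (R' := R) (A' := C') AlgEquiv.refl (hgsing t))
  · exact fun hle' => hne ((Ideal.radical_mono (Ideal.map_mono (f := h)
      (singularIdeal_le_of_formallySmooth k R D))).trans hle')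

/-- Resolving at a prime of a geometrically regular algebra with infinite residue domain. -/
theorem resolvable_of_infinite {k A Λ : Type u} [Field k] [CommRing A] [Algebra k A]
    [Algebra.FinitePresentation k A] [CommRing Λ] [Algebra k Λ] [IsNoetherianRing Λ]
    (hreg : CAlg.IsGeometricallyRegular k Λ) (φ : A →ₐ[k] Λ) (q : Ideal Λ) [q.IsPrime]
    (hinf : Infinite (Λ ⧸ q)) (hmin : q ∈ (Smoothing.singRad k φ).minimalPrimes) :
    Smoothing.Resolvable k φ q := by
  classical
  let L := Localization.AtPrime q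
  have hlifts : CohenLib.LiftsAdic k L := liftsAdic_localization_of_geometricallyRegular q hreg
  have hregL : IsRegularLocalRing L := CohenLib.isRegularLocalRing_of_liftsAdic' hlifts
  let d := (maximalIdeal L).spanFinrank
  have hd : ringKrullDim L = d := (IsRegularLocalRing.spanFinrank_maximalIdeal (R := L)).symm
  have : IsNoetherianRing A := Algebra.FiniteType.isNoetherianRing k A
  obtain ⟨m, a, ha⟩ := Submodule.fg_iff_exists_fin_generating_family.1
    (IsNoetherian.noetherian (Smoothing.singularIdeal k A))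
  have hak : ∀ t, a t ∈ Smoothing.singularIdeal k A := fun t => ha ▸ Submodule.subset_span ⟨t, rfl⟩
  have ha' : Ideal.span (Set.range a) = Smoothing.singularIdeal k A := ha
  let S : Ideal Λ := Ideal.span (Set.range fun t => φ (a t))
  have hS : (Smoothing.singularIdeal k A).map φ = S := by
    rw [← ha', Ideal.map_span, ← Set.range_comp]
    rfl
  have hmin' : q ∈ S.radical.minimalPrimes := by rw [← hS]; exact hmin
  obtain ⟨n, hn, hpow⟩ := exists_pow_le_map_of_mem_minimalPrimes S q hmin'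
  obtain ⟨C, _, _, _, ρC, g, M, hM, hρg, hgk, hstd, hgsing⟩ := exists_universal (k := k) d n a hak
  obtain ⟨nA, ψA, hψA, -⟩ := (inferInstance : Algebra.FinitePresentation k A).out
  let x : Fin nA → A := fun l => ψA (MvPolynomial.X l)
  have hx : Algebra.adjoin k (Set.range x) = ⊤ := by
    rw [Algebra.adjoin_range_eq_range_aeval, AlgHom.range_eq_top,
      show (MvPolynomial.aeval x : MvPolynomial (Fin nA) k →ₐ[k] A) = ψA from (MvPolynomial.aeval_unique ψA).symm]
    exact hψA
  let N := max 2 (d * (8 * M))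
  let E : Finset (L ⧸ maximalIdeal L ^ N) :=
    Finset.univ.image fun l => Ideal.Quotient.mk _ (algebraMap Λ L (φ (x l)))
  obtain ⟨ι, _, v, F, hF, hFL, ⟨T⟩⟩ := exists_base hlifts hd N (le_max_left _ _) E
  obtain ⟨R₁, _, _, f₁, F₁, st₀, j₀, hF₁, hj₀⟩ := exists_stage_zero q hinf hd v F hF hFL
  let q₁ : Ideal (Polynomial Λ) := q.map Polynomial.C
  let L₁ := Localization.AtPrime q₁
  obtain ⟨-, -, hm₁⟩ := regular_dim_map_C q hd
  let S₁ : Ideal (Polynomial Λ) := S.map Polynomial.C
  have hf₁F : ∀ l, f₁ (F₁ l) ∈ q₁ := fun l => by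
    refine (SetLike.ext_iff.1 st₀.comap_eq _).1 ?_
    show st₀.tgtHom (f₁ (F₁ l)) ∈ st₀.q
    rw [← st₀.comm, ← hF₁]
    refine (IsLocalization.AtPrime.to_map_mem_maximal_iff (Localization.AtPrime st₀.q) st₀.q _).1 ?_
    rw [← st₀.span_tgt]
    exact Ideal.subset_span ⟨l, rfl⟩
  have ht : ∀ l, ∃ t ∉ q₁, t * f₁ (F₁ l) ^ n ∈ S₁ := fun l => by
    have h1 : algebraMap (Polynomial Λ) L₁ (f₁ (F₁ l) ^ n) ∈ maximalIdeal L₁ ^ n := by
      rw [map_pow]
      exact Ideal.pow_mem_pow ((IsLocalization.AtPrime.to_map_mem_maximal_iff L₁ q₁ _).2 (hf₁F l)) n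
    have h2 : maximalIdeal L₁ ^ n ≤ S₁.map (algebraMap (Polynomial Λ) L₁) := by
      rw [← hm₁, ← Ideal.map_pow, ← Localization.AtPrime.map_eq_maximalIdeal, ← Ideal.map_pow]
      refine (Ideal.map_mono hpow).trans (le_of_eq ?_)
      rw [Ideal.map_map, Ideal.map_map]
      congr 1
      exact RingHom.ext fun c => Localization.localRingHom_to_map q q₁ Polynomial.C (comap_map_C q).symm c
    obtain ⟨t, ht, htS⟩ := (IsLocalization.algebraMap_mem_map_algebraMap_iff q₁.primeCompl L₁ _ _).1 (h2 h1)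
    exact ⟨t, ht, htS⟩
  obtain ⟨st, hst⟩ := exists_stage_good st₀ F₁ S₁ n (8 * M) (by omega) hn ht hF₁
  let ι₀ : Λ →ₐ[k] st.tgt := st.tgtHom.comp (constHom k Λ)
  have hdesc : Descends ι₀ q st.q := (descends_constHom q hinf).trans st.descends
  refine resolvable_of_descends φ hdesc ?_
  have hι₀ : q = st.q.comap ι₀.toRingHom := by
    rw [show ι₀.toRingHom = st.tgtHom.toRingHom.comp Polynomial.C from rfl, ← Ideal.comap_comap, st.comap_eq,
      comap_map_C]
  let p := st.q.comap (algebraMap st.base st.tgt)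
  have hp₁ : q₁.comap f₁ = p.comap st.baseHom.toRingHom := by
    refine (congrArg (Ideal.comap f₁) st.comap_eq.symm).trans ?_
    rw [Ideal.comap_comap, Ideal.comap_comap]
    congr 1
    exact RingHom.ext fun c => (st.comm c).symm
  let ib := Localization.localRingHom q st.q ι₀.toRingHom hι₀
  let jb := (Localization.localRingHom (q₁.comap f₁) p st.baseHom.toRingHom hp₁).comp j₀.toRingHom
  haveI : IsLocalHom ib := Localization.isLocalHom_localRingHom q st.q ι₀.toRingHom hι₀
  have hji : ∀ z, Localization.localRingHom p st.q (algebraMap st.base st.tgt) rfl (jb z) =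
      ib (residueLocHom k v z) := fun z => by
    have hq₁ : q₁ = st.q.comap st.tgtHom.toRingHom := st.comap_eq.symm
    have e1 : ((Localization.localRingHom p st.q (algebraMap st.base st.tgt) rfl).comp
        (Localization.localRingHom (q₁.comap f₁) p st.baseHom.toRingHom hp₁)) =
        (Localization.localRingHom q₁ st.q st.tgtHom.toRingHom hq₁).comp
          (Localization.localRingHom (q₁.comap f₁) q₁ f₁ rfl) := by
      refine IsLocalization.ringHom_ext (q₁.comap f₁).primeCompl (RingHom.ext fun c => ?_)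
      simp only [RingHom.comp_apply, Localization.localRingHom_to_map]
      exact congrArg _ (st.comm c)
    have e2 : (Localization.localRingHom q₁ st.q st.tgtHom.toRingHom hq₁).comp
        (Localization.localRingHom q q₁ (Polynomial.C : Λ →+* Polynomial Λ) (comap_map_C q).symm) = ib := by
      refine IsLocalization.ringHom_ext q.primeCompl (RingHom.ext fun c => ?_)
      simp only [ib, RingHom.comp_apply, Localization.localRingHom_to_map]
      rfl
    have h1 := RingHom.congr_fun e1 (j₀ z)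
    rw [RingHom.comp_apply, RingHom.comp_apply, hj₀] at h1
    exact h1.trans (RingHom.congr_fun e2 (residueLocHom k v z))
  haveI : IsLocalHom jb := ⟨fun z hz => by
    haveI := isLocalHom_residueLocHom (k := k) v
    refine isUnit_of_map_unit (residueLocHom k v).toRingHom z (isUnit_of_map_unit ib _ ?_)
    show IsUnit (ib (residueLocHom k v z))
    rw [← hji]
    exact hz.map _⟩
  refine resolvable_of_stage st.q st.dim st.param st.span_base st.span_tgt (residueLocHom k v).toRingHom jb ib hji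
    (ι₀.comp φ) a ha' ρC g hM hρg hgk hstd hgsing hst.sq_base hst.sq_tgt (fun l => ?_) (N := N) (le_max_right _ _)
    (by omega) T x hx fun l => ⟨algebraMap Λ L (φ (x l)), Finset.mem_image.2 ⟨l, Finset.mem_univ _, rfl⟩,
      Localization.localRingHom_to_map q st.q ι₀.toRingHom hι₀ _⟩
  have h := hst.pow_mem l l.2
  rw [show S₁.map st.tgtHom = Ideal.span (Set.range fun t => (ι₀.comp φ) (a t)) from by
    show ((Ideal.span (Set.range fun t => φ (a t))).map Polynomial.C).map st.tgtHom = _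
    rw [Ideal.map_span, Ideal.map_span, ← Set.range_comp, ← Set.range_comp]
    rfl] at h
  exact h

/-- Resolving at a prime of a geometrically regular algebra. -/
theorem resolvable_of_isGeometricallyRegular {k A Λ : Type u} [Field k] [CommRing A] [Algebra k A]
    [Algebra.FinitePresentation k A] [CommRing Λ] [Algebra k Λ] [IsNoetherianRing Λ]
    (hreg : CAlg.IsGeometricallyRegular k Λ) (φ : A →ₐ[k] Λ) (q : Ideal Λ) [q.IsPrime]
    (hmin : q ∈ (Smoothing.singRad k φ).minimalPrimes) : Smoothing.Resolvable k φ q := by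
  rcases finite_or_infinite (Λ ⧸ q) with hfin | hinf
  swap
  · exact resolvable_of_infinite hreg φ q hinf hmin
  have : IsRegularLocalRing (Localization.AtPrime q) :=
    CohenLib.isRegularLocalRing_of_liftsAdic' (liftsAdic_localization_of_geometricallyRegular q hreg)
  have : Finite k := Finite.of_injective _ (algebraMap k (Λ ⧸ q)).injective
  have : PerfectField k := PerfectField.ofFinite
  have : Algebra.FormallySmooth k q.ResidueField :=
    Groth.Agent.PerfectFieldLib.formallySmooth_of_perfectField k q.ResidueField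
  have : Algebra.IsGeometricallyReduced k q.ResidueField := CohenLib.isGeometricallyReduced_of_formallySmooth
  exact resolvable_of_regular_of_separable_residueField φ q hmin

end TransLib
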