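import Groth.Agent.TransLib.SmoothFactor
import Groth.Agent.TransLib.GeomMain
import Groth.Agent.TransLib.IndSmoothNil
import Groth.Agent.TransLib.Deloc
import Groth.Agent.TransLib.DesingLift
import Groth.Agent.CatLib.Flat

/-!
# Popescu's theorem
-/

set_option autoImplicit false

universe u

open TensorProduct

namespace TransLib

/-- Geometrically regular Noetherian algebras over a field are ind-smooth. -/
theorem indSmooth_of_isGeometricallyRegular {k Λ : Type u} [Field k] [CommRing Λ] [Algebra k Λ] [IsNoetherianRing Λ]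
    (hreg : CAlg.IsGeometricallyRegular k Λ) : Smoothing.IndSmooth k Λ := by
  suffices H : ∀ (J : Ideal Λ) (B : Type u) [CommRing B] [Algebra k B] [Algebra.FinitePresentation k B]
      (h : B →ₐ[k] Λ), Smoothing.singRad k h = J →
      ∃ (C : Type u) (_ : CommRing C) (_ : Algebra k C), Algebra.Smooth k C ∧
        ∃ (g : B →ₐ[k] C) (l : C →ₐ[k] Λ), l.comp g = h by
    intro A _ _ hA f
    exact H _ A f rfl
  intro J
  induction J using WellFoundedGT.induction with
  | _ J ih =>
    intro B _ _ _ h hJ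
    by_cases htop : J = ⊤
    · exact exists_smooth_factor h (Ideal.radical_eq_top.1 (hJ.trans htop))
    obtain ⟨q, hq⟩ := Ideal.nonempty_minimalPrimes htop
    have : q.IsPrime := hq.1.1
    obtain ⟨B', _, _, hB', g', h', hgh, hle, hne⟩ :=
      resolvable_of_isGeometricallyRegular hreg h q (hJ ▸ hq)
    have hlt : J < Smoothing.singRad k h' :=
      lt_of_le_not_ge (hJ ▸ hle) fun hge => hne (hge.trans hq.1.2)
    obtain ⟨C, _, _, hC, g, l, hgl⟩ := ih _ hlt B' h' rfl
    exact ⟨C, inferInstance, inferInstance, hC, g.comp g', l, by rw [← AlgHom.comp_assoc, hgl, hgh]⟩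

/-- Residue fields at minimal primes of reduced rings are localizations. -/
theorem isLocalization_of_isReduced {R K : Type u} [CommRing R] [IsReduced R] (p : Ideal R) [p.IsPrime]
    (hp : p ∈ minimalPrimes R) [Field K] [Algebra R K] (hker : ∀ r, algebraMap R K r = 0 ↔ r ∈ p)
    (hsurj : ∀ z : K, ∃ a b, b ∉ p ∧ z * algebraMap R K b = algebraMap R K a) : IsLocalization.AtPrime K p := by
  refine (isLocalization_iff _ _).2 ⟨fun y => ?_, fun z => ?_, fun {x y} hxy => ?_⟩
  · exact isUnit_iff_ne_zero.2 fun h => y.2 ((hker y).1 h)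
  · obtain ⟨a, b, hb, hab⟩ := hsurj z
    exact ⟨⟨a, ⟨b, hb⟩⟩, hab⟩
  · have hmem : x - y ∈ p := (hker _).1 (by rw [map_sub, hxy, sub_self])
    have hnil : IsNilpotent (algebraMap R (Localization.AtPrime p) (x - y)) := by
      rw [← mem_nilradical, nilradical_eq_sInf, Submodule.mem_sInf]
      intro P hP
      have hP' : Ideal.IsPrime P := hP
      have hle : Ideal.comap (algebraMap R (Localization.AtPrime p)) P ≤ p := fun r hr =>
        (IsLocalization.AtPrime.to_map_mem_maximal_iff (Localization.AtPrime p) p r).1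
          (IsLocalRing.le_maximalIdeal hP'.ne_top hr)
      exact Ideal.mem_comap.1 (hp.2 ⟨hP'.comap _, bot_le⟩ hle hmem)
    obtain ⟨n, hn⟩ := hnil
    rw [← map_pow, IsLocalization.map_eq_zero_iff p.primeCompl] at hn
    obtain ⟨c, hc⟩ := hn
    refine ⟨c, ?_⟩
    have h1 : ((c : R) * (x - y)) ^ (n + 1) = 0 := by
      generalize hδ : x - y = δ at hc ⊢
      rw [show ((c : R) * δ) ^ (n + 1) = (c : R) ^ n * δ * ((c : R) * δ ^ n) by ring, hc, mul_zero]
    have h2 := IsReduced.eq_zero _ ⟨n + 1, h1⟩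
    rwa [mul_sub, sub_eq_zero] at h2

theorem sq_cond_of_flat {R Λ : Type u} [CommRing R] [IsReduced R] [CommRing Λ] [Algebra R Λ] [Module.Flat R Λ] (s : R) :
    (∀ r : R, s ^ 2 * r = 0 → s * r = 0) ∧ ∀ x : Λ, s ^ 2 • x = 0 → s • x = 0 := by
  have h1 : ∀ r : R, s ^ 2 * r = 0 → s * r = 0 := fun r hr =>
    IsReduced.eq_zero _ ⟨2, by rw [show (s * r) ^ 2 = s ^ 2 * r * r by ring, hr, zero_mul]⟩
  refine ⟨h1, fun x hx => ?_⟩
  obtain ⟨l, a, y, h2, h3⟩ := Module.Flat.isTrivialRelation_of_sum_smul_eq_zero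
    (f := fun _ : Fin 1 => s ^ 2) (x := fun _ : Fin 1 => x) (by rw [Fin.sum_univ_one]; exact hx)
  have h20 : x = ∑ j, a 0 j • y j := h2 0
  rw [h20, Finset.smul_sum]
  refine Finset.sum_eq_zero fun j _ => ?_
  rw [smul_smul, h1 _ (by have := h3 j; rwa [Fin.sum_univ_one] at this), zero_smul]

/-- Isomorphic algebras over a field are geometrically regular together. -/
theorem isGeometricallyRegular_of_algEquiv {K S T : Type u} [Field K] [CommRing S] [Algebra K S] [CommRing T]
    [Algebra K T] (e : S ≃ₐ[K] T) (h : CAlg.IsGeometricallyRegular K S) : CAlg.IsGeometricallyRegular K T :=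
  fun k' _ _ hk' => by
    have := h k' hk'
    exact IsRegularRing.of_ringEquiv (Algebra.TensorProduct.congr (AlgEquiv.refl : k' ≃ₐ[k'] k') e).toRingEquiv

/-- The inductive step: reduced base and ind-smooth proper quotients. -/
theorem indSmooth_of_reduced {R Λ : Type u} [CommRing R] [IsNoetherianRing R] [IsReduced R] [CommRing Λ]
    [IsNoetherianRing Λ] [Algebra R Λ] [Module.Flat R Λ] {K : Type u} [Field K] [Algebra R K] (p : Ideal R) [p.IsPrime]
    [IsLocalization.AtPrime K p] [IsNoetherianRing (K ⊗[R] Λ)] (hK : CAlg.IsGeometricallyRegular K (K ⊗[R] Λ))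
    (hquot : ∀ J : Ideal R, J ≠ ⊥ → Smoothing.IndSmooth (R ⧸ J) (Λ ⧸ J.map (algebraMap R Λ))) :
    Smoothing.IndSmooth R Λ := by
  intro A _ _ hA f
  obtain ⟨B', _, _, hB', g', h', hgh⟩ := indSmooth_of_isGeometricallyRegular hK (K ⊗[R] A) inferInstance
    (Algebra.TensorProduct.map (AlgHom.id K K) f)
  obtain ⟨B, _, _, α, β, hαβ, s, hs, hel⟩ := delocalize_base f p.primeCompl g' h' hgh
  obtain ⟨P, ⟨a', ha'⟩, hkill⟩ := hel
  have hBfp : Algebra.FinitePresentation R B :=
    Algebra.FinitePresentation.of_surjective P.surj (P.ker_eq ▸ Submodule.fg_span (Set.finite_range _))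
  have hstd : Smoothing.IsStrictlyStandard R B (algebraMap R B s) :=
    ⟨P, ha' ▸ Ideal.mul_mem_left _ a' (Ideal.subset_span ⟨Fin.castLE P.hcn, rfl⟩), hkill⟩
  obtain ⟨hsR, hsΛ⟩ := sq_cond_of_flat (Λ := Λ) s
  have hne : Ideal.span {s ^ 8} ≠ ⊥ := by
    rw [ne_eq, Ideal.span_singleton_eq_bot]
    exact fun h => hs (‹p.IsPrime›.mem_of_pow_mem 8 (h ▸ zero_mem _))
  let J : Ideal R := Ideal.span {s ^ 8}
  have hJ : J.map (algebraMap R Λ) = Ideal.span {algebraMap R Λ (s ^ 8)} := by
    rw [Ideal.map_span, Set.image_singleton]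
  have : Algebra.FinitePresentation (R ⧸ J) (B ⧸ J.map (algebraMap R B)) :=
    Algebra.FinitePresentation.equiv (R := R ⧸ J) (A := (R ⧸ J) ⊗[R] B) (B := B ⧸ J.map (algebraMap R B))
      (Algebra.TensorProduct.quotIdealMapEquivQuotTensor B J).symm
  obtain ⟨C, _, _, hC, γ, k₁, hk₁⟩ := hquot J hne (B ⧸ J.map (algebraMap R B)) inferInstance (quotMapₐ β J)
  letI : Algebra R C := ((algebraMap (R ⧸ J) C).comp (Ideal.Quotient.mk J)).toAlgebra
  haveI : IsScalarTower R (R ⧸ J) C := IsScalarTower.of_algebraMap_eq (R := R) (S := R ⧸ J) (A := C) fun _ => rfl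
  let gC : C →ₐ[R] Λ ⧸ Ideal.span {algebraMap R Λ (s ^ 8)} :=
    { (Ideal.quotEquivOfEq hJ).toRingHom.comp k₁.toRingHom with
      commutes' := fun r => by
        show Ideal.quotEquivOfEq hJ (k₁ (algebraMap (R ⧸ J) C (Ideal.Quotient.mk J r))) = _
        rw [k₁.commutes]
        rfl }
  let γ₀ : B →ₐ[R] C :=
    { γ.toRingHom.comp (Ideal.Quotient.mk (J.map (algebraMap R B))) with
      commutes' := fun r => γ.commutes (Ideal.Quotient.mk J r) }
  obtain ⟨D, _, _, hD, α', β', hαβ', hsm, hle⟩ := desingularize_lifting_apply s hsR hsΛ β hstd γ₀ gC fun b => by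
    show Ideal.quotEquivOfEq hJ (k₁ (γ (Ideal.Quotient.mk _ b))) = _
    rw [← AlgHom.comp_apply, hk₁]
    rfl
  let I := ((Smoothing.singularIdeal R D).map β').radical
  have hsI : algebraMap R Λ s ∈ I := by
    refine Ideal.le_radical ?_
    rw [← β'.commutes]
    refine Ideal.mem_map_of_mem _ ((mem_singularIdeal_iff _).2 fun Q _ hQ => ?_)
    by_contra h
    exact hQ (hsm Q h)
  have htop : (Smoothing.singularIdeal R D).map β' = ⊤ := by
    rw [← Ideal.radical_eq_top, Ideal.eq_top_iff_one]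
    refine mem_of_map_mem (f := Ideal.Quotient.mk (Ideal.span {algebraMap R Λ (s ^ 8)})) (J := I)
      Ideal.Quotient.mk_surjective ?_ ?_
    · rw [Ideal.mk_ker, Ideal.span_singleton_le_iff_mem, map_pow]
      exact Ideal.pow_mem_of_mem _ hsI 8 (by norm_num)
    · refine hle ?_
      rw [singularIdeal_eq_top_of_smooth, Ideal.map_top]
      trivial
  obtain ⟨E, _, _, hE, g, k, hgk⟩ := exists_smooth_factor β' htop
  exact ⟨E, inferInstance, inferInstance, hE, g.comp (α'.comp α), k,
    by rw [← AlgHom.comp_assoc, hgk, ← AlgHom.comp_assoc, hαβ', hαβ]⟩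

/-- Popescu's theorem. -/
theorem indSmooth_of_isRegularHom {R Λ : Type u} [CommRing R] [IsNoetherianRing R] [CommRing Λ] [IsNoetherianRing Λ]
    [Algebra R Λ] (hreg : CAlg.IsRegularHom R Λ) : Smoothing.IndSmooth R Λ := by
  obtain ⟨hflat, hfib⟩ := hreg
  suffices H : ∀ I : Ideal R, Smoothing.IndSmooth (R ⧸ I) (Λ ⧸ I.map (algebraMap R Λ)) by
    refine indSmooth_of_equiv (RingEquiv.quotientBot R)
      ((Ideal.quotEquivOfEq Ideal.map_bot).trans (RingEquiv.quotientBot Λ)) (fun r => ?_) (H ⊥)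
    obtain ⟨r, rfl⟩ := Ideal.Quotient.mk_surjective r
    rfl
  intro I
  induction I using WellFoundedGT.induction with
  | _ I ih =>
    let R' := R ⧸ I
    let Λ' := Λ ⧸ I.map (algebraMap R Λ)
    have : Module.Flat R' Λ' := CatLib.flat_quotient (A := R) (B := Λ) I
    have hquot : ∀ J : Ideal R', J ≠ ⊥ → Smoothing.IndSmooth (R' ⧸ J) (Λ' ⧸ J.map (algebraMap R' Λ')) := by
      intro J hJ
      let J₀ := J.comap (Ideal.Quotient.mk I)
      have hle : I ≤ J₀ := fun x hx => by
        show Ideal.Quotient.mk I x ∈ J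
        rw [Ideal.Quotient.eq_zero_iff_mem.2 hx]
        exact zero_mem _
      have hJ₀ : J₀.map (Ideal.Quotient.mk I) = J := Ideal.map_comap_of_surjective _ Ideal.Quotient.mk_surjective J
      have hlt : I < J₀ := lt_of_le_of_ne hle fun h => hJ (by rw [← hJ₀, ← h, Ideal.map_quotient_self])
      have hmap : J.map (algebraMap R' Λ') = (J₀.map (algebraMap R Λ)).map (Ideal.Quotient.mk _) := by
        rw [← hJ₀, Ideal.map_map, Ideal.map_map]
        rfl
      refine indSmooth_of_equiv ((DoubleQuot.quotQuotEquivQuotOfLE hle).symm.trans (Ideal.quotEquivOfEq hJ₀))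
        ((DoubleQuot.quotQuotEquivQuotOfLE (Ideal.map_mono hle)).symm.trans (Ideal.quotEquivOfEq hmap.symm))
        (fun r => ?_) (ih J₀ hlt)
      obtain ⟨r, rfl⟩ := Ideal.Quotient.mk_surjective r
      rfl
    by_cases hnil : nilradical R' = ⊥
    swap
    · exact indSmooth_of_nilpotent (nilradical R') (IsNoetherianRing.isNilpotent_nilradical R') (hquot _ hnil)
    have : IsReduced R' := nilradical_eq_bot_iff.1 hnil
    rcases subsingleton_or_nontrivial R' with hsub | hnt
    · intro A _ _ hA f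
      have : Subsingleton A := Module.subsingleton R' A
      have : Subsingleton Λ' := Module.subsingleton R' Λ'
      exact ⟨R', inferInstance, inferInstance, inferInstance,
        { toFun := fun _ => 0, map_one' := Subsingleton.elim _ _, map_mul' := fun _ _ => Subsingleton.elim _ _,
          map_zero' := rfl, map_add' := fun _ _ => Subsingleton.elim _ _, commutes' := fun _ => Subsingleton.elim _ _ },
        Algebra.ofId R' Λ', AlgHom.ext fun _ => Subsingleton.elim _ _⟩
    obtain ⟨p', hp'⟩ := Ideal.nonempty_minimalPrimes (I := (⊥ : Ideal R')) bot_ne_top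
    have : p'.IsPrime := hp'.1.1
    let p := p'.comap (Ideal.Quotient.mk I)
    have hIp : I ≤ p := fun x hx => by
      show Ideal.Quotient.mk I x ∈ p'
      rw [Ideal.Quotient.eq_zero_iff_mem.2 hx]
      exact zero_mem _
    let K := p.ResidueField
    have hI : ∀ x ∈ I, algebraMap R K x = 0 := fun x hx => Ideal.algebraMap_residueField_eq_zero.2 (hIp hx)
    letI : Algebra R' K := (Ideal.Quotient.lift I (algebraMap R K) hI).toAlgebra
    haveI : IsScalarTower R R' K := IsScalarTower.of_algebraMap_eq (R := R) (S := R') (A := K) fun _ => rfl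
    haveI : IsLocalization.AtPrime K p' := by
      refine isLocalization_of_isReduced p' hp' (fun r => ?_) fun z => ?_
      · obtain ⟨r, rfl⟩ := Ideal.Quotient.mk_surjective r
        show algebraMap R K r = 0 ↔ _
        exact Ideal.algebraMap_residueField_eq_zero
      · obtain ⟨a, b, hb, hab⟩ := IsFractionRing.div_surjective (R ⧸ p) z
        obtain ⟨a, rfl⟩ := Ideal.Quotient.mk_surjective a
        obtain ⟨b, rfl⟩ := Ideal.Quotient.mk_surjective b
        have hb' : b ∉ p := fun h => nonZeroDivisors.ne_zero hb (Ideal.Quotient.eq_zero_iff_mem.2 h)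
        refine ⟨Ideal.Quotient.mk I a, Ideal.Quotient.mk I b, hb', ?_⟩
        rw [← hab]
        show _ * algebraMap R K b = algebraMap R K a
        refine (div_mul_cancel₀ _ fun h => hb' (Ideal.algebraMap_residueField_eq_zero.1 h)).trans ?_
        rfl
    obtain ⟨hnoe, hgeo⟩ := hfib p
    let e : p.Fiber Λ ≃ₐ[K] K ⊗[R'] Λ' :=
      (Algebra.TensorProduct.cancelBaseChange R R' K K Λ).symm.trans
        (Algebra.TensorProduct.congr (AlgEquiv.refl : K ≃ₐ[K] K)
          (Algebra.TensorProduct.quotIdealMapEquivQuotTensor Λ I).symm)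
    have : IsNoetherianRing (K ⊗[R'] Λ') := isNoetherianRing_of_ringEquiv _ e.toRingEquiv
    exact indSmooth_of_reduced p' (isGeometricallyRegular_of_algEquiv e hgeo) hquot

end TransLib
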