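import Groth.Agent.FlatLib.InjFibre
import Groth.Agent.FlatCrit.Quotient
import Mathlib.RingTheory.Regular.Flat

/-!
# Slicing by elements that are regular on the fibre
-/

set_option autoImplicit false

universe u

open TensorProduct
open scoped Pointwise

namespace TransLib

section

variable {A B : Type u} [CommRing A] [CommRing B] [Algebra A B]

theorem map_smul_top_restrictScalars (I : Ideal A) (M : Type u) [AddCommGroup M] [Module B M] [Module A M]
    [IsScalarTower A B M] :
    (I.map (algebraMap A B) • (⊤ : Submodule B M)).restrictScalars A = I • (⊤ : Submodule A M) :=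
  (Ideal.smul_restrictScalars I (⊤ : Submodule B M)).trans (by rw [Submodule.restrictScalars_top])

variable [IsLocalRing A] [IsLocalRing B] [IsNoetherianRing B] [IsLocalHom (algebraMap A B)]

/-- An element regular on the closed fibre of a flat module is regular and cuts out a flat quotient. -/
theorem regular_and_flat_step (M : Type u) [AddCommGroup M] [Module B M] [Module A M] [IsScalarTower A B M]
    [Module.Finite B M] [Module.Flat A M] (f : B)
    (hf : IsSMulRegular (M ⧸ ((IsLocalRing.maximalIdeal A).map (algebraMap A B) • (⊤ : Submodule B M))) f) :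
    IsSMulRegular M f ∧ Module.Flat A (QuotSMulTop f M) := by
  let m := IsLocalRing.maximalIdeal A
  let P := m.map (algebraMap A B) • (⊤ : Submodule B M)
  let u : M →ₗ[A] M := ((LinearMap.lsmul B M) f).restrictScalars A
  have h : Function.Injective (u.lTensor (IsLocalRing.ResidueField A)) := by
    refine (injective_iff_map_eq_zero _).2 fun z hz => ?_
    obtain ⟨x, rfl⟩ := TensorProduct.mk_surjective A M (IsLocalRing.ResidueField A) IsLocalRing.residue_surjective z
    let e := TensorProduct.quotTensorEquivQuotSMul M m
    have hz' : e ((1 : A ⧸ m) ⊗ₜ[A] (f • x)) = 0 := (congr_arg e hz).trans (map_zero e)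
    rw [TensorProduct.quotTensorEquivQuotSMul_mk_one_tmul, Submodule.Quotient.mk_eq_zero,
      ← map_smul_top_restrictScalars (B := B), Submodule.restrictScalars_mem] at hz'
    have hx : (Submodule.Quotient.mk x : M ⧸ P) = 0 := hf (by
      show f • (Submodule.Quotient.mk x : M ⧸ P) = f • (0 : M ⧸ P)
      rw [smul_zero, ← Submodule.Quotient.mk_smul, Submodule.Quotient.mk_eq_zero]
      exact hz')
    rw [Submodule.Quotient.mk_eq_zero, ← Submodule.restrictScalars_mem A, map_smul_top_restrictScalars] at hx
    refine e.injective (Eq.trans ?_ (map_zero e).symm)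
    show e ((1 : A ⧸ m) ⊗ₜ[A] x) = 0
    rw [TensorProduct.quotTensorEquivQuotSMul_mk_one_tmul, Submodule.Quotient.mk_eq_zero]
    exact hx
  obtain ⟨hi, hfl⟩ := FlatLib.injective_and_flat_coker B u h
  refine ⟨fun x y hxy => hi hxy, ?_⟩
  have heq : LinearMap.range u = ((f • (⊤ : Submodule B M))).restrictScalars A := by
    ext y
    simp [u, Submodule.mem_smul_pointwise_iff_exists]
  exact Module.Flat.of_linearEquiv
    ((Submodule.Quotient.restrictScalarsEquiv A (f • (⊤ : Submodule B M))).symm.trans
      (Submodule.quotEquivOfEq _ _ heq.symm))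

end

section

variable {B : Type u} [CommRing B]

/-- Slicing commutes with reduction. -/
noncomputable def quotSMulTopComm (M : Type u) [AddCommGroup M] [Module B M] (J : Ideal B) (f : B) :
    (QuotSMulTop f M ⧸ (J • (⊤ : Submodule B (QuotSMulTop f M)))) ≃ₗ[B]
      QuotSMulTop f (M ⧸ (J • (⊤ : Submodule B M))) :=
  Submodule.quotEquivOfEq _ _ (by rw [Submodule.map_smul'', Submodule.map_top, Submodule.range_mkQ]) ≪≫ₗ
    Submodule.quotientQuotientEquivQuotientSup (f • ⊤) (J • ⊤) ≪≫ₗ
    Submodule.quotEquivOfEq _ _ (sup_comm _ _) ≪≫ₗ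
    (Submodule.quotientQuotientEquivQuotientSup (J • ⊤) (f • ⊤)).symm ≪≫ₗ
    Submodule.quotEquivOfEq _ _ (by rw [Submodule.map_pointwise_smul, Submodule.map_top, Submodule.range_mkQ])

end

section

variable {A B : Type u} [CommRing A] [CommRing B] [Algebra A B]

theorem flat_quot_zero (M : Type u) [AddCommGroup M] [Module B M] [Module A M] [IsScalarTower A B M]
    (J : Ideal B) (hJ : J = ⊥) [Module.Flat A M] : Module.Flat A (M ⧸ (J • (⊤ : Submodule B M))) := by
  subst hJ
  exact Module.Flat.of_linearEquiv
    (((Submodule.quotEquivOfEqBot _ (Submodule.bot_smul _)).restrictScalars A))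

variable [IsLocalRing A] [IsLocalRing B] [IsNoetherianRing B] [IsLocalHom (algebraMap A B)]

/-- Regularity of a sequence on the closed fibre of a flat module. -/
theorem regular_and_flat (M : Type u) [AddCommGroup M] [Module B M] [Module A M] [IsScalarTower A B M]
    [Module.Finite B M] [Module.Flat A M] (fs : List B)
    (hreg : RingTheory.Sequence.IsWeaklyRegular
      (M ⧸ ((IsLocalRing.maximalIdeal A).map (algebraMap A B) • (⊤ : Submodule B M))) fs) :
    RingTheory.Sequence.IsWeaklyRegular M fs ∧
      ∀ i ≤ fs.length, Module.Flat A (M ⧸ (Ideal.ofList (fs.take i) • (⊤ : Submodule B M))) := by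
  induction fs generalizing M with
  | nil =>
    refine ⟨RingTheory.Sequence.IsWeaklyRegular.nil B M, fun i hi => ?_⟩
    exact flat_quot_zero M _ (by simp)
  | cons f l ih =>
    rw [RingTheory.Sequence.isWeaklyRegular_cons_iff] at hreg
    obtain ⟨hf, hflat⟩ := regular_and_flat_step M f hreg.1
    have hreg' := (LinearEquiv.isWeaklyRegular_congr (quotSMulTopComm M
      ((IsLocalRing.maximalIdeal A).map (algebraMap A B)) f) l).2 hreg.2
    obtain ⟨h1, h2⟩ := ih (QuotSMulTop f M) hreg'
    refine ⟨(RingTheory.Sequence.isWeaklyRegular_cons_iff M f l).2 ⟨hf, h1⟩, fun i hi => ?_⟩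
    cases i with
    | zero => exact flat_quot_zero M _ (by simp)
    | succ j =>
      have := h2 j (by simpa using hi)
      rw [List.take_succ_cons]
      exact Module.Flat.of_linearEquiv
        ((Submodule.quotOfListConsSMulTopEquivQuotSMulTopInner M f (l.take j)).restrictScalars A)

end

end TransLib
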