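import Groth.Agent.TransLib.RelGCI

/-!
# Relative global complete intersections are transversally regular, over any base
-/

set_option autoImplicit false

universe u

open TensorProduct RingTheory.Sequence

namespace TransLib

section Trunc

variable {S : Type u} [CommRing S] {c : ℕ}

/-- The first `i` members of a family, the others replaced by `0`. -/
def trunc (F : Fin c → S) (i : ℕ) : Fin c → S := fun j => if (j : ℕ) < i then F j else 0

theorem ofList_take_ofFn (F : Fin c → S) (i : ℕ) :
    Ideal.ofList ((List.ofFn F).take i) = Ideal.span (Set.range (trunc F i)) := by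
  apply le_antisymm
  · refine Ideal.span_le.2 fun x (hx : x ∈ (List.ofFn F).take i) => ?_
    obtain ⟨j, hj, rfl⟩ := List.mem_iff_getElem.1 hx
    rw [List.length_take, List.length_ofFn] at hj
    refine Ideal.subset_span ⟨⟨j, (lt_min_iff.1 hj).2⟩, ?_⟩
    rw [trunc, if_pos (lt_min_iff.1 hj).1, List.getElem_take, List.getElem_ofFn]
  · refine Ideal.span_le.2 (Set.range_subset_iff.2 fun j => ?_)
    unfold trunc
    split_ifs with hj
    · refine Ideal.subset_span (List.mem_iff_getElem.2 ⟨j, ?_, ?_⟩)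
      · rw [List.length_take, List.length_ofFn]; exact lt_min hj j.2
      · rw [List.getElem_take, List.getElem_ofFn]
    · exact zero_mem _

theorem map_trunc {S' : Type u} [CommRing S'] (φ : S →+* S') (F : Fin c → S) (i : ℕ) (j : Fin c) :
    φ (trunc F i j) = trunc (fun j => φ (F j)) i j := by
  unfold trunc
  split_ifs <;> simp

theorem map_take_ofFn {S' : Type u} [CommRing S'] (φ : S →+* S') (F : Fin c → S) (i : ℕ) :
    (Ideal.ofList ((List.ofFn F).take i)).map φ = Ideal.ofList (((List.ofFn F).map φ).take i) := by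
  rw [Ideal.map_ofList, List.map_take]

end Trunc

variable {R : Type u} [CommRing R] {n c : ℕ} {F : Fin c → MvPolynomial (Fin n) R}

/-- Every finite set of data descends to a Noetherian stage with small fibres. -/
theorem exists_stage (b : ℕ)
    (hdim : ∀ (p : Ideal R) [p.IsPrime], ringKrullDim (p.Fiber (Synt.RelGCIRing R n c F)) ≤ (b : WithBot ℕ∞))
    (S : Finset (MvPolynomial (Fin n) R)) (base : Finset R) :
    ∃ (R₁ : Subalgebra ℤ R) (F₁ : Fin c → MvPolynomial (Fin n) R₁), IsNoetherianRing R₁ ∧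
      (∀ i, MvPolynomial.map (algebraMap R₁ R) (F₁ i) = F i) ∧
      (∀ (p : Ideal R₁) [p.IsPrime], ringKrullDim (p.Fiber (Synt.RelGCIRing R₁ n c F₁)) ≤ (b : WithBot ℕ∞)) ∧
      (∀ r ∈ base, r ∈ R₁) ∧ ∀ G ∈ S, ∃ G₁ : MvPolynomial (Fin n) R₁, MvPolynomial.map (algebraMap R₁ R) G₁ = G := by
  classical
  obtain ⟨R₀, F₀, hfin, hF₀, hdim₀⟩ := exists_descent F b hdim
  obtain ⟨gens, hgens⟩ := (Subalgebra.fg_iff_finiteType R₀).2 hfin
  obtain ⟨R₁, hfin₁, hle₁, hlift₁⟩ := exists_subalgebra S (gens ∪ base)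
  have hsub : R₀ ≤ R₁ := by
    rw [← hgens]; exact Algebra.adjoin_le fun r hr => hle₁ r (Finset.mem_union_left _ hr)
  letI : Algebra R₀ R₁ := (Subalgebra.inclusion hsub).toRingHom.toAlgebra
  have : IsScalarTower R₀ R₁ R := IsScalarTower.of_algebraMap_eq fun _ => rfl
  refine ⟨R₁, fun i => MvPolynomial.map (algebraMap R₀ R₁) (F₀ i), Algebra.FiniteType.isNoetherianRing ℤ R₁,
    fun i => ?_, fun p _ => ?_, fun r hr => hle₁ r (Finset.mem_union_right _ hr), hlift₁⟩
  · rw [MvPolynomial.map_map, ← IsScalarTower.algebraMap_eq]; exact hF₀ i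
  · rw [ringKrullDim_fibre_map F₀ _ (fun _ => rfl) p]
    exact hdim₀ _

variable (hc : c ≤ n)
  (hdim : ∀ (p : Ideal R) [p.IsPrime],
      ringKrullDim (p.Fiber (Synt.RelGCIRing R n c F)) ≤ ((n - c : ℕ) : WithBot ℕ∞))
  (q' : Ideal (MvPolynomial (Fin n) R)) [q'.IsPrime] (hq' : Ideal.span (Set.range F) ≤ q')

include hc hdim hq'

/-- The equations form a weakly regular sequence in every local ring of affine space along the subscheme. -/
theorem weaklyRegular_localization :
    IsWeaklyRegular (Localization.AtPrime q')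
      ((List.ofFn F).map (algebraMap (MvPolynomial (Fin n) R) (Localization.AtPrime q'))) := by
  classical
  let T := Localization.AtPrime q'
  refine ⟨fun i hi => ?_⟩
  have hic : i < c := by simpa using hi
  rw [List.getElem_map, List.getElem_ofFn, smul_eq_mul, Ideal.mul_top, isSMulRegular_quotient_iff_mem_of_smul_mem,
    ← map_take_ofFn, ofList_take_ofFn]
  intro x hx
  obtain ⟨⟨a, s⟩, has⟩ := IsLocalization.surj q'.primeCompl x
  simp only at has
  have hx' := Ideal.mul_mem_right (algebraMap (MvPolynomial (Fin n) R) T (s : MvPolynomial (Fin n) R)) _ hx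
  rw [smul_eq_mul, mul_assoc, has, ← map_mul] at hx'
  obtain ⟨t, ht, htx⟩ := (IsLocalization.algebraMap_mem_map_algebraMap_iff q'.primeCompl T _ _).1 hx'
  obtain ⟨g, hg⟩ := Ideal.mem_span_range_iff_exists_fun.1 htx
  obtain ⟨R₁, F₁, hN, hF₁, hdim₁, -, hlift⟩ :=
    exists_stage (n - c) hdim ({a, t} ∪ Finset.univ.image g) ∅
  let μ : MvPolynomial (Fin n) R₁ →+* MvPolynomial (Fin n) R := MvPolynomial.map (algebraMap R₁ R)
  have hμ : Function.Injective μ := MvPolynomial.map_injective _ Subtype.val_injective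
  obtain ⟨a₁, ha₁⟩ := hlift a (by simp)
  obtain ⟨t₁, ht₁⟩ := hlift t (by simp)
  choose g₁ hg₁ using fun j => hlift (g j) (Finset.mem_union_right _ (Finset.mem_image_of_mem _ (Finset.mem_univ j)))
  let q₁ := q'.comap μ
  have hq₁ : Ideal.span (Set.range F₁) ≤ q₁ := Ideal.span_le.2 (Set.range_subset_iff.2 fun j => by
    show μ (F₁ j) ∈ q'
    rw [show μ (F₁ j) = F j from hF₁ j]
    exact hq' (Ideal.subset_span ⟨j, rfl⟩))
  obtain ⟨hreg, -⟩ := regular_flat_localization hc F₁ hdim₁ q₁ hq₁
  let ψ : (Localization.AtPrime q₁) →+* T := Localization.localRingHom q₁ q' μ rfl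
  have hψ : ∀ z, ψ (algebraMap (MvPolynomial (Fin n) R₁) (Localization.AtPrime q₁) z) = algebraMap (MvPolynomial (Fin n) R) T (μ z) := fun z => Localization.localRingHom_to_map q₁ q' μ rfl z
  have hμt : ∀ j, μ (trunc F₁ i j) = trunc F i j := fun j => by
    rw [map_trunc, show (fun j => μ (F₁ j)) = F from funext hF₁]
  have h1 : t₁ * (F₁ ⟨i, hic⟩ * a₁) ∈ Ideal.span (Set.range (trunc F₁ i)) := by
    refine Ideal.mem_span_range_iff_exists_fun.2 ⟨g₁, hμ ?_⟩
    simp only [map_sum, map_mul, hμt]
    rw [show μ t₁ = t from ht₁, show μ a₁ = a from ha₁, show μ (F₁ ⟨i, hic⟩) = F ⟨i, hic⟩ from hF₁ _, ← hg]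
    exact Finset.sum_congr rfl fun j _ => congrArg (· * trunc F i j) (hg₁ j)
  have h2 := hreg.regular_mod_prev i (by simpa using hic)
  rw [List.getElem_map, List.getElem_ofFn, smul_eq_mul, Ideal.mul_top, isSMulRegular_quotient_iff_mem_of_smul_mem,
    ← map_take_ofFn, ofList_take_ofFn] at h2
  have h3 : algebraMap (MvPolynomial (Fin n) R₁) (Localization.AtPrime q₁) a₁ ∈ (Ideal.span (Set.range (trunc F₁ i))).map (algebraMap (MvPolynomial (Fin n) R₁) (Localization.AtPrime q₁)) := by
    refine h2 _ ?_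
    rw [smul_eq_mul, ← map_mul]
    exact (IsLocalization.algebraMap_mem_map_algebraMap_iff q₁.primeCompl (Localization.AtPrime q₁) _ _).2
      ⟨t₁, (by show μ t₁ ∉ q'; rw [show μ t₁ = t from ht₁]; exact ht), h1⟩
  have h4 : algebraMap (MvPolynomial (Fin n) R) T a ∈ (Ideal.span (Set.range (trunc F i))).map (algebraMap (MvPolynomial (Fin n) R) T) := by
    rw [← ha₁, show MvPolynomial.map (algebraMap R₁ R) a₁ = μ a₁ from rfl, ← hψ]
    suffices hle : ((Ideal.span (Set.range (trunc F₁ i))).map (algebraMap (MvPolynomial (Fin n) R₁) (Localization.AtPrime q₁))).map ψ ≤ _ from hle (Ideal.mem_map_of_mem ψ h3)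
    rw [Ideal.map_le_iff_le_comap, Ideal.map_le_iff_le_comap, Ideal.span_le]
    rintro _ ⟨j, rfl⟩
    rw [SetLike.mem_coe, Ideal.mem_comap, Ideal.mem_comap, hψ, hμt]
    exact Ideal.mem_map_of_mem _ (Ideal.subset_span ⟨j, rfl⟩)
  rw [← has] at h4
  exact (Ideal.mul_unit_mem_iff_mem _ (IsLocalization.map_units T s)).1 h4

/-- The equations form a regular sequence in every local ring of affine space along the subscheme. -/
theorem regular_localization :
    IsRegular (Localization.AtPrime q')
      ((List.ofFn F).map (algebraMap (MvPolynomial (Fin n) R) (Localization.AtPrime q'))) := by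
  refine ⟨weaklyRegular_localization hc hdim q' hq', fun h => ?_⟩
  rw [smul_eq_mul, Ideal.mul_top, ← Ideal.map_ofList, ofList_ofFn] at h
  have : (Ideal.span (Set.range F)).map (algebraMap _ (Localization.AtPrime q')) ≤
      IsLocalRing.maximalIdeal _ := by
    rw [← Localization.AtPrime.map_eq_maximalIdeal]
    exact Ideal.map_mono hq'
  rw [← h, top_le_iff] at this
  exact IsLocalRing.maximalIdeal.isMaximal _ |>.ne_top this

/-- The partial quotients of the local rings of affine space along the subscheme are flat over the base. -/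
theorem flat_localization_take (i : ℕ) :
    Module.Flat R (Localization.AtPrime q' ⧸ Ideal.ofList
      (((List.ofFn F).take i).map (algebraMap (MvPolynomial (Fin n) R) (Localization.AtPrime q')))) := by
  classical
  let T := Localization.AtPrime q'
  rw [← Ideal.map_ofList, ofList_take_ofFn, Module.Flat.iff_forall_isTrivialRelation]
  intro l r x hrx
  choose x' hx' using fun j => Ideal.Quotient.mk_surjective (x j)
  obtain ⟨d, hd⟩ := IsLocalization.exist_integer_multiples_of_finite q'.primeCompl x'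
  choose a ha using hd
  have hsum : algebraMap (MvPolynomial (Fin n) R) T (∑ j, MvPolynomial.C (r j) * a j) ∈
      (Ideal.span (Set.range (trunc F i))).map (algebraMap (MvPolynomial (Fin n) R) T) := by
    rw [map_sum, ← Ideal.Quotient.eq_zero_iff_mem, map_sum]
    calc ∑ j, Ideal.Quotient.mk _ (algebraMap (MvPolynomial (Fin n) R) T (MvPolynomial.C (r j) * a j))
        = ∑ j, Ideal.Quotient.mk _ (algebraMap (MvPolynomial (Fin n) R) T (d : MvPolynomial (Fin n) R)) * (r j • x j) := by
          refine Finset.sum_congr rfl fun j _ => ?_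
          rw [map_mul, ha, Algebra.smul_def, map_mul, map_mul, Algebra.smul_def (r j) (x j), ← hx',
            show Ideal.Quotient.mk ((Ideal.span (Set.range (trunc F i))).map (algebraMap (MvPolynomial (Fin n) R) T))
                (algebraMap (MvPolynomial (Fin n) R) T (MvPolynomial.C (r j))) =
              algebraMap R (T ⧸ (Ideal.span (Set.range (trunc F i))).map (algebraMap (MvPolynomial (Fin n) R) T)) (r j) from
              congrArg (Ideal.Quotient.mk _) (IsScalarTower.algebraMap_apply R (MvPolynomial (Fin n) R) T (r j)).symm]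
          ring
      _ = 0 := by rw [← Finset.mul_sum, hrx, mul_zero]
  obtain ⟨t, ht, htx⟩ := (IsLocalization.algebraMap_mem_map_algebraMap_iff q'.primeCompl T _ _).1 hsum
  obtain ⟨g, hg⟩ := Ideal.mem_span_range_iff_exists_fun.1 htx
  obtain ⟨R₁, F₁, hN, hF₁, hdim₁, hbase, hlift⟩ :=
    exists_stage (n - c) hdim ({t} ∪ Finset.univ.image a ∪ Finset.univ.image g) (Finset.univ.image r)
  let μ : MvPolynomial (Fin n) R₁ →+* MvPolynomial (Fin n) R := MvPolynomial.map (algebraMap R₁ R)
  have hμ : Function.Injective μ := MvPolynomial.map_injective _ Subtype.val_injective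
  obtain ⟨t₁, ht₁⟩ := hlift t (by simp)
  choose a₁ ha₁ using fun j => hlift (a j) (Finset.mem_union_left _ (Finset.mem_union_right _
    (Finset.mem_image_of_mem _ (Finset.mem_univ j))))
  choose g₁ hg₁ using fun j => hlift (g j) (Finset.mem_union_right _ (Finset.mem_image_of_mem _ (Finset.mem_univ j)))
  let r₁ : Fin l → R₁ := fun j => ⟨r j, hbase _ (Finset.mem_image_of_mem _ (Finset.mem_univ j))⟩
  let q₁ := q'.comap μ
  have hq₁ : Ideal.span (Set.range F₁) ≤ q₁ := Ideal.span_le.2 (Set.range_subset_iff.2 fun j => by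
    show μ (F₁ j) ∈ q'
    rw [show μ (F₁ j) = F j from hF₁ j]
    exact hq' (Ideal.subset_span ⟨j, rfl⟩))
  have hμt : ∀ j, μ (trunc F₁ i j) = trunc F i j := fun j => by
    rw [map_trunc, show (fun j => μ (F₁ j)) = F from funext hF₁]
  letI : CommRing (Localization.AtPrime q₁) := inferInstance
  let I₁ : Ideal (Localization.AtPrime q₁) := (Ideal.span (Set.range (trunc F₁ i))).map (algebraMap (MvPolynomial (Fin n) R₁) (Localization.AtPrime q₁))
  have hfl : Module.Flat R₁ ((Localization.AtPrime q₁) ⧸ I₁) := by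
    obtain ⟨-, hflat⟩ := regular_flat_localization hc F₁ hdim₁ q₁ hq₁
    by_cases hi : i ≤ c
    · have := hflat i (by simpa using hi)
      rwa [← List.map_take, ← Ideal.map_ofList, ofList_take_ofFn] at this
    · have := hflat c (by simp)
      rw [← List.map_take, ← Ideal.map_ofList, ofList_take_ofFn] at this
      rwa [show trunc F₁ c = trunc F₁ i from funext fun j => by
        rw [trunc, trunc, if_pos j.2, if_pos (by omega)]] at this
  let ψ : (Localization.AtPrime q₁) →+* T := Localization.localRingHom q₁ q' μ rfl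
  have hψ : ∀ z, ψ (algebraMap (MvPolynomial (Fin n) R₁) (Localization.AtPrime q₁) z) = algebraMap (MvPolynomial (Fin n) R) T (μ z) := fun z => Localization.localRingHom_to_map q₁ q' μ rfl z
  let I := (Ideal.span (Set.range (trunc F i))).map (algebraMap (MvPolynomial (Fin n) R) T)
  let ψb : (Localization.AtPrime q₁) ⧸ I₁ →+* T ⧸ I := Ideal.quotientMap I ψ (by
    rw [Ideal.map_le_iff_le_comap, Ideal.span_le]
    rintro _ ⟨j, rfl⟩
    rw [SetLike.mem_coe, Ideal.mem_comap, Ideal.mem_comap, hψ, hμt]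
    exact Ideal.mem_map_of_mem _ (Ideal.subset_span ⟨j, rfl⟩))
  have hψR : ∀ z : R₁, ψb (algebraMap R₁ ((Localization.AtPrime q₁) ⧸ I₁) z) = algebraMap R (T ⧸ I) (z : R) := fun z => by
    show Ideal.Quotient.mk I (ψ (algebraMap R₁ (Localization.AtPrime q₁) z)) = Ideal.Quotient.mk I (algebraMap R T (z : R))
    rw [IsScalarTower.algebraMap_apply R₁ (MvPolynomial (Fin n) R₁) (Localization.AtPrime q₁), hψ,
      IsScalarTower.algebraMap_apply R (MvPolynomial (Fin n) R) T]
    congr 2
    exact MvPolynomial.map_C _ _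
  let x₁ : Fin l → (Localization.AtPrime q₁) ⧸ I₁ := fun j => Ideal.Quotient.mk _ (algebraMap (MvPolynomial (Fin n) R₁) (Localization.AtPrime q₁) (a₁ j))
  have hrel : ∑ j, r₁ j • x₁ j = 0 := by
    have h1 : t₁ * ∑ j, MvPolynomial.C (r₁ j) * a₁ j ∈ Ideal.span (Set.range (trunc F₁ i)) := by
      refine Ideal.mem_span_range_iff_exists_fun.2 ⟨g₁, hμ ?_⟩
      simp only [map_sum, map_mul, hμt]
      rw [show μ t₁ = t from ht₁]
      refine (Finset.sum_congr rfl fun j _ => congrArg (· * trunc F i j) (hg₁ j)).trans (hg.trans ?_)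
      congr 1
      refine Finset.sum_congr rfl fun j _ => ?_
      rw [show μ (a₁ j) = a j from ha₁ j, show μ (MvPolynomial.C (r₁ j)) = MvPolynomial.C (r j) from MvPolynomial.map_C _ _]
    have h2 : algebraMap (MvPolynomial (Fin n) R₁) (Localization.AtPrime q₁) (∑ j, MvPolynomial.C (r₁ j) * a₁ j) ∈ I₁ :=
      (IsLocalization.algebraMap_mem_map_algebraMap_iff q₁.primeCompl (Localization.AtPrime q₁) _ _).2
        ⟨t₁, (by show μ t₁ ∉ q'; rw [show μ t₁ = t from ht₁]; exact ht), h1⟩
    rw [← Ideal.Quotient.eq_zero_iff_mem, map_sum, map_sum] at h2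
    rw [← h2]
    refine Finset.sum_congr rfl fun j _ => ?_
    rw [map_mul, map_mul, Algebra.smul_def (r₁ j) (x₁ j)]
    rfl
  obtain ⟨k, A, y, hA, hA0⟩ := Module.Flat.iff_forall_isTrivialRelation.1 hfl hrel
  obtain ⟨u, hu⟩ := ((IsLocalization.map_units T d).map (Ideal.Quotient.mk I))
  refine ⟨k, fun j m => (A j m : R), fun m => ↑u⁻¹ * ψb (y m), fun j => ?_, fun m => ?_⟩
  · have h5 : (u : T ⧸ I) * x j = ψb (x₁ j) := by
      rw [hu, ← hx', ← map_mul]
      show _ = Ideal.Quotient.mk I (ψ (algebraMap (MvPolynomial (Fin n) R₁) (Localization.AtPrime q₁) (a₁ j)))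
      rw [hψ, show μ (a₁ j) = a j from ha₁ j, ha, Algebra.smul_def]
    calc x j = ↑u⁻¹ * ψb (x₁ j) := by rw [← h5, Units.inv_mul_cancel_left]
      _ = _ := by
        rw [hA, map_sum, Finset.mul_sum]
        refine Finset.sum_congr rfl fun m _ => ?_
        rw [Algebra.smul_def (A j m) (y m), map_mul, hψR]
        show _ = (A j m : R) • (_ : T ⧸ I)
        rw [Algebra.smul_def (A := T ⧸ I)]
        ring
  · have := congrArg (Subalgebra.val R₁) (hA0 m)
    simpa [r₁, map_sum, map_mul] using this

end TransLib
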