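import Groth.Agent.TransLib.PointNhd
import Groth.Agent.TransLib.RelLocal

/-!
# Presentations by regular sequences over a Noetherian base
-/

set_option autoImplicit false

universe u

open RingTheory.Sequence

namespace TransLib

/-- Prepending a regular element. -/
theorem isWeaklyRegular_cons_of_surjective {P B : Type u} [CommRing P] [CommRing B] (Ψ : P →+* B)
    (hΨ : Function.Surjective Ψ) (u₀ : P) (hker : RingHom.ker Ψ = Ideal.span {u₀}) (hu : IsSMulRegular P u₀)
    (rs : List P) (h : IsWeaklyRegular B (rs.map Ψ)) : IsWeaklyRegular P (u₀ :: rs) := by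
  refine ⟨fun i hi => ?_⟩
  rw [smul_eq_mul, Ideal.mul_top, isSMulRegular_quotient_iff_mem_of_smul_mem]
  rcases i with _ | i
  · intro x hx
    simp only [List.take_zero, Ideal.ofList_nil, Submodule.mem_bot] at hx ⊢
    exact hu.right_eq_zero_of_smul hx
  · have hi' : i < rs.length := by simpa using hi
    have hcomap : Ideal.ofList ((u₀ :: rs).take (i + 1)) = (Ideal.ofList ((rs.map Ψ).take i)).comap Ψ := by
      rw [List.take_succ_cons, Ideal.ofList_cons, ← List.map_take, ← Ideal.map_ofList,
        Ideal.comap_map_of_surjective Ψ hΨ, ← RingHom.ker_eq_comap_bot, hker, sup_comm]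
    have h1 := h.regular_mod_prev i (by simpa using hi')
    rw [smul_eq_mul, Ideal.mul_top, isSMulRegular_quotient_iff_mem_of_smul_mem] at h1
    intro x hx
    rw [hcomap, Ideal.mem_comap] at hx ⊢
    refine h1 (Ψ x) ?_
    simpa using hx

variable {R : Type u} [CommRing R] {n c : ℕ}

/-- The equation of a basic open. -/
noncomputable def awayEqn (h : MvPolynomial (Fin n) R) : MvPolynomial (Fin (n + 1)) R :=
  MvPolynomial.rename Fin.castSucc h * MvPolynomial.X (Fin.last n) - 1

theorem isSMulRegular_awayEqn (h : MvPolynomial (Fin n) R) :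
    IsSMulRegular (MvPolynomial (Fin (n + 1)) R) (awayEqn h) := by
  rw [isSMulRegular_iff_right_eq_zero_of_smul]
  intro z hz
  rw [smul_eq_mul, awayEqn, sub_mul, one_mul, sub_eq_zero] at hz
  have hk : ∀ k : ℕ, ∃ w, z = w * MvPolynomial.X (Fin.last n) ^ k := fun k => by
    induction k with
    | zero => exact ⟨z, by rw [pow_zero, mul_one]⟩
    | succ k ih =>
      obtain ⟨w, hw⟩ := ih
      refine ⟨MvPolynomial.rename Fin.castSucc h * w, ?_⟩
      rw [← hz]
      conv_lhs => rw [hw]
      ring
  refine MvPolynomial.ext _ _ fun m => ?_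
  obtain ⟨w, hw⟩ := hk (m (Fin.last n) + 1)
  rw [hw, MvPolynomial.X_pow_eq_monomial, MvPolynomial.coeff_mul_monomial', if_neg ?_, MvPolynomial.coeff_zero]
  intro hle
  have := hle (Fin.last n)
  rw [Finsupp.single_eq_same] at this
  omega

theorem exists_awayMap (h : MvPolynomial (Fin n) R) :
    ∃ Ψ : MvPolynomial (Fin (n + 1)) R →ₐ[R] Localization.Away h, Function.Surjective Ψ ∧
      RingHom.ker Ψ.toRingHom = Ideal.span {awayEqn h} ∧
      ∀ p, Ψ (MvPolynomial.rename Fin.castSucc p) = algebraMap _ _ p := by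
  let B := Localization.Away h
  let Ψ : MvPolynomial (Fin (n + 1)) R →ₐ[R] B := MvPolynomial.aeval
    (Fin.snoc (fun i => algebraMap (MvPolynomial (Fin n) R) B (MvPolynomial.X i)) (IsLocalization.Away.invSelf h))
  have hΨ : ∀ p, Ψ (MvPolynomial.rename Fin.castSucc p) = algebraMap _ B p := fun p => by
    refine AlgHom.congr_fun (φ₁ := Ψ.comp (MvPolynomial.rename Fin.castSucc))
      (φ₂ := IsScalarTower.toAlgHom R (MvPolynomial (Fin n) R) B) ?_ p
    refine MvPolynomial.algHom_ext fun i => ?_
    show Ψ (MvPolynomial.rename Fin.castSucc (MvPolynomial.X i)) = _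
    rw [MvPolynomial.rename_X, show Ψ (MvPolynomial.X (Fin.castSucc i)) = _ from MvPolynomial.aeval_X _ _,
      Fin.snoc_castSucc]
    rfl
  have hΨl : Ψ (MvPolynomial.X (Fin.last n)) = IsLocalization.Away.invSelf h :=
    (MvPolynomial.aeval_X _ _).trans (Fin.snoc_last _ _)
  have hu : Ψ (awayEqn h) = 0 := by
    rw [awayEqn, map_sub, map_mul, map_one, hΨ, hΨl, IsLocalization.Away.mul_invSelf, sub_self]
  refine ⟨Ψ, fun z => ?_, le_antisymm (fun p hp => ?_) ((Ideal.span_singleton_le_iff_mem _).2 hu), hΨ⟩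
  · obtain ⟨m, s, hs⟩ := IsLocalization.Away.surj h z
    refine ⟨MvPolynomial.rename Fin.castSucc s * MvPolynomial.X (Fin.last n) ^ m, ?_⟩
    rw [map_mul, map_pow, hΨ, hΨl, ← hs, mul_assoc, ← mul_pow, IsLocalization.Away.mul_invSelf, one_pow, mul_one]
  · let J := Ideal.span {awayEqn h}
    let γ : MvPolynomial (Fin n) R →ₐ[R] MvPolynomial (Fin (n + 1)) R ⧸ J :=
      (Ideal.Quotient.mkₐ R J).comp (MvPolynomial.rename Fin.castSucc)
    have hγ : γ h * Ideal.Quotient.mk J (MvPolynomial.X (Fin.last n)) = 1 := by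
      show Ideal.Quotient.mk J (MvPolynomial.rename Fin.castSucc h) * Ideal.Quotient.mk J _ = 1
      rw [← map_mul, ← map_one (Ideal.Quotient.mk J), Ideal.Quotient.eq]
      exact Ideal.mem_span_singleton_self _
    let ψ : B →ₐ[R] MvPolynomial (Fin (n + 1)) R ⧸ J := IsLocalization.liftAlgHom (M := Submonoid.powers h) (f := γ) (by
      rintro ⟨_, m, rfl⟩
      rw [map_pow]
      exact (IsUnit.of_mul_eq_one _ hγ).pow m)
    have hψ : ∀ x, ψ (algebraMap _ B x) = γ x := fun x => IsLocalization.lift_eq _ x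
    have hid : ψ.comp Ψ = Ideal.Quotient.mkₐ R J := MvPolynomial.algHom_ext fun i => by
      show ψ (Ψ (MvPolynomial.X i)) = Ideal.Quotient.mk J (MvPolynomial.X i)
      induction i using Fin.lastCases with
      | last =>
        rw [hΨl]
        refine (IsUnit.of_mul_eq_one _ hγ).mul_left_cancel ?_
        conv_lhs => rw [← hψ, ← map_mul, IsLocalization.Away.mul_invSelf, map_one]
        exact hγ.symm
      | cast j =>
        rw [← MvPolynomial.rename_X (f := Fin.castSucc), hΨ, hψ]
        rfl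
    have h2 := congrArg (fun φ => φ p) hid
    simp only [AlgHom.comp_apply] at h2
    rw [show Ψ p = 0 from hp, map_zero] at h2
    exact Ideal.Quotient.eq_zero_iff_mem.1 h2.symm

/-- Weak regularity at a prime spreads to a basic open. -/
theorem exists_weaklyRegular_away {P : Type u} [CommRing P] [IsNoetherianRing P] (Q : Ideal P) [Q.IsPrime]
    (rs : List P) (h : IsWeaklyRegular (Localization.AtPrime Q) (rs.map (algebraMap P (Localization.AtPrime Q)))) :
    ∃ s ∉ Q, ∀ t, s ∣ t → IsWeaklyRegular (Localization.Away t) (rs.map (algebraMap P (Localization.Away t))) := by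
  classical
  have key : ∀ i : Fin rs.length, ∃ s ∉ Q, ∀ z, rs[i.1] * z ∈ Ideal.ofList (rs.take i) → s * z ∈ Ideal.ofList (rs.take i) := by
    intro i
    let I := Ideal.ofList (rs.take i)
    let K : Ideal P := Submodule.comap (LinearMap.mulLeft P rs[i.1]) I
    obtain ⟨T, hT⟩ : K.FG := IsNoetherian.noetherian K
    have h1 := h.regular_mod_prev i.1 (by simp)
    rw [smul_eq_mul, Ideal.mul_top, isSMulRegular_quotient_iff_mem_of_smul_mem] at h1
    have hz : ∀ z : T, ∃ s ∉ Q, s * (z : P) ∈ I := fun z => by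
      have hzK : rs[i.1] * (z : P) ∈ I := by
        have : (z : P) ∈ K := hT ▸ Ideal.subset_span z.2
        exact this
      refine (IsLocalization.algebraMap_mem_map_algebraMap_iff Q.primeCompl (Localization.AtPrime Q) I _).1 ?_
      rw [Ideal.map_ofList, List.map_take]
      refine h1 _ ?_
      rw [List.getElem_map, smul_eq_mul, ← map_mul, ← List.map_take, ← Ideal.map_ofList]
      exact Ideal.mem_map_of_mem _ hzK
    choose s hs hsI using hz
    refine ⟨∏ z : T, s z, prod_mem (S := Q.primeCompl) fun z _ => hs z, fun z hz' => ?_⟩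
    have hzT : z ∈ Submodule.span P (T : Set P) := by
      show z ∈ Ideal.span (T : Set P)
      rw [hT]; exact hz'
    refine (Submodule.span_le (p := Submodule.comap (LinearMap.mulLeft P (∏ z : T, s z)) I)).2 (fun y hy => ?_) hzT
    show (∏ z : T, s z) * y ∈ I
    obtain ⟨d, hd⟩ : s ⟨y, hy⟩ ∣ ∏ z : T, s z := Finset.dvd_prod_of_mem s (Finset.mem_univ _)
    rw [hd, mul_right_comm]
    exact I.mul_mem_right d (hsI ⟨y, hy⟩)
  choose s hs hsz using key
  refine ⟨∏ i, s i, prod_mem (S := Q.primeCompl) fun i _ => hs i, fun t ht => ⟨fun i hi => ?_⟩⟩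
  have hi' : i < rs.length := by simpa using hi
  rw [smul_eq_mul, Ideal.mul_top, isSMulRegular_quotient_iff_mem_of_smul_mem, List.getElem_map, ← List.map_take,
    ← Ideal.map_ofList]
  intro x hx
  obtain ⟨⟨z, m⟩, rfl⟩ := IsLocalization.mk'_surjective (Submonoid.powers t) x
  rw [smul_eq_mul, ← IsLocalization.mk'_one (M := Submonoid.powers t) (Localization.Away t) (rs[i]), ← IsLocalization.mk'_mul,
    IsLocalization.mk'_mem_map_algebraMap_iff] at hx
  rw [IsLocalization.mk'_mem_map_algebraMap_iff]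
  obtain ⟨a, ⟨k, rfl⟩, ha⟩ := hx
  obtain ⟨d, hd⟩ : s ⟨i, hi'⟩ ∣ t := (Finset.dvd_prod_of_mem s (Finset.mem_univ _)).trans ht
  refine ⟨t ^ (k + 1), ⟨k + 1, rfl⟩, ?_⟩
  have := hsz ⟨i, hi'⟩ (t ^ k * z) (by rwa [show rs[i] * (t ^ k * z) = t ^ k * (rs[i] * z) by ring])
  rw [show t ^ (k + 1) * z = d * (s ⟨i, hi'⟩ * (t ^ k * z)) by rw [hd]; ring]
  exact Ideal.mul_mem_left _ d this

/-- Every point of a syntomic algebra has a relative global complete intersection neighbourhood. -/
theorem exists_relGCI_of_isSyntomic {S : Type u} [CommRing S] [Algebra R S] (h : Synt.IsSyntomic R S)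
    (q : Ideal S) [q.IsPrime] :
    ∃ g : S, g ∉ q ∧ ∃ (n c : ℕ) (F : Fin c → MvPolynomial (Fin n) R), Synt.IsRelGCI R n c F ∧
      Nonempty (Localization.Away g ≃ₐ[R] Synt.RelGCIRing R n c F) := by
  have h1 : Synt.IsSyntomic R (Localization.Away (1 : S)) := isSyntomic_congr
    ((IsLocalization.atOne S (Localization.Away (1 : S))).restrictScalars R) h
  let p := q.comap (algebraMap R S)
  let y := PrimeSpectrum.preimageHomeomorphFiber R S ⟨p, inferInstance⟩ ⟨⟨q, inferInstance⟩, rfl⟩
  have h2 : y.asIdeal.comap (Algebra.TensorProduct.includeRight : S →ₐ[R] p.Fiber S).toRingHom = q :=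
    congrArg (fun w => PrimeSpectrum.asIdeal w.1)
      ((PrimeSpectrum.preimageHomeomorphFiber R S ⟨p, inferInstance⟩).symm_apply_apply ⟨⟨q, inferInstance⟩, rfl⟩)
  have hq1 : (1 : S) ∉ q := fun hq => (inferInstance : q.IsPrime).ne_top ((Ideal.eq_top_iff_one q).2 hq)
  obtain ⟨hfp, hfl, hCI⟩ := local_of_syntomic_nhd p q y.asIdeal h2 1 hq1 h1
  exact relGCI_nhd_of_local p q y.asIdeal h2 1 hq1 hfp hfl hCI

/-- Syntomic algebras over Noetherian rings are locally presented by regular sequences. -/
theorem exists_regular_presentation [IsNoetherianRing R] {S : Type u} [CommRing S] [Algebra R S]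
    (h : Synt.IsSyntomic R S) (q : Ideal S) [q.IsPrime] :
    ∃ g : S, g ∉ q ∧ ∃ (n d : ℕ) (P : Fin d → MvPolynomial (Fin n) R),
      IsRegular (MvPolynomial (Fin n) R) (List.ofFn P) ∧
      Nonempty (Localization.Away g ≃ₐ[R] (MvPolynomial (Fin n) R ⧸ Ideal.ofList (List.ofFn P))) := by
  obtain ⟨g, hg, n, c, F, hF, ⟨e⟩⟩ := exists_relGCI_of_isSyntomic h q
  obtain ⟨a, _, ha, -⟩ := exists_atPrime_away R g q hg
  let qF : Ideal (Synt.RelGCIRing R n c F) := a.comap e.symm.toRingEquiv.toRingHom
  let Q : Ideal (MvPolynomial (Fin n) R) := qF.comap (Ideal.Quotient.mk (Ideal.span (Set.range F)))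
  have hQ : Ideal.span (Set.range F) ≤ Q := fun x hx => by
    show Ideal.Quotient.mk _ x ∈ qF
    rw [Ideal.Quotient.eq_zero_iff_mem.2 hx]; exact zero_mem _
  have hc : c ≤ n := by
    by_contra hc
    have := subsingleton_of_isRelGCI_of_lt hF hc
    exact (inferInstance : qF.IsPrime).ne_top (Subsingleton.elim _ _)
  obtain ⟨s, hs, hwr⟩ := exists_weaklyRegular_away Q (List.ofFn F)
    (weaklyRegular_localization hc (fun p _ => fibre_le_of_isRelGCI hF p) Q hQ)
  obtain ⟨e₀⟩ := nonempty_awayEquiv F s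
  let z : Localization.Away g := e.symm (Ideal.Quotient.mk _ s)
  obtain ⟨b, ⟨e₁⟩, hb⟩ := exists_away_away (R := R) g z
  have hza : z ∉ a := hs
  refine ⟨g * b, ha ▸ hb a inferInstance hza, n + 1, c + 1,
    Fin.cons (awayEqn s) fun i => MvPolynomial.rename Fin.castSucc (F i), ?_, ?_⟩
  · obtain ⟨Ψ, hΨ, hker, hren⟩ := exists_awayMap s
    refine ⟨?_, fun htop => ?_⟩
    · rw [List.ofFn_cons]
      refine isWeaklyRegular_cons_of_surjective Ψ.toRingHom hΨ _ hker (isSMulRegular_awayEqn s) _ ?_
      rw [List.map_ofFn]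
      have := hwr s dvd_rfl
      rw [List.map_ofFn] at this
      rw [show (Ψ.toRingHom ∘ fun i => MvPolynomial.rename Fin.castSucc (F i)) =
        algebraMap (MvPolynomial (Fin n) R) (Localization.Away s) ∘ F from funext fun i => hren _]
      exact this
    · rw [smul_eq_mul, Ideal.mul_top, ofList_ofFn] at htop
      have hsub : Subsingleton (Synt.RelGCIRing R (n + 1) (c + 1) (awayPres F s)) := by
        refine Ideal.Quotient.subsingleton_iff.2 (eq_top_iff.2 (htop ▸ Ideal.span_le.2 ?_))
        rintro _ ⟨i, rfl⟩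
        induction i using Fin.cases with
        | zero => exact Ideal.subset_span ⟨Fin.last c, by simp [awayPres, awayEqn]⟩
        | succ j => exact Ideal.subset_span ⟨j.castSucc, by simp [awayPres]⟩
      have : Subsingleton (Localization.Away (Ideal.Quotient.mk (Ideal.span (Set.range F)) s)) :=
        e₀.toEquiv.subsingleton
      obtain ⟨a', _, -, -⟩ := exists_atPrime_away R (Ideal.Quotient.mk (Ideal.span (Set.range F)) s) qF hs
      exact (inferInstance : a'.IsPrime).ne_top (Subsingleton.elim _ _)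
  · refine ⟨(((IsLocalization.algEquivOfAlgEquiv (Localization.Away (Ideal.Quotient.mk (Ideal.span (Set.range F)) s))
      (Localization.Away z) e.symm (M := Submonoid.powers (Ideal.Quotient.mk (Ideal.span (Set.range F)) s))
      (T := Submonoid.powers z) (Submonoid.map_powers e.symm _)).trans e₁).symm.trans e₀).trans
      (Ideal.quotientEquivAlgOfEq R ?_)⟩
    rw [ofList_ofFn]
    refine le_antisymm (Ideal.span_le.2 ?_) (Ideal.span_le.2 ?_)
    · rintro _ ⟨i, rfl⟩
      induction i using Fin.lastCases with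
      | last => exact Ideal.subset_span ⟨0, by simp [awayPres, awayEqn]⟩
      | cast j => exact Ideal.subset_span ⟨j.succ, by simp [awayPres]⟩
    · rintro _ ⟨i, rfl⟩
      induction i using Fin.cases with
      | zero => exact Ideal.subset_span ⟨Fin.last c, by simp [awayPres, awayEqn]⟩
      | succ j => exact Ideal.subset_span ⟨j.castSucc, by simp [awayPres]⟩

end TransLib
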