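import Groth.Agent.CommAlgDim.CM
import Groth.Agent.CMFlatLib.RegFlat
import Groth.Agent.CatLib.Flat

/-!
# Local maps matching parameters
-/

set_option autoImplicit false

universe u

open IsLocalRing RingTheory.Sequence

namespace TransLib

theorem spanFinrank_le_of_span_eq {A : Type u} [CommRing A] {d : ℕ} (I : Ideal A) (x : Fin d → A)
    (hx : Ideal.span (Set.range x) = I) : I.spanFinrank ≤ d := by
  rw [← hx]
  refine (Submodule.spanFinrank_span_le_ncard_of_finite (Set.finite_range x)).trans ?_
  rw [← Nat.card_coe_set_eq]
  exact (Finite.card_range_le x).trans (by simp)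

theorem isWeaklyRegular_of_params {A : Type u} [CommRing A] [IsRegularLocalRing A] {d : ℕ}
    (hd : ringKrullDim A = d) (x : Fin d → A) (hx : Ideal.span (Set.range x) = maximalIdeal A) :
    IsWeaklyRegular A (List.ofFn x) := by
  have he : Ideal.ofList (List.ofFn x) = maximalIdeal A := by
    rw [← hx, Ideal.ofList]
    congr 1
    ext r
    exact List.mem_ofFn
  refine (CommAlgDim.isRegular_of_dim (CommAlgDim.isCM_of_isRegularLocalRing A) (fun r hr => ?_) ?_).toIsWeaklyRegular
  · rw [← he]
    exact Ideal.subset_span hr
  · rw [ringKrullDim_eq_of_ringEquiv (Ideal.quotEquivOfEq he), List.length_ofFn, hd]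
    letI := Ideal.Quotient.field (maximalIdeal A)
    rw [ringKrullDim_eq_zero_of_field, zero_add]

/-- A local map of regular local rings sending a generating family to parameters is flat. -/
theorem flat_of_regular_params {A B : Type u} [CommRing A] [IsRegularLocalRing A] [CommRing B] [IsRegularLocalRing B]
    [Algebra A B] [IsLocalHom (algebraMap A B)] {d : ℕ} (hd : ringKrullDim B = d) (x : Fin d → A)
    (hx : Ideal.span (Set.range x) = maximalIdeal A)
    (hxB : Ideal.span (Set.range fun i => algebraMap A B (x i)) = maximalIdeal B) :
    ringKrullDim A = d ∧ Module.Flat A B := by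
  classical
  have hm : maximalIdeal B = (maximalIdeal A).map (algebraMap A B) := by
    rw [← hx, Ideal.map_span, ← Set.range_comp, ← hxB]
    rfl
  have hle : (maximalIdeal B).spanFinrank ≤ (maximalIdeal A).spanFinrank := by
    have hfg : (maximalIdeal A).FG := IsNoetherian.noetherian _
    have h1 : maximalIdeal B = Ideal.span (algebraMap A B '' (maximalIdeal A).generators) := by
      rw [← Ideal.map_span, show Ideal.span (maximalIdeal A).generators = maximalIdeal A from
        Submodule.span_generators _, hm]
    rw [h1]
    refine (Submodule.spanFinrank_span_le_ncard_of_finite ((Submodule.FG.finite_generators hfg).image _)).trans ?_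
    refine (Set.ncard_image_le (Submodule.FG.finite_generators hfg)).trans ?_
    rw [Submodule.FG.generators_ncard hfg]
  have hA : ringKrullDim A = d := by
    rw [← IsRegularLocalRing.spanFinrank_maximalIdeal (R := A)]
    have hB := IsRegularLocalRing.spanFinrank_maximalIdeal (R := B)
    rw [hd] at hB
    have hB' : (maximalIdeal B).spanFinrank = d := by exact_mod_cast hB
    have h2 := spanFinrank_le_of_span_eq _ x hx
    exact_mod_cast (show (maximalIdeal A).spanFinrank = d by omega)
  refine ⟨hA, CMFlatLib.flat_of_regular_seq _ A B (List.ofFn x) rfl (isWeaklyRegular_of_params hA x hx) ?_ ?_⟩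
  · rw [List.map_ofFn]
    exact isWeaklyRegular_of_params hd _ hxB
  · rw [← hx, Ideal.ofList]
    congr 1
    ext r
    exact List.mem_ofFn

end TransLib
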