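import Groth.Agent.TransLib.SyntLCI
import Groth.Agent.TransLib.RelKoszul
import Mathlib.RingTheory.LocalProperties.FinitePresentation
import Mathlib.RingTheory.Flat.Localization
import Mathlib.RingTheory.Flat.EquationalCriterion

/-!
# The conormal module of a syntomic algebra
-/

set_option autoImplicit false

universe u

open KoszDetLib

namespace TransLib

/-- Scaling an exact family by a unit. -/
theorem isExactK_smul {Q : Type u} [CommRing Q] {n : ℕ} {f : Fin n → Q} (hf : IsExactK f) (c : Qˣ) :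
    IsExactK ((c : Q) • f) := by
  intro x hx hε
  rw [KRLib.D_smul] at hx
  have hx' : D f x = 0 := by
    have := congrArg (fun y => ((c⁻¹ : Qˣ) : Q) • y) hx
    simpa [smul_smul] using this
  have hε' : eps x ∈ Ideal.span (Set.range f) := by
    refine Ideal.span_le.2 ?_ hε
    rintro _ ⟨i, rfl⟩
    exact Ideal.mul_mem_left _ _ (Ideal.subset_span ⟨i, rfl⟩)
  obtain ⟨w, hw⟩ := hf x hx' hε'
  refine ⟨((c⁻¹ : Qˣ) : Q) • w, ?_⟩
  rw [KRLib.D_smul, map_smul, hw, smul_smul, Units.mul_inv, one_smul]

/-- A module that is free on generators up to powers of `a` is free after inverting `a`. -/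
theorem nonempty_away_equiv_of_generators {A M : Type u} [CommRing A] [AddCommGroup M] [Module A M] (a : A)
    {c : ℕ} (v : Fin c → M) (hsp : ∀ x : M, ∃ (k : ℕ) (r : Fin c → A), a ^ k • x = ∑ i, r i • v i)
    (hli : ∀ r : Fin c → A, ∑ i, r i • v i = 0 → ∃ k : ℕ, ∀ i, a ^ k * r i = 0) :
    Nonempty ((Fin c → Localization.Away a) ≃ₗ[Localization.Away a] LocalizedModule.Away a M) := by
  classical
  let L := Localization.Away a
  let Φ : (Fin c → L) →ₗ[L] LocalizedModule.Away a M :=
    Fintype.linearCombination L fun i => LocalizedModule.mkLinearMap (Submonoid.powers a) M (v i)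
  refine ⟨LinearEquiv.ofBijective Φ ⟨?_, fun y => ?_⟩⟩
  · rw [← LinearMap.ker_eq_bot, eq_bot_iff]
    intro r hr
    obtain ⟨d, hd⟩ := IsLocalization.exist_integer_multiples_of_finite (Submonoid.powers a) r
    choose b hb using hd
    have h0 : LocalizedModule.mkLinearMap (Submonoid.powers a) M (∑ i, b i • v i) = 0 := by
      have h1 : (d : A) • Φ r = 0 := by rw [show Φ r = 0 from hr, smul_zero]
      rw [map_sum]
      rw [Fintype.linearCombination_apply, Finset.smul_sum] at h1
      refine Eq.trans (Finset.sum_congr rfl fun i _ => ?_) h1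
      rw [map_smul, ← smul_assoc, ← algebraMap_smul L (b i)]
      congr 1
      exact hb i
    obtain ⟨⟨_, m, rfl⟩, hm⟩ := (IsLocalizedModule.eq_zero_iff (Submonoid.powers a)
      (LocalizedModule.mkLinearMap (Submonoid.powers a) M)).1 h0
    change a ^ m • (∑ i, b i • v i) = 0 at hm
    rw [Finset.smul_sum] at hm
    obtain ⟨k, hk⟩ := hli (fun i => a ^ m * b i) (by simpa [smul_smul] using hm)
    refine Submodule.mem_bot (R := L) |>.2 (funext fun i => ?_)
    have h2 : algebraMap A L (b i) = 0 :=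
      (IsLocalization.map_eq_zero_iff (Submonoid.powers a) L _).2 ⟨⟨a ^ (k + m), pow_mem (Submonoid.mem_powers a) _⟩, by
        show a ^ (k + m) * b i = 0
        rw [pow_add, mul_assoc]; exact hk i⟩
    rw [hb i, Algebra.smul_def] at h2
    exact (IsLocalization.map_units L d).mul_right_eq_zero.1 h2
  · obtain ⟨⟨x, ⟨_, m, rfl⟩⟩, hx⟩ := IsLocalizedModule.mk'_surjective (Submonoid.powers a)
      (LocalizedModule.mkLinearMap (Submonoid.powers a) M) y
    obtain ⟨k, r, hr⟩ := hsp x
    refine ⟨fun i => IsLocalization.mk' L (r i) (⟨a ^ (k + m), pow_mem (Submonoid.mem_powers a) _⟩ : Submonoid.powers a), ?_⟩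
    have hu : Function.Injective fun z : LocalizedModule.Away a M => a ^ (k + m) • z :=
      ((Module.End.isUnit_iff _).1 (IsLocalizedModule.map_units
        (LocalizedModule.mkLinearMap (Submonoid.powers a) M) ⟨a ^ (k + m), pow_mem (Submonoid.mem_powers a) _⟩)).1
    refine hu ?_
    show a ^ (k + m) • Φ _ = a ^ (k + m) • y
    rw [← hx]
    simp only [Function.uncurry_apply_pair]
    have hpk : a ^ (k + m) • IsLocalizedModule.mk' (LocalizedModule.mkLinearMap (Submonoid.powers a) M) x
        (⟨a ^ m, pow_mem (Submonoid.mem_powers a) _⟩ : Submonoid.powers a) =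
        ∑ i, LocalizedModule.mkLinearMap (Submonoid.powers a) M (r i • v i) := by
      rw [← map_sum, ← hr, map_smul, ← IsLocalizedModule.mk'_cancel' (LocalizedModule.mkLinearMap (Submonoid.powers a) M) x
        (⟨a ^ m, pow_mem (Submonoid.mem_powers a) _⟩ : Submonoid.powers a), Submonoid.smul_def, smul_smul, pow_add]
    refine Eq.trans ?_ hpk.symm
    rw [Fintype.linearCombination_apply, Finset.smul_sum]
    refine Finset.sum_congr rfl fun i _ => ?_
    rw [map_smul, ← smul_assoc, ← algebraMap_smul L (r i)]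
    congr 1
    rw [Algebra.smul_def]
    exact IsLocalization.mk'_spec' L (r i) (⟨a ^ (k + m), pow_mem (Submonoid.mem_powers a) _⟩ : Submonoid.powers a)

theorem projective_of_locally_free {A M : Type u} [CommRing A] [AddCommGroup M] [Module A M] (s : Set A)
    (hs : Ideal.span s = ⊤)
    (h : ∀ a ∈ s, ∃ c : ℕ, Nonempty ((Fin c → Localization.Away a) ≃ₗ[Localization.Away a] LocalizedModule.Away a M)) :
    Module.Finite A M ∧ Module.Projective A M := by
  have hfp : Module.FinitePresentation A M := Module.FinitePresentation.of_localizationSpan s hs fun a => by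
    obtain ⟨c, ⟨e⟩⟩ := h a a.2
    exact Module.FinitePresentation.of_equiv e
  have hfl : Module.Flat A M := by
    refine Module.flat_of_isLocalized_span (R := A) A M s hs (fun a => LocalizedModule.Away (a : A) M)
      (fun a => LocalizedModule.mkLinearMap (Submonoid.powers (a : A)) M) fun a => ?_
    obtain ⟨c, ⟨e⟩⟩ := h a a.2
    have : Module.Flat (Localization.Away (a : A)) (LocalizedModule.Away (a : A) M) :=
      Module.Flat.of_linearEquiv e.symm
    exact Module.Flat.trans A (Localization.Away (a : A)) _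
  exact ⟨inferInstance, Module.Flat.projective_of_finitePresentation⟩

variable {R : Type u} [CommRing R] {n : ℕ}

/-- The conormal module of a syntomic piece is finite projective. -/
theorem projective_conormal (I : Ideal (MvPolynomial (Fin n) R)) (g : MvPolynomial (Fin n) R ⧸ I)
    (hg : Synt.IsSyntomic R (Localization.Away g)) :
    Module.Finite (Localization.Away g) (LocalizedModule (Submonoid.powers g) I.Cotangent) ∧
      Module.Projective (Localization.Away g) (LocalizedModule (Submonoid.powers g) I.Cotangent) := by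
  classical
  let P := MvPolynomial (Fin n) R
  obtain ⟨g₀, rfl⟩ := Ideal.Quotient.mk_surjective g
  let A := Localization.Away (Ideal.Quotient.mk I g₀)
  let M := LocalizedModule (Submonoid.powers (Ideal.Quotient.mk I g₀)) I.Cotangent
  let θ : P →+* A := (algebraMap (P ⧸ I) A).comp (Ideal.Quotient.mk I)
  have hK : KRLib.LocKR (I.map (algebraMap P (Localization.Away g₀))) := by
    have := KRLib.locKR_away (Ideal.Quotient.mkₐ R I) (Ideal.Quotient.mkₐ_surjective R I) g₀ (isLCI_of_isSyntomic hg)
    rwa [show RingHom.ker (Ideal.Quotient.mkₐ R I).toRingHom = I from Ideal.mk_ker] at this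
  let G : Set A := {a | ∃ c : ℕ, Nonempty ((Fin c → Localization.Away a) ≃ₗ[Localization.Away a] LocalizedModule.Away a M)}
  refine projective_of_locally_free G ?_ fun a ha => ha
  by_contra hne
  obtain ⟨Mx, hMx, hle⟩ := Ideal.exists_le_maximal _ hne
  have := hMx.isPrime
  let Pg := Localization.Away g₀
  have hθu : IsUnit (θ g₀) := IsLocalization.Away.algebraMap_isUnit (S := A) (Ideal.Quotient.mk I g₀)
  let θg : Pg →+* A := IsLocalization.Away.lift g₀ hθu
  have hθg : ∀ x, θg (algebraMap P Pg x) = θ x := fun x => IsLocalization.Away.lift_eq g₀ hθu x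
  let q : Ideal Pg := Mx.comap θg
  have hIq : I.map (algebraMap P Pg) ≤ q := Ideal.map_le_iff_le_comap.2 fun x hx => by
    show θg (algebraMap P Pg x) ∈ Mx
    rw [hθg, show θ x = algebraMap (P ⧸ I) A (Ideal.Quotient.mk I x) from rfl,
      Ideal.Quotient.eq_zero_iff_mem.2 hx, map_zero]
    exact zero_mem _
  obtain ⟨g', hg', m, F, hF, hspan⟩ := hK q inferInstance hIq
  obtain ⟨⟨b, d⟩, hbd⟩ := IsLocalization.surj (Submonoid.powers g₀) g'
  simp only at hbd
  have hu : IsUnit (algebraMap P Pg (d : P)) := IsLocalization.map_units Pg d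
  let L := Localization.Away g'
  have : IsLocalization.Away (algebraMap P Pg b) L :=
    IsLocalization.Away.of_associated (r := g') ⟨hu.unit, by rw [IsUnit.unit_spec, hbd]⟩
  let h : P := g₀ * b
  have : IsLocalization.Away h L := IsLocalization.Away.mul' Pg L g₀ b
  rw [Ideal.map_map, ← IsScalarTower.algebraMap_eq] at hspan
  -- numerators
  have hnum : ∀ i, ∃ x ∈ I, ∃ k : ℕ, F i * algebraMap P L (h ^ k) = algebraMap P L x := fun i => by
    have h1 : F i ∈ I.map (algebraMap P L) := hspan ▸ Ideal.subset_span ⟨i, rfl⟩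
    obtain ⟨⟨x, ⟨_, k, rfl⟩⟩, hx⟩ := (IsLocalization.mem_map_algebraMap_iff (Submonoid.powers h) L).1 h1
    exact ⟨x, x.2, k, hx⟩
  choose x hxI k hk using hnum
  let N := ∑ i, k i
  let uN : Lˣ := ((IsLocalization.Away.algebraMap_isUnit (S := L) h).pow N).unit
  let f : Fin m → P := fun i => x i * h ^ (N - k i)
  have hfI : ∀ i, f i ∈ I := fun i => I.mul_mem_right _ (hxI i)
  have hfF : (fun i => algebraMap P L (f i)) = (uN : L) • F := funext fun i => by
    have hle : k i ≤ N := Finset.single_le_sum (fun j _ => Nat.zero_le (k j)) (Finset.mem_univ i)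
    show algebraMap P L (x i * h ^ (N - k i)) = (algebraMap P L h) ^ N * F i
    rw [map_mul, map_pow, ← hk, map_pow, mul_assoc, ← pow_add, Nat.add_sub_cancel' hle, mul_comm]
  have hfe : IsExactK fun i => algebraMap P L (f i) := hfF ▸ isExactK_smul hF uN
  have hfspan : Ideal.span (Set.range fun i => algebraMap P L (f i)) = I.map (algebraMap P L) := by
    refine le_antisymm (Ideal.span_le.2 ?_) ?_
    · rintro _ ⟨i, rfl⟩; exact Ideal.mem_map_of_mem _ (hfI i)
    · rw [← hspan, Ideal.span_le]
      rintro _ ⟨i, rfl⟩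
      have hFi : F i = ((uN⁻¹ : Lˣ) : L) * algebraMap P L (f i) := by
        rw [congrFun hfF i, Pi.smul_apply, smul_eq_mul, ← mul_assoc, Units.inv_mul, one_mul]
      rw [hFi]
      exact Ideal.mul_mem_left _ _ (Ideal.subset_span ⟨i, rfl⟩)
  let v : Fin m → M := fun i => LocalizedModule.mkLinearMap _ _ (I.toCotangent ⟨f i, hfI i⟩)
  let a : A := θ h
  have hsm : ∀ (r : P) (z : I.Cotangent), θ r • LocalizedModule.mkLinearMap (Submonoid.powers (Ideal.Quotient.mk I g₀)) _ z =
      LocalizedModule.mkLinearMap _ _ ((Ideal.Quotient.mk I r) • z) := fun r z => by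
    show algebraMap (P ⧸ I) A (Ideal.Quotient.mk I r) • _ = _
    rw [algebraMap_smul, map_smul]
  refine (inferInstance : Mx.IsPrime).ne_top ?_
  suffices hgood : a ∈ G ∧ a ∉ Mx from absurd (hle (Ideal.subset_span hgood.1)) hgood.2
  refine ⟨⟨m, nonempty_away_equiv_of_generators a v ?_ ?_⟩, ?_⟩
  · intro z
    obtain ⟨⟨z₀, ⟨_, j, rfl⟩⟩, hz⟩ := IsLocalizedModule.mk'_surjective (Submonoid.powers (Ideal.Quotient.mk I g₀))
      (LocalizedModule.mkLinearMap _ I.Cotangent) z
    obtain ⟨⟨y, hy⟩, rfl⟩ := I.toCotangent_surjective z₀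
    have h1 : algebraMap P L y ∈ (Ideal.span (Set.range f)).map (algebraMap P L) := by
      rw [Ideal.map_span, ← Set.range_comp]
      exact hfspan.ge (Ideal.mem_map_of_mem _ hy)
    obtain ⟨s, ⟨k₀, rfl⟩, hs⟩ := (IsLocalization.algebraMap_mem_map_algebraMap_iff (Submonoid.powers h) L _ _).1 h1
    obtain ⟨r, hr⟩ := Ideal.mem_span_range_iff_exists_fun.1 hs
    obtain ⟨w, hw⟩ := ((IsLocalization.Away.algebraMap_isUnit (S := A) (Ideal.Quotient.mk I g₀)).pow j).exists_left_inv
    refine ⟨k₀, fun i => w * θ (r i), ?_⟩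
    have hz' : z = w • LocalizedModule.mkLinearMap _ I.Cotangent (I.toCotangent ⟨y, hy⟩) := by
      rw [← hz]
      simp only [Function.uncurry_apply_pair]
      rw [← IsLocalizedModule.mk'_cancel' (LocalizedModule.mkLinearMap (Submonoid.powers (Ideal.Quotient.mk I g₀)) I.Cotangent)
        (I.toCotangent ⟨y, hy⟩) (⟨Ideal.Quotient.mk I g₀ ^ j, j, rfl⟩ : Submonoid.powers (Ideal.Quotient.mk I g₀))]
      rw [Submonoid.smul_def, ← algebraMap_smul A (Ideal.Quotient.mk I g₀ ^ j), smul_smul, map_pow, hw, one_smul]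
    simp only [mul_smul]
    rw [hz', smul_comm, ← Finset.smul_sum]
    congr 1
    rw [← map_pow]
    simp only [v, hsm, ← map_sum]
    congr 1
    rw [show (Ideal.Quotient.mk I (h ^ k₀)) • I.toCotangent ⟨y, hy⟩ = I.toCotangent ((h ^ k₀) • ⟨y, hy⟩) from
      (map_smul I.toCotangent (h ^ k₀) ⟨y, hy⟩).symm]
    simp only [show ∀ i, (Ideal.Quotient.mk I (r i)) • I.toCotangent ⟨f i, hfI i⟩ = I.toCotangent ((r i) • ⟨f i, hfI i⟩) from
      fun i => (map_smul I.toCotangent (r i) ⟨f i, hfI i⟩).symm]
    rw [← map_sum]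
    congr 1
    refine Subtype.ext ?_
    rw [AddSubmonoidClass.coe_finsetSum]
    exact hr.symm
  · intro α hα
    obtain ⟨⟨_, j, rfl⟩, hd⟩ := IsLocalization.exist_integer_multiples_of_finite (Submonoid.powers (Ideal.Quotient.mk I g₀)) α
    choose β hβ using hd
    choose r hr using fun i => Ideal.Quotient.mk_surjective (β i)
    have h0 : LocalizedModule.mkLinearMap (Submonoid.powers (Ideal.Quotient.mk I g₀)) I.Cotangent
        (I.toCotangent (∑ i, r i • (⟨f i, hfI i⟩ : I))) = 0 := by
      have h1 : (Ideal.Quotient.mk I g₀ ^ j) • (∑ i, α i • v i) = 0 := by rw [hα, smul_zero]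
      rw [Finset.smul_sum] at h1
      rw [map_sum, map_sum]
      refine Eq.trans (Finset.sum_congr rfl fun i _ => ?_) h1
      rw [← smul_assoc, map_smul, show r i • I.toCotangent ⟨f i, hfI i⟩ =
        (Ideal.Quotient.mk I (r i)) • I.toCotangent ⟨f i, hfI i⟩ from rfl, ← hsm]
      congr 1
      show algebraMap (P ⧸ I) A (Ideal.Quotient.mk I (r i)) = _
      rw [hr i]
      exact hβ i
    obtain ⟨⟨_, k₁, rfl⟩, hk₁⟩ := (IsLocalizedModule.eq_zero_iff (Submonoid.powers (Ideal.Quotient.mk I g₀))
      (LocalizedModule.mkLinearMap _ I.Cotangent)).1 h0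
    have h2 : g₀ ^ k₁ * (∑ i, r i * f i) ∈ I ^ 2 := by
      have h3 : I.toCotangent ((g₀ ^ k₁) • ∑ i, r i • (⟨f i, hfI i⟩ : I)) = 0 := by
        rw [map_smul]
        exact hk₁
      rw [Ideal.toCotangent_eq_zero] at h3
      simpa [AddSubmonoidClass.coe_finsetSum] using h3
    let J := Ideal.span (Set.range fun i => algebraMap P L (f i))
    have h4 : ∑ i, algebraMap P L (g₀ ^ k₁ * r i) * algebraMap P L (f i) ∈ J ^ 2 := by
      rw [show J = I.map (algebraMap P L) from hfspan, ← Ideal.map_pow]
      simp only [← map_mul, ← map_sum, mul_assoc, ← Finset.mul_sum]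
      exact Ideal.mem_map_of_mem _ h2
    have hli := Fintype.linearIndependent_iff.1 (cotangent_basis_of_isExactK _ hfe).1
      (fun i => Ideal.Quotient.mk J (algebraMap P L (g₀ ^ k₁ * r i))) (by
        refine Eq.trans (Finset.sum_congr rfl fun i _ =>
          (map_smul (Ideal.span (Set.range fun i => algebraMap P L (f i))).toCotangent
            (algebraMap P L (g₀ ^ k₁ * r i)) ⟨algebraMap P L (f i), Ideal.subset_span ⟨i, rfl⟩⟩).symm) ?_
        rw [← map_sum, Ideal.toCotangent_eq_zero, AddSubmonoidClass.coe_finsetSum]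
        exact h4)
    have h5 : ∀ i, ∃ k₂ : ℕ, a ^ k₂ * α i = 0 := fun i => by
      have h6 : algebraMap P L (g₀ ^ k₁ * r i) ∈ I.map (algebraMap P L) :=
        hfspan.le (Ideal.Quotient.eq_zero_iff_mem.1 (hli i))
      obtain ⟨_, ⟨k₂, rfl⟩, hk₂⟩ := (IsLocalization.algebraMap_mem_map_algebraMap_iff (Submonoid.powers h) L _ _).1 h6
      refine ⟨k₂, ?_⟩
      have h7 : θ (h ^ k₂ * (g₀ ^ k₁ * r i)) = 0 := by
        show algebraMap (P ⧸ I) A (Ideal.Quotient.mk I (h ^ k₂ * (g₀ ^ k₁ * r i))) = 0
        rw [Ideal.Quotient.eq_zero_iff_mem.2 hk₂, map_zero]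
      have h8 : θ (r i) = θ g₀ ^ j * α i := by
        show algebraMap (P ⧸ I) A (Ideal.Quotient.mk I (r i)) = _
        rw [hr i, hβ i, Algebra.smul_def, map_pow]
        rfl
      rw [map_mul, map_mul, map_pow, map_pow, h8] at h7
      refine ((hθu.pow (k₁ + j)).mul_right_eq_zero).1 ?_
      rw [← h7, pow_add]
      ring
    choose k₂ hk₂ using h5
    refine ⟨∑ i, k₂ i, fun i => ?_⟩
    obtain ⟨t, ht⟩ := Nat.le.dest (Finset.single_le_sum (fun j _ => Nat.zero_le (k₂ j)) (Finset.mem_univ i))
    rw [← ht, add_comm, pow_add, mul_assoc, hk₂ i, mul_zero]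
  · intro hmem
    apply hg'
    show θg g' ∈ Mx
    have h9 : θg g' * θ (d : P) = θ b := by rw [← hθg, ← hθg, ← map_mul, hbd]
    have hab : θ g₀ * θ b ∈ Mx := by rw [← map_mul]; exact hmem
    rw [← h9] at hab
    rcases (inferInstance : Mx.IsPrime).mem_or_mem hab with h10 | h10
    · exact absurd (Ideal.eq_top_of_isUnit_mem _ h10 hθu) (inferInstance : Mx.IsPrime).ne_top
    · rcases (inferInstance : Mx.IsPrime).mem_or_mem h10 with h11 | h11
      · exact h11
      · obtain ⟨k', hk'⟩ := d.2
        have hk'' : g₀ ^ k' = (d : P) := hk'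
        rw [← hk'', map_pow] at h11
        exact absurd (Ideal.eq_top_of_isUnit_mem _ h11 (hθu.pow k')) (inferInstance : Mx.IsPrime).ne_top

end TransLib
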