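import Groth.Agent.TransLib.Popescu

/-!
# Approximating points in complete local rings on étale algebras
-/

set_option autoImplicit false

universe u

open TensorProduct IsLocalRing

namespace TransLib

theorem isAdicComplete_pow {T : Type u} [CommRing T] (I : Ideal T) [IsAdicComplete I T] {M : ℕ} (hM : 0 < M) :
    IsAdicComplete (I ^ M) T := by
  have hle : ∀ k, (I ^ M) ^ k ≤ I ^ k := fun k => by
    rw [← pow_mul]; exact Ideal.pow_le_pow_right (Nat.le_mul_of_pos_left k hM)
  have key : ∀ (k : ℕ) (x y : T), x ≡ y [SMOD ((I ^ M) ^ k • ⊤ : Submodule T T)] ↔ x - y ∈ (I ^ M) ^ k :=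
    fun k x y => by rw [SModEq.sub_mem, smul_eq_mul, Ideal.mul_top]
  have key' : ∀ (k : ℕ) (x y : T), x ≡ y [SMOD (I ^ k • ⊤ : Submodule T T)] ↔ x - y ∈ I ^ k :=
    fun k x y => by rw [SModEq.sub_mem, smul_eq_mul, Ideal.mul_top]
  have : IsHausdorff (I ^ M) T := ⟨fun x hx => IsHausdorff.haus (I := I) inferInstance x fun k =>
    (key' k x 0).2 (hle k ((key k x 0).1 (hx k)))⟩
  have : IsPrecomplete (I ^ M) T := ⟨fun f hf => by
    obtain ⟨L, hL⟩ := IsPrecomplete.prec (inferInstance : IsPrecomplete I T) (f := f) fun {m n} h =>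
      (key' m _ _).2 (hle m ((key m _ _).1 (hf h)))
    refine ⟨L, fun n => (key n _ _).2 ?_⟩
    rw [← sub_add_sub_cancel (f n) (f (M * n)) L]
    refine add_mem ((key n _ _).1 (hf (Nat.le_mul_of_pos_left n hM))) ?_
    rw [← pow_mul]
    exact (key' _ _ _).1 (hL (M * n))⟩
  exact { }

/-- Points of complete local rings which are ind-smooth over the base, with dense image of the base, are
approximated by points on étale algebras over the base. -/
theorem exists_etale_approx {R T : Type u} [CommRing R] [CommRing T] [IsLocalRing T] [Algebra R T]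
    [IsAdicComplete (maximalIdeal T) T] (hind : Smoothing.IndSmooth R T)
    (hdense : ∀ (y : T) (N : ℕ), ∃ r s : R, IsUnit (algebraMap R T s) ∧
      algebraMap R T s * y - algebraMap R T r ∈ maximalIdeal T ^ N)
    {n m : ℕ} (F : Fin m → MvPolynomial (Fin n) R) (a : Fin n → T) (ha : ∀ j, MvPolynomial.aeval a (F j) = 0)
    (N : ℕ) :
    ∃ (R' : Type u) (_ : CommRing R') (_ : Algebra R R'), Algebra.Etale R R' ∧
      ∃ ψ : R' →ₐ[R] T, ∃ b : Fin n → R', (∀ j, MvPolynomial.aeval b (F j) = 0) ∧
        ∀ i, a i - ψ (b i) ∈ maximalIdeal T ^ N := by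
  classical
  let J : Ideal (MvPolynomial (Fin n) R) := Ideal.span (Set.range F)
  let A := MvPolynomial (Fin n) R ⧸ J
  have : Algebra.FinitePresentation R A := Algebra.FinitePresentation.quotient (Submodule.fg_span (Set.finite_range F))
  have hJ : ∀ p ∈ J, MvPolynomial.aeval a p = 0 := fun p hp => by
    induction hp using Submodule.span_induction with
    | mem y hy => obtain ⟨j, rfl⟩ := hy; exact ha j
    | zero => rw [map_zero]
    | add x y _ _ hx hy => rw [map_add, hx, hy, add_zero]
    | smul c y _ hy => rw [smul_eq_mul, map_mul, hy, mul_zero]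
  obtain ⟨B, _, _, hB, g, h, hgh⟩ := hind A inferInstance (Ideal.Quotient.liftₐ J (MvPolynomial.aeval a) hJ)
  obtain ⟨C, _, _, _, _, -, ⟨ρ⟩, hstd⟩ := exists_retract_standardSmooth (R := R) (A := B)
  let h' : C →ₐ[R] T := h.comp (ρ.restrictScalars R)
  let c : A →ₐ[R] C := (IsScalarTower.toAlgHom R B C).comp g
  have hc : ∀ i, h' (c (Ideal.Quotient.mk J (MvPolynomial.X i))) = a i := fun i => by
    show h (ρ (algebraMap B C (g (Ideal.Quotient.mk J (MvPolynomial.X i))))) = a i
    rw [ρ.commutes]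
    exact (DFunLike.congr_fun hgh (Ideal.Quotient.mk J (MvPolynomial.X i))).trans
      (MvPolynomial.aeval_X a i)
  obtain ⟨d, g₀, hg₀, het⟩ := RingHom.IsStandardSmooth.exists_etale_mvPolynomial
    (RingHom.isStandardSmooth_algebraMap.2 hstd : (algebraMap R C).IsStandardSmooth)
  letI : Algebra (MvPolynomial (Fin d) R) C := g₀.toAlgebra
  have : IsScalarTower R (MvPolynomial (Fin d) R) C :=
    IsScalarTower.of_algebraMap_eq fun r => (DFunLike.congr_fun hg₀ r).symm
  have : Algebra.Etale (MvPolynomial (Fin d) R) C := het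
  -- approximate the parameters
  choose r s hs hrs using fun j : Fin d => hdense (h' (g₀ (MvPolynomial.X j))) (N + 1)
  let S : R := ∏ j, s j
  have hS : IsUnit (algebraMap R T S) := by
    rw [map_prod]; exact IsUnit.prod_iff.2 fun j _ => hs j
  let r' : Fin d → R := fun j => r j * ∏ k ∈ Finset.univ.erase j, s k
  have hr' : ∀ j, algebraMap R T S * h' (g₀ (MvPolynomial.X j)) - algebraMap R T (r' j) ∈
      maximalIdeal T ^ (N + 1) := fun j => by
    have h1 : S = s j * ∏ k ∈ Finset.univ.erase j, s k := (Finset.mul_prod_erase _ _ (Finset.mem_univ j)).symm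
    rw [h1, map_mul, map_mul, mul_right_comm, ← sub_mul]
    exact Ideal.mul_mem_right _ _ (hrs j)
  let RS := Localization.Away S
  let y : Fin d → RS := fun j => IsLocalization.mk' RS (r' j) (⟨S, Submonoid.mem_powers S⟩ : Submonoid.powers S)
  letI : Algebra (MvPolynomial (Fin d) R) RS := (MvPolynomial.aeval y).toRingHom.toAlgebra
  have : IsScalarTower R (MvPolynomial (Fin d) R) RS :=
    IsScalarTower.of_algebraMap_eq fun x => ((MvPolynomial.aeval y).commutes x).symm
  have : Algebra.Etale R RS := Algebra.Etale.of_isLocalizationAway S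
  let R' := RS ⊗[MvPolynomial (Fin d) R] C
  have : Algebra.Etale R R' := Algebra.Etale.comp R RS R'
  -- the map modulo the power
  let M := maximalIdeal T ^ (N + 1)
  let q : T →ₐ[R] T ⧸ M := Ideal.Quotient.mkₐ R M
  let i₁ : RS →ₐ[R] T := IsLocalization.liftAlgHom (M := Submonoid.powers S) (S := RS)
    (f := Algebra.ofId R T) (by rintro ⟨_, k, rfl⟩; simpa using hS.pow k)
  have hagree : (q.comp i₁).comp (IsScalarTower.toAlgHom R (MvPolynomial (Fin d) R) RS) =
      (q.comp h').comp (IsScalarTower.toAlgHom R (MvPolynomial (Fin d) R) C) := by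
    refine MvPolynomial.algHom_ext fun j => ?_
    show q (i₁ (MvPolynomial.aeval y (MvPolynomial.X j))) = q (h' (g₀ (MvPolynomial.X j)))
    rw [MvPolynomial.aeval_X]
    refine ((hS.map q).mul_right_inj).1 ?_
    rw [← map_mul, ← map_mul]
    have h2 : algebraMap R T S * i₁ (y j) = algebraMap R T (r' j) := by
      rw [← i₁.commutes, ← i₁.commutes, ← map_mul, mul_comm]
      exact congrArg i₁ (IsLocalization.mk'_spec RS (r' j) _)
    rw [h2]
    exact (Ideal.Quotient.eq.2 (hr' j)).symm
  letI : Algebra (MvPolynomial (Fin d) R) (T ⧸ M) :=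
    ((q.comp i₁).comp (IsScalarTower.toAlgHom R (MvPolynomial (Fin d) R) RS)).toRingHom.toAlgebra
  have : IsScalarTower R (MvPolynomial (Fin d) R) (T ⧸ M) := IsScalarTower.of_algebraMap_eq (R := R)
    (S := MvPolynomial (Fin d) R) (A := T ⧸ M) fun x => (((q.comp i₁).comp
      (IsScalarTower.toAlgHom R (MvPolynomial (Fin d) R) RS)).commutes x).symm
  let f₁ : RS →ₐ[MvPolynomial (Fin d) R] T ⧸ M :=
    { (q.comp i₁).toRingHom with commutes' := fun _ => rfl }
  let f₂ : C →ₐ[MvPolynomial (Fin d) R] T ⧸ M :=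
    { (q.comp h').toRingHom with commutes' := fun p => (DFunLike.congr_fun hagree p).symm }
  let ψ₀ : R' →ₐ[R] T ⧸ M :=
    (Algebra.TensorProduct.lift f₁ f₂ fun _ _ => Commute.all _ _).restrictScalars R
  have : IsAdicComplete M T := isAdicComplete_pow (maximalIdeal T) (Nat.succ_pos N)
  obtain ⟨ψ, hψ⟩ := Algebra.FormallySmooth.exists_mkₐ_comp_eq_of_isAdicComplete ψ₀
  let iC : C →ₐ[R] R' := (Algebra.TensorProduct.includeRight (R := MvPolynomial (Fin d) R) (A := RS) (B := C)).restrictScalars R
  refine ⟨R', inferInstance, inferInstance, inferInstance, ψ,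
    fun i => iC (c (Ideal.Quotient.mk J (MvPolynomial.X i))), fun j => ?_, fun i => ?_⟩
  · have h3 : MvPolynomial.aeval (fun i => iC (c (Ideal.Quotient.mk J (MvPolynomial.X i)))) =
        ((iC.comp c).comp (Ideal.Quotient.mkₐ R J)) :=
      MvPolynomial.algHom_ext fun i => MvPolynomial.aeval_X _ i
    rw [h3]
    show iC (c (Ideal.Quotient.mk J (F j))) = 0
    rw [Ideal.Quotient.eq_zero_iff_mem.2 (Ideal.subset_span (Set.mem_range_self j)), map_zero, map_zero]
  · refine Ideal.pow_le_pow_right N.le_succ ?_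
    rw [← hc i]
    refine Ideal.Quotient.eq.1 ?_
    refine Eq.trans ?_ (DFunLike.congr_fun hψ _).symm
    show q (h' _) = Algebra.TensorProduct.lift f₁ f₂ (fun _ _ => Commute.all _ _) ((1 : RS) ⊗ₜ[MvPolynomial (Fin d) R] _)
    refine Eq.trans ?_ (Algebra.TensorProduct.lift_tmul f₁ f₂ (fun _ _ => Commute.all _ _) _ _).symm
    rw [map_one, one_mul]
    rfl

end TransLib
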