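import Groth.Agent.CommAlgDim.CM
import Groth.Prelude.Def_RegImm
import Mathlib.RingTheory.RegularLocalRing.Polynomial

/-!
# Complete intersections over a field do not depend on the presentation
-/

set_option autoImplicit false

universe u

open RingTheory.Sequence IsLocalRing

namespace TransLib

/-- The kernel of the map is generated by a regular sequence. -/
def HasRegKer {R S : Type u} [CommRing R] [CommRing S] (π : R →+* S) : Prop :=
  ∃ rs : List R, IsRegular R rs ∧ Ideal.ofList rs = RingHom.ker π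

section Crit

variable {R S : Type u} [CommRing R] [IsRegularLocalRing R] [CommRing S] [IsLocalRing S] {π : R →+* S}

theorem ker_le_maximalIdeal (π : R →+* S) : RingHom.ker π ≤ maximalIdeal R :=
  le_maximalIdeal (RingHom.ker_ne_top π)

theorem ringKrullDim_quotient_ker (hπ : Function.Surjective π) :
    ringKrullDim (R ⧸ RingHom.ker π) = ringKrullDim S :=
  ringKrullDim_eq_of_ringEquiv (RingHom.quotientKerEquivOfSurjective hπ)

theorem hasRegKer_iff (hπ : Function.Surjective π) :
    HasRegKer π ↔ ringKrullDim S + (RingHom.ker π).spanFinrank ≤ ringKrullDim R := by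
  rw [← ringKrullDim_quotient_ker hπ]
  exact CommAlgDim.exists_isRegular_iff (CommAlgDim.isCM_of_isRegularLocalRing R) (ker_le_maximalIdeal π)

/-- Enlarging the regular ring of a presentation does not matter. -/
theorem hasRegKer_comp_iff {P : Type u} [CommRing P] [IsRegularLocalRing P] {ψ : P →+* R}
    (hψ : Function.Surjective ψ) (hπ : Function.Surjective π) :
    HasRegKer (π.comp ψ) ↔ HasRegKer π := by
  have : IsNoetherianRing S := isNoetherianRing_of_surjective R S π hπ
  rw [hasRegKer_iff (π := π.comp ψ) (hπ.comp hψ), hasRegKer_iff hπ]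
  let J := RingHom.ker ψ
  let e : P ⧸ J ≃+* R := RingHom.quotientKerEquivOfSurjective hψ
  have : IsRegularLocalRing (P ⧸ J) := IsRegularLocalRing.of_ringEquiv e.symm
  have hJK : J ≤ RingHom.ker (π.comp ψ) := fun x hx => by
    rw [RingHom.mem_ker, RingHom.comp_apply, RingHom.mem_ker.1 hx, map_zero]
  have h1 := CommAlgDim.spanFinrank_map_add_of_regular_quotient hJK (ker_le_maximalIdeal (π.comp ψ))
  have h2 : RingHom.ker π = ((RingHom.ker (π.comp ψ)).map (Ideal.Quotient.mk J)).map e.toRingHom := by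
    rw [Ideal.map_map, show e.toRingHom.comp (Ideal.Quotient.mk J) = ψ from RingHom.ext fun x => rfl,
      ← RingHom.comap_ker, Ideal.map_comap_of_surjective ψ hψ]
  have h3 : (RingHom.ker π).spanFinrank = ((RingHom.ker (π.comp ψ)).map (Ideal.Quotient.mk J)).spanFinrank := by
    rw [h2]
    exact Ideal.spanFinrank_map_eq_of_ringEquiv e _
  have h4 := CommAlgDim.ringKrullDim_quotient_add_of_regular_quotient (R := P) (J := J)
  rw [ringKrullDim_eq_of_ringEquiv e] at h4
  rw [← h3] at h1
  obtain ⟨a, ha⟩ := CommAlgDim.exists_ringKrullDim_eq (R := S)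
  obtain ⟨b, hb⟩ := CommAlgDim.exists_ringKrullDim_eq (R := R)
  rw [hb] at h4 ⊢
  rw [ha, ← h4, ← h1]
  norm_cast
  omega

end Crit

variable {k : Type u} [Field k]

/-- An algebra essentially of finite type is, up to units, a quotient of a polynomial ring. -/
theorem exists_cover (R : Type u) [CommRing R] [Algebra k R] [Algebra.EssFiniteType k R] :
    ∃ (n : ℕ) (φ : MvPolynomial (Fin n) k →ₐ[k] R), ∀ r : R, ∃ a b, IsUnit (φ b) ∧ r * φ b = φ a := by
  obtain ⟨σ, hσ⟩ := (Algebra.essFiniteType_iff k R).1 inferInstance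
  let φ : MvPolynomial (Fin σ.card) k →ₐ[k] R := MvPolynomial.aeval fun i => (σ.equivFin.symm i : R)
  have hr : Algebra.adjoin k (σ : Set R) = φ.range := by
    rw [show φ.range = _ from (Algebra.adjoin_range_eq_range_aeval k _).symm]
    congr 1
    ext x
    exact ⟨fun hx => ⟨σ.equivFin ⟨x, hx⟩, by simp⟩, fun ⟨i, hi⟩ => hi ▸ (σ.equivFin.symm i).2⟩
  refine ⟨σ.card, φ, fun r => ?_⟩
  obtain ⟨t, ht, htu, hrt⟩ := hσ r
  rw [hr] at ht hrt
  obtain ⟨b, hb⟩ := ht
  obtain ⟨a, ha⟩ := hrt
  exact ⟨a, b, by simpa using hb ▸ htu, by simpa using (hb ▸ ha.symm)⟩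

/-- Independence of the presentation. -/
theorem hasRegKer_iff_hasRegKer {S : Type u} [CommRing S] [IsLocalRing S] [Algebra k S]
    {R R' : Type u} [CommRing R] [IsRegularLocalRing R] [Algebra k R] [Algebra.EssFiniteType k R]
    [CommRing R'] [IsRegularLocalRing R'] [Algebra k R'] [Algebra.EssFiniteType k R']
    (π : R →ₐ[k] S) (hπ : Function.Surjective π) (π' : R' →ₐ[k] S) (hπ' : Function.Surjective π') :
    HasRegKer π.toRingHom ↔ HasRegKer π'.toRingHom := by
  classical
  obtain ⟨n, φ, hφ⟩ := exists_cover (k := k) R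
  obtain ⟨m, φ', hφ'⟩ := exists_cover (k := k) R'
  choose u hu using fun j => hπ (π' (φ' (MvPolynomial.X j)))
  choose v hv using fun i => hπ' (π (φ (MvPolynomial.X i)))
  let P := MvPolynomial (Fin n ⊕ Fin m) k
  let Φ : P →ₐ[k] R := MvPolynomial.aeval (Sum.elim (fun i => φ (MvPolynomial.X i)) u)
  let Φ' : P →ₐ[k] R' := MvPolynomial.aeval (Sum.elim v (fun j => φ' (MvPolynomial.X j)))
  have hcomp : π.comp Φ = π'.comp Φ' := MvPolynomial.algHom_ext fun x => by
    cases x <;> simp [Φ, Φ', hu, hv]
  let q : Ideal P := (maximalIdeal S).comap (π.comp Φ).toRingHom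
  have hq : ∀ a : P, a ∈ q.primeCompl → IsUnit (π (Φ a)) := fun a ha =>
    IsLocalRing.notMem_maximalIdeal.1 ha
  have : IsLocalHom π.toRingHom := IsLocalHom.of_surjective π.toRingHom hπ
  have : IsLocalHom π'.toRingHom := IsLocalHom.of_surjective π'.toRingHom hπ'
  have hu1 : ∀ a : q.primeCompl, IsUnit (Φ.toRingHom a) := fun a =>
    isUnit_of_map_unit π.toRingHom _ (hq a a.2)
  have hu2 : ∀ a : q.primeCompl, IsUnit (Φ'.toRingHom a) := fun a => by
    refine isUnit_of_map_unit π'.toRingHom _ ?_
    show IsUnit (π' (Φ' a))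
    have h := AlgHom.congr_fun hcomp (a : P)
    simp only [AlgHom.comp_apply] at h
    rw [← h]
    exact hq a a.2
  let L : Localization.AtPrime q →+* R := IsLocalization.lift hu1
  let L' : Localization.AtPrime q →+* R' := IsLocalization.lift hu2
  have : IsRegularLocalRing (Localization.AtPrime q) := IsRegularRing.isRegularLocalRing_localization q
  have hL : Function.Surjective L := fun r => by
    obtain ⟨a, b, hb, hab⟩ := hφ r
    have hren : ∀ z, Φ (MvPolynomial.rename Sum.inl z) = φ z := fun z => by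
      refine AlgHom.congr_fun (φ₁ := Φ.comp (MvPolynomial.rename Sum.inl)) (φ₂ := φ)
        (MvPolynomial.algHom_ext fun i => ?_) z
      show Φ (MvPolynomial.rename Sum.inl (MvPolynomial.X i)) = φ (MvPolynomial.X i)
      rw [MvPolynomial.rename_X]
      exact MvPolynomial.aeval_X _ _
    have hbq : MvPolynomial.rename Sum.inl b ∈ q.primeCompl := fun hbm => by
      refine IsLocalRing.notMem_maximalIdeal.2 (hb.map π) ?_
      rw [← hren b]
      exact hbm
    refine ⟨IsLocalization.mk' _ (MvPolynomial.rename Sum.inl a) ⟨_, hbq⟩, ?_⟩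
    rw [show L = IsLocalization.lift hu1 from rfl, IsLocalization.lift_mk'_spec]
    show Φ _ = Φ _ * r
    rw [hren, hren, ← hab, mul_comm]
  have hL' : Function.Surjective L' := fun r => by
    obtain ⟨a, b, hb, hab⟩ := hφ' r
    have hren : ∀ z, Φ' (MvPolynomial.rename Sum.inr z) = φ' z := fun z => by
      refine AlgHom.congr_fun (φ₁ := Φ'.comp (MvPolynomial.rename Sum.inr)) (φ₂ := φ')
        (MvPolynomial.algHom_ext fun i => ?_) z
      show Φ' (MvPolynomial.rename Sum.inr (MvPolynomial.X i)) = φ' (MvPolynomial.X i)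
      rw [MvPolynomial.rename_X]
      exact MvPolynomial.aeval_X _ _
    have hbq : MvPolynomial.rename Sum.inr b ∈ q.primeCompl := fun hbm => by
      refine IsLocalRing.notMem_maximalIdeal.2 (hb.map π') ?_
      rw [← hren b]
      show π'.comp Φ' _ ∈ _
      rw [← hcomp]
      exact hbm
    refine ⟨IsLocalization.mk' _ (MvPolynomial.rename Sum.inr a) ⟨_, hbq⟩, ?_⟩
    rw [show L' = IsLocalization.lift hu2 from rfl, IsLocalization.lift_mk'_spec]
    show Φ' _ = Φ' _ * r
    rw [hren, hren, ← hab, mul_comm]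
  have hLL : π.toRingHom.comp L = π'.toRingHom.comp L' := by
    refine IsLocalization.ringHom_ext q.primeCompl (RingHom.ext fun a => ?_)
    simp only [RingHom.comp_apply, L, L', IsLocalization.lift_eq]
    exact AlgHom.congr_fun hcomp a
  rw [← hasRegKer_comp_iff hL (π := π.toRingHom) hπ, hLL, hasRegKer_comp_iff hL' (π := π'.toRingHom) hπ']

/-- Every local algebra essentially of finite type is a quotient of a regular one of the same kind. -/
theorem exists_regular_surjection (S : Type u) [CommRing S] [IsLocalRing S] [Algebra k S] [Algebra.EssFiniteType k S] :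
    ∃ (R : Type u) (_ : CommRing R) (_ : IsRegularLocalRing R) (_ : Algebra k R) (π : R →ₐ[k] S),
      Algebra.EssFiniteType k R ∧ Function.Surjective π := by
  obtain ⟨n, φ, hφ⟩ := exists_cover (k := k) S
  let q := (maximalIdeal S).comap φ.toRingHom
  have hu : ∀ a : q.primeCompl, IsUnit (φ a) := fun a => IsLocalRing.notMem_maximalIdeal.1 a.2
  let R := Localization.AtPrime q
  let π : R →ₐ[k] S := IsLocalization.liftAlgHom (M := q.primeCompl) (f := φ) hu
  refine ⟨R, inferInstance, IsRegularRing.isRegularLocalRing_localization q, inferInstance, π,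
    Algebra.EssFiniteType.comp k (MvPolynomial (Fin n) k) R, fun r => ?_⟩
  obtain ⟨a, b, hb, hab⟩ := hφ r
  refine ⟨IsLocalization.mk' _ a (⟨b, fun hbm => IsLocalRing.notMem_maximalIdeal.2 hb hbm⟩ : q.primeCompl), ?_⟩
  show IsLocalization.lift hu _ = r
  rw [IsLocalization.lift_mk'_spec]
  show φ a = φ b * r
  rw [← hab, mul_comm]

section IsCIOver

variable {S : Type u} [CommRing S] [IsLocalRing S] [Algebra k S]

theorem isCIOver_iff_exists :
    Synt.IsCIOver k S ↔ ∃ (R : Type u) (_ : CommRing R) (_ : IsRegularLocalRing R) (_ : Algebra k R),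
      Algebra.EssFiniteType k R ∧ ∃ π : R →ₐ[k] S, Function.Surjective π ∧ HasRegKer π.toRingHom := by
  constructor
  · rintro ⟨R, _, _, _, hR, rs, hm, hrs, ⟨e⟩⟩
    refine ⟨R, inferInstance, inferInstance, inferInstance, hR, e.symm.toAlgHom.comp (Ideal.Quotient.mkₐ k _),
      e.symm.surjective.comp (Ideal.Quotient.mkₐ_surjective k _), rs, hrs, ?_⟩
    ext x
    rw [RingHom.mem_ker]
    exact (Ideal.Quotient.eq_zero_iff_mem.symm.trans (map_eq_zero_iff (f := e.symm) e.symm.injective).symm)
  · rintro ⟨R, _, _, _, hR, π, hπ, rs, hrs, hker⟩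
    exact ⟨R, inferInstance, inferInstance, inferInstance, hR, rs, CommAlgDim.mem_maximalIdeal_of_isRegular hrs, hrs,
      ⟨((Ideal.quotientEquivAlgOfEq k hker).trans (Ideal.quotientKerAlgEquivOfSurjective (f := π) hπ)).symm⟩⟩

/-- Any presentation by a regular local ring tests the property. -/
theorem isCIOver_iff {R : Type u} [CommRing R] [IsRegularLocalRing R] [Algebra k R] [Algebra.EssFiniteType k R]
    (π : R →ₐ[k] S) (hπ : Function.Surjective π) :
    Synt.IsCIOver k S ↔ HasRegKer π.toRingHom := by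
  rw [isCIOver_iff_exists]
  refine ⟨?_, fun h => ⟨R, inferInstance, inferInstance, inferInstance, inferInstance, π, hπ, h⟩⟩
  rintro ⟨R', _, _, _, hR', π', hπ', h⟩
  exact (hasRegKer_iff_hasRegKer π' hπ' π hπ).1 h

theorem isCIOver_congr {S' : Type u} [CommRing S'] [IsLocalRing S'] [Algebra k S'] (e : S ≃ₐ[k] S')
    (h : Synt.IsCIOver k S) : Synt.IsCIOver k S' := by
  obtain ⟨R, _, _, _, hR, rs, hm, hrs, ⟨e'⟩⟩ := h
  exact ⟨R, inferInstance, inferInstance, inferInstance, hR, rs, hm, hrs, ⟨e.symm.trans e'⟩⟩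

end IsCIOver

end TransLib
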