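import Groth.Agent.TransLib.RelGCI

/-!
# Invariance of syntomic under isomorphisms
-/

set_option autoImplicit false

universe u

open TensorProduct

namespace TransLib

theorem isLCIOver_congr {k : Type u} [Field k] {S S' : Type u} [CommRing S] [Algebra k S] [CommRing S'] [Algebra k S']
    (e : S ≃ₐ[k] S') (h : Synt.IsLCIOver k S) : Synt.IsLCIOver k S' := by
  have := h.1
  refine ⟨Algebra.FiniteType.of_surjective e.toAlgHom e.surjective, fun p => ?_⟩
  obtain ⟨g, hg, hCI⟩ := h.2 ⟨p.asIdeal.comap e.toRingEquiv.toRingHom, inferInstance⟩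
  refine ⟨e g, hg, isGlobalCI_congr (IsLocalization.algEquivOfAlgEquiv (Localization.Away g) (Localization.Away (e g)) e
    (M := Submonoid.powers g) (T := Submonoid.powers (e g)) ?_) hCI⟩
  exact Submonoid.map_powers _ g

theorem isSyntomic_congr {R : Type u} [CommRing R] {S S' : Type u} [CommRing S] [Algebra R S] [CommRing S'] [Algebra R S']
    (e : S ≃ₐ[R] S') (h : Synt.IsSyntomic R S) : Synt.IsSyntomic R S' := by
  have := h.1
  have := h.2.1
  refine ⟨Module.Flat.of_linearEquiv e.symm.toLinearEquiv, Algebra.FinitePresentation.equiv e, fun p => ?_⟩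
  exact isLCIOver_congr (Algebra.TensorProduct.congr (AlgEquiv.refl (R := p.asIdeal.ResidueField) (A₁ := p.asIdeal.ResidueField)) e)
    (h.2.2 p)

end TransLib
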