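import Groth.Agent.FlatLib.SliceMore
import Groth.Agent.FlatLib.OpenFP

/-!
# Regular sequences on the fibre through a point, over any base
-/

set_option autoImplicit false

universe u

open TensorProduct RingTheory.Sequence FlatLib

namespace TransLib

/-- Membership in `J • M_q`. -/
theorem exists_smul_mem_of_localized {B M : Type u} [CommRing B] [AddCommGroup M] [Module B M] (T : Submonoid B)
    (J : Ideal B) {m : M}
    (h : LocalizedModule.mkLinearMap T M m ∈ J • (⊤ : Submodule B (LocalizedModule T M))) :
    ∃ t ∈ T, t • m ∈ J • (⊤ : Submodule B M) := by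
  let ι := LocalizedModule.mkLinearMap T M
  have key : ∀ z ∈ J • (⊤ : Submodule B (LocalizedModule T M)),
      ∃ t : T, ∃ y ∈ J • (⊤ : Submodule B M), (t : B) • z = ι y := by
    intro z hz
    refine Submodule.smul_induction_on hz (fun r hr w _ => ?_) (fun x y hx hy => ?_)
    · obtain ⟨⟨v, t⟩, hv⟩ := IsLocalizedModule.surj T ι w
      replace hv : (t : B) • w = ι v := hv
      exact ⟨t, r • v, Submodule.smul_mem_smul hr Submodule.mem_top, by rw [map_smul, ← hv, smul_comm]⟩
    · obtain ⟨t, v, hv, hx⟩ := hx
      obtain ⟨t', v', hv', hy⟩ := hy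
      refine ⟨t * t', (t' : B) • v + (t : B) • v', add_mem (Submodule.smul_mem _ _ hv) (Submodule.smul_mem _ _ hv'), ?_⟩
      rw [map_add, map_smul, map_smul, ← hx, ← hy, Submonoid.coe_mul, smul_add, mul_smul, mul_smul,
        smul_comm (t' : B) (t : B) x]
  obtain ⟨t, y, hy, hty⟩ := key _ h
  obtain ⟨s, hs⟩ := IsLocalizedModule.exists_of_eq (S := T) (f := ι) (x₁ := (t : B) • m) (x₂ := y)
    (by rw [map_smul]; exact hty)
  refine ⟨(s : B) * t, T.mul_mem s.2 t.2, ?_⟩
  rw [mul_smul, ← Submonoid.smul_def, hs, Submonoid.smul_def]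
  exact Submodule.smul_mem _ _ hy

theorem mem_smul_top_localized {B M : Type u} [CommRing B] [AddCommGroup M] [Module B M] (T : Submonoid B)
    (J : Ideal B) {m : M} {t : B} (ht : t ∈ T) (h : t • m ∈ J • (⊤ : Submodule B M)) (s : T) :
    LocalizedModule.mk m s ∈ J • (⊤ : Submodule B (LocalizedModule T M)) := by
  have h1 : LocalizedModule.mkLinearMap T M (t • m) ∈ J • (⊤ : Submodule B (LocalizedModule T M)) := by
    have := Submodule.mem_map_of_mem (f := LocalizedModule.mkLinearMap T M) h
    rw [Submodule.map_smul''] at this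
    exact Submodule.smul_mono le_rfl le_top this
  have h2 : LocalizedModule.mk m s = algebraMap B (Localization T) 1 • LocalizedModule.mk m s := by
    rw [map_one, one_smul]
  have h3 : LocalizedModule.mk m s = (Localization.mk 1 (s * ⟨t, ht⟩)) • LocalizedModule.mkLinearMap T M (t • m) := by
    rw [LocalizedModule.mkLinearMap_apply, LocalizedModule.mk_smul_mk, mul_one, one_smul, LocalizedModule.mk_eq]
    exact ⟨1, by simp [Submonoid.smul_def, mul_smul]⟩
  rw [h3]
  refine Submodule.smul_induction_on h1 (fun r hr w _ => ?_) (fun x y hx hy => ?_)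
  · rw [smul_comm]
    exact Submodule.smul_mem_smul hr Submodule.mem_top
  · rw [smul_add]; exact add_mem hx hy

variable {A B : Type u} [CommRing A] [CommRing B] [Algebra A B] (M : Type u) [AddCommGroup M] [Module B M]
  [Module A M] [IsScalarTower A B M] (q : Ideal B) [q.IsPrime]

/-- A regular sequence on the fibre, element by element. -/
theorem fibre_regular_elim (g : List B)
    (hreg : IsWeaklyRegular (LocalizedModule q.primeCompl (M ⊗[A] (q.comap (algebraMap A B)).ResidueField)) g)
    (i : ℕ) (hi : i < g.length) (m : M)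
    (h : ∃ t ∉ q, t • g[i] • m ∈ ((q.comap (algebraMap A B)).map (algebraMap A B) ⊔ Ideal.ofList (g.take i)) • (⊤ : Submodule B M)) :
    ∃ t ∉ q, t • m ∈ ((q.comap (algebraMap A B)).map (algebraMap A B) ⊔ Ideal.ofList (g.take i)) • (⊤ : Submodule B M) := by
  let p := q.comap (algebraMap A B)
  let J := Ideal.ofList (g.take i)
  let T := q.primeCompl
  let K := M ⊗[A] p.ResidueField
  let ι := LocalizedModule.mkLinearMap T K
  let one : M →ₗ[B] K :=
    { toFun := fun m => m ⊗ₜ 1
      map_add' := fun a b => add_tmul a b 1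
      map_smul' := fun b m => (smul_tmul' b m (1 : p.ResidueField)).symm }
  have hp0 : ∀ y ∈ (p.map (algebraMap A B)) • (⊤ : Submodule B M), one y = 0 := by
    intro y hy
    refine Submodule.smul_induction_on hy (fun r hr w _ => ?_) (fun a b ha hb => by rw [map_add, ha, hb, add_zero])
    induction hr using Submodule.span_induction with
    | mem r hr =>
      obtain ⟨a, ha, rfl⟩ := hr
      show (algebraMap A B a • w) ⊗ₜ[A] (1 : p.ResidueField) = 0
      rw [algebraMap_smul, smul_tmul, ← Algebra.algebraMap_eq_smul_one,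
        Ideal.algebraMap_residueField_eq_zero.2 ha, tmul_zero]
    | zero => rw [zero_smul, map_zero]
    | add a b _ _ ha hb => rw [add_smul, map_add, ha, hb, add_zero]
    | smul c a _ ha => rw [smul_eq_mul, mul_smul, map_smul, ha, smul_zero]
  obtain ⟨t, ht, hmem⟩ := h
  have h1 : g[i] • ι (one m) ∈ J • (⊤ : Submodule B (LocalizedModule T K)) := by
    rw [Submodule.sup_smul] at hmem
    obtain ⟨y, hy, z, hz, hyz⟩ := Submodule.mem_sup.1 hmem
    have h2 : one (t • g[i] • m) ∈ J • (⊤ : Submodule B K) := by
      rw [← hyz, map_add, hp0 y hy, zero_add]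
      have := Submodule.mem_map_of_mem (f := one) hz
      rw [Submodule.map_smul''] at this
      exact Submodule.smul_mono le_rfl le_top this
    rw [← map_smul]
    refine mem_smul_top_localized T J (t := t) ht ?_ 1
    rw [map_smul] at h2
    rwa [map_smul] at h2
  obtain ⟨t', ht', h3⟩ := exists_smul_mem_of_localized T J (mem_of_isSMulRegular_quotient_of_smul_mem (hreg.regular_mod_prev i hi) h1)
  have hnot : ∀ r : A, r ∉ p → algebraMap A B r ∉ q := fun r hr => hr
  have hclear : ∀ x : p.ResidueField, ∃ r a : A, r ∉ p ∧ r • x = algebraMap A p.ResidueField a := fun x => by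
    obtain ⟨a, s, hs, hx⟩ := IsFractionRing.div_surjective (A := A ⧸ p) x
    obtain ⟨a, rfl⟩ := Ideal.Quotient.mk_surjective a
    obtain ⟨s, rfl⟩ := Ideal.Quotient.mk_surjective s
    refine ⟨s, a, fun h => nonZeroDivisors.ne_zero hs (Ideal.Quotient.eq_zero_iff_mem.2 h), ?_⟩
    rw [← hx, Algebra.smul_def, IsScalarTower.algebraMap_apply A (A ⧸ p) p.ResidueField,
      IsScalarTower.algebraMap_apply A (A ⧸ p) p.ResidueField, Ideal.Quotient.algebraMap_eq p, mul_div_cancel₀ _
        (IsFractionRing.to_map_ne_zero_of_mem_nonZeroDivisors hs)]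
  have hK : ∀ x : K, ∃ r : A, r ∉ p ∧ ∃ w : M, algebraMap A B r • x = one w := fun x => by
    induction x using TensorProduct.induction_on with
    | zero => exact ⟨1, fun h => (inferInstance : p.IsPrime).ne_top ((Ideal.eq_top_iff_one p).2 h), 0, by simp⟩
    | add a b ha hb =>
      obtain ⟨r, hr, w, hw⟩ := ha
      obtain ⟨r', hr', w', hw'⟩ := hb
      refine ⟨r * r', p.primeCompl.mul_mem hr hr', algebraMap A B r' • w + algebraMap A B r • w', ?_⟩
      rw [map_add, map_smul, map_smul, ← hw, ← hw', smul_add, map_mul, mul_smul, mul_smul,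
        smul_comm (algebraMap A B r') (algebraMap A B r) a]
    | tmul w x =>
      obtain ⟨r, a, hr, hx⟩ := hclear x
      refine ⟨r, hr, a • w, ?_⟩
      show algebraMap A B r • w ⊗ₜ[A] x = (a • w) ⊗ₜ[A] (1 : p.ResidueField)
      rw [smul_tmul', algebraMap_smul, smul_tmul, hx, smul_tmul, ← Algebra.algebraMap_eq_smul_one]
  have hJK : ∀ x ∈ J • (⊤ : Submodule B K), ∃ r : A, r ∉ p ∧ ∃ y ∈ J • (⊤ : Submodule B M),
      algebraMap A B r • x = one y := fun x hx => by
    refine Submodule.smul_induction_on hx (fun j hj w _ => ?_) (fun a b ha hb => ?_)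
    · obtain ⟨r, hr, v, hv⟩ := hK w
      exact ⟨r, hr, j • v, Submodule.smul_mem_smul hj Submodule.mem_top, by rw [map_smul, ← hv, smul_comm]⟩
    · obtain ⟨r, hr, w, hw0, hw⟩ := ha
      obtain ⟨r', hr', w', hw0', hw'⟩ := hb
      refine ⟨r * r', p.primeCompl.mul_mem hr hr', algebraMap A B r' • w + algebraMap A B r • w',
        add_mem (Submodule.smul_mem _ _ hw0) (Submodule.smul_mem _ _ hw0'), ?_⟩
      rw [map_add, map_smul, map_smul, ← hw, ← hw', smul_add, map_mul, mul_smul, mul_smul,
        smul_comm (algebraMap A B r') (algebraMap A B r) a]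
  obtain ⟨r, hr, y, hy, hry⟩ := hJK _ h3
  have h4 : one (algebraMap A B r • t' • m - y) = 0 := by rw [map_sub, map_smul, map_smul, hry, sub_self]
  obtain ⟨r', hr', h5⟩ := FlatLib.exists_smul_mem_of_tmul_eq_zero p (m := algebraMap A B r • t' • m - y)
    (by
      have := congrArg (TensorProduct.comm A M p.ResidueField) h4
      rwa [map_zero] at this)
  refine ⟨algebraMap A B r' * (algebraMap A B r * t'),
    q.primeCompl.mul_mem (hnot r' hr') (q.primeCompl.mul_mem (hnot r hr) ht'), ?_⟩
  rw [Submodule.sup_smul]
  refine Submodule.mem_sup.2 ⟨algebraMap A B r' • (algebraMap A B r • t' • m - y), ?_, algebraMap A B r' • y,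
    Submodule.smul_mem _ _ hy, by rw [← smul_add, sub_add_cancel, mul_smul, mul_smul]⟩
  rw [algebraMap_smul]
  rw [← Submodule.restrictScalars_mem A (p.map (algebraMap A B) • (⊤ : Submodule B M)), Ideal.smul_restrictScalars,
    Submodule.restrictScalars_top]
  exact h5

variable [Algebra.FinitePresentation A B] [Module.FinitePresentation B M]

/-- A sequence regular on the fibre through `q` is transversally regular at `q`. -/
theorem regular_and_flat_point (g : List B) (hg : ∀ b ∈ g, b ∈ q)
    (hflat : Module.Flat A (LocalizedModule q.primeCompl M))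
    (hreg : IsRegular (LocalizedModule q.primeCompl (M ⊗[A] (q.comap (algebraMap A B)).ResidueField)) g) :
    IsRegular (LocalizedModule q.primeCompl M) g ∧
      ∀ i ≤ g.length, Module.Flat A (LocalizedModule q.primeCompl (M ⧸ (Ideal.ofList (g.take i) • (⊤ : Submodule B M)))) := by
  let p := q.comap (algebraMap A B)
  let N : ℕ → Submodule B M := fun i => Ideal.ofList (g.take i) • (⊤ : Submodule B M)
  have hfgN : ∀ i, (N i).FG := fun i => by
    refine Submodule.FG.smul ?_ Module.Finite.fg_top
    classical
    exact ⟨(g.take i).toFinset, congrArg Ideal.span (List.coe_toFinset _)⟩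
  have step : ∀ i (hi : i < g.length), (⟨q, inferInstance⟩ : PrimeSpectrum B) ∈ flatLocus A B (M ⧸ N i) →
      (∀ m : M, g[i] • m ∈ N i → ∃ t ∉ q, t • m ∈ N i) ∧
        (⟨q, inferInstance⟩ : PrimeSpectrum B) ∈ flatLocus A B (M ⧸ N (i + 1)) := by
    intro i hi hfl
    have : Module.FinitePresentation B (M ⧸ N i) := by
      refine Module.finitePresentation_of_surjective (N i).mkQ (Submodule.mkQ_surjective _) ?_
      rw [Submodule.ker_mkQ]; exact hfgN i
    have hcomap : ∀ m : M, Submodule.Quotient.mk m ∈ (p.map (algebraMap A B)) • (⊤ : Submodule B (M ⧸ N i)) ↔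
        m ∈ (p.map (algebraMap A B) ⊔ Ideal.ofList (g.take i)) • (⊤ : Submodule B M) := fun m => by
      have h1 : (p.map (algebraMap A B) ⊔ Ideal.ofList (g.take i)) • (⊤ : Submodule B M) =
          Submodule.comap (N i).mkQ ((p.map (algebraMap A B)) • (⊤ : Submodule B (M ⧸ N i))) := by
        rw [← Submodule.range_mkQ (N i), ← Submodule.map_top, ← Submodule.map_smul'', Submodule.comap_map_eq,
          Submodule.ker_mkQ, Submodule.sup_smul]
      rw [h1]; rfl
    obtain ⟨U, -, hqU, hU⟩ := FlatLib.slice_point (M := M ⧸ N i) ⟨q, inferInstance⟩ g[i] (hg _ (List.getElem_mem hi)) hfl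
      (fun mb hmb => by
        obtain ⟨m, rfl⟩ := Submodule.Quotient.mk_surjective _ mb
        obtain ⟨t, ht, hm⟩ := hmb
        rw [← Submodule.Quotient.mk_smul, ← Submodule.Quotient.mk_smul, hcomap] at hm
        obtain ⟨t', ht', hm'⟩ := fibre_regular_elim M q g hreg.toIsWeaklyRegular i hi m ⟨t, ht, hm⟩
        exact ⟨t', ht', by rw [← Submodule.Quotient.mk_smul, hcomap]; exact hm'⟩)
    obtain ⟨h1, h2⟩ := hU _ hqU
    refine ⟨fun m hm => ?_, ?_⟩
    · obtain ⟨t, ht, htm⟩ := h1 (Submodule.Quotient.mk m) (by rw [← Submodule.Quotient.mk_smul, Submodule.Quotient.mk_eq_zero]; exact hm)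
      exact ⟨t, ht, by rwa [← Submodule.Quotient.mk_smul, Submodule.Quotient.mk_eq_zero] at htm⟩
    · let S := Ideal.span {g[i]} • (⊤ : Submodule B M)
      have hS : Ideal.span {g[i]} • (⊤ : Submodule B (M ⧸ N i)) = (N i ⊔ S).map (N i).mkQ := by
        rw [Submodule.map_sup, Submodule.mkQ_map_self, bot_sup_eq, Submodule.map_smul'', Submodule.map_top,
          Submodule.range_mkQ]
      have hN : N i ⊔ S = N (i + 1) := by
        show Ideal.ofList (g.take i) • (⊤ : Submodule B M) ⊔ S = Ideal.ofList (g.take (i + 1)) • ⊤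
        rw [← Submodule.sup_smul, List.take_add_one, List.getElem?_eq_getElem hi, Option.toList_some,
          Ideal.ofList_append, Ideal.ofList_singleton]
      rw [← flatLocus_congr (R := A) (((Submodule.quotEquivOfEq _ _ hS).trans
        (Submodule.quotientQuotientEquivQuotient (N i) (N i ⊔ S) le_sup_left)).trans (Submodule.quotEquivOfEq _ _ hN))]
      exact h2
  have hflN : ∀ i ≤ g.length, (⟨q, inferInstance⟩ : PrimeSpectrum B) ∈ flatLocus A B (M ⧸ N i) := by
    intro i
    induction i with
    | zero =>
      intro _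
      rw [← flatLocus_congr (R := A) (Submodule.quotEquivOfEqBot (N 0) (by simp [N])).symm]
      exact hflat
    | succ i ih => exact fun hi => (step i hi (ih (Nat.le_of_succ_le hi))).2
  refine ⟨⟨⟨fun i hi => ?_⟩, fun h => ?_⟩, hflN⟩
  · rw [isSMulRegular_quotient_iff_mem_of_smul_mem]
    intro x hx
    induction x using LocalizedModule.induction_on with
    | h m s =>
      rw [LocalizedModule.smul'_mk] at hx
      have h1 : LocalizedModule.mkLinearMap q.primeCompl M (g[i] • m) ∈
          Ideal.ofList (g.take i) • (⊤ : Submodule B (LocalizedModule q.primeCompl M)) := by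
        have := Submodule.smul_mem _ (s : B) hx
        rwa [LocalizedModule.smul'_mk, show LocalizedModule.mk ((s : B) • g[i] • m) s =
          LocalizedModule.mkLinearMap q.primeCompl M (g[i] • m) from LocalizedModule.mk_cancel s _] at this
      obtain ⟨t, ht, htm⟩ := exists_smul_mem_of_localized q.primeCompl _ h1
      obtain ⟨t', ht', h2⟩ := (step i hi (hflN i hi.le)).1 (t • m) (by rwa [smul_comm])
      rw [smul_smul] at h2
      exact mem_smul_top_localized q.primeCompl _ (q.primeCompl.mul_mem ht' ht) h2 s
  · refine hreg.top_ne_smul (le_antisymm ?_ le_top)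
    rintro x -
    induction x using LocalizedModule.induction_on with
    | h z s =>
      have hz : ∀ w : M ⊗[A] p.ResidueField, LocalizedModule.mkLinearMap q.primeCompl _ w ∈
          Ideal.ofList g • (⊤ : Submodule B (LocalizedModule q.primeCompl (M ⊗[A] p.ResidueField))) := fun w => by
        induction w using TensorProduct.induction_on with
        | zero => rw [map_zero]; exact zero_mem _
        | add a b ha hb => rw [map_add]; exact add_mem ha hb
        | tmul v x =>
          have hv : LocalizedModule.mkLinearMap q.primeCompl M v ∈ Ideal.ofList g • (⊤ : Submodule B (LocalizedModule q.primeCompl M)) :=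
            h ▸ Submodule.mem_top
          obtain ⟨t, ht, htv⟩ := exists_smul_mem_of_localized q.primeCompl _ hv
          let l : M →ₗ[B] M ⊗[A] p.ResidueField :=
            { toFun := fun m => m ⊗ₜ x
              map_add' := fun a b => add_tmul a b x
              map_smul' := fun b m => (smul_tmul' b m x).symm }
          have := Submodule.mem_map_of_mem (f := l) htv
          rw [Submodule.map_smul''] at this
          refine mem_smul_top_localized q.primeCompl _ ht ?_ 1
          rw [show t • (v ⊗ₜ[A] x) = l (t • v) from smul_tmul' t v x]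
          exact Submodule.smul_mono le_rfl le_top this
      obtain ⟨t, ht, htz⟩ := exists_smul_mem_of_localized q.primeCompl _ (hz z)
      exact mem_smul_top_localized q.primeCompl _ ht htz s

end TransLib
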