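import Groth.Agent.TransLib.RelDescent

/-!
# Relative global complete intersections: flatness, fibres, descent
-/

set_option autoImplicit false

universe u

open TensorProduct

namespace TransLib

variable {R : Type u} [CommRing R] {n c : ℕ} {F : Fin c → MvPolynomial (Fin n) R}

/-- All fibres of a relative global complete intersection have dimension at most `n - c`. -/
theorem fibre_le_of_isRelGCI (h : Synt.IsRelGCI R n c F) (p : Ideal R) [p.IsPrime] :
    ringKrullDim (p.Fiber (Synt.RelGCIRing R n c F)) ≤ ((n - c : ℕ) : WithBot ℕ∞) := by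
  rcases subsingleton_or_nontrivial (p.Fiber (Synt.RelGCIRing R n c F)) with hs | hs
  · rw [ringKrullDim_eq_bot_of_subsingleton]; exact bot_le
  · exact (h ⟨p, inferInstance⟩ hs).2.le

theorem nontrivial_fiber (R : Type u) [CommRing R] {S : Type u} [CommRing S] [Algebra R S] (q : Ideal S) [q.IsPrime] :
    Nontrivial ((q.comap (algebraMap R S)).Fiber S) :=
  PrimeSpectrum.nonempty_iff_nontrivial.1
    ⟨PrimeSpectrum.preimageEquivFiber R S ⟨q.comap (algebraMap R S), inferInstance⟩ ⟨⟨q, inferInstance⟩, rfl⟩⟩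

theorem subsingleton_of_isRelGCI_of_lt (h : Synt.IsRelGCI R n c F) (hc : ¬ c ≤ n) :
    Subsingleton (Synt.RelGCIRing R n c F) := by
  by_contra hne
  rw [not_subsingleton_iff_nontrivial] at hne
  obtain ⟨m, hm⟩ := Ideal.exists_maximal (Synt.RelGCIRing R n c F)
  exact hc (h ⟨m.comap (algebraMap R _), inferInstance⟩ (nontrivial_fiber R m)).1

theorem flat_of_fibre_le (hc : c ≤ n)
    (hdim : ∀ (p : Ideal R) [p.IsPrime],
      ringKrullDim (p.Fiber (Synt.RelGCIRing R n c F)) ≤ ((n - c : ℕ) : WithBot ℕ∞)) :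
    Module.Flat R (Synt.RelGCIRing R n c F) := by
  obtain ⟨R₀, F₀, hfin, hF₀, hdim₀⟩ := exists_descent F (n - c) hdim
  have : IsNoetherianRing R₀ := Algebra.FiniteType.isNoetherianRing ℤ R₀
  have hfl := flat_relGCI_noetherian hc F₀ hdim₀
  have h1 : Module.Flat R (Synt.RelGCIRing R n c fun i => MvPolynomial.map (algebraMap R₀ R) (F₀ i)) :=
    Module.Flat.of_linearEquiv (fibreEquiv (R := R₀) R n c F₀).toLinearEquiv.symm
  rwa [funext hF₀] at h1

theorem flat_of_isRelGCI (h : Synt.IsRelGCI R n c F) : Module.Flat R (Synt.RelGCIRing R n c F) := by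
  by_cases hc : c ≤ n
  · exact flat_of_fibre_le hc fun p _ => fibre_le_of_isRelGCI h p
  · have := subsingleton_of_isRelGCI_of_lt h hc
    infer_instance

theorem isGlobalCI_congr {k : Type u} [Field k] {S S' : Type u} [CommRing S] [Algebra k S] [CommRing S'] [Algebra k S']
    (e : S ≃ₐ[k] S') (h : Synt.IsGlobalCI k S) : Synt.IsGlobalCI k S' := by
  rcases h with h | ⟨n, c, hc, φ, r, hφ, hker, hd⟩
  · exact Or.inl e.symm.injective.subsingleton
  · refine Or.inr ⟨n, c, hc, e.toAlgHom.comp φ, r, e.surjective.comp hφ, ?_, ?_⟩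
    · rw [← hker]
      ext x
      exact map_eq_zero_iff (f := e) (e.injective)
    · rw [← hd]
      exact (ringKrullDim_eq_of_ringEquiv e.toRingEquiv).symm

/-- The fibre of a presentation as the presented algebra over the residue field. -/
theorem isGlobalCI_fibre (h : Synt.IsRelGCI R n c F) (p : Ideal R) [p.IsPrime] :
    Synt.IsGlobalCI p.ResidueField (p.Fiber (Synt.RelGCIRing R n c F)) := by
  rcases subsingleton_or_nontrivial (p.Fiber (Synt.RelGCIRing R n c F)) with hs | hs
  · exact Or.inl hs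
  obtain ⟨hc, hd⟩ := h ⟨p, inferInstance⟩ hs
  let e := fibreEquiv (R := R) p.ResidueField n c F
  refine isGlobalCI_congr e.symm (Or.inr ⟨n, c, hc, Ideal.Quotient.mkₐ _ _, _, Ideal.Quotient.mkₐ_surjective _ _,
    Ideal.mk_ker, ?_⟩)
  rw [← hd]
  exact ringKrullDim_eq_of_ringEquiv e.symm.toRingEquiv

theorem isLCIOver_of_isGlobalCI {k : Type u} [Field k] {S : Type u} [CommRing S] [Algebra k S] [Algebra.FiniteType k S]
    (h : Synt.IsGlobalCI k S) : Synt.IsLCIOver k S :=
  ⟨inferInstance, fun p => ⟨1, fun h1 => p.isPrime.ne_top ((Ideal.eq_top_iff_one _).2 h1),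
    isGlobalCI_congr ((IsLocalization.atUnits S (Submonoid.powers (1 : S)) (S := Localization.Away (1 : S))
      (by rw [Submonoid.powers_le]; exact isUnit_one)).restrictScalars k) h⟩⟩

theorem isSyntomic_relGCIRing (h : Synt.IsRelGCI R n c F) : Synt.IsSyntomic R (Synt.RelGCIRing R n c F) :=
  ⟨flat_of_isRelGCI h,
    Algebra.FinitePresentation.quotient (Submodule.fg_span (Set.finite_range F)),
    fun p => isLCIOver_of_isGlobalCI (isGlobalCI_fibre h p.asIdeal)⟩

/-- With `c ≤ n` an upper bound on the fibre dimensions is enough. -/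
theorem isRelGCI_of_fibre_le (hc : c ≤ n)
    (hdim : ∀ (p : Ideal R) [p.IsPrime],
      ringKrullDim (p.Fiber (Synt.RelGCIRing R n c F)) ≤ ((n - c : ℕ) : WithBot ℕ∞)) :
    Synt.IsRelGCI R n c F := by
  intro p hs
  refine ⟨hc, (hdim p.asIdeal).antisymm ?_⟩
  let e := fibreEquiv (R := R) p.asIdeal.ResidueField n c F
  have := e.toRingEquiv.injective.nontrivial
  rw [ringKrullDim_eq_of_ringEquiv (R := p.asIdeal.Fiber (Synt.RelGCIRing R n c F)) e.toRingEquiv]
  exact le_ringKrullDim_quotient_span _ n c _ (Ideal.Quotient.nontrivial_iff.1 this) hc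

theorem exists_descent_isRelGCI (h : Synt.IsRelGCI R n c F) :
    ∃ (R₀ : Subalgebra ℤ R) (F₀ : Fin c → MvPolynomial (Fin n) R₀), Algebra.FiniteType ℤ R₀ ∧
      (∀ i, MvPolynomial.map (algebraMap R₀ R) (F₀ i) = F i) ∧ Synt.IsRelGCI R₀ n c F₀ := by
  classical
  by_cases hc : c ≤ n
  · obtain ⟨R₀, F₀, hfin, hF₀, hdim₀⟩ := exists_descent F (n - c) fun p _ => fibre_le_of_isRelGCI h p
    exact ⟨R₀, F₀, hfin, hF₀, isRelGCI_of_fibre_le hc hdim₀⟩
  have hsub := subsingleton_of_isRelGCI_of_lt h hc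
  have h1 : (1 : MvPolynomial (Fin n) R) ∈ Ideal.span (Set.range F) :=
    (Ideal.eq_top_iff_one _).1 (Ideal.Quotient.subsingleton_iff.1 hsub)
  obtain ⟨g, hg⟩ := Ideal.mem_span_range_iff_exists_fun.1 h1
  obtain ⟨R₀, hfin, -, hlift⟩ := exists_subalgebra (Finset.univ.image F ∪ Finset.univ.image g) ∅
  choose F₀ hF₀ using fun i => hlift (F i) (Finset.mem_union_left _ (Finset.mem_image_of_mem _ (Finset.mem_univ i)))
  choose g₀ hg₀ using fun i => hlift (g i) (Finset.mem_union_right _ (Finset.mem_image_of_mem _ (Finset.mem_univ i)))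
  have h0 : ∑ i, g₀ i * F₀ i = 1 := MvPolynomial.map_injective (algebraMap R₀ R) Subtype.val_injective (by
    simp only [map_sum, map_mul, map_one, hF₀, hg₀]
    exact hg)
  have hsub₀ : Subsingleton (Synt.RelGCIRing R₀ n c F₀) := Ideal.Quotient.subsingleton_iff.2
    ((Ideal.eq_top_iff_one _).2 (h0 ▸ Ideal.sum_mem _ fun i _ =>
      Ideal.mul_mem_left _ _ (Ideal.subset_span (Set.mem_range_self i))))
  refine ⟨R₀, F₀, hfin, hF₀, fun p hs => ?_⟩
  have : Subsingleton (p.asIdeal.Fiber (Synt.RelGCIRing R₀ n c F₀)) := inferInstance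
  exact absurd hs (not_nontrivial_iff_subsingleton.2 this)

end TransLib
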