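import Groth.Agent.TransLib.FieldCI

/-!
# Ideals generated by as many elements as their codimension, in affine space
-/

set_option autoImplicit false

universe u

open RingTheory.Sequence IsLocalRing

namespace TransLib

variable {k : Type u} [Field k] {n : ℕ} (I : Ideal (MvPolynomial (Fin n) k)) (q : Ideal (MvPolynomial (Fin n) k ⧸ I))
  [q.IsPrime]

theorem le_comap_mk : I ≤ q.comap (Ideal.Quotient.mk I) := fun x hx => by
  show Ideal.Quotient.mk I x ∈ q
  rw [Ideal.Quotient.eq_zero_iff_mem.2 hx]
  exact q.zero_mem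

theorem map_le_maximal : I.map (algebraMap _ (Localization.AtPrime (q.comap (Ideal.Quotient.mk I)))) ≤
    maximalIdeal (Localization.AtPrime (q.comap (Ideal.Quotient.mk I))) := by
  rw [← Localization.AtPrime.map_eq_maximalIdeal]
  exact Ideal.map_mono (le_comap_mk I q)

/-- The codimension of the subscheme at the point. -/
theorem codim_eq (c : ℕ) (hc : (c : ℕ∞) + q.height = (q.comap (Ideal.Quotient.mk I)).height) :
    ringKrullDim (Localization.AtPrime (q.comap (Ideal.Quotient.mk I)) ⧸
        I.map (algebraMap _ (Localization.AtPrime (q.comap (Ideal.Quotient.mk I))))) + (c : WithBot ℕ∞) =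
      ringKrullDim (Localization.AtPrime (q.comap (Ideal.Quotient.mk I))) := by
  let P := MvPolynomial (Fin n) k
  let b := q.comap (Ideal.Quotient.mk I)
  let T := Localization.AtPrime b
  have : q.LiesOver b := ⟨rfl⟩
  have hsub : Algebra.algebraMapSubmonoid (P ⧸ I) b.primeCompl = q.primeCompl :=
    Ideal.algebraMapSubmonoid_primeCompl_of_liesOver_surjective q b Ideal.Quotient.mk_surjective
  have : IsLocalization.AtPrime (T ⧸ I.map (algebraMap P T)) q := by
    have : IsLocalization (Algebra.algebraMapSubmonoid (P ⧸ I) b.primeCompl) (T ⧸ I.map (algebraMap P T)) := inferInstance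
    rwa [hsub] at this
  rw [IsLocalization.AtPrime.ringKrullDim_eq_height b T,
    IsLocalization.AtPrime.ringKrullDim_eq_height (R := P ⧸ I) q (T ⧸ I.map (algebraMap P T)), ← hc,
    show ((c : ℕ) : WithBot ℕ∞) = ((c : ℕ∞) : WithBot ℕ∞) from rfl, ← WithBot.coe_add, add_comm]

theorem isRegular_of_generators (c : ℕ) (hc : (c : ℕ∞) + q.height = (q.comap (Ideal.Quotient.mk I)).height)
    (rs : List (Localization.AtPrime (q.comap (Ideal.Quotient.mk I)))) (hl : rs.length = c)
    (hrs : Ideal.ofList rs = I.map (algebraMap _ (Localization.AtPrime (q.comap (Ideal.Quotient.mk I))))) :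
    IsRegular (Localization.AtPrime (q.comap (Ideal.Quotient.mk I))) rs := by
  have : IsRegularLocalRing (Localization.AtPrime (q.comap (Ideal.Quotient.mk I))) :=
    IsRegularRing.isRegularLocalRing_localization _
  refine CommAlgDim.isRegular_of_dim (CommAlgDim.isCM_of_isRegularLocalRing _)
    (CommAlgDim.ofList_le_iff.1 (hrs ▸ map_le_maximal I q)) (le_of_eq ?_)
  rw [hrs, hl]
  exact codim_eq I q c hc

theorem isRegular_of_mod_maximal (c : ℕ) (hc : (c : ℕ∞) + q.height = (q.comap (Ideal.Quotient.mk I)).height)
    (f : Fin c → Localization.AtPrime (q.comap (Ideal.Quotient.mk I)))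
    (hf : ∀ i, f i ∈ I.map (algebraMap _ (Localization.AtPrime (q.comap (Ideal.Quotient.mk I)))))
    (hgen : Ideal.span (Set.range f) ⊔
        maximalIdeal (Localization.AtPrime (q.comap (Ideal.Quotient.mk I))) *
          I.map (algebraMap _ (Localization.AtPrime (q.comap (Ideal.Quotient.mk I)))) =
      I.map (algebraMap _ (Localization.AtPrime (q.comap (Ideal.Quotient.mk I))))) :
    IsRegular (Localization.AtPrime (q.comap (Ideal.Quotient.mk I))) (List.ofFn f) := by
  refine isRegular_of_generators I q c hc _ (by simp) ?_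
  rw [ofList_ofFn]
  refine le_antisymm (Ideal.span_le.2 (Set.range_subset_iff.2 hf)) ?_
  refine Submodule.le_of_le_smul_of_le_jacobson_bot (I := maximalIdeal _) (IsNoetherian.noetherian _)
    (jacobson_eq_maximalIdeal (⊥ : Ideal _) bot_ne_top).ge ?_
  rw [smul_eq_mul]
  exact hgen.ge

theorem exists_globalCI_iff_regular :
    (∃ g : MvPolynomial (Fin n) k ⧸ I, g ∉ q ∧ Synt.IsGlobalCI k (Localization.Away g)) ↔
      ∃ rs : List (Localization.AtPrime (q.comap (Ideal.Quotient.mk I))),
        IsRegular (Localization.AtPrime (q.comap (Ideal.Quotient.mk I))) rs ∧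
        Ideal.ofList rs = I.map (algebraMap _ (Localization.AtPrime (q.comap (Ideal.Quotient.mk I)))) := by
  have hiff := isCIOver_atPrime_iff (Ideal.Quotient.mkₐ k I) (Ideal.Quotient.mkₐ_surjective k I) q
    (q.comap (Ideal.Quotient.mk I)) rfl
  rw [show RingHom.ker (Ideal.Quotient.mkₐ k I).toRingHom = I from Ideal.mk_ker] at hiff
  rw [← hiff]
  refine ⟨fun ⟨g, hg, h⟩ => ?_, exists_globalCI_of_isCIOver q⟩
  have : Algebra.FiniteType (MvPolynomial (Fin n) k ⧸ I) (Localization.Away g) :=
    IsLocalization.finiteType_of_monoid_fg (Submonoid.powers g) _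
  have : Algebra.FiniteType k (Localization.Away g) :=
    Algebra.FiniteType.trans (inferInstance : Algebra.FiniteType k (MvPolynomial (Fin n) k ⧸ I)) this
  exact isCIOver_atPrime_of_away q g hg (isLCIOver_of_isGlobalCI h)

theorem regular_iff_finset (c : ℕ) (hc : (c : ℕ∞) + q.height = (q.comap (Ideal.Quotient.mk I)).height) :
    (∃ rs : List (Localization.AtPrime (q.comap (Ideal.Quotient.mk I))),
        IsRegular (Localization.AtPrime (q.comap (Ideal.Quotient.mk I))) rs ∧
        Ideal.ofList rs = I.map (algebraMap _ (Localization.AtPrime (q.comap (Ideal.Quotient.mk I))))) ↔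
      ∃ s : Finset (Localization.AtPrime (q.comap (Ideal.Quotient.mk I))), s.card = c ∧
        Ideal.span (s : Set _) = I.map (algebraMap _ (Localization.AtPrime (q.comap (Ideal.Quotient.mk I)))) := by
  classical
  constructor
  · rintro ⟨rs, hrs, hrI⟩
    have hspan : Ideal.span (rs.toFinset : Set (Localization.AtPrime (q.comap (Ideal.Quotient.mk I)))) =
        I.map (algebraMap _ (Localization.AtPrime (q.comap (Ideal.Quotient.mk I)))) :=
      (congrArg Ideal.span (List.coe_toFinset rs)).trans hrI
    refine ⟨rs.toFinset, ?_, hspan⟩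
    have h1 := ringKrullDim_add_length_eq_ringKrullDim_of_isRegular rs hrs
    have hjac : (rs.toFinset : Set (Localization.AtPrime (q.comap (Ideal.Quotient.mk I)))) ⊆
        Ring.jacobson (Localization.AtPrime (q.comap (Ideal.Quotient.mk I))) := by
      rw [Ring.jacobson_eq_sInf_isMaximal]
      intro x hx
      refine Submodule.mem_sInf.2 fun m hm => ?_
      rw [IsLocalRing.eq_maximalIdeal hm]
      exact map_le_maximal I q (hspan ▸ Ideal.subset_span hx)
    have h2 := ringKrullDim_le_ringKrullDim_quotient_add_card rs.toFinset hjac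
    rw [hrI] at h1
    rw [hspan, ← h1] at h2
    have := Ideal.Quotient.nontrivial_iff.2 (ne_top_of_le_ne_top (maximalIdeal.isMaximal _).ne_top (map_le_maximal I q))
    obtain ⟨d, hd⟩ := CommAlgDim.exists_ringKrullDim_eq (R := Localization.AtPrime (q.comap (Ideal.Quotient.mk I)) ⧸
        I.map (algebraMap _ (Localization.AtPrime (q.comap (Ideal.Quotient.mk I)))))
    have h3 := codim_eq I q c hc
    rw [hd] at h1 h2 h3
    have h4 : d + rs.length = d + c := by exact_mod_cast h1.trans h3.symm
    have h5 : d + rs.length ≤ d + rs.toFinset.card := by exact_mod_cast h2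
    have h6 := rs.toFinset_card_le
    omega
  · rintro ⟨s, hs, hsI⟩
    have : Ideal.ofList s.toList = Ideal.span (s : Set _) := congrArg Ideal.span (Set.ext fun x => Finset.mem_toList)
    exact ⟨s.toList, isRegular_of_generators I q c hc _ (by simp [hs]) (this.trans hsI), this.trans hsI⟩

end TransLib
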