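import Groth.Agent.SemiRankLib.ArtMod
import Mathlib.RingTheory.Regular.RegularSequence

/-!
# Regular sequences over an Artinian base
-/

set_option autoImplicit false

universe u v

open scoped Pointwise

namespace TransLib

variable {A' : Type u} [CommRing A'] [IsArtinianRing A'] [IsLocalRing A']

/-- An endomorphism of a flat module is injective iff it is so modulo a proper ideal; then its cokernel is flat. -/
theorem injective_iff_mod {M : Type v} [AddCommGroup M] [Module A' M] [Module.Flat A' M] (I : Ideal A') (hI : I ≠ ⊤)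
    (μ : M →ₗ[A'] M) :
    (Function.Injective μ ↔ ∀ y, μ y ∈ I • (⊤ : Submodule A' M) → y ∈ I • (⊤ : Submodule A' M)) ∧
      (Function.Injective μ → Module.Flat A' (M ⧸ LinearMap.range μ)) := by
  classical
  have hnil := SemiRankLib.isNilpotent_maximalIdeal (C := A')
  let m := IsLocalRing.maximalIdeal A'
  haveI := DefLib.free_of_flat_of_nilpotent (M := M) hnil
  let b := Module.Free.chooseBasis A' M
  have hmem : ∀ (J : Ideal A') (x : M), x ∈ J • (⊤ : Submodule A' M) ↔ ∀ i, b.repr x i ∈ J := fun J x => by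
    constructor
    · intro hx i
      refine Submodule.smul_induction_on hx (fun r hr z _ => ?_)
        (fun u v hu hv => by rw [map_add, Finsupp.add_apply]; exact add_mem hu hv)
      rw [map_smul, Finsupp.smul_apply, smul_eq_mul]
      exact J.mul_mem_right _ hr
    · intro h
      rw [← b.linearCombination_repr x, Finsupp.linearCombination_apply]
      exact Submodule.sum_mem _ fun i _ => Submodule.smul_mem_smul (h i) trivial
  have key : ∀ J : Ideal A', J ≠ ⊤ → (∀ y, μ y ∈ J • (⊤ : Submodule A' M) → y ∈ J • (⊤ : Submodule A' M)) →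
      ∀ x, μ x ∈ m • (⊤ : Submodule A' M) → x ∈ m • (⊤ : Submodule A' M) := by
    intro J hJ hJf x hx
    by_contra hne
    rw [hmem] at hne
    push Not at hne
    obtain ⟨i, hi⟩ := hne
    obtain ⟨N, hN⟩ := hnil
    have hex : ∃ j, m ^ j ≤ J := ⟨N, by rw [hN]; exact bot_le⟩
    have hj0 : Nat.find hex ≠ 0 := fun h => hJ (by
      have := Nat.find_spec hex
      rwa [h, pow_zero, Ideal.one_eq_top, top_le_iff] at this)
    obtain ⟨j, hj⟩ := Nat.exists_eq_succ_of_ne_zero hj0
    have hnot : ¬ m ^ j ≤ J := Nat.find_min hex (by omega)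
    obtain ⟨a, ha, haJ⟩ := SetLike.not_le_iff_exists.mp hnot
    have hstep : ∀ r ∈ m, a * r ∈ J := fun r hr => Nat.find_spec hex (by
      rw [hj, pow_succ]
      exact Ideal.mul_mem_mul ha hr)
    have h1 : μ (a • x) ∈ J • (⊤ : Submodule A' M) := by
      rw [hmem]
      intro k
      rw [map_smul, map_smul, Finsupp.smul_apply, smul_eq_mul]
      exact hstep _ ((hmem m _).mp hx k)
    have h2 := (hmem J _).mp (hJf _ h1) i
    rw [map_smul, Finsupp.smul_apply, smul_eq_mul] at h2
    have hu : IsUnit (b.repr x i) := of_not_not hi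
    exact haJ ((Ideal.mul_unit_mem_iff_mem J hu).mp h2)
  have hinjmod : Function.Injective μ →
      Module.Flat A' (M ⧸ LinearMap.range μ) ∧ (∀ y, μ y ∈ I • (⊤ : Submodule A' M) → y ∈ I • (⊤ : Submodule A' M)) := by
    intro hinj
    have hbot : ∀ y, μ y ∈ (⊥ : Ideal A') • (⊤ : Submodule A' M) → y ∈ (⊥ : Ideal A') • (⊤ : Submodule A' M) := by
      intro y hy
      rw [Submodule.bot_smul, Submodule.mem_bot] at hy ⊢
      exact hinj (by rw [map_zero]; exact hy)
    obtain ⟨-, hF⟩ := DefLib.splitInjective_of_injective_mod hnil μ (key ⊥ bot_ne_top hbot)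
    refine ⟨hF, fun y hy => ?_⟩
    haveI := hF
    have h3 := DefLib.ker_inf_smul_le (LinearMap.range μ).mkQ (Submodule.mkQ_surjective _) I
      ⟨by rw [SetLike.mem_coe, LinearMap.mem_ker, Submodule.mkQ_apply, Submodule.Quotient.mk_eq_zero]; exact ⟨y, rfl⟩, hy⟩
    rw [Submodule.ker_mkQ, LinearMap.range_eq_map, ← Submodule.map_smul''] at h3
    obtain ⟨w, hw, hwy⟩ := h3
    rwa [hinj hwy] at hw
  exact ⟨⟨fun h => (hinjmod h).2, fun h => (DefLib.splitInjective_of_injective_mod hnil μ (key I hI h)).1⟩,
    fun h => (hinjmod h).1⟩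

section

variable {S : Type v} [CommRing S] [Algebra A' S]

/-- The ideal generated by `I`, smul top. -/
theorem map_smul_top_restrict (I : Ideal A') (M : Type v) [AddCommGroup M] [Module S M] [Module A' M]
    [IsScalarTower A' S M] :
    (I.map (algebraMap A' S) • (⊤ : Submodule S M)).restrictScalars A' = I • (⊤ : Submodule A' M) :=
  (Ideal.smul_restrictScalars I (⊤ : Submodule S M)).trans (by rw [Submodule.restrictScalars_top])

/-- Commuting the two quotients. -/
noncomputable def quotComm (M : Type v) [AddCommGroup M] [Module S M] (J : Ideal S) (f : S) :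
    (QuotSMulTop f M ⧸ (J • (⊤ : Submodule S (QuotSMulTop f M)))) ≃ₗ[S]
      QuotSMulTop f (M ⧸ (J • (⊤ : Submodule S M))) :=
  Submodule.quotEquivOfEq _ _ (by rw [Submodule.map_smul'', Submodule.map_top, Submodule.range_mkQ]) ≪≫ₗ
    Submodule.quotientQuotientEquivQuotientSup (f • ⊤) (J • ⊤) ≪≫ₗ
    Submodule.quotEquivOfEq _ _ (sup_comm _ _) ≪≫ₗ
    (Submodule.quotientQuotientEquivQuotientSup (J • ⊤) (f • ⊤)).symm ≪≫ₗ
    Submodule.quotEquivOfEq _ _ (by rw [Submodule.map_pointwise_smul, Submodule.map_top, Submodule.range_mkQ])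

/-- Weak regularity can be tested modulo a proper ideal, and gives flat quotients. -/
theorem weaklyRegular_iff_mod (I : Ideal A') (hI : I ≠ ⊤) (fs : List S) :
    ∀ (M : Type v) [AddCommGroup M] [Module S M] [Module A' M] [IsScalarTower A' S M] [Module.Flat A' M],
      (RingTheory.Sequence.IsWeaklyRegular M fs ↔
        RingTheory.Sequence.IsWeaklyRegular (M ⧸ (I.map (algebraMap A' S) • (⊤ : Submodule S M))) fs) ∧
      (RingTheory.Sequence.IsWeaklyRegular M fs →
        Module.Flat A' (M ⧸ (Ideal.ofList fs • (⊤ : Submodule S M)))) := by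
  induction fs with
  | nil =>
    intro M _ _ _ _ _
    exact ⟨iff_of_true (.nil S M) (.nil S _), fun _ => Module.Flat.of_linearEquiv
      ((Submodule.quotEquivOfEqBot _ (by simp)).restrictScalars A')⟩
  | cons f l ih =>
    intro M _ _ _ _ _
    let μ : M →ₗ[A'] M := ((LinearMap.lsmul S M) f).restrictScalars A'
    obtain ⟨hiff, hfl⟩ := injective_iff_mod I hI μ
    have hmod : IsSMulRegular (M ⧸ (I.map (algebraMap A' S) • (⊤ : Submodule S M))) f ↔
        ∀ y, μ y ∈ I • (⊤ : Submodule A' M) → y ∈ I • (⊤ : Submodule A' M) := by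
      have hm : ∀ z : M, z ∈ I.map (algebraMap A' S) • (⊤ : Submodule S M) ↔ z ∈ I • (⊤ : Submodule A' M) :=
        fun z => by rw [← map_smul_top_restrict (S := S) I M, Submodule.restrictScalars_mem]
      simp only [← hm]
      refine isSMulRegular_iff_right_eq_zero_of_smul.trans ?_
      constructor
      · intro h y hy
        exact (Submodule.Quotient.mk_eq_zero _).1 (h (Submodule.Quotient.mk y) (by
          rw [← Submodule.Quotient.mk_smul]; exact (Submodule.Quotient.mk_eq_zero _).2 hy))
      · intro h z hz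
        obtain ⟨y, rfl⟩ := Submodule.Quotient.mk_surjective _ z
        rw [← Submodule.Quotient.mk_smul, Submodule.Quotient.mk_eq_zero] at hz
        exact (Submodule.Quotient.mk_eq_zero _).2 (h y hz)
    have heq : LinearMap.range μ = ((f • (⊤ : Submodule S M))).restrictScalars A' := by
      ext y
      simp [μ, Submodule.mem_smul_pointwise_iff_exists]
    have hflat : IsSMulRegular M f → Module.Flat A' (QuotSMulTop f M) := fun h => by
      have := hfl h
      exact Module.Flat.of_linearEquiv
        ((Submodule.Quotient.restrictScalarsEquiv A' (f • (⊤ : Submodule S M))).symm.trans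
          (Submodule.quotEquivOfEq _ _ heq.symm))
    refine ⟨?_, fun h => ?_⟩
    · rw [RingTheory.Sequence.isWeaklyRegular_cons_iff, RingTheory.Sequence.isWeaklyRegular_cons_iff, hmod, ← hiff]
      refine and_congr_right fun h => ?_
      have := hflat h
      rw [(ih (QuotSMulTop f M)).1]
      exact (quotComm M _ f).isWeaklyRegular_congr l
    · rw [RingTheory.Sequence.isWeaklyRegular_cons_iff] at h
      have := hflat h.1
      have := (ih (QuotSMulTop f M)).2 h.2
      exact Module.Flat.of_linearEquiv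
        ((Submodule.quotOfListConsSMulTopEquivQuotSMulTopInner M f l).restrictScalars A')

/-- Regularity can be tested modulo a proper ideal. -/
theorem regular_iff_mod [Module.Flat A' S] (I : Ideal A') (hI : I ≠ ⊤) (fs : List S) :
    RingTheory.Sequence.IsRegular S fs ↔
      RingTheory.Sequence.IsRegular (S ⧸ I.map (algebraMap A' S)) (fs.map (Ideal.Quotient.mk (I.map (algebraMap A' S)))) := by
  let J := I.map (algebraMap A' S)
  have e : (S ⧸ (J • (⊤ : Submodule S S))) ≃ₗ[S] S ⧸ J :=
    Submodule.quotEquivOfEq _ _ (by rw [smul_eq_mul, Ideal.mul_top])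
  have hw : RingTheory.Sequence.IsWeaklyRegular S fs ↔
      RingTheory.Sequence.IsWeaklyRegular (S ⧸ J) (fs.map (Ideal.Quotient.mk J)) := by
    rw [(weaklyRegular_iff_mod I hI fs S).1, e.isWeaklyRegular_congr fs, ← Ideal.Quotient.algebraMap_eq,
      RingTheory.Sequence.isWeaklyRegular_map_algebraMap_iff]
  rw [RingTheory.Sequence.isRegular_iff, RingTheory.Sequence.isRegular_iff, hw]
  refine and_congr_right fun _ => ?_
  rw [smul_eq_mul, Ideal.mul_top, smul_eq_mul, Ideal.mul_top, ← Ideal.map_ofList]
  refine not_congr ⟨fun h => ?_, fun h => ?_⟩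
  · rw [← h, Ideal.map_top]
  · by_contra hne
    obtain ⟨P, hP, hle⟩ := Ideal.exists_le_maximal (Ideal.ofList fs) (fun hh => hne hh.symm)
    have hJP : J ≤ P := by
      refine Ideal.map_le_iff_le_comap.2 fun a ha => ?_
      obtain ⟨N, hN⟩ := SemiRankLib.isNilpotent_maximalIdeal (C := A')
      have : a ^ N ∈ (⊥ : Ideal A') := by
        have := Ideal.pow_mem_pow (IsLocalRing.le_maximalIdeal hI ha) N
        rwa [hN] at this
      refine Ideal.mem_comap.2 (hP.isPrime.mem_of_pow_mem N ?_)
      rw [← map_pow, (Submodule.mem_bot A').1 this, map_zero]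
      exact P.zero_mem
    have h1 : (1 : S ⧸ J) ∈ (Ideal.ofList fs).map (Ideal.Quotient.mk J) := h ▸ Submodule.mem_top
    obtain ⟨x, hx, hx1⟩ := (Ideal.mem_map_iff_of_surjective _ Ideal.Quotient.mk_surjective).1 h1
    have : x - 1 ∈ J := by rwa [← Ideal.Quotient.eq, map_one]
    exact hP.ne_top ((Ideal.eq_top_iff_one _).2 (by
      have := P.sub_mem (hle hx) (hJP this)
      rwa [sub_sub_cancel] at this))

end

end TransLib
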