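import Groth.Agent.TransLib.SyntMor
import Groth.Agent.TransLib.PointNhd
import Groth.Agent.CohenLib.RegularField

/-!
# Flat maps between regular rings and between smooth schemes are syntomic
-/

set_option autoImplicit false

universe u

open TensorProduct RingTheory.Sequence IsLocalRing

namespace TransLib

variable {A : Type u} [CommRing A]

/-- The dimension of a flat local algebra splits into base and fibre. -/
theorem exists_dim_eq_add {T : Type u} [CommRing T] [IsLocalRing T] [IsNoetherianRing A] [IsNoetherianRing T] [Algebra A T]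
    [Module.Flat A T] (q : Ideal A) [q.IsPrime] (hq : (maximalIdeal T).comap (algebraMap A T) = q) :
    ∃ a c : ℕ, q.height = (a : ℕ∞) ∧ ringKrullDim (T ⧸ q.map (algebraMap A T)) = (c : WithBot ℕ∞) ∧
      ringKrullDim T = ((a + c : ℕ) : WithBot ℕ∞) := by
  have : (maximalIdeal T).LiesOver q := ⟨hq.symm⟩
  let I := q.map (algebraMap A T)
  have hI : I ≤ maximalIdeal T := Ideal.map_le_iff_le_comap.2 hq.ge
  have := Ideal.Quotient.nontrivial_iff.2 (ne_top_of_le_ne_top (maximalIdeal.isMaximal T).ne_top hI)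
  have : IsLocalRing (T ⧸ I) := IsLocalRing.of_surjective' _ Ideal.Quotient.mk_surjective
  have h := Ideal.height_eq_height_add_of_liesOver_of_hasGoingDown q (maximalIdeal T)
  rw [map_maximalIdeal_of_surjective _ Ideal.Quotient.mk_surjective] at h
  have h1 := IsLocalRing.maximalIdeal_height_eq_ringKrullDim (R := T)
  have h2 := IsLocalRing.maximalIdeal_height_eq_ringKrullDim (R := T ⧸ I)
  obtain ⟨a, ha⟩ : ∃ a : ℕ, (a : ℕ∞) = q.height := ENat.ne_top_iff_exists.1 (Ideal.height_ne_top (Ideal.IsPrime.ne_top inferInstance))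
  obtain ⟨c, hc⟩ : ∃ c : ℕ, (c : ℕ∞) = (maximalIdeal (T ⧸ I)).height :=
    ENat.ne_top_iff_exists.1 (Ideal.height_ne_top (maximalIdeal.isMaximal _).ne_top)
  refine ⟨a, c, ha.symm, ?_, ?_⟩
  · rw [← h2, ← hc]; rfl
  · rw [← h1, h, ← ha, ← hc]; rfl

variable [IsRegularRing A] {B : Type u} [CommRing B] [Algebra A B]

/-- A flat algebra of finite type between regular rings is syntomic. -/
theorem isSyntomic_of_regular [IsRegularRing B] [Algebra.FiniteType A B] [Module.Flat A B] : Synt.IsSyntomic A B := by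
  have : Algebra.FinitePresentation A B := Algebra.FinitePresentation.of_finiteType.1 inferInstance
  refine ⟨inferInstance, inferInstance, fun q => isLCIOver_iff_forall.2 fun Q => ?_⟩
  let κ := q.asIdeal.ResidueField
  obtain ⟨n, φ, hφ⟩ := Algebra.FiniteType.iff_quotient_mvPolynomial''.1 (inferInstance : Algebra.FiniteType A B)
  let P := MvPolynomial (Fin n) A
  let m : P →+* MvPolynomial (Fin n) κ := MvPolynomial.map (algebraMap A κ)
  obtain ⟨φb, hφb, hker, hφm⟩ := exists_fibre_presentation φ hφ q.asIdeal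
    (AlgEquiv.refl (R := κ) (A₁ := q.asIdeal.Fiber B))
  let bb := Q.asIdeal.comap φb.toRingHom
  let Tb := Localization.AtPrime bb
  let q₁ : Ideal B := Q.asIdeal.comap (Algebra.TensorProduct.includeRight : B →ₐ[A] κ ⊗[A] B).toRingHom
  let b : Ideal P := q₁.comap φ.toRingHom
  let T := Localization.AtPrime b
  let B₁ := Localization.AtPrime q₁
  have hbm : ∀ x, x ∈ b ↔ m x ∈ bb := fun x => by
    show (1 : κ) ⊗ₜ[A] φ x ∈ Q.asIdeal ↔ φb (m x) ∈ Q.asIdeal
    rw [hφm]
    exact Iff.rfl
  have hq₁ : q₁.comap (algebraMap A B) = q.asIdeal := by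
    refine Ideal.ext fun r => ?_
    show (1 : κ) ⊗ₜ[A] algebraMap A B r ∈ Q.asIdeal ↔ r ∈ q.asIdeal
    rw [Algebra.algebraMap_eq_smul_one, ← smul_tmul, ← Algebra.algebraMap_eq_smul_one]
    refine ⟨fun hr => by_contra fun hrp => Q.isPrime.ne_top (Ideal.eq_top_of_isUnit_mem _ hr ?_), fun hr => ?_⟩
    · exact (Ne.isUnit fun h0 => hrp (Ideal.algebraMap_residueField_eq_zero.1 h0)).map (algebraMap κ (κ ⊗[A] B))
    · rw [Ideal.algebraMap_residueField_eq_zero.2 hr, zero_tmul]
      exact zero_mem _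
  have hqb : b.comap (algebraMap A P) = q.asIdeal := by
    rw [← hq₁]
    refine Ideal.ext fun r => ?_
    show φ (algebraMap A P r) ∈ q₁ ↔ algebraMap A B r ∈ q₁
    rw [φ.commutes]
  -- the fibre is a quotient of the localised polynomial ring
  let χ : P →+* Tb := (algebraMap (MvPolynomial (Fin n) κ) Tb).comp m
  have hχu : ∀ s : b.primeCompl, IsUnit (χ s) := fun s =>
    IsLocalization.map_units Tb (⟨m s, fun h => s.2 ((hbm s).2 h)⟩ : bb.primeCompl)
  let L : T →+* Tb := IsLocalization.lift hχu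
  have hL : ∀ x, L (algebraMap P T x) = χ x := fun x => IsLocalization.lift_eq _ x
  have hLs : Function.Surjective L := fun z => by
    obtain ⟨⟨y, ⟨v, hv⟩⟩, hyv⟩ := IsLocalization.surj bb.primeCompl z
    obtain ⟨t, ht, x, hx⟩ := exists_C_mul_eq_map q.asIdeal y
    obtain ⟨t', ht', w, hw⟩ := exists_C_mul_eq_map q.asIdeal v
    have hC : ∀ t ∉ q.asIdeal, MvPolynomial.C t ∉ b := fun t ht h => ht (hqb ▸ h)
    have hwb : w * MvPolynomial.C t ∈ b.primeCompl := by
      refine b.primeCompl.mul_mem (fun hwb => ?_) (hC t ht)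
      change w ∈ b at hwb
      rw [hbm] at hwb
      change MvPolynomial.map (algebraMap A κ) w ∈ bb at hwb
      rw [← hw] at hwb
      rcases (inferInstance : bb.IsPrime).mem_or_mem hwb with h | h
      · exact hv h
      · exact hC t' ht' ((hbm _).2 h)
    refine ⟨IsLocalization.mk' T (x * MvPolynomial.C t') ⟨_, hwb⟩, ?_⟩
    rw [show L = IsLocalization.lift hχu from rfl, IsLocalization.lift_mk'_spec]
    simp only [χ, RingHom.comp_apply, map_mul]
    simp only [m]
    rw [← hw, ← hx, map_mul, map_mul]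
    linear_combination -(algebraMap (MvPolynomial (Fin n) κ) Tb (MvPolynomial.map (algebraMap A κ) (MvPolynomial.C t'))) *
      (algebraMap (MvPolynomial (Fin n) κ) Tb (MvPolynomial.map (algebraMap A κ) (MvPolynomial.C t))) * hyv
  let J : Ideal T := q.asIdeal.map (algebraMap A T)
  have hJ : RingHom.ker L = J := by
    refine le_antisymm (fun z hz => ?_) ?_
    · obtain ⟨x, s, rfl⟩ := IsLocalization.exists_mk'_eq b.primeCompl z
      have h1 : χ x = 0 := by
        have h2 : L (IsLocalization.mk' T x s) * χ s = χ x := by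
          rw [← hL s, ← map_mul, IsLocalization.mk'_spec, hL]
        rw [← h2, show L (IsLocalization.mk' T x s) = 0 from hz, zero_mul]
      have h3 : m x = 0 := by
        refine IsLocalization.injective (M := bb.primeCompl) Tb (fun y hy => mem_nonZeroDivisors_of_ne_zero
          (fun h0 => hy (h0 ▸ zero_mem _))) ?_
        rw [map_zero]; exact h1
      have h4 : x ∈ q.asIdeal.map (algebraMap A P) := by
        have h5 : x ∈ RingHom.ker m := h3
        rw [MvPolynomial.ker_map, Ideal.ker_algebraMap_residueField] at h5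
        exact h5
      rw [IsLocalization.mk'_eq_mul_mk'_one]
      refine Ideal.mul_mem_right _ _ ?_
      show algebraMap P T x ∈ q.asIdeal.map (algebraMap A T)
      rw [IsScalarTower.algebraMap_eq A P T, ← Ideal.map_map]
      exact Ideal.mem_map_of_mem _ h4
    · show q.asIdeal.map (algebraMap A T) ≤ RingHom.ker L
      rw [Ideal.map_le_iff_le_comap]
      intro r hr
      show L (algebraMap A T r) = 0
      rw [IsScalarTower.algebraMap_apply A P T, hL]
      show algebraMap (MvPolynomial (Fin n) κ) Tb (MvPolynomial.map (algebraMap A κ) (MvPolynomial.C r)) = 0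
      rw [MvPolynomial.map_C, Ideal.algebraMap_residueField_eq_zero.2 hr, map_zero, map_zero]
  -- the local presentation
  obtain ⟨π, hπ, hπker⟩ := exists_localPresentation' φ hφ q₁ b rfl
  let K : Ideal T := (RingHom.ker φ.toRingHom).map (algebraMap P T)
  have hπK : RingHom.ker π.toRingHom = K := hπker
  let Kb : Ideal Tb := K.map L
  have hKb : Kb = (RingHom.ker φb.toRingHom).map (algebraMap _ Tb) := by
    show Ideal.map L (Ideal.map (algebraMap P T) (RingHom.ker φ.toRingHom)) = _
    rw [Ideal.map_map, hker, Ideal.map_map]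
    exact congrArg (fun ψ => Ideal.map ψ (RingHom.ker φ.toRingHom)) (RingHom.ext hL)
  have : IsRegularLocalRing T := IsRegularRing.isRegularLocalRing_localization b
  have : IsRegularLocalRing B₁ := IsRegularRing.isRegularLocalRing_localization q₁
  have : IsRegularLocalRing Tb := IsRegularRing.isRegularLocalRing_localization bb
  have : Module.Flat P T := IsLocalization.flat T b.primeCompl
  have : Module.Flat A T := Module.Flat.trans A P T
  have : Module.Flat B B₁ := IsLocalization.flat B₁ q₁.primeCompl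
  have : Module.Flat A B₁ := Module.Flat.trans A B B₁
  obtain ⟨a, cT, ha, hcT, hdT⟩ := exists_dim_eq_add (T := T) q.asIdeal (by
    rw [IsScalarTower.algebraMap_eq A P T, ← Ideal.comap_comap,
      show (maximalIdeal T).comap (algebraMap P T) = b from IsLocalization.AtPrime.comap_maximalIdeal T b]
    exact hqb)
  obtain ⟨a', cB, ha', hcB, hdB⟩ := exists_dim_eq_add (T := B₁) q.asIdeal (by
    rw [IsScalarTower.algebraMap_eq A B B₁, ← Ideal.comap_comap,
      show (maximalIdeal B₁).comap (algebraMap B B₁) = q₁ from IsLocalization.AtPrime.comap_maximalIdeal B₁ q₁]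
    exact hq₁)
  obtain rfl : a = a' := by
    rw [ha] at ha'
    exact_mod_cast ha'
  have hTb : ringKrullDim Tb = (cT : WithBot ℕ∞) := by
    rw [← hcT]
    exact ringKrullDim_eq_of_ringEquiv
      ((Ideal.quotEquivOfEq hJ.symm).trans (RingHom.quotientKerEquivOfSurjective hLs)).symm
  have hπT : ringKrullDim (T ⧸ K) = ringKrullDim B₁ :=
    ringKrullDim_eq_of_ringEquiv ((Ideal.quotEquivOfEq hπK.symm).trans (RingHom.quotientKerEquivOfSurjective (f := π.toRingHom) hπ))
  have hKne : IsRegularLocalRing (T ⧸ K) :=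
    IsRegularLocalRing.of_ringEquiv ((Ideal.quotEquivOfEq hπK.symm).trans (RingHom.quotientKerEquivOfSurjective (f := π.toRingHom) hπ)).symm
  have hadd : ringKrullDim (T ⧸ K) + K.spanFinrank = ringKrullDim T :=
    CommAlgDim.ringKrullDim_quotient_add_of_regular_quotient
  have hCb : ringKrullDim (Tb ⧸ Kb) = (cB : WithBot ℕ∞) := by
    rw [← hcB]
    have h1 : Function.Surjective ((Ideal.Quotient.mk Kb).comp L) := Ideal.Quotient.mk_surjective.comp hLs
    have h2 : RingHom.ker ((Ideal.Quotient.mk Kb).comp L) = K ⊔ J := by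
      rw [← RingHom.comap_ker, Ideal.mk_ker, Ideal.comap_map_of_surjective L hLs, ← RingHom.ker_eq_comap_bot, hJ]
    let JB : Ideal B₁ := q.asIdeal.map (algebraMap A B₁)
    have h3 : Function.Surjective ((Ideal.Quotient.mk JB).comp π.toRingHom) := Ideal.Quotient.mk_surjective.comp hπ
    have h4 : RingHom.ker ((Ideal.Quotient.mk JB).comp π.toRingHom) = K ⊔ J := by
      rw [← RingHom.comap_ker, Ideal.mk_ker, sup_comm, ← hπK, RingHom.ker_eq_comap_bot π.toRingHom,
        ← Ideal.comap_map_of_surjective π.toRingHom hπ]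
      congr 1
      show q.asIdeal.map (algebraMap A B₁) = (q.asIdeal.map (algebraMap A T)).map π.toRingHom
      rw [Ideal.map_map]
      exact congrArg (fun ψ => Ideal.map ψ q.asIdeal) (RingHom.ext fun r => (π.commutes r).symm)
    exact (ringKrullDim_eq_of_ringEquiv
      ((RingHom.quotientKerEquivOfSurjective h1).symm.trans ((Ideal.quotEquivOfEq (h2.trans h4.symm)).trans
        (RingHom.quotientKerEquivOfSurjective h3))))
  have hKm : Kb ≤ maximalIdeal Tb := by
    rw [hKb, ← Localization.AtPrime.map_eq_maximalIdeal]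
    exact Ideal.map_mono fun x hx => by
      show φb x ∈ Q.asIdeal
      rw [show φb x = 0 from hx]; exact zero_mem _
  obtain ⟨rs, hrs, hrsK⟩ := (CommAlgDim.exists_isRegular_iff (CommAlgDim.isCM_of_isRegularLocalRing Tb) hKm).2 (by
    have hle : Kb.spanFinrank ≤ K.spanFinrank := Ideal.spanFinrank_map_le_of_fg L (IsNoetherian.noetherian K)
    rw [hTb, hCb]
    rw [hπT, hdB, hdT, ← Nat.cast_add, natCast_withBot_eq_iff] at hadd
    rw [← Nat.cast_add]
    exact natCast_withBot_le (by omega))
  exact (isCIOver_atPrime_iff φb hφb Q.asIdeal bb rfl).2 ⟨rs, hrs, hrsK.trans hKb⟩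

/-- Flat maps between smooth algebras are syntomic. -/
theorem isSyntomic_of_smooth_flat (R : Type u) [CommRing R] {A B : Type u} [CommRing A] [CommRing B] [Algebra R A]
    [Algebra R B] [Algebra A B] [IsScalarTower R A B] [Algebra.Smooth R A] [Algebra.Smooth R B] [Module.Flat A B] :
    Synt.IsSyntomic A B := by
  have : Algebra.FinitePresentation A B := Algebra.FinitePresentation.of_restrict_scalars_finitePresentation R A B
  refine ⟨inferInstance, inferInstance, fun q => ?_⟩
  let p := q.asIdeal.comap (algebraMap R A)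
  let κ := p.ResidueField
  let K := q.asIdeal.ResidueField
  let Ap := A ⊗[R] κ
  have : IsRegularRing (κ ⊗[R] A) := CohenLib.isRegularRing_of_smooth κ (κ ⊗[R] A)
  have : IsRegularRing (κ ⊗[R] B) := CohenLib.isRegularRing_of_smooth κ (κ ⊗[R] B)
  have : IsRegularRing Ap := IsRegularRing.of_ringEquiv (Algebra.TensorProduct.comm R κ A).toRingEquiv
  let Bp := Ap ⊗[A] B
  have : IsRegularRing Bp := IsRegularRing.of_ringEquiv
    (((Algebra.TensorProduct.comm R κ B).toRingEquiv.trans
      (Algebra.TensorProduct.cancelBaseChange R A A B κ).symm.toRingEquiv).trans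
      (Algebra.TensorProduct.comm A B Ap).toRingEquiv)
  have hsyn : Synt.IsSyntomic Ap Bp := isSyntomic_of_regular
  let ψ : Ap →ₐ[A] K := Algebra.TensorProduct.lift (Algebra.ofId A K)
    (Ideal.ResidueField.mapₐ p q.asIdeal (Algebra.ofId R A) rfl) fun _ _ => Commute.all _ _
  letI : Algebra Ap K := ψ.toRingHom.toAlgebra
  have : IsScalarTower A Ap K := IsScalarTower.of_algebraMap_eq fun r => (ψ.commutes r).symm
  exact isLCIOver_congr (Algebra.TensorProduct.cancelBaseChange A Ap K K B)
    (isLCIOver_of_isSyntomic (isSyntomic_baseChange K hsyn))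

open CategoryTheory AlgebraicGeometry in
/-- A flat morphism between smooth schemes is syntomic. -/
theorem isSyntomicMor_of_smooth_flat {X Y S : Scheme.{u}} (p : X ⟶ S) (q : Y ⟶ S) [Smooth p] [Smooth q]
    (f : X ⟶ Y) (hf : f ≫ q = p) [Flat f] : Synt.IsSyntomicMor f := by
  intro x
  obtain ⟨V, hV, hxV, -⟩ := exists_isAffineOpen_mem_and_subset (U := ⊤) (show q.base (f.base x) ∈ (⊤ : S.Opens) from trivial)
  obtain ⟨W, hW, hxW, eW⟩ := exists_isAffineOpen_mem_and_subset (U := q ⁻¹ᵁ V) (show f.base x ∈ q ⁻¹ᵁ V from hxV)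
  obtain ⟨U, hU, hxU, eU⟩ := exists_isAffineOpen_mem_and_subset (U := f ⁻¹ᵁ W) (show x ∈ f ⁻¹ᵁ W from hxW)
  refine ⟨⟨U, hU⟩, ⟨W, hW⟩, eU, hxU, ?_⟩
  letI : Algebra Γ(Y, W) Γ(X, U) := (f.appLE W U eU).hom.toAlgebra
  letI : Algebra Γ(S, V) Γ(Y, W) := (q.appLE V W eW).hom.toAlgebra
  have eUV : U ≤ (f ≫ q) ⁻¹ᵁ V := fun y hy => eW (eU hy)
  letI : Algebra Γ(S, V) Γ(X, U) := ((f ≫ q).appLE V U eUV).hom.toAlgebra
  have : IsScalarTower Γ(S, V) Γ(Y, W) Γ(X, U) := IsScalarTower.of_algebraMap_eq fun r => by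
    show ((f ≫ q).appLE V U eUV).hom r = (q.appLE V W eW ≫ f.appLE W U eU).hom r
    rw [Scheme.Hom.appLE_comp_appLE]
  have : Smooth (f ≫ q) := hf ▸ inferInstance
  have : Algebra.Smooth Γ(S, V) Γ(X, U) :=
    HasRingHomProperty.appLE (P := @Smooth) (f ≫ q) inferInstance ⟨V, hV⟩ ⟨U, hU⟩ eUV
  have : Algebra.Smooth Γ(S, V) Γ(Y, W) :=
    HasRingHomProperty.appLE (P := @Smooth) q inferInstance ⟨V, hV⟩ ⟨W, hW⟩ eW
  have : Module.Flat Γ(Y, W) Γ(X, U) :=
    HasRingHomProperty.appLE (P := @Flat) f inferInstance ⟨W, hW⟩ ⟨U, hU⟩ eU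
  exact isSyntomic_of_smooth_flat Γ(S, V)

end TransLib
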