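import Groth.Agent.TransLib.LiftLemma

/-!
# The lifting lemma: main statement
-/

set_option autoImplicit false

universe u

open MvPolynomial IsLocalRing

namespace TransLib

namespace LiftDatum

variable {R : Type u} [CommRing R] {π : R} (d : LiftDatum R π)

theorem finitePresentation [IsNoetherianRing R] : Algebra.FinitePresentation R d.Alg :=
  Algebra.FinitePresentation.quotient (IsNoetherian.noetherian d.ideal)

/-- The lift is smooth where `π` is invertible. -/
theorem isSmoothAt_of_notMem [IsNoetherianRing R] (Q : Ideal d.Alg) [Q.IsPrime] (hπ : algebraMap R d.Alg π ∉ Q) :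
    Algebra.IsSmoothAt R Q := by
  classical
  let Rπ := Localization.Away π
  let T := MvPolynomial (Fin d.n) Rπ
  have : Algebra.FinitePresentation R Rπ := IsLocalization.Away.finitePresentation π
  have : Algebra.FormallyEtale R Rπ := Algebra.FormallyEtale.of_isLocalization (Submonoid.powers π)
  have : Algebra.Smooth R Rπ := ⟨inferInstance, inferInstance⟩
  have : Algebra.Smooth Rπ T := ⟨inferInstance, inferInstance⟩
  have : Algebra.Smooth R T := Algebra.Smooth.comp R Rπ T
  have := d.finitePresentation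
  have hπT : IsUnit (algebraMap R T π) := by
    rw [IsScalarTower.algebraMap_apply R Rπ T]
    exact (IsLocalization.Away.algebraMap_isUnit π).map _
  obtain ⟨p, hp⟩ := hπT
  let toT : MvPolynomial (Fin d.n) R →ₐ[R] T := aeval fun i => X i
  let val : d.Vars → T := Sum.elim (fun i => X i) fun j => ((p⁻¹ : Tˣ) : T) * toT (d.f j)
  let Φ : d.Poly →ₐ[R] T := aeval val
  have hΦX : ∀ q, Φ (d.inX q) = toT q := fun q =>
    AlgHom.congr_fun (show Φ.comp d.inX = toT from MvPolynomial.algHom_ext fun i => by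
      rw [AlgHom.comp_apply, show d.inX (X i) = X (Sum.inl i) from rename_X _ _]
      exact (aeval_X val (Sum.inl i)).trans (aeval_X (fun k => (X k : T)) i).symm) q
  have hΦe : ∀ j, Φ (d.eqn j) = 0 := fun j => by
    rw [algHom_eqn, show Φ (X (Sum.inr j)) = val (Sum.inr j) from aeval_X _ _, hΦX]
    show algebraMap R T π * (((p⁻¹ : Tˣ) : T) * toT (d.f j)) - _ = 0
    rw [← mul_assoc, ← hp, Units.mul_inv, one_mul, sub_self]
  have hker : d.ideal ≤ RingHom.ker Φ.toRingHom := Ideal.span_le.2 (by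
    rintro _ (⟨j, rfl⟩ | ⟨w, hw, rfl⟩)
    · exact hΦe j
    · have h := d.mul_divRel_eq Φ w hw hΦe
      rw [← hp, Units.mul_right_eq_zero] at h
      exact h)
  let Dπ := Localization.Away (algebraMap R d.Alg π)
  let ΦD : d.Alg →ₐ[R] T := Ideal.Quotient.liftₐ _ Φ hker
  have hu : ∀ y : Submonoid.powers (algebraMap R d.Alg π), IsUnit (ΦD y) := by
    rintro ⟨_, k, rfl⟩
    show IsUnit (ΦD (algebraMap R d.Alg π ^ k))
    rw [map_pow, AlgHom.commutes]
    exact IsUnit.pow k ⟨p, hp⟩
  let Φπ : Dπ →ₐ[R] T := IsLocalization.liftAlgHom (M := Submonoid.powers (algebraMap R d.Alg π)) (f := ΦD) hu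
  have hπD : IsUnit (algebraMap R Dπ π) := by
    rw [IsScalarTower.algebraMap_apply R d.Alg Dπ]
    exact IsLocalization.Away.algebraMap_isUnit _
  let αR : Rπ →ₐ[R] Dπ := IsLocalization.liftAlgHom (M := Submonoid.powers π) (f := Algebra.ofId R Dπ) (by
    rintro ⟨_, k, rfl⟩
    show IsUnit (algebraMap R Dπ (π ^ k))
    rw [map_pow]
    exact hπD.pow k)
  let mkD : d.Poly →ₐ[R] Dπ := (IsScalarTower.toAlgHom R d.Alg Dπ).comp (Ideal.Quotient.mkₐ R _)
  let Ψ : T →ₐ[R] Dπ := aevalTower αR fun i => mkD (X (Sum.inl i))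
  have hΨX : ∀ i, Ψ (X i) = mkD (X (Sum.inl i)) := fun i => aevalTower_X _ _ i
  have hΨtoT : ∀ q, Ψ (toT q) = mkD (d.inX q) := fun q =>
    AlgHom.congr_fun (show Ψ.comp toT = mkD.comp d.inX from MvPolynomial.algHom_ext fun i => by
      rw [AlgHom.comp_apply, AlgHom.comp_apply, show d.inX (X i) = X (Sum.inl i) from rename_X _ _,
        show toT (X i) = X i from aeval_X _ _, hΨX]) q
  have hmkDe : ∀ j, mkD (d.eqn j) = 0 := fun j => by
    show algebraMap d.Alg Dπ (Ideal.Quotient.mk _ (d.eqn j)) = 0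
    rw [(Ideal.Quotient.eq_zero_iff_mem (I := d.ideal)).2 (d.eqn_mem j), map_zero]
  have hΨΦ : ∀ q, Ψ (Φ q) = mkD q := fun q =>
    AlgHom.congr_fun (show Ψ.comp Φ = mkD from MvPolynomial.algHom_ext fun v => by
      rw [AlgHom.comp_apply, show Φ (X v) = val v from aeval_X _ _]
      rcases v with i | j
      · exact hΨX i
      · refine hπD.mul_left_cancel ?_
        have h1 : algebraMap R T π * val (Sum.inr j) = toT (d.f j) := by
          show _ * (((p⁻¹ : Tˣ) : T) * _) = _
          rw [← mul_assoc, ← hp, Units.mul_inv, one_mul]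
        have h2 := congrArg Ψ h1
        rw [map_mul, AlgHom.commutes, hΨtoT] at h2
        have h3 := hmkDe j
        rw [algHom_eqn, sub_eq_zero] at h3
        rw [h2, h3]) q
  have hΦπ : ∀ b : d.Alg, Φπ (algebraMap d.Alg Dπ b) = ΦD b := fun b => IsLocalization.lift_eq _ b
  have h1 : Φπ.comp Ψ = AlgHom.id R T := by
    refine AlgHom.ext fun t => ?_
    induction t using MvPolynomial.induction_on with
    | C a =>
      have hcomp : Φπ.comp αR = IsScalarTower.toAlgHom R Rπ T :=
        AlgHom.coe_ringHom_injective (IsLocalization.ringHom_ext (Submonoid.powers π)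
          (RingHom.ext fun r => ((Φπ.comp αR).commutes r).trans ((IsScalarTower.toAlgHom R Rπ T).commutes r).symm))
      show Φπ (Ψ (MvPolynomial.C a)) = MvPolynomial.C a
      rw [aevalTower_C]
      exact AlgHom.congr_fun hcomp a
    | add a b ha hb => rw [map_add, ha, hb]; rfl
    | mul_X a i ha =>
      rw [map_mul, ha, AlgHom.comp_apply, hΨX]
      show a * Φπ (algebraMap d.Alg Dπ _) = a * X i
      rw [hΦπ]
      exact congrArg (a * ·) (aeval_X val (Sum.inl i))
  have h2 : Ψ.comp Φπ = AlgHom.id R Dπ := by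
    refine AlgHom.coe_ringHom_injective (IsLocalization.ringHom_ext (Submonoid.powers (algebraMap R d.Alg π)) ?_)
    refine RingHom.ext fun b => ?_
    obtain ⟨q, rfl⟩ := Ideal.Quotient.mk_surjective b
    show Ψ (Φπ (algebraMap d.Alg Dπ (Ideal.Quotient.mk _ q))) = mkD q
    rw [hΦπ]
    exact hΨΦ q
  have : Algebra.Smooth R Dπ := Algebra.Smooth.of_equiv (AlgEquiv.ofAlgHom Ψ Φπ h2 h1)
  exact (Algebra.basicOpen_subset_smoothLocus_iff_smooth.2 this)
    (show (⟨Q, inferInstance⟩ : PrimeSpectrum d.Alg) ∈ PrimeSpectrum.basicOpen (algebraMap R d.Alg π) from hπ)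

namespace StdData

variable {d} (s : d.StdData)

/-- The lift is smooth at primes over points with standard data. -/
theorem isSmoothAt_of_mem [IsNoetherianRing R] (hR : ∀ r : R, π ^ 2 * r = 0 → π * r = 0) (Q : Ideal d.Alg) [Q.IsPrime]
    (hπ : algebraMap R d.Alg π ∈ Q) (ha : Ideal.Quotient.mk d.ideal (d.inX s.a) ∉ Q)
    (hδ : Ideal.Quotient.mk d.ideal (d.inX s.δ) ∉ Q) : Algebra.IsSmoothAt R Q := by
  classical
  have hle : Ideal.span (Set.range s.covEqs) ≤ d.ideal := Ideal.span_le.2 (by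
    rintro _ ⟨i | l, rfl⟩
    · exact d.eqn_mem _
    · exact s.G_mem l.1)
  let fac : s.Cov →ₐ[R] d.Alg := Ideal.Quotient.factorₐ R hle
  let q0 : Ideal s.Cov := Q.comap fac.toRingHom
  let L := Localization.AtPrime q0
  let mkC : d.Poly →ₐ[R] s.Cov := Ideal.Quotient.mkₐ R _
  let fL : d.Poly →ₐ[R] L := (IsScalarTower.toAlgHom R s.Cov L).comp mkC
  have hπ0 : algebraMap R s.Cov π ∈ q0 := by
    show fac (algebraMap R s.Cov π) ∈ Q
    rw [AlgHom.commutes]; exact hπ
  let D := mkC s.covDet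
  have hD : D ∉ q0 := s.covDet_notMem mkC q0 hπ0 ha hδ
  have hstd : Algebra.IsStandardSmooth R (Localization.Away D) := s.isStandardSmooth_cov
  have hsm0 : Algebra.IsSmoothAt R q0 := by
    have : Algebra.FinitePresentation R s.Cov :=
      Algebra.FinitePresentation.quotient (Submodule.fg_span (Set.finite_range s.covEqs))
    exact (Algebra.basicOpen_subset_smoothLocus_iff_smooth.2 (inferInstance : Algebra.Smooth R (Localization.Away D)))
      (show (⟨q0, inferInstance⟩ : PrimeSpectrum s.Cov) ∈ PrimeSpectrum.basicOpen D from hD)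
  have hunit : ∀ x : d.Poly, Ideal.Quotient.mk d.ideal x ∉ Q → IsUnit (fL x) := fun x hx =>
    IsLocalization.map_units L (⟨mkC x, hx⟩ : q0.primeCompl)
  have hann : ∀ y : L, algebraMap R L π ^ 2 * y = 0 → algebraMap R L π * y = 0 :=
    DesingData.mul_eq_zero_atPrime q0 D hD 1 (by rw [map_one]; exact fun h => ‹Q.IsPrime›.ne_top ((Ideal.eq_top_iff_one Q).2 (by
      have h' : fac 1 ∈ Q := h
      rwa [map_one] at h'))) (fun r hr => by rw [one_mul]; exact hR r hr)
  have hmax : ∀ x : s.Cov, x ∈ q0 → algebraMap s.Cov L x ∈ maximalIdeal L := fun x hx =>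
    (IsLocalization.AtPrime.to_map_mem_maximal_iff L q0 _).2 hx
  have hπL : algebraMap R L π ∈ maximalIdeal L := by
    rw [IsScalarTower.algebraMap_apply R s.Cov L]; exact hmax _ hπ0
  have hf : ∀ j, fL (d.inX (d.f j)) ∈ maximalIdeal L := fun j => hmax _ (by
    show Ideal.Quotient.mkₐ R d.ideal (d.inX (d.f j)) ∈ Q
    have h : Ideal.Quotient.mkₐ R d.ideal (d.eqn j) = 0 := Ideal.Quotient.eq_zero_iff_mem.2 (d.eqn_mem j)
    rw [algHom_eqn, sub_eq_zero] at h
    rw [← h]
    exact Ideal.mul_mem_right _ _ hπ)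
  have hc : ∀ q, fL (s.covEqs q) = 0 := fun q => by
    show algebraMap s.Cov L (Ideal.Quotient.mk _ (s.covEqs q)) = 0
    rw [(Ideal.Quotient.eq_zero_iff_mem (I := Ideal.span (Set.range s.covEqs))).2
      (Ideal.subset_span (Set.mem_range_self q)), map_zero]
  have hkill : ∀ x ∈ d.ideal, fL x = 0 :=
    s.eq_zero_of_covEqs (S := L) fL hc hπL hf (hunit _ ha) (hunit _ hδ) hann
  exact isSmoothAt_of_surjective fac (Ideal.Quotient.factor_surjective hle) Q (fun x hx => by
    obtain ⟨x, rfl⟩ := Ideal.Quotient.mk_surjective x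
    exact hkill x (Ideal.Quotient.eq_zero_iff_mem.1 hx)) hsm0

end StdData

end LiftDatum

/-- Reduce the membership of the standard element to explicit coefficients. -/
theorem exists_stdData {R C : Type u} [CommRing R] [CommRing C] [Algebra R C] {π : R} (d : LiftDatum R π)
    [Algebra (R ⧸ Ideal.span {π ^ 2}) C] [IsScalarTower R (R ⧸ Ideal.span {π ^ 2}) C]
    (φ : MvPolynomial (Fin d.n) (R ⧸ Ideal.span {π ^ 2}) →ₐ[R ⧸ Ideal.span {π ^ 2}] C) (hφ : Function.Surjective φ)
    (hker : RingHom.ker φ.toRingHom = Ideal.span (Set.range fun j => MvPolynomial.map (Ideal.Quotient.mk _) (d.f j)))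
    (q : Ideal C) [q.IsPrime] [Algebra.IsSmoothAt (R ⧸ Ideal.span {π ^ 2}) q] :
    ∃ s : d.StdData, φ (MvPolynomial.map (Ideal.Quotient.mk _) s.a) ∉ q ∧
      φ (MvPolynomial.map (Ideal.Quotient.mk _) s.δ) ∉ q := by
  classical
  let mp : MvPolynomial (Fin d.n) R →+* MvPolynomial (Fin d.n) (R ⧸ Ideal.span {π ^ 2}) :=
    MvPolynomial.map (Ideal.Quotient.mk _)
  have hmp : Function.Surjective mp := MvPolynomial.map_surjective _ Ideal.Quotient.mk_surjective
  obtain ⟨a, ha, c, rows, cols, a', haa', hk⟩ :=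
    exists_standard_element_of_isSmoothAt (fun j => mp (d.f j)) φ hφ hker q
  obtain ⟨a₁, rfl⟩ := hφ a
  obtain ⟨a₀, rfl⟩ := hmp a₁
  have hkermp : RingHom.ker mp = Ideal.span {MvPolynomial.C (π ^ 2)} := by
    rw [MvPolynomial.ker_map, Ideal.mk_ker, Ideal.map_span, Set.image_singleton]
  have hdec : ∀ l, ∃ (A : Fin c → MvPolynomial (Fin d.n) R) (b : Fin d.m → Fin d.m → MvPolynomial (Fin d.n) R)
      (e : MvPolynomial (Fin d.n) R), a₀ * d.f l =
        (∑ i, A i * d.f (rows i)) + (∑ j, (∑ k, b j k * d.f k) * d.f j) + MvPolynomial.C (π ^ 2) * e := fun l => by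
    have h := hk (mp a₀) rfl l
    rw [← map_mul, show (fun j => mp (d.f j)) ∘ rows = mp ∘ (d.f ∘ rows) from rfl,
      show (fun j => mp (d.f j)) = mp ∘ d.f from rfl, Set.range_comp mp (d.f ∘ rows), Set.range_comp mp d.f,
      ← Ideal.map_span, ← Ideal.map_span, ← Ideal.map_pow, ← Ideal.map_sup,
      Ideal.mem_map_iff_of_surjective _ hmp] at h
    obtain ⟨y, hy, hye⟩ := h
    have hdiff : a₀ * d.f l - y ∈ RingHom.ker mp := by
      rw [RingHom.mem_ker, map_sub, hye, sub_self]
    rw [hkermp, Ideal.mem_span_singleton] at hdiff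
    obtain ⟨e, he⟩ := hdiff
    obtain ⟨t₁, ht₁, t₂, ht₂, rfl⟩ := Submodule.mem_sup.1 hy
    obtain ⟨A, hA⟩ := (Submodule.mem_span_range_iff_exists_fun _).1 ht₁
    rw [sq, ← smul_eq_mul] at ht₂
    obtain ⟨u, hu, hu2⟩ := (Submodule.mem_ideal_smul_span_iff_exists_sum _ d.f _).1 ht₂
    choose b hb using fun j => (Submodule.mem_span_range_iff_exists_fun _).1 (hu j)
    refine ⟨A, b, e, ?_⟩
    rw [eq_add_of_sub_eq he, ← hA, ← hu2, Finsupp.sum_fintype u (fun i c => c • d.f i) (fun i => zero_smul _ _)]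
    simp only [smul_eq_mul, ← hb, Function.comp_apply]
    ring
  choose A b e heq using hdec
  let s : d.StdData := ⟨c, rows, cols, a₀, A, b, e, heq⟩
  refine ⟨s, ha, fun hδ => ha ?_⟩
  rw [haa']
  refine Ideal.mul_mem_left _ _ ?_
  rw [show Smoothing.jacobianMinor (fun j => mp (d.f j)) rows cols = mp s.δ from jacobianMinor_map _ d.f _ _]
  exact hδ

/-- The lifting lemma. -/
theorem lifting_lemma {R Λ C : Type u} [CommRing R] [IsNoetherianRing R] [CommRing Λ]
    [Algebra R Λ] (π : R) (hR : ∀ r : R, π ^ 2 * r = 0 → π * r = 0)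
    (hΛ : ∀ x : Λ, π ^ 2 • x = 0 → π • x = 0) [CommRing C] [Algebra R C]
    [Algebra (R ⧸ Ideal.span {π ^ 2}) C] [IsScalarTower R (R ⧸ Ideal.span {π ^ 2}) C]
    [Algebra.FinitePresentation (R ⧸ Ideal.span {π ^ 2}) C]
    (g : C →ₐ[R] Λ ⧸ Ideal.span {algebraMap R Λ (π ^ 2)}) :
    ∃ (D : Type u) (_ : CommRing D) (_ : Algebra R D), Algebra.FinitePresentation R D ∧
      ∃ (δ : D →ₐ[R] Λ) (ψ : C →ₐ[R] D ⧸ Ideal.span {algebraMap R D π}),
        (∀ (c : C) (d : D) (l : Λ), Ideal.Quotient.mk (Ideal.span {algebraMap R D π}) d = ψ c →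
          Ideal.Quotient.mk (Ideal.span {algebraMap R Λ (π ^ 2)}) l = g c →
            δ d - l ∈ Ideal.span {algebraMap R Λ π}) ∧
        (∀ (Q : Ideal D) [Q.IsPrime], algebraMap R D π ∉ Q → Algebra.IsSmoothAt R Q) ∧
        (∀ (Q : Ideal (D ⧸ Ideal.span {algebraMap R D π})) [Q.IsPrime],
          Algebra.IsSmoothAt (R ⧸ Ideal.span {π ^ 2}) (Q.comap ψ) →
            Algebra.IsSmoothAt R (Q.comap (Ideal.Quotient.mk (Ideal.span {algebraMap R D π})))) := by
  classical
  obtain ⟨n, φ, hφ, t, ht⟩ := (inferInstance : Algebra.FinitePresentation (R ⧸ Ideal.span {π ^ 2}) C).out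
  let mp : MvPolynomial (Fin n) R →+* MvPolynomial (Fin n) (R ⧸ Ideal.span {π ^ 2}) :=
    MvPolynomial.map (Ideal.Quotient.mk _)
  have hmp : Function.Surjective mp := MvPolynomial.map_surjective _ Ideal.Quotient.mk_surjective
  choose f hf using fun i => hmp (t.equivFin.symm i : MvPolynomial (Fin n) (R ⧸ Ideal.span {π ^ 2}))
  let d : LiftDatum R π := ⟨n, t.card, f⟩
  have hker : RingHom.ker φ.toRingHom = Ideal.span (Set.range fun j => mp (f j)) := by
    rw [← ht]
    congr 1
    ext x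
    refine ⟨fun hx => ⟨t.equivFin ⟨x, hx⟩, by simp only [hf, Equiv.symm_apply_apply]⟩, ?_⟩
    rintro ⟨i, rfl⟩
    show mp (f i) ∈ t
    rw [hf]
    exact (t.equivFin.symm i).2
  let φR : MvPolynomial (Fin n) R →ₐ[R] C :=
    { φ.toRingHom.comp mp with
      commutes' := fun r => by
        show φ (MvPolynomial.map (Ideal.Quotient.mk _) (MvPolynomial.C r)) = _
        rw [map_C, ← MvPolynomial.algebraMap_eq, φ.commutes]
        exact (IsScalarTower.algebraMap_apply R (R ⧸ Ideal.span {π ^ 2}) C r).symm }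
  have hφR : Function.Surjective φR := hφ.comp hmp
  have hkerR : RingHom.ker φR.toRingHom ≤ Ideal.span (Set.range f ∪ {MvPolynomial.C (π ^ 2)}) := fun x hx => by
    have h1 : mp x ∈ RingHom.ker φ.toRingHom := hx
    rw [hker, show (fun j => mp (f j)) = mp ∘ f from rfl, Set.range_comp, ← Ideal.map_span,
      Ideal.mem_map_iff_of_surjective _ hmp] at h1
    obtain ⟨y, hy, hye⟩ := h1
    have h2 : x - y ∈ RingHom.ker mp := by rw [RingHom.mem_ker, map_sub, hye, sub_self]
    rw [MvPolynomial.ker_map, Ideal.mk_ker, Ideal.map_span, Set.image_singleton] at h2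
    rw [Ideal.span_union, show x = y + (x - y) by ring]
    exact Submodule.add_mem_sup hy h2
  have hfR : ∀ j, φR (f j) = 0 := fun j =>
    show mp (f j) ∈ RingHom.ker φ.toRingHom from hker ▸ Ideal.subset_span ⟨j, rfl⟩
  choose lam hlam using fun i => Ideal.Quotient.mk_surjective (g (φR (X i)))
  have hgl : ∀ p, Ideal.Quotient.mk (Ideal.span {algebraMap R Λ (π ^ 2)}) (aeval lam p) = g (φR p) := fun p =>
    AlgHom.congr_fun (show (Ideal.Quotient.mkₐ R _).comp (aeval lam) = g.comp φR from MvPolynomial.algHom_ext fun i => by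
      rw [AlgHom.comp_apply, AlgHom.comp_apply, aeval_X]; exact hlam i) p
  have hμ : ∀ j, ∃ μ, aeval lam (f j) = algebraMap R Λ (π ^ 2) * μ := fun j => by
    have h := hgl (f j)
    rw [hfR, map_zero, Ideal.Quotient.eq_zero_iff_mem, Ideal.mem_span_singleton] at h
    exact h
  choose μ hμ using hμ
  let δP : d.Poly →ₐ[R] Λ := aeval (Sum.elim lam fun j => algebraMap R Λ π * μ j)
  have hδX : ∀ p, δP (d.inX p) = aeval lam p := fun p =>
    AlgHom.congr_fun (show δP.comp d.inX = aeval lam from MvPolynomial.algHom_ext fun i => by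
      rw [AlgHom.comp_apply, show d.inX (X i) = X (Sum.inl i) from rename_X _ _]
      exact (aeval_X _ (Sum.inl i)).trans (aeval_X lam i).symm) p
  have hδz : ∀ j, δP (X (Sum.inr j)) = algebraMap R Λ π * μ j := fun j => aeval_X _ (Sum.inr j)
  have hδe : ∀ j, δP (d.eqn j) = 0 := fun j => by
    rw [LiftDatum.algHom_eqn, hδz, hδX, show d.f j = f j from rfl, hμ, map_pow]; ring
  have hδker : d.ideal ≤ RingHom.ker δP.toRingHom := Ideal.span_le.2 (by
    rintro _ (⟨j, rfl⟩ | ⟨w, hw, rfl⟩)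
    · exact hδe j
    · show δP (d.divRel w) = 0
      have h := d.mul_divRel_eq δP w hw hδe
      rw [LiftDatum.algHom_divRel] at h ⊢
      simp only [hδz, hδX] at h ⊢
      rw [show ∑ j, aeval lam (w.1 j) * (algebraMap R Λ π * μ j) = algebraMap R Λ π * ∑ j, aeval lam (w.1 j) * μ j by
        rw [Finset.mul_sum]; exact Finset.sum_congr rfl fun j _ => by ring, ← mul_sub] at h ⊢
      rw [← mul_assoc, ← sq, ← map_pow, ← Algebra.smul_def] at h
      rw [← Algebra.smul_def]
      exact hΛ _ h)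
  have hfpD := d.finitePresentation
  let D := d.Alg
  let ψP : MvPolynomial (Fin n) R →ₐ[R] (D ⧸ Ideal.span {algebraMap R D π}) :=
    ((Ideal.Quotient.mkₐ R _).comp (Ideal.Quotient.mkₐ R d.ideal)).comp d.inX
  letI : CommRing (D ⧸ Ideal.span {algebraMap R D π}) := Ideal.Quotient.commRing _
  have hπbar : algebraMap R (D ⧸ (Ideal.span {algebraMap R D π} : Ideal D)) π = (0 : D ⧸ Ideal.span {algebraMap R D π}) := by
    rw [IsScalarTower.algebraMap_apply R D (D ⧸ Ideal.span {algebraMap R D π})]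
    exact Ideal.Quotient.eq_zero_iff_mem.2 (Ideal.mem_span_singleton_self _)
  have hψker : RingHom.ker φR.toRingHom ≤ RingHom.ker ψP.toRingHom := by
    refine hkerR.trans (Ideal.span_le.2 ?_)
    rintro x (⟨j, rfl⟩ | hx)
    · show ψP (f j) = 0
      have h := congrArg (Ideal.Quotient.mkₐ R (Ideal.span {algebraMap R D π}) : D →ₐ[R] D ⧸ Ideal.span {algebraMap R D π})
        (show Ideal.Quotient.mkₐ R d.ideal (d.eqn j) = 0 from Ideal.Quotient.eq_zero_iff_mem.2 (d.eqn_mem j))
      rw [map_zero, ← AlgHom.comp_apply, LiftDatum.algHom_eqn, hπbar, zero_mul, zero_sub, neg_eq_zero] at h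
      exact h
    · rw [Set.mem_singleton_iff] at hx
      subst hx
      show ψP (MvPolynomial.C (π ^ 2)) = 0
      rw [← MvPolynomial.algebraMap_eq, ψP.commutes, map_pow, hπbar, zero_pow two_ne_zero]
  let ψ : C →ₐ[R] (D ⧸ Ideal.span {algebraMap R D π}) := (Ideal.Quotient.liftₐ _ ψP hψker).comp (Ideal.quotientKerAlgEquivOfSurjective hφR).symm.toAlgHom
  have hψ : ∀ p, ψ (φR p) = ψP p := fun p => by
    show Ideal.Quotient.liftₐ _ _ hψker ((Ideal.quotientKerAlgEquivOfSurjective hφR).symm (φR p)) = _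
    rw [show (Ideal.quotientKerAlgEquivOfSurjective hφR).symm (φR p) = Ideal.Quotient.mk _ p from
      (Ideal.quotientKerAlgEquivOfSurjective hφR).symm_apply_eq.2
        (Ideal.quotientKerAlgEquivOfSurjective_mk hφR p).symm]
    rfl
  let δ : D →ₐ[R] Λ := Ideal.Quotient.liftₐ _ δP hδker
  refine ⟨D, inferInstance, inferInstance, hfpD, δ, ψ, fun c x l hx hl => ?_, fun Q _ hQ => d.isSmoothAt_of_notMem Q hQ,
    fun Q _ hsm => ?_⟩
  · obtain ⟨p, rfl⟩ := hφR c
    rw [hψ] at hx
    rw [← hgl] at hl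
    obtain ⟨u, hu⟩ := Ideal.mem_span_singleton.1 (Ideal.Quotient.eq.1 hx)
    obtain ⟨v, hv⟩ := Ideal.mem_span_singleton.1 (Ideal.Quotient.eq.1 hl)
    refine Ideal.mem_span_singleton.2 ⟨δ u - algebraMap R Λ π * v, ?_⟩
    have h1 := congrArg δ hu
    rw [map_sub, map_mul, δ.commutes] at h1
    replace h1 : δ x - aeval lam p = algebraMap R Λ π * δ u := by rw [← hδX p]; exact h1
    rw [map_pow] at hv
    linear_combination h1 - hv
  · let q := Q.comap ψ
    obtain ⟨s, hsa, hsδ⟩ := exists_stdData d φ hφ hker q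
    refine s.isSmoothAt_of_mem hR _ ?_ ?_ ?_
    · show Ideal.Quotient.mk (Ideal.span {algebraMap R D π}) (algebraMap R D π) ∈ Q
      rw [Ideal.Quotient.eq_zero_iff_mem.2 (Ideal.mem_span_singleton_self _)]
      exact zero_mem _
    · intro h
      refine hsa ?_
      show ψ (φR s.a) ∈ Q
      rw [hψ]
      exact h
    · intro h
      refine hsδ ?_
      show ψ (φR s.δ) ∈ Q
      rw [hψ]
      exact h

end TransLib
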