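import Groth.Agent.TransLib.StdElem

/-!
# The singular ideal and standard elements
-/

set_option autoImplicit false

universe u

open MvPolynomial

namespace TransLib

theorem exists_perm_extending {c m : ℕ} (h : c ≤ m) (f : Fin c ↪ Fin m) :
    ∃ σ : Equiv.Perm (Fin m), ∀ j, σ (Fin.castLE h j) = f j := by
  classical
  let e : {x // x ∈ Set.range (Fin.castLE h)} ≃ {x // x ∈ Set.range f} :=
    (Equiv.ofInjective _ (Fin.castLE_injective h)).symm.trans (Equiv.ofInjective f f.injective)
  refine ⟨e.extendSubtype, fun j => ?_⟩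
  rw [Equiv.extendSubtype_apply_of_mem _ _ ⟨j, rfl⟩]
  show ((Equiv.ofInjective f f.injective) ((Equiv.ofInjective _ (Fin.castLE_injective h)).symm ⟨_, _⟩) : Fin m) = f j
  rw [Equiv.ofInjective_symm_apply (Fin.castLE_injective h) j]
  rfl

theorem isStrictlyStandard_of_isElementaryStandard {R A : Type u} [CommRing R] [CommRing A] [Algebra R A] {a : A}
    (h : Smoothing.IsElementaryStandard R A a) : Smoothing.IsStrictlyStandard R A a := by
  obtain ⟨P, ⟨a', ha'⟩, hk⟩ := h
  exact ⟨P, ha' ▸ Ideal.mul_mem_left _ a' (Ideal.subset_span ⟨_, rfl⟩), hk⟩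

theorem exists_isElementaryStandard_of_isSmoothAt {R A : Type u} [CommRing R] [CommRing A] [Algebra R A]
    [Algebra.FinitePresentation R A] (q : Ideal A) [q.IsPrime] [Algebra.IsSmoothAt R q] :
    ∃ a : A, a ∉ q ∧ Smoothing.IsElementaryStandard R A a := by
  classical
  obtain ⟨n, φ, hφ, t, ht⟩ := (inferInstance : Algebra.FinitePresentation R A).out
  let f : Fin t.card → MvPolynomial (Fin n) R := fun i => t.equivFin.symm i
  have hker : RingHom.ker φ.toRingHom = Ideal.span (Set.range f) := by
    rw [← ht]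
    congr 1
    ext x
    refine ⟨fun hx => ⟨t.equivFin ⟨x, hx⟩, by simp [f]⟩, ?_⟩
    rintro ⟨i, rfl⟩
    exact (t.equivFin.symm i).2
  obtain ⟨a, ha, c, rows, cols, a', ha', hk⟩ := exists_standard_element_of_isSmoothAt f φ hφ hker q
  have hcm : c ≤ t.card := by simpa using Fintype.card_le_of_embedding rows
  have hcn : c ≤ n := by simpa using Fintype.card_le_of_embedding cols
  obtain ⟨σ, hσ⟩ := exists_perm_extending hcm rows
  obtain ⟨τ, hτ⟩ := exists_perm_extending hcn cols
  let ρ : MvPolynomial (Fin n) R ≃ₐ[R] MvPolynomial (Fin n) R := renameEquiv R τ.symm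
  let rel : Fin t.card → MvPolynomial (Fin n) R := fun j => ρ (f (σ j))
  have hrange : Set.range rel = ρ '' Set.range f := by
    rw [show rel = (ρ ∘ f) ∘ σ from rfl, σ.surjective.range_comp, Set.range_comp]
  let P : Smoothing.MarkedPresentation R A :=
    { n := n
      m := t.card
      c := c
      hcn := hcn
      hcm := hcm
      rel := rel
      hom := φ.comp ρ.symm.toAlgHom
      surj := hφ.comp ρ.symm.surjective
      ker_eq := by
        ext x
        show ρ.symm x ∈ RingHom.ker φ.toRingHom ↔ x ∈ _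
        rw [hker, hrange, show (ρ : _ → _) '' Set.range f = ρ.toRingEquiv.toRingHom '' Set.range f from rfl,
          ← Ideal.map_span, Ideal.mem_map_iff_of_surjective ρ.toRingEquiv.toRingHom ρ.surjective]
        exact ⟨fun h => ⟨_, h, ρ.apply_symm_apply x⟩, by rintro ⟨y, hy, rfl⟩; simpa using hy⟩ }
  refine ⟨a, ha, P, ⟨a', ?_⟩, fun a₁ ha₁ j hj => ?_⟩
  · refine ha'.trans (congrArg (a' * ·) ?_)
    show φ (Smoothing.jacobianMinor f rows cols) =
      φ (ρ.symm (Smoothing.jacobianMinor rel (Fin.castLE hcm) (Fin.castLE hcn)))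
    refine congrArg φ (ρ.eq_symm_apply.2 ?_)
    show ρ _ = _
    rw [Smoothing.jacobianMinor, Smoothing.jacobianMinor, AlgEquiv.map_det]
    congr 1
    ext1 i k
    show ρ (pderiv (cols k) (f (rows i))) = pderiv (Fin.castLE hcn k) (ρ (f (σ (Fin.castLE hcm i))))
    rw [hσ, show Fin.castLE hcn k = τ.symm (cols k) from τ.injective (by rw [hτ, τ.apply_symm_apply])]
    exact (pderiv_rename τ.symm.injective (cols k) (f (rows i))).symm
  · have h := hk (ρ.symm a₁) ha₁ (σ j)
    have h2 := Ideal.mem_map_of_mem ρ.toRingEquiv.toRingHom h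
    rw [map_mul, Ideal.map_sup, Ideal.map_pow, Ideal.map_span, Ideal.map_span] at h2
    have e1 : ρ.toRingEquiv.toRingHom (ρ.symm a₁) = a₁ := ρ.apply_symm_apply a₁
    rw [e1] at h2
    refine SetLike.le_def.1 (sup_le_sup (Ideal.span_mono ?_) (Ideal.pow_right_mono (Ideal.span_mono ?_) 2)) h2
    · rintro _ ⟨_, ⟨i, rfl⟩, rfl⟩
      refine ⟨Fin.castLE hcm i, i.2, ?_⟩
      show rel _ = _
      simp only [rel, hσ]
      rfl
    · rw [hrange]
      exact subset_refl _

theorem singularIdeal_eq_radical_span_standard {R A : Type u} [CommRing R] [CommRing A] [Algebra R A]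
    [Algebra.FinitePresentation R A] :
    Smoothing.singularIdeal R A = (Ideal.span {a : A | Smoothing.IsStrictlyStandard R A a}).radical ∧
      Smoothing.singularIdeal R A = (Ideal.span {a : A | Smoothing.IsElementaryStandard R A a}).radical := by
  classical
  have hsub : Ideal.span {a : A | Smoothing.IsElementaryStandard R A a} ≤
      Ideal.span {a : A | Smoothing.IsStrictlyStandard R A a} :=
    Ideal.span_mono fun a ha => isStrictlyStandard_of_isElementaryStandard ha
  have h1 : Ideal.span {a : A | Smoothing.IsStrictlyStandard R A a} ≤ Smoothing.singularIdeal R A := by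
    refine Ideal.span_le.2 fun a ha => ?_
    show a ∈ PrimeSpectrum.vanishingIdeal _
    rw [PrimeSpectrum.mem_vanishingIdeal]
    intro x hx
    by_contra hax
    exact hx (Algebra.basicOpen_subset_smoothLocus_iff_smooth.2
      (smooth_stablyFree_of_isStrictlyStandard a ha).1 hax)
  have hrad : (Smoothing.singularIdeal R A).IsRadical := PrimeSpectrum.isRadical_vanishingIdeal _
  have h2 : Smoothing.singularIdeal R A ≤ (Ideal.span {a : A | Smoothing.IsElementaryStandard R A a}).radical := by
    rw [Ideal.radical_eq_sInf]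
    refine le_sInf fun J hJ => ?_
    obtain ⟨hle, hprime⟩ := hJ
    have := hprime
    intro x hx
    refine (PrimeSpectrum.mem_vanishingIdeal _ _).1 hx ⟨J, hprime⟩ fun hsm => ?_
    have : Algebra.IsSmoothAt R J := hsm
    obtain ⟨a, ha, hel⟩ := exists_isElementaryStandard_of_isSmoothAt (R := R) J
    exact ha (hle (Ideal.subset_span hel))
  have h3 : (Ideal.span {a : A | Smoothing.IsStrictlyStandard R A a}).radical ≤ Smoothing.singularIdeal R A :=
    hrad.radical_le_iff.2 h1
  exact ⟨le_antisymm (h2.trans (Ideal.radical_mono hsub)) h3,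
    le_antisymm h2 ((Ideal.radical_mono hsub).trans h3)⟩

end TransLib
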