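import Mathlib

/-!
# A retract with free differentials over the smooth locus
-/

set_option autoImplicit false

universe u

open TensorProduct MvPolynomial

namespace TransLib

/-- A split short exact sequence, as an equivalence. -/
noncomputable def equivProdOfExact {B : Type*} [Ring B] {L M N : Type*} [AddCommGroup L] [AddCommGroup M] [AddCommGroup N]
    [Module B L] [Module B M] [Module B N] (f : L →ₗ[B] M) (g : M →ₗ[B] N) (ρ : M →ₗ[B] L) (h : Function.Exact f g)
    (hρ : ρ.comp f = LinearMap.id) (hg : Function.Surjective g) : M ≃ₗ[B] L × N :=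
  LinearEquiv.ofBijective (ρ.prod g) ⟨by
    rw [injective_iff_map_eq_zero]
    intro x hx
    have h1 : ρ x = 0 := congrArg Prod.fst hx
    have h2 : g x = 0 := congrArg Prod.snd hx
    obtain ⟨l, rfl⟩ := (h x).1 h2
    have := LinearMap.congr_fun hρ l
    rw [LinearMap.comp_apply, h1, LinearMap.id_apply] at this
    rw [← this, map_zero], fun ⟨l, n⟩ => by
    obtain ⟨x, rfl⟩ := hg n
    refine ⟨x + f (l - ρ x), Prod.ext ?_ ?_⟩
    · show ρ (x + f (l - ρ x)) = l
      rw [map_add, show ρ (f (l - ρ x)) = l - ρ x from LinearMap.congr_fun hρ _, add_sub_cancel]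
    · show g (x + f (l - ρ x)) = g x
      rw [map_add, h.apply_apply_eq_zero, add_zero]⟩

section LinForms

variable {A : Type u} [CommRing A] {m : ℕ} {M : Type u} [AddCommGroup M] [Module A M] (π : (Fin m → A) →ₗ[A] M)

/-- The linear form with given coefficients. -/
noncomputable def linForm : (Fin m → A) →ₗ[A] MvPolynomial (Fin m) A :=
  Fintype.linearCombination A fun i => X i

theorem linForm_apply (c : Fin m → A) : linForm c = ∑ i, MvPolynomial.C (c i) * X i := by
  rw [linForm, Fintype.linearCombination_apply]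
  exact Finset.sum_congr rfl fun i _ => MvPolynomial.smul_eq_C_mul _ _

theorem linForm_single (j : Fin m) : linForm (Pi.single j 1 : Fin m → A) = X j := by
  classical
  rw [linForm_apply, Finset.sum_eq_single j (fun b _ hb => by rw [Pi.single_eq_of_ne hb, map_zero, zero_mul])
    (fun h => absurd (Finset.mem_univ j) h), Pi.single_eq_same, map_one, one_mul]

/-- The relations of the symmetric algebra. -/
noncomputable def symIdeal : Ideal (MvPolynomial (Fin m) A) := Ideal.span (linForm '' (LinearMap.ker π : Set (Fin m → A)))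

/-- The symmetric algebra of a quotient of a finite free module. -/
abbrev SymQuot : Type u := MvPolynomial (Fin m) A ⧸ symIdeal π

/-- The linear part of the symmetric algebra. -/
noncomputable def symLin : (Fin m → A) →ₗ[A] SymQuot π :=
  (Ideal.Quotient.mkₐ A (symIdeal π)).toLinearMap.comp linForm

theorem symLin_ker {c : Fin m → A} (hc : π c = 0) : symLin π c = 0 :=
  Ideal.Quotient.eq_zero_iff_mem.2 (Ideal.subset_span ⟨c, hc, rfl⟩)

/-- The derivation of the polynomial algebra into the extended module. -/
noncomputable def polyDer : Derivation A (MvPolynomial (Fin m) A) (SymQuot π ⊗[A] M) :=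
  MvPolynomial.mkDerivation A fun j => (1 : SymQuot π) ⊗ₜ[A] π (Pi.single j 1)

theorem polyDer_smul (s : MvPolynomial (Fin m) A) (x : SymQuot π ⊗[A] M) :
    s • x = Ideal.Quotient.mkₐ A (symIdeal π) s • x :=
  (algebraMap_smul (SymQuot π) s x).symm

theorem polyDer_linForm (c : Fin m → A) : polyDer π (linForm c) = (1 : SymQuot π) ⊗ₜ[A] π c := by
  rw [linForm_apply, map_sum]
  conv_rhs => rw [pi_eq_sum_univ' c, map_sum, TensorProduct.tmul_sum]
  refine Finset.sum_congr rfl fun i _ => ?_
  rw [← MvPolynomial.smul_eq_C_mul, Derivation.map_smul, polyDer, MvPolynomial.mkDerivation_X, map_smul,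
    TensorProduct.tmul_smul]

theorem polyDer_eq_zero {x : MvPolynomial (Fin m) A} (hx : x ∈ symIdeal π) : polyDer π x = 0 := by
  refine (Submodule.span_induction (p := fun y _ => Ideal.Quotient.mkₐ A (symIdeal π) y = 0 ∧ polyDer π y = 0) ?_
    ⟨map_zero _, map_zero _⟩ ?_ ?_ hx).2
  · rintro _ ⟨c, hc, rfl⟩
    refine ⟨symLin_ker π hc, ?_⟩
    rw [polyDer_linForm, show π c = 0 from hc, TensorProduct.tmul_zero]
  · rintro a b - - ⟨ha, ha'⟩ ⟨hb, hb'⟩
    exact ⟨by rw [map_add, ha, hb, add_zero], by rw [map_add, ha', hb', add_zero]⟩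
  · rintro a b - ⟨hb, hb'⟩
    refine ⟨by rw [smul_eq_mul, map_mul, hb, mul_zero], ?_⟩
    rw [smul_eq_mul, Derivation.leibniz, hb', smul_zero, zero_add, polyDer_smul, hb]
    exact zero_smul (SymQuot π) (polyDer π a)

/-- The universal derivation of the symmetric algebra. -/
noncomputable def symDer : Derivation A (SymQuot π) (SymQuot π ⊗[A] M) :=
  Derivation.mk' ((Submodule.liftQ ((symIdeal π).restrictScalars A) (polyDer π).toLinearMap
      fun _ hx => polyDer_eq_zero π hx).comp
    (Submodule.Quotient.restrictScalarsEquiv A (symIdeal π)).symm.toLinearMap) fun a b => by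
    obtain ⟨a, rfl⟩ := Ideal.Quotient.mkₐ_surjective A (symIdeal π) a
    obtain ⟨b, rfl⟩ := Ideal.Quotient.mkₐ_surjective A (symIdeal π) b
    rw [← map_mul]
    show polyDer π (a * b) = _ • polyDer π b + _ • polyDer π a
    rw [Derivation.leibniz, polyDer_smul, polyDer_smul π b]

theorem symDer_mk (x : MvPolynomial (Fin m) A) : symDer π (Ideal.Quotient.mkₐ A (symIdeal π) x) = polyDer π x := rfl

/-- The comparison map to the differentials. -/
noncomputable def toKaehlerSym (hπ : Function.Surjective π) : SymQuot π ⊗[A] M →ₗ[SymQuot π] Ω[SymQuot π⁄A] :=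
  (((LinearMap.ker π).liftQ ((KaehlerDifferential.D A (SymQuot π)).toLinearMap.comp (symLin π)) fun c hc => by
      show KaehlerDifferential.D A (SymQuot π) (symLin π c) = 0
      rw [symLin_ker π hc, map_zero]).comp
    (LinearMap.quotKerEquivOfSurjective π hπ).symm.toLinearMap).liftBaseChange (SymQuot π)

theorem toKaehlerSym_tmul (hπ : Function.Surjective π) (c : Fin m → A) :
    toKaehlerSym π hπ ((1 : SymQuot π) ⊗ₜ[A] π c) = KaehlerDifferential.D A (SymQuot π) (symLin π c) := by
  rw [toKaehlerSym, LinearMap.liftBaseChange_tmul, one_smul]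
  simp only [LinearMap.comp_apply, LinearEquiv.coe_coe, LinearMap.quotKerEquivOfSurjective_symm_apply,
    Submodule.liftQ_apply]
  rfl

theorem toKaehlerSym_polyDer (hπ : Function.Surjective π) (z : MvPolynomial (Fin m) A) :
    toKaehlerSym π hπ (polyDer π z) =
      KaehlerDifferential.D A (SymQuot π) (Ideal.Quotient.mkₐ A (symIdeal π) z) := by
  classical
  induction z using MvPolynomial.induction_on with
  | C a =>
    rw [← MvPolynomial.algebraMap_eq, Derivation.map_algebraMap, map_zero, AlgHom.commutes, Derivation.map_algebraMap]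
  | add a b ha hb => rw [map_add, map_add, map_add, map_add, ha, hb]
  | mul_X a j ha =>
    have hX : toKaehlerSym π hπ (polyDer π (X j)) =
        KaehlerDifferential.D A (SymQuot π) (Ideal.Quotient.mkₐ A (symIdeal π) (X j)) := by
      rw [polyDer, MvPolynomial.mkDerivation_X, toKaehlerSym_tmul]
      exact congrArg _ (congrArg (Ideal.Quotient.mkₐ A (symIdeal π)) (linForm_single j))
    rw [Derivation.leibniz, map_add, polyDer_smul, polyDer_smul π (X j), map_smul, map_smul, ha, hX, map_mul,
      Derivation.leibniz]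

theorem exists_kaehler_symQuot (hπ : Function.Surjective π) :
    Nonempty (Ω[SymQuot π⁄A] ≃ₗ[SymQuot π] SymQuot π ⊗[A] M) := by
  classical
  refine ⟨LinearEquiv.ofLinear (symDer π).liftKaehlerDifferential (toKaehlerSym π hπ) ?_ ?_⟩
  · refine TensorProduct.AlgebraTensorModule.ext fun r x => ?_
    obtain ⟨c, rfl⟩ := hπ x
    have h1 : r ⊗ₜ[A] π c = r • ((1 : SymQuot π) ⊗ₜ[A] π c) := by
      rw [TensorProduct.smul_tmul', smul_eq_mul, mul_one]
    have h2 : symDer π (symLin π c) = polyDer π (linForm c) := symDer_mk π (linForm c)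
    rw [LinearMap.comp_apply, LinearMap.id_apply, h1, map_smul, map_smul, toKaehlerSym_tmul,
      Derivation.liftKaehlerDifferential_comp_D, h2, polyDer_linForm]
  · refine LinearMap.ext_on (KaehlerDifferential.span_range_derivation A (SymQuot π)) ?_
    rintro _ ⟨z, rfl⟩
    obtain ⟨z, rfl⟩ := Ideal.Quotient.mkₐ_surjective A (symIdeal π) z
    rw [LinearMap.comp_apply, LinearMap.id_apply, Derivation.liftKaehlerDifferential_comp_D, symDer_mk,
      toKaehlerSym_polyDer]

end LinForms

/-- Localizing the symmetric algebra at a base element where the module is projective gives a formally smooth algebra. -/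
theorem formallySmooth_symQuot_away {A : Type u} [CommRing A] {m : ℕ} {M : Type u} [AddCommGroup M] [Module A M]
    (π : (Fin m → A) →ₗ[A] M) (hπ : Function.Surjective π) (a : A)
    [Module.Projective (Localization.Away a) (Localization.Away a ⊗[A] M)]
    [Algebra (Localization.Away a) (Localization.Away (algebraMap A (SymQuot π) a))]
    [IsScalarTower A (Localization.Away a) (Localization.Away (algebraMap A (SymQuot π) a))] :
    Algebra.FormallySmooth (Localization.Away a) (Localization.Away (algebraMap A (SymQuot π) a)) := by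
  classical
  let B := Localization.Away a
  let C := SymQuot π
  let Ca := Localization.Away (algebraMap A C a)
  let πB : (Fin m → B) →ₗ[B] B ⊗[A] M := Fintype.linearCombination B fun i => (1 : B) ⊗ₜ[A] π (Pi.single i 1)
  have hπB : Function.Surjective πB := fun x => by
    induction x with
    | zero => exact ⟨0, map_zero _⟩
    | tmul b y =>
      obtain ⟨c, rfl⟩ := hπ y
      refine ⟨fun i => b * algebraMap A B (c i), ?_⟩
      rw [Fintype.linearCombination_apply]
      conv_rhs => rw [pi_eq_sum_univ' c, map_sum, TensorProduct.tmul_sum]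
      refine Finset.sum_congr rfl fun i _ => ?_
      rw [TensorProduct.smul_tmul', map_smul, TensorProduct.tmul_smul, TensorProduct.smul_tmul', smul_eq_mul, mul_one,
        Algebra.smul_def, mul_comm]
    | add x y hx hy =>
      obtain ⟨c, rfl⟩ := hx
      obtain ⟨d, rfl⟩ := hy
      exact ⟨c + d, map_add _ _ _⟩
  obtain ⟨s, hs⟩ := Module.projective_lifting_property πB LinearMap.id hπB
  let e : Fin m → Fin m → B := fun i j => s ((1 : B) ⊗ₜ[A] π (Pi.single j 1)) i
  let T := MvPolynomial (Fin m) B
  let w : Fin m → T := fun j => ∑ i, MvPolynomial.C (e i j) * X i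
  let σ₀ : MvPolynomial (Fin m) A →ₐ[A] T := aeval w
  let sc : (Fin m → A) →ₗ[A] (Fin m → B) := (s.restrictScalars A).comp ((TensorProduct.mk A B M 1).comp π)
  let toT : (Fin m → B) →ₗ[B] T := Fintype.linearCombination B fun i => X i
  have hσ₀ : σ₀.toLinearMap.comp linForm = (toT.restrictScalars A).comp sc := by
    refine (Pi.basisFun A (Fin m)).ext fun j => ?_
    rw [Pi.basisFun_apply]
    show σ₀ (linForm (Pi.single j 1)) = toT (sc (Pi.single j 1))
    rw [linForm_single, aeval_X, Fintype.linearCombination_apply]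
    exact Finset.sum_congr rfl fun i _ => (MvPolynomial.smul_eq_C_mul _ _).symm
  have hker : symIdeal π ≤ RingHom.ker σ₀ := Ideal.span_le.2 (by
    rintro _ ⟨c, hc, rfl⟩
    show σ₀ (linForm c) = 0
    refine (LinearMap.congr_fun hσ₀ c).trans ?_
    show toT (s ((1 : B) ⊗ₜ[A] π c)) = 0
    rw [show π c = 0 from hc, TensorProduct.tmul_zero, map_zero, map_zero])
  let σ₁ : C →ₐ[A] T := Ideal.Quotient.liftₐ (symIdeal π) σ₀ hker
  have hu : IsUnit (σ₁ (algebraMap A C a)) := by
    rw [σ₁.commutes, IsScalarTower.algebraMap_apply A B T]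
    exact (IsLocalization.Away.algebraMap_isUnit a).map _
  let σ₂ : Ca →ₐ[A] T := IsLocalization.liftAlgHom (M := Submonoid.powers (algebraMap A C a)) (f := σ₁) (by
    rintro ⟨_, k, rfl⟩
    show IsUnit (σ₁ (algebraMap A C a ^ k))
    rw [map_pow]
    exact hu.pow k)
  have hσ₂ : ∀ x, σ₂ (algebraMap C Ca x) = σ₁ x := fun x => IsLocalization.lift_eq _ x
  let σ : Ca →ₐ[B] T :=
    { σ₂ with
      commutes' := fun b => RingHom.congr_fun (f := σ₂.toRingHom.comp (algebraMap B Ca)) (g := algebraMap B T)
        (IsLocalization.ringHom_ext (Submonoid.powers a) (RingHom.ext fun x => by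
          show σ₂ (algebraMap B Ca (algebraMap A B x)) = algebraMap B T (algebraMap A B x)
          rw [← IsScalarTower.algebraMap_apply, ← IsScalarTower.algebraMap_apply, σ₂.commutes])) b }
  let Λ : (Fin m → A) →ₗ[A] Ca := (IsScalarTower.toAlgHom A C Ca).toLinearMap.comp (symLin π)
  let lam : M →ₗ[A] Ca := ((LinearMap.ker π).liftQ Λ fun c hc => by
      show algebraMap C Ca (symLin π c) = 0
      rw [symLin_ker π hc, map_zero]).comp (LinearMap.quotKerEquivOfSurjective π hπ).symm.toLinearMap
  have hlam : ∀ c, lam (π c) = algebraMap C Ca (symLin π c) := fun c => by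
    simp only [lam, LinearMap.comp_apply, LinearEquiv.coe_coe, LinearMap.quotKerEquivOfSurjective_symm_apply,
      Submodule.liftQ_apply]
    rfl
  let lamB : B ⊗[A] M →ₗ[B] Ca := lam.liftBaseChange B
  let back : T →ₐ[B] Ca := aeval fun j => algebraMap C Ca (Ideal.Quotient.mk _ (X j))
  have hback : back.comp σ = AlgHom.id B Ca := by
    refine AlgHom.coe_ringHom_injective (IsLocalization.ringHom_ext (Submonoid.powers (algebraMap A C a)) ?_)
    refine Ideal.Quotient.ringHom_ext (MvPolynomial.ringHom_ext (fun x => ?_) fun j => ?_)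
    · show back (σ₂ (algebraMap C Ca (algebraMap A C x))) = algebraMap C Ca (algebraMap A C x)
      rw [← IsScalarTower.algebraMap_apply, σ₂.commutes, IsScalarTower.algebraMap_apply A B T, back.commutes,
        ← IsScalarTower.algebraMap_apply]
    · show back (σ₂ (algebraMap C Ca (Ideal.Quotient.mk _ (X j)))) = algebraMap C Ca (Ideal.Quotient.mk _ (X j))
      rw [hσ₂]
      show back (σ₀ (X j)) = _
      rw [aeval_X, map_sum]
      have h1 : lamB (πB (s ((1 : B) ⊗ₜ[A] π (Pi.single j 1)))) = lamB ((1 : B) ⊗ₜ[A] π (Pi.single j 1)) :=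
        congrArg lamB (LinearMap.congr_fun hs _)
      rw [Fintype.linearCombination_apply, map_sum, LinearMap.liftBaseChange_tmul, one_smul, hlam] at h1
      have h2 : ∀ i, symLin π (Pi.single i 1) = Ideal.Quotient.mk (symIdeal π) (X i) := fun i =>
        congrArg (Ideal.Quotient.mk (symIdeal π)) (linForm_single i)
      rw [h2] at h1
      rw [← h1]
      refine Finset.sum_congr rfl fun i _ => ?_
      rw [map_mul, MvPolynomial.aeval_C, aeval_X, map_smul, LinearMap.liftBaseChange_tmul, one_smul, hlam, h2,
        Algebra.smul_def]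
  refine Algebra.FormallySmooth.of_split (R := B) (A := Ca) (P := T) back ((Ideal.Quotient.mkₐ B _).comp σ)
    (AlgHom.ext fun z => AlgHom.congr_fun hback z)

/-- A finitely presented algebra has a retract of finite type with free differentials over the smooth locus. -/
theorem exists_retract_free_kaehler_smooth {R A : Type u} [CommRing R] [CommRing A] [Algebra R A]
    [Algebra.FinitePresentation R A] :
    ∃ (C : Type u) (_ : CommRing C) (_ : Algebra A C) (_ : Algebra R C) (_ : IsScalarTower R A C),
      Algebra.FiniteType A C ∧ Nonempty (C →ₐ[A] A) ∧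
      ∀ a : A, Algebra.Smooth R (Localization.Away a) →
        Algebra.FormallySmooth R (Localization.Away (algebraMap A C a)) ∧
        Module.Free (Localization.Away (algebraMap A C a)) Ω[Localization.Away (algebraMap A C a)⁄R] := by
  classical
  obtain ⟨n, φ, hφ, hI⟩ := (inferInstance : Algebra.FinitePresentation R A).out
  let G : Algebra.Generators R A (Fin n) := Algebra.Generators.ofSurjective (fun i => φ (X i)) (by
    rw [show (aeval fun i => φ (X i)) = φ from (MvPolynomial.aeval_unique φ).symm]; exact hφ)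
  let E := G.toExtension
  have hfin : Module.Finite A E.Cotangent := by
    have hk : E.ker.FG := by
      have : E.ker = RingHom.ker φ.toRingHom := by
        show RingHom.ker (aeval fun i => φ (X i)).toRingHom = _
        rw [show (aeval fun i => φ (X i)) = φ from (MvPolynomial.aeval_unique φ).symm]
      rw [this]; exact hI
    exact Algebra.Extension.Cotangent.finite hk
  have hgen : ∃ (m : ℕ) (π : (Fin m → A) →ₗ[A] E.Cotangent), Function.Surjective π := Module.Finite.exists_fin' A E.Cotangent
  obtain ⟨m, π, hπ⟩ := hgen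
  let C := SymQuot π
  have hρ : symIdeal π ≤ RingHom.ker (aeval fun _ => (0 : A) : MvPolynomial (Fin m) A →ₐ[A] A) := by
    refine Ideal.span_le.2 ?_
    rintro _ ⟨c, -, rfl⟩
    show aeval (fun _ => (0 : A)) (linForm c) = 0
    rw [linForm_apply, map_sum]
    exact Finset.sum_eq_zero fun i _ => by rw [map_mul, aeval_X, mul_zero]
  let ρ : C →ₐ[A] A := Ideal.Quotient.liftₐ (symIdeal π) (aeval fun _ => (0 : A)) hρ
  refine ⟨C, inferInstance, inferInstance, inferInstance, inferInstance, inferInstance, ⟨ρ⟩, fun a hsm => ?_⟩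
  let B := Localization.Away a
  let Ca := Localization.Away (algebraMap A C a)
  letI : Algebra B Ca := (IsLocalization.Away.lift (S := B) a (g := algebraMap A Ca) (by
    rw [IsScalarTower.algebraMap_apply A C Ca]
    exact IsLocalization.Away.algebraMap_isUnit _)).toAlgebra
  have : IsScalarTower A B Ca := IsScalarTower.of_algebraMap_eq fun x => (IsLocalization.Away.lift_eq _ _ x).symm
  have : IsScalarTower R B Ca := IsScalarTower.of_algebraMap_eq fun x => by
    rw [IsScalarTower.algebraMap_apply R A B, ← IsScalarTower.algebraMap_apply A B Ca, ← IsScalarTower.algebraMap_apply]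
  -- the sequence over `B`
  have hflat : Module.Flat A B := IsLocalization.flat B (Submonoid.powers a)
  have : Algebra.FormallySmooth R E.Ring := inferInstanceAs (Algebra.FormallySmooth R G.Ring)
  let l := E.cotangentComplex
  have hinj : Function.Injective (l.baseChange B) := by
    refine (injective_iff_map_eq_zero _).2 fun x hx => ?_
    have hex := Module.Flat.lTensor_exact B (LinearMap.exact_subtype_ker_map l)
    obtain ⟨y, rfl⟩ := (hex x).1 hx
    let eH : B ⊗[A] (LinearMap.ker l) ≃ₗ[B] Algebra.H1Cotangent R B :=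
      (Algebra.Extension.equivH1CotangentOfFormallySmooth E).baseChange A B ≪≫ₗ
        Algebra.tensorH1CotangentOfIsLocalization R B (Submonoid.powers a)
    have : Subsingleton (B ⊗[A] (LinearMap.ker l)) := eH.toEquiv.subsingleton
    rw [Subsingleton.elim y 0, map_zero]
  have : Algebra.FormallyEtale A B := Algebra.FormallyEtale.of_isLocalization (Submonoid.powers a)
  have : Module.Projective B (B ⊗[A] Ω[A⁄R]) :=
    Module.Projective.of_equiv (KaehlerDifferential.tensorKaehlerEquivOfFormallyEtale R A B).symm
  have hex : Function.Exact (l.baseChange B) (E.toKaehler.baseChange B) :=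
    lTensor_exact B E.exact_cotangentComplex_toKaehler E.toKaehler_surjective
  have hsurj : Function.Surjective (E.toKaehler.baseChange B) :=
    LinearMap.lTensor_surjective B E.toKaehler_surjective
  obtain ⟨r, hr⟩ := ((hex.split_tfae'.out 0 1 rfl rfl).mp ⟨hinj, Module.projective_lifting_property _ _ hsurj⟩).2
  let eB : B ⊗[A] E.CotangentSpace ≃ₗ[B] (B ⊗[A] E.Cotangent) × (B ⊗[A] Ω[A⁄R]) :=
    equivProdOfExact _ _ r hex hr hsurj
  have : Module.Free A E.CotangentSpace := Module.Free.of_basis G.cotangentSpaceBasis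
  have : Module.Projective B (B ⊗[A] E.Cotangent) :=
    Module.Projective.of_split (eB.symm.toLinearMap.comp (LinearMap.inl B _ _)) ((LinearMap.fst B _ _).comp eB.toLinearMap)
      (LinearMap.ext fun x => by simp)
  have hfs : Algebra.FormallySmooth B Ca := formallySmooth_symQuot_away π hπ a
  -- differentials relative to `B`
  obtain ⟨eC⟩ := exists_kaehler_symQuot π hπ
  have : Algebra.FormallyEtale C Ca := Algebra.FormallyEtale.of_isLocalization (Submonoid.powers (algebraMap A C a))
  have : Subsingleton Ω[B⁄A] := inferInstance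
  have hmapsurj : Function.Surjective (KaehlerDifferential.map A B Ca Ca) :=
    KaehlerDifferential.map_surjective A B Ca
  have hmapinj : Function.Injective (KaehlerDifferential.map A B Ca Ca) := by
    refine (injective_iff_map_eq_zero _).2 fun x hx => ?_
    obtain ⟨y, rfl⟩ := ((KaehlerDifferential.exact_mapBaseChange_map A B Ca) x).1 hx
    have : Subsingleton (Ca ⊗[B] Ω[B⁄A]) := inferInstance
    rw [Subsingleton.elim y 0, map_zero]
  let eRel : Ω[Ca⁄B] ≃ₗ[Ca] Ca ⊗[B] (B ⊗[A] E.Cotangent) :=
    (LinearEquiv.ofBijective _ ⟨hmapinj, hmapsurj⟩).symm ≪≫ₗ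
      (KaehlerDifferential.tensorKaehlerEquivOfFormallyEtale A C Ca).symm ≪≫ₗ
      TensorProduct.AlgebraTensorModule.congr (LinearEquiv.refl Ca Ca) eC ≪≫ₗ
      TensorProduct.AlgebraTensorModule.cancelBaseChange A C Ca Ca E.Cotangent ≪≫ₗ
      (TensorProduct.AlgebraTensorModule.cancelBaseChange A B Ca Ca E.Cotangent).symm
  -- the sequence over `R`
  have hbc : Function.Injective (KaehlerDifferential.mapBaseChange R B Ca) := by
    refine (injective_iff_map_eq_zero _).2 fun x hx => ?_
    obtain ⟨y, rfl⟩ := ((Algebra.H1Cotangent.exact_δ_mapBaseChange R B Ca) x).1 hx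
    rw [Subsingleton.elim y 0, map_zero]
  have hex2 := KaehlerDifferential.exact_mapBaseChange_map R B Ca
  have hsurj2 : Function.Surjective (KaehlerDifferential.map R B Ca Ca) := KaehlerDifferential.map_surjective R B Ca
  obtain ⟨r2, hr2⟩ := ((hex2.split_tfae'.out 0 1 rfl rfl).mp ⟨hbc, Module.projective_lifting_property _ _ hsurj2⟩).2
  let eA : Ca ⊗[B] Ω[B⁄R] ≃ₗ[Ca] Ca ⊗[B] (B ⊗[A] Ω[A⁄R]) :=
    TensorProduct.AlgebraTensorModule.congr (LinearEquiv.refl Ca Ca)
      (KaehlerDifferential.tensorKaehlerEquivOfFormallyEtale R A B).symm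
  let eAll : Ω[Ca⁄R] ≃ₗ[Ca] Ca ⊗[B] (B ⊗[A] E.CotangentSpace) :=
    equivProdOfExact _ _ r2 hex2 hr2 hsurj2 ≪≫ₗ (eA.prodCongr eRel) ≪≫ₗ LinearEquiv.prodComm Ca _ _ ≪≫ₗ
      (TensorProduct.prodRight B Ca Ca (B ⊗[A] E.Cotangent) (B ⊗[A] Ω[A⁄R])).symm ≪≫ₗ
      TensorProduct.AlgebraTensorModule.congr (LinearEquiv.refl Ca Ca) eB.symm
  exact ⟨Algebra.FormallySmooth.comp R B Ca, Module.Free.of_equiv eAll.symm⟩

/-- A finitely presented algebra has a retract of finite type with free differentials over the smooth locus. -/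
theorem exists_retract_free_kaehler {R A : Type u} [CommRing R] [CommRing A] [Algebra R A]
    [Algebra.FinitePresentation R A] :
    ∃ (C : Type u) (_ : CommRing C) (_ : Algebra A C) (_ : Algebra R C) (_ : IsScalarTower R A C),
      Algebra.FiniteType A C ∧ Nonempty (C →ₐ[A] A) ∧
      ∀ a : A, Algebra.Smooth R (Localization.Away a) →
        Module.Free (Localization.Away (algebraMap A C a)) Ω[Localization.Away (algebraMap A C a)⁄R] := by
  obtain ⟨C, i1, i2, i3, i4, h1, h2, h3⟩ := exists_retract_free_kaehler_smooth (R := R) (A := A)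
  exact ⟨C, i1, i2, i3, i4, h1, h2, fun a ha => (h3 a ha).2⟩

end TransLib
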