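import Mathlib
import Groth.Prelude.Def_Smoothing
import Groth.Agent.TransLib.FreeKaehler

/-!
# Standard elements: base change and smoothness
-/

set_option autoImplicit false

universe u

open TensorProduct MvPolynomial

namespace TransLib

theorem map_id_surjective {R A : Type u} [CommRing R] [CommRing A] [Algebra R A] (R' : Type u) [CommRing R']
    [Algebra R R'] {S : Type u} [CommRing S] [Algebra R S] (f : S →ₐ[R] A) (hf : Function.Surjective f) :
    Function.Surjective (Algebra.TensorProduct.map (AlgHom.id R' R') f) := fun x => by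
  induction x with
  | zero => exact ⟨0, map_zero _⟩
  | tmul r a => obtain ⟨s, rfl⟩ := hf a; exact ⟨r ⊗ₜ s, Algebra.TensorProduct.map_tmul _ _ _ _⟩
  | add x y hx hy =>
    obtain ⟨u, rfl⟩ := hx
    obtain ⟨v, rfl⟩ := hy
    exact ⟨u + v, map_add _ _ _⟩

/-- In the conormal module an element pushing relations into the chosen ones pushes everything there. -/
theorem smul_mem_span_mk_of_kills {R A : Type u} [CommRing R] [CommRing A] [Algebra R A] (E : Algebra.Extension.{u} R A)
    {ι : Type*} (rel : ι → E.ker) (hspan : E.ker ≤ Ideal.span (Set.range fun j => (rel j : E.Ring))) (lead : Set ι)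
    (a' : E.Ring) (hkill : ∀ j, a' * (rel j : E.Ring) ∈ Ideal.span ((fun j => (rel j : E.Ring)) '' lead) ⊔ E.ker ^ 2)
    (z : E.Cotangent) :
    algebraMap E.Ring A a' • z ∈
      Submodule.span A ((fun j => Algebra.Extension.Cotangent.mk (rel j)) '' lead) := by
  obtain ⟨⟨x, hx⟩, rfl⟩ := Algebra.Extension.Cotangent.mk_surjective z
  let W := Submodule.span A ((fun j => Algebra.Extension.Cotangent.mk (rel j)) '' lead)
  let N : Submodule E.Ring E.ker := (W.restrictScalars E.Ring).comap Algebra.Extension.Cotangent.mk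
  let T : Ideal E.Ring := N.map E.ker.subtype
  have hT : Ideal.span ((fun j => (rel j : E.Ring)) '' lead) ⊔ E.ker ^ 2 ≤ T := by
    refine sup_le (Ideal.span_le.2 ?_) fun y hy => ?_
    · rintro _ ⟨j, hj, rfl⟩
      exact ⟨rel j, Submodule.subset_span ⟨j, hj, rfl⟩, rfl⟩
    · refine ⟨⟨y, Ideal.pow_le_self two_ne_zero hy⟩, ?_, rfl⟩
      show Algebra.Extension.Cotangent.mk _ ∈ W
      rw [(Algebra.Extension.Cotangent.mk_eq_zero_iff _).2 hy]
      exact zero_mem W
  have hax : a' * x ∈ T := hT (by
    have hx' := hspan hx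
    clear * - hkill hx'
    induction hx' using Submodule.span_induction with
    | mem y hy => obtain ⟨j, rfl⟩ := hy; exact hkill j
    | zero => rw [mul_zero]; exact zero_mem _
    | add y z _ _ hy hz => rw [mul_add]; exact add_mem hy hz
    | smul c y _ hy => rw [smul_eq_mul, mul_left_comm]; exact Ideal.mul_mem_left _ c hy)
  obtain ⟨y, hy, hyx⟩ := hax
  have hy' : y = a' • (⟨x, hx⟩ : E.ker) := Subtype.ext hyx
  subst hy'
  rw [algebraMap_smul, ← map_smul]
  exact hy

/-- The base change of a marked presentation. -/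
noncomputable def markedBaseChange {R A : Type u} [CommRing R] [CommRing A] [Algebra R A] (R' : Type u) [CommRing R']
    [Algebra R R'] (P : Smoothing.MarkedPresentation R A) : Smoothing.MarkedPresentation R' (R' ⊗[R] A) where
  n := P.n
  m := P.m
  c := P.c
  hcn := P.hcn
  hcm := P.hcm
  rel j := MvPolynomial.map (algebraMap R R') (P.rel j)
  hom := (Algebra.TensorProduct.map (AlgHom.id R' R') P.hom).comp
    (MvPolynomial.algebraTensorAlgEquiv R R').symm.toAlgHom
  surj := (map_id_surjective R' P.hom P.surj).comp (MvPolynomial.algebraTensorAlgEquiv R R').symm.surjective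
  ker_eq := by
    have h : RingHom.ker (Algebra.TensorProduct.map (AlgHom.id R' R') P.hom).toRingHom =
        (RingHom.ker P.hom.toRingHom).map
          (Algebra.TensorProduct.includeRight : MvPolynomial (Fin P.n) R →ₐ[R] R' ⊗[R] MvPolynomial (Fin P.n) R) :=
      Algebra.TensorProduct.lTensor_ker (A := R') P.hom P.surj
    rw [P.ker_eq, Ideal.map_span] at h
    ext x
    have h2 := SetLike.ext_iff.mp h ((MvPolynomial.algebraTensorAlgEquiv R R').symm x)
    refine h2.trans ?_
    let e : R' ⊗[R] MvPolynomial (Fin P.n) R ≃+* MvPolynomial (Fin P.n) R' :=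
      (MvPolynomial.algebraTensorAlgEquiv R R').toRingEquiv
    have key : ∀ I : Ideal (R' ⊗[R] MvPolynomial (Fin P.n) R), e.symm x ∈ I ↔ x ∈ I.map e.toRingHom := fun I =>
      ⟨fun hm => by simpa using Ideal.mem_map_of_mem e.toRingHom hm, fun hm => by
        obtain ⟨y, hy, rfl⟩ := (Ideal.mem_map_iff_of_surjective e.toRingHom e.surjective).1 hm
        simpa using hy⟩
    refine (key _).trans ?_
    rw [Ideal.map_span, ← Set.range_comp, ← Set.range_comp]
    have hfun : (⇑e ∘ (⇑(Algebra.TensorProduct.includeRight :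
        MvPolynomial (Fin P.n) R →ₐ[R] R' ⊗[R] MvPolynomial (Fin P.n) R) ∘ P.rel)) =
        fun j => MvPolynomial.map (algebraMap R R') (P.rel j) := funext fun j => by
      show MvPolynomial.algebraTensorAlgEquiv R R' ((1 : R') ⊗ₜ[R] P.rel j) = _
      rw [MvPolynomial.algebraTensorAlgEquiv_tmul, one_smul]
    exact Iff.of_eq (congrArg (fun f => x ∈ Ideal.span (Set.range f)) hfun)

theorem markedBaseChange_hom_map {R A : Type u} [CommRing R] [CommRing A] [Algebra R A] (R' : Type u) [CommRing R']
    [Algebra R R'] (P : Smoothing.MarkedPresentation R A) (p : MvPolynomial (Fin P.n) R) :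
    (markedBaseChange R' P).hom (MvPolynomial.map (algebraMap R R') p) = (1 : R') ⊗ₜ[R] P.hom p := by
  show Algebra.TensorProduct.map (AlgHom.id R' R') P.hom
    ((MvPolynomial.algebraTensorAlgEquiv R R').symm (MvPolynomial.map (algebraMap R R') p)) = _
  rw [MvPolynomial.algebraTensorAlgEquiv_symm_map]
  rfl

theorem jacobianMinor_map {R R' : Type u} [CommRing R] [CommRing R'] (g : R →+* R') {n m c : ℕ}
    (f : Fin m → MvPolynomial (Fin n) R) (rows : Fin c → Fin m) (cols : Fin c → Fin n) :
    Smoothing.jacobianMinor (fun j => MvPolynomial.map g (f j)) rows cols =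
      MvPolynomial.map g (Smoothing.jacobianMinor f rows cols) := by
  rw [Smoothing.jacobianMinor, Smoothing.jacobianMinor, RingHom.map_det]
  congr 1
  ext j k
  simp [MvPolynomial.pderiv_map]

theorem killsTail_baseChange {R A : Type u} [CommRing R] [CommRing A] [Algebra R A] (R' : Type u) [CommRing R']
    [Algebra R R'] (P : Smoothing.MarkedPresentation R A) {a : A} (ha : Smoothing.KillsTail P a) :
    Smoothing.KillsTail (markedBaseChange R' P) ((1 : R') ⊗ₜ[R] a) := by
  intro (a' : MvPolynomial (Fin P.n) R') ha' (j : Fin P.m) (hj : P.c ≤ (j : ℕ))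
  obtain ⟨a₀, ha₀⟩ := P.surj a
  let φ : MvPolynomial (Fin P.n) R →+* MvPolynomial (Fin P.n) R' := MvPolynomial.map (algebraMap R R')
  have hk : a' - φ a₀ ∈ Ideal.span (Set.range fun i => φ (P.rel i)) := by
    let H : MvPolynomial (Fin P.n) R' →ₐ[R'] R' ⊗[R] A := (markedBaseChange R' P).hom
    have h : a' - φ a₀ ∈ RingHom.ker (markedBaseChange R' P).hom.toRingHom := by
      show H (a' - φ a₀) = 0
      rw [map_sub, show H a' = _ from ha', show H (φ a₀) = _ from markedBaseChange_hom_map R' P a₀, ha₀, sub_self]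
    rw [(markedBaseChange R' P).ker_eq] at h
    exact h
  have hmain : φ (a₀ * P.rel j) ∈
      Ideal.span ((fun i => φ (P.rel i)) '' {j' | (j' : ℕ) < P.c}) ⊔
        Ideal.span (Set.range fun i => φ (P.rel i)) ^ 2 := by
    have h := Ideal.mem_map_of_mem φ (ha a₀ ha₀ j hj)
    rw [Ideal.map_sup, Ideal.map_pow, Ideal.map_span, Ideal.map_span, Set.image_image, ← Set.range_comp] at h
    exact h
  have hsq : (a' - φ a₀) * φ (P.rel j) ∈ Ideal.span (Set.range fun i => φ (P.rel i)) ^ 2 := by
    rw [sq]; exact Ideal.mul_mem_mul hk (Ideal.subset_span ⟨j, rfl⟩)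
  have heq : a' * φ (P.rel j) = φ (a₀ * P.rel j) + (a' - φ a₀) * φ (P.rel j) := by rw [map_mul]; ring
  show a' * φ (P.rel j) ∈ _
  rw [heq]
  exact Submodule.add_mem _ hmain (Ideal.mem_sup_right hsq)

theorem isStandard_baseChange {R A R' : Type u} [CommRing R] [CommRing A] [Algebra R A] [CommRing R']
    [Algebra R R'] (a : A) :
    (Smoothing.IsElementaryStandard R A a → Smoothing.IsElementaryStandard R' (R' ⊗[R] A) ((1 : R') ⊗ₜ[R] a)) ∧
    (Smoothing.IsStrictlyStandard R A a → Smoothing.IsStrictlyStandard R' (R' ⊗[R] A) ((1 : R') ⊗ₜ[R] a)) := by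
  refine ⟨fun ⟨P, ⟨a', ha'⟩, hk⟩ => ⟨markedBaseChange R' P, ⟨(1 : R') ⊗ₜ[R] a', ?_⟩, killsTail_baseChange R' P hk⟩,
    fun ⟨P, ha, hk⟩ => ⟨markedBaseChange R' P, ?_, killsTail_baseChange R' P hk⟩⟩
  · have h : (markedBaseChange R' P).hom
        (Smoothing.jacobianMinor (markedBaseChange R' P).rel (Fin.castLE P.hcm) (Fin.castLE P.hcn)) =
        (1 : R') ⊗ₜ[R] P.hom (Smoothing.jacobianMinor P.rel (Fin.castLE P.hcm) (Fin.castLE P.hcn)) :=
      (congrArg _ (jacobianMinor_map _ P.rel _ _)).trans (markedBaseChange_hom_map R' P _)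
    refine Eq.trans ?_ (congrArg (fun t => ((1 : R') ⊗ₜ[R] a') * t) h).symm
    rw [Algebra.TensorProduct.tmul_mul_tmul, one_mul, ← ha']
  · let inc : A →+* R' ⊗[R] A := (Algebra.TensorProduct.includeRight : A →ₐ[R] R' ⊗[R] A).toRingHom
    have h := Ideal.mem_map_of_mem inc ha
    rw [Ideal.map_span, ← Set.range_comp] at h
    refine Ideal.span_mono ?_ h
    rintro _ ⟨cols, rfl⟩
    refine ⟨cols, ?_⟩
    exact (congrArg _ (jacobianMinor_map _ P.rel (Fin.castLE P.hcm) cols)).trans (markedBaseChange_hom_map R' P _)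

/-- If an element is in the ideal of maximal minors, it is a multiple of the identity factored through the matrix. -/
theorem exists_mul_eq_of_mem_span_minors {A : Type*} [CommRing A] {c n : ℕ} (J : Matrix (Fin c) (Fin n) A) {a : A}
    (ha : a ∈ Ideal.span (Set.range fun cols : Fin c → Fin n => (J.submatrix id cols).det)) :
    ∃ L : Matrix (Fin n) (Fin c) A, J * L = a • (1 : Matrix (Fin c) (Fin c) A) := by
  classical
  induction ha using Submodule.span_induction with
  | mem x hx =>
    obtain ⟨cols, rfl⟩ := hx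
    let S : Matrix (Fin n) (Fin c) A := Matrix.of fun i k => if i = cols k then 1 else 0
    refine ⟨S * (J.submatrix id cols).adjugate, ?_⟩
    have hS : J * S = J.submatrix id cols := by
      ext i k
      simp [S, Matrix.mul_apply]
    rw [← Matrix.mul_assoc, hS, Matrix.mul_adjugate]
  | zero => exact ⟨0, by simp⟩
  | add x y _ _ hx hy =>
    obtain ⟨L, hL⟩ := hx
    obtain ⟨M, hM⟩ := hy
    exact ⟨L + M, by rw [Matrix.mul_add, hL, hM, add_smul]⟩
  | smul r x _ hx =>
    obtain ⟨L, hL⟩ := hx
    exact ⟨r • L, by rw [Matrix.mul_smul, hL, smul_smul, smul_eq_mul]⟩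

/-- Strictly standard elements give smooth localizations with stably free differentials. -/
theorem smooth_stablyFree_of_isStrictlyStandard {R A : Type u} [CommRing R] [CommRing A] [Algebra R A] (a : A)
    (ha : Smoothing.IsStrictlyStandard R A a) :
    Algebra.Smooth R (Localization.Away a) ∧
      ∃ p q : ℕ, Nonempty ((Ω[Localization.Away a⁄R] × (Fin p → Localization.Away a)) ≃ₗ[Localization.Away a]
        (Fin q → Localization.Away a)) := by
  classical
  obtain ⟨P, hmin, hkill⟩ := ha
  let B := Localization.Away a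
  have hfp : Algebra.FinitePresentation R A :=
    Algebra.FinitePresentation.of_surjective P.surj ⟨Finset.univ.image P.rel, by simpa using P.ker_eq.symm⟩
  have hφ : (aeval fun i => P.hom (X i)) = P.hom := (MvPolynomial.aeval_unique P.hom).symm
  let G : Algebra.Generators R A (Fin P.n) :=
    Algebra.Generators.ofSurjective (fun i => P.hom (X i)) (by rw [hφ]; exact P.surj)
  let E := G.toExtension
  have hker : ∀ x : MvPolynomial (Fin P.n) R, (x : E.Ring) ∈ E.ker ↔ x ∈ Ideal.span (Set.range P.rel) := fun x => by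
    rw [← P.ker_eq]
    show aeval (fun i => P.hom (X i)) x = 0 ↔ P.hom x = 0
    rw [hφ]
  let relK : Fin P.m → E.ker := fun j => ⟨P.rel j, (hker _).2 (Ideal.subset_span ⟨j, rfl⟩)⟩
  let cls : Fin P.c → E.Cotangent := fun j => Algebra.Extension.Cotangent.mk (relK (Fin.castLE P.hcm j))
  let g : (Fin P.c → A) →ₗ[A] E.Cotangent := Fintype.linearCombination A cls
  let J : Matrix (Fin P.c) (Fin P.n) A :=
    Matrix.of fun j i => P.hom (pderiv i (P.rel (Fin.castLE P.hcm j)))
  obtain ⟨L, hL⟩ : ∃ L : Matrix (Fin P.n) (Fin P.c) A, J * L = a • (1 : Matrix (Fin P.c) (Fin P.c) A) := by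
    refine exists_mul_eq_of_mem_span_minors J (Ideal.span_mono ?_ hmin)
    rintro _ ⟨cols, rfl⟩
    refine ⟨cols, ?_⟩
    show (J.submatrix id cols).det = P.hom (Smoothing.jacobianMinor P.rel _ cols)
    rw [Smoothing.jacobianMinor, AlgHom.map_det]
    congr 1
  let r : E.CotangentSpace →ₗ[A] (Fin P.c → A) := (Matrix.vecMulLinear L).comp
    ((Finsupp.linearEquivFunOnFinite A A (Fin P.n)).toLinearMap.comp G.cotangentSpaceBasis.repr.toLinearMap)
  have hrlg : ∀ v, r (E.cotangentComplex (g v)) = a • v := by
    have h1 : ∀ j, (fun i => G.cotangentSpaceBasis.repr (E.cotangentComplex (cls j)) i) = J j := fun j => funext fun i => by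
      show G.cotangentSpaceBasis.repr (E.cotangentComplex (Algebra.Extension.Cotangent.mk _)) i = _
      rw [Algebra.Extension.cotangentComplex_mk]
      refine (G.cotangentSpaceBasis_repr_one_tmul _ _).trans ?_
      show aeval (fun i => P.hom (X i)) (pderiv i (P.rel (Fin.castLE P.hcm j))) = _
      rw [hφ]
      rfl
    have h2 : ∀ j, r (E.cotangentComplex (cls j)) = a • (Pi.single j 1 : Fin P.c → A) := fun j => by
      show Matrix.vecMul (fun i => G.cotangentSpaceBasis.repr (E.cotangentComplex (cls j)) i) L = _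
      rw [h1]
      funext k
      have := congrFun (congrFun hL j) k
      rw [Matrix.smul_apply, Matrix.one_apply] at this
      rw [Pi.smul_apply, Pi.single_apply]
      refine Eq.trans ?_ (this.trans (by simp only [eq_comm]))
      rfl
    intro v
    show r (E.cotangentComplex (Fintype.linearCombination A cls v)) = a • v
    rw [Fintype.linearCombination_apply, map_sum, map_sum]
    simp only [map_smul, h2]
    conv_rhs => rw [pi_eq_sum_univ' v, Finset.smul_sum]
    exact Finset.sum_congr rfl fun j _ => smul_comm _ _ _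
  have hsurj : ∀ z : E.Cotangent, ∃ v, g v = a • z := fun z => by
    obtain ⟨a', ha'⟩ := P.surj a
    let aE : E.Ring := a'
    have haE : algebraMap E.Ring A aE = a := by
      show aeval (fun i => P.hom (X i)) a' = a
      rw [hφ, ha']
    have hle : Ideal.span (Set.range P.rel) ≤ E.ker := fun z hz => (hker z).2 hz
    have h := smul_mem_span_mk_of_kills E relK (fun x hx => (hker x).1 hx) {j | (j : ℕ) < P.c} aE (fun j => by
      rcases lt_or_ge (j : ℕ) P.c with hj | hj
      · exact Ideal.mem_sup_left (Ideal.mul_mem_left _ aE (Ideal.subset_span ⟨j, hj, rfl⟩))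
      · exact sup_le_sup_left (Ideal.pow_right_mono hle 2) _ (hkill a' ha' j hj)) z
    rw [haE] at h
    refine (?_ : _ ≤ LinearMap.range g) h
    refine Submodule.span_le.2 ?_
    rintro _ ⟨j, hj, rfl⟩
    refine ⟨Pi.single ⟨j, hj⟩ 1, ?_⟩
    show Fintype.linearCombination A cls (Pi.single ⟨j, hj⟩ 1) = _
    rw [Fintype.linearCombination_apply_single, one_smul]
    rfl
  let l := E.cotangentComplex
  let k : E.Cotangent →ₗ[A] (Fin P.c → A) := r.comp l
  have hkg : k.comp g = a • LinearMap.id := LinearMap.ext fun v => hrlg v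
  have hgk : a • g.comp k = (a * a) • LinearMap.id := LinearMap.ext fun z => by
    obtain ⟨v, hv⟩ := hsurj z
    show a • g (r (l z)) = (a * a) • z
    rw [← map_smul, ← map_smul, ← map_smul, ← hv]
    show g (r (E.cotangentComplex (g v))) = _
    rw [hrlg, map_smul, hv, smul_smul]
  -- over the localization
  obtain ⟨w, hw⟩ := IsLocalization.Away.algebraMap_isUnit (S := B) a
  have hwa : ∀ {M : Type u} [AddCommGroup M] [Module A M] (x : B ⊗[A] M), (↑w⁻¹ : B) • a • x = x := fun x => by
    rw [← algebraMap_smul B a x, ← hw, smul_smul, Units.inv_mul, one_smul]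
  have h1 : ∀ x, k.baseChange B (g.baseChange B x) = a • x := fun x => by
    have := congrArg (fun f => f.baseChange B x) hkg
    simpa [LinearMap.baseChange_comp, LinearMap.baseChange_smul, LinearMap.baseChange_id] using this
  have h2 : ∀ x, g.baseChange B (k.baseChange B x) = a • x := fun x => by
    have := congrArg (fun f => f.baseChange B x) hgk
    simp only [LinearMap.baseChange_comp, LinearMap.baseChange_smul, LinearMap.baseChange_id, LinearMap.smul_apply,
      LinearMap.comp_apply, LinearMap.id_apply, mul_smul] at this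
    have h := congrArg ((↑w⁻¹ : B) • ·) this
    simp only [hwa] at h
    exact h
  have hinj : Function.Injective (l.baseChange B) := by
    refine (injective_iff_map_eq_zero _).2 fun x hx => ?_
    have hk0 : k.baseChange B x = 0 := by
      show (r.comp l).baseChange B x = 0
      rw [LinearMap.baseChange_comp, LinearMap.comp_apply, hx, map_zero]
    have := h2 x
    rw [hk0, map_zero] at this
    rw [← hwa x, ← this, smul_zero]
  let eC : (B ⊗[A] E.Cotangent) ≃ₗ[B] (B ⊗[A] (Fin P.c → A)) :=
    LinearEquiv.ofBijective (k.baseChange B) ⟨by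
      refine (injective_iff_map_eq_zero _).2 fun x hx => ?_
      have := h2 x
      rw [hx, map_zero] at this
      rw [← hwa x, ← this, smul_zero],
      fun y => ⟨(↑w⁻¹ : B) • g.baseChange B y, by rw [map_smul, h1, hwa]⟩⟩
  let s : B ⊗[A] E.CotangentSpace →ₗ[B] B ⊗[A] E.Cotangent := (↑w⁻¹ : B) • (g.comp r).baseChange B
  have hs : s.comp (l.baseChange B) = LinearMap.id := LinearMap.ext fun x => by
    show (↑w⁻¹ : B) • (g.comp r).baseChange B (l.baseChange B x) = x
    have : (g.comp r).baseChange B (l.baseChange B x) = g.baseChange B (k.baseChange B x) := by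
      simp only [k, LinearMap.baseChange_comp, LinearMap.comp_apply]
    rw [this, h2, hwa]
  have : Module.Flat A B := IsLocalization.flat B (Submonoid.powers a)
  have : Algebra.FormallyEtale A B := Algebra.FormallyEtale.of_isLocalization (Submonoid.powers a)
  have hex : Function.Exact (l.baseChange B) (E.toKaehler.baseChange B) :=
    lTensor_exact B E.exact_cotangentComplex_toKaehler E.toKaehler_surjective
  have hsurjK : Function.Surjective (E.toKaehler.baseChange B) :=
    LinearMap.lTensor_surjective B E.toKaehler_surjective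
  let eB : B ⊗[A] E.CotangentSpace ≃ₗ[B] (B ⊗[A] E.Cotangent) × (B ⊗[A] Ω[A⁄R]) :=
    equivProdOfExact _ _ s hex hs hsurjK
  have : Module.Free A E.CotangentSpace := Module.Free.of_basis G.cotangentSpaceBasis
  have : Module.Projective B (B ⊗[A] Ω[A⁄R]) :=
    Module.Projective.of_split (eB.symm.toLinearMap.comp (LinearMap.inr B _ _)) ((LinearMap.snd B _ _).comp eB.toLinearMap)
      (LinearMap.ext fun x => by simp)
  have : Algebra.FormallySmooth R E.Ring := inferInstanceAs (Algebra.FormallySmooth R G.Ring)
  have hH : Subsingleton (B ⊗[A] (LinearMap.ker l)) := by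
    refine subsingleton_of_forall_eq 0 fun y => ?_
    have hi : Function.Injective ((LinearMap.ker l).subtype.baseChange B) :=
      Module.Flat.lTensor_preserves_injective_linearMap (M := B) _ (LinearMap.ker l).injective_subtype
    apply hi
    rw [map_zero]
    apply hinj
    rw [map_zero, ← LinearMap.comp_apply, ← LinearMap.baseChange_comp, LinearMap.comp_ker_subtype]
    simp
  let eH : B ⊗[A] (LinearMap.ker l) ≃ₗ[B] Algebra.H1Cotangent R B :=
    (Algebra.Extension.equivH1CotangentOfFormallySmooth E).baseChange A B ≪≫ₗ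
      Algebra.tensorH1CotangentOfIsLocalization R B (Submonoid.powers a)
  have hfs : Algebra.FormallySmooth R B :=
    { subsingleton_h1Cotangent := eH.symm.toEquiv.subsingleton
      projective_kaehlerDifferential :=
        Module.Projective.of_equiv (KaehlerDifferential.tensorKaehlerEquivOfFormallyEtale R A B) }
  refine ⟨⟨hfs, ?_⟩, P.c, P.n, ⟨?_⟩⟩
  · have : Algebra.FinitePresentation A B := IsLocalization.Away.finitePresentation a
    exact Algebra.FinitePresentation.trans R A B
  · exact ((KaehlerDifferential.tensorKaehlerEquivOfFormallyEtale R A B).symm.prodCongr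
        ((TensorProduct.piScalarRight A B B (Fin P.c)).symm ≪≫ₗ eC.symm)) ≪≫ₗ
      LinearEquiv.prodComm B _ _ ≪≫ₗ eB.symm ≪≫ₗ
      TensorProduct.AlgebraTensorModule.congr (LinearEquiv.refl B B) G.cotangentSpaceBasis.equivFun ≪≫ₗ
      TensorProduct.piScalarRight A B B (Fin P.n)

end TransLib
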