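import Groth.Agent.TransLib.DesingSmooth
import Groth.Agent.TransLib.StrictStd

/-!
# Desingularization of a strictly standard element
-/

set_option autoImplicit false

universe u

open MvPolynomial

namespace TransLib

namespace DesingData

variable {R : Type u} [CommRing R] {π : R} (d : DesingData R π)

theorem aeval_x {S : Type u} [CommRing S] [Algebra R S] (f : d.Poly →ₐ[R] S) (l : Fin d.m) :
    f (d.F l) = aeval (fun i => f (d.x i)) (d.rel l) :=
  AlgHom.congr_fun (show f.comp (aeval d.x) = aeval fun i => f (d.x i) from MvPolynomial.algHom_ext fun i => by simp)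
    (d.rel l)

theorem x_eq {S : Type u} [CommRing S] [Algebra R S] (f : d.Poly →ₐ[R] S) (i : Fin d.n) :
    f (d.x i) = algebraMap R S (d.r i) + algebraMap R S π ^ 4 * f (X (Sum.inl i)) +
      algebraMap R S π ^ 3 * ∑ k, algebraMap R S (d.L i k) * f (X (Sum.inr k)) := by
  have hC : ∀ a : R, f (MvPolynomial.C a) = algebraMap R S a := fun a => by
    rw [← MvPolynomial.algebraMap_eq, f.commutes]
  simp only [x, v, map_add, map_mul, map_sum, map_pow, hC]
  ring

/-- The desingularization is smooth where `π` is invertible. -/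
theorem isSmoothAt_of_notMem {A : Type u} [CommRing A] [Algebra R A] (φA : MvPolynomial (Fin d.n) R →ₐ[R] A)
    (hφA : Function.Surjective φA) (hker : RingHom.ker φA.toRingHom = Ideal.span (Set.range d.rel))
    [Algebra.Smooth R (Localization.Away (algebraMap R A π))] (Q : Ideal d.Alg) [Q.IsPrime]
    (hπ : algebraMap R d.Alg π ∉ Q) : Algebra.IsSmoothAt R Q := by
  classical
  let Aπ := Localization.Away (algebraMap R A π)
  let T := MvPolynomial (Fin d.c) Aπ
  have : Algebra.Smooth Aπ T := ⟨inferInstance, inferInstance⟩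
  have : Algebra.Smooth R T := Algebra.Smooth.comp R Aπ T
  have : Algebra.FinitePresentation R d.Alg :=
    Algebra.FinitePresentation.quotient (Submodule.fg_span (Set.finite_range d.eqs))
  have hπT : IsUnit (algebraMap R T π) := by
    rw [IsScalarTower.algebraMap_apply R Aπ T, IsScalarTower.algebraMap_apply R A Aπ]
    exact (IsLocalization.Away.algebraMap_isUnit _).map _
  obtain ⟨p, hp⟩ := hπT
  let xb : Fin d.n → T := fun i => algebraMap Aπ T (algebraMap A Aπ (φA (X i)))
  let val : d.Vars → T := Sum.elim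
    (fun i => ((p⁻¹ : Tˣ) : T) ^ 4 * (xb i - algebraMap R T (d.r i) -
      algebraMap R T π ^ 3 * ∑ k, algebraMap R T (d.L i k) * X k))
    fun k => X k
  let Φ : d.Poly →ₐ[R] T := aeval val
  have hΦx : ∀ i, Φ (d.x i) = xb i := fun i => by
    rw [x_eq, show Φ (X (Sum.inl i)) = val (Sum.inl i) from aeval_X _ _,
      Finset.sum_congr rfl fun k _ => show algebraMap R T (d.L i k) * Φ (X (Sum.inr k)) = algebraMap R T (d.L i k) * X k by
        rw [show Φ (X (Sum.inr k)) = val (Sum.inr k) from aeval_X _ _]; rfl]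
    show _ + algebraMap R T π ^ 4 * (((p⁻¹ : Tˣ) : T) ^ 4 * _) + _ = _
    rw [← mul_assoc, ← mul_pow, ← hp, Units.mul_inv, one_pow, one_mul]
    ring
  let toT : A →ₐ[R] T := (IsScalarTower.toAlgHom R Aπ T).comp (IsScalarTower.toAlgHom R A Aπ)
  have hxb : ∀ q : MvPolynomial (Fin d.n) R, aeval xb q = toT (φA q) := fun q =>
    AlgHom.congr_fun (show aeval xb = toT.comp φA from MvPolynomial.algHom_ext fun i => by
      rw [aeval_X, AlgHom.comp_apply]; rfl) q
  have hΦF : ∀ l, Φ (d.F l) = 0 := fun l => by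
    rw [aeval_x, show (fun i => Φ (d.x i)) = xb from funext hΦx, hxb,
      show φA (d.rel l) = 0 from (show d.rel l ∈ RingHom.ker φA.toRingHom from hker ▸ Ideal.subset_span ⟨l, rfl⟩), map_zero]
  have hΦh : ∀ j, Φ (d.h j) = 0 := fun j => by
    have h1 := hΦF (Fin.castLE d.hcm j)
    rw [F_lead, map_mul, show Φ (MvPolynomial.C (π ^ 4)) = algebraMap R T (π ^ 4) from aeval_C _ _, map_pow, ← hp,
      ← Units.val_pow_eq_pow_val, Units.mul_right_eq_zero] at h1
    exact h1
  let Bπ := Localization.Away (algebraMap R d.Alg π)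
  let ΦB : d.Alg →ₐ[R] T := Ideal.Quotient.liftₐ _ Φ
    (show Ideal.span (Set.range d.eqs) ≤ RingHom.ker Φ.toRingHom from Ideal.span_le.2 (by
      rintro _ ⟨j | l, rfl⟩
      · exact hΦh j
      · exact hΦF l))
  have hu : ∀ y : Submonoid.powers (algebraMap R d.Alg π), IsUnit (ΦB y) := by
    rintro ⟨_, k, rfl⟩
    show IsUnit (ΦB (algebraMap R d.Alg π ^ k))
    rw [map_pow, AlgHom.commutes]
    exact IsUnit.pow k ⟨p, hp⟩
  let Φπ : Bπ →ₐ[R] T := IsLocalization.liftAlgHom (M := Submonoid.powers (algebraMap R d.Alg π)) (f := ΦB) hu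
  let mkB : d.Poly →ₐ[R] Bπ := (IsScalarTower.toAlgHom R d.Alg Bπ).comp (Ideal.Quotient.mkₐ R _)
  have hmkF : ∀ l, mkB (d.F l) = 0 := fun l => by
    show algebraMap d.Alg Bπ (Ideal.Quotient.mk _ (d.F l)) = 0
    rw [(Ideal.Quotient.eq_zero_iff_mem (I := Ideal.span (Set.range d.eqs))).2
      (Ideal.subset_span (show d.F l ∈ Set.range d.eqs from ⟨Sum.inr l, rfl⟩)), map_zero]
  let αP : MvPolynomial (Fin d.n) R →ₐ[R] Bπ := aeval fun i => mkB (d.x i)
  have hαP : RingHom.ker φA.toRingHom ≤ RingHom.ker αP.toRingHom := by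
    rw [hker]
    refine Ideal.span_le.2 ?_
    rintro _ ⟨l, rfl⟩
    show αP (d.rel l) = 0
    rw [← aeval_x, hmkF]
  let α : A →ₐ[R] Bπ := (Ideal.Quotient.liftₐ _ αP hαP).comp (Ideal.quotientKerAlgEquivOfSurjective hφA).symm.toAlgHom
  have hα : ∀ q, α (φA q) = αP q := fun q => by
    show Ideal.Quotient.liftₐ _ _ hαP ((Ideal.quotientKerAlgEquivOfSurjective hφA).symm (φA q)) = _
    rw [show (Ideal.quotientKerAlgEquivOfSurjective hφA).symm (φA q) = Ideal.Quotient.mk _ q from
      (Ideal.quotientKerAlgEquivOfSurjective hφA).symm_apply_eq.2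
        (Ideal.quotientKerAlgEquivOfSurjective_mk hφA q).symm]
    rfl
  have hπBu : IsUnit (algebraMap R Bπ π) := by
    rw [IsScalarTower.algebraMap_apply R d.Alg Bπ]
    exact IsLocalization.Away.algebraMap_isUnit _
  have hαu : ∀ y : Submonoid.powers (algebraMap R A π), IsUnit (α y) := by
    rintro ⟨_, k, rfl⟩
    show IsUnit (α (algebraMap R A π ^ k))
    rw [map_pow, AlgHom.commutes]
    exact hπBu.pow k
  let απ : Aπ →ₐ[R] Bπ := IsLocalization.liftAlgHom (M := Submonoid.powers (algebraMap R A π)) (f := α) hαu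
  let Ψ : T →ₐ[R] Bπ := aevalTower απ fun k => mkB (X (Sum.inr k))
  have hαπ : ∀ a, απ (algebraMap A Aπ a) = α a := fun a => IsLocalization.lift_eq _ a
  have hΨz : ∀ k, Ψ (X k) = mkB (X (Sum.inr k)) := fun k => aevalTower_X _ _ k
  have hΨxb : ∀ i, Ψ (xb i) = mkB (d.x i) := fun i => by
    show Ψ (MvPolynomial.C (algebraMap A Aπ (φA (X i)))) = _
    rw [aevalTower_C, hαπ, hα, aeval_X]
  have hΨΦ : ∀ q, Ψ (Φ q) = mkB q := fun q =>
    AlgHom.congr_fun (show Ψ.comp Φ = mkB from MvPolynomial.algHom_ext fun v => by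
      rw [AlgHom.comp_apply, show Φ (X v) = val v from aeval_X _ _]
      rcases v with i | k
      · refine (hπBu.pow 4).mul_left_cancel ?_
        have h1 : algebraMap R T π ^ 4 * val (Sum.inl i) =
            xb i - algebraMap R T (d.r i) - algebraMap R T π ^ 3 * ∑ k, algebraMap R T (d.L i k) * X k := by
          show _ * (((p⁻¹ : Tˣ) : T) ^ 4 * _) = _
          rw [← mul_assoc, ← mul_pow, ← hp, Units.mul_inv, one_pow, one_mul]
        have h2 := congrArg Ψ h1
        rw [map_mul, map_pow, AlgHom.commutes, map_sub, map_sub, map_mul, map_pow, AlgHom.commutes, AlgHom.commutes,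
          map_sum, hΨxb, x_eq, Finset.sum_congr rfl fun k _ => show Ψ (algebraMap R T (d.L i k) * X k) =
            algebraMap R Bπ (d.L i k) * mkB (X (Sum.inr k)) by rw [map_mul, AlgHom.commutes, hΨz]] at h2
        rw [h2]; ring
      · exact hΨz k) q
  have hΦπ : ∀ b : d.Alg, Φπ (algebraMap d.Alg Bπ b) = ΦB b := fun b => IsLocalization.lift_eq _ b
  have h1 : Φπ.comp Ψ = AlgHom.id R T := by
    refine AlgHom.ext fun t => ?_
    induction t using MvPolynomial.induction_on with
    | C a =>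
      have hcomp : (Φπ.comp απ) = IsScalarTower.toAlgHom R Aπ T := by
        refine AlgHom.coe_ringHom_injective (IsLocalization.ringHom_ext (Submonoid.powers (algebraMap R A π)) ?_)
        refine RingHom.ext fun a => ?_
        obtain ⟨q, rfl⟩ := hφA a
        show Φπ (απ (algebraMap A Aπ (φA q))) = toT (φA q)
        rw [hαπ, hα, ← hxb]
        exact AlgHom.congr_fun (show Φπ.comp αP = aeval xb from MvPolynomial.algHom_ext fun i => by
          rw [AlgHom.comp_apply, aeval_X, aeval_X]
          exact (hΦπ _).trans (hΦx i)) q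
      show Φπ (Ψ (MvPolynomial.C a)) = MvPolynomial.C a
      rw [aevalTower_C]
      exact AlgHom.congr_fun hcomp a
    | add a b ha hb => rw [map_add, ha, hb]; rfl
    | mul_X a k ha =>
      rw [map_mul, ha, AlgHom.comp_apply, hΨz]
      show a * Φπ (algebraMap d.Alg Bπ _) = a * X k
      rw [hΦπ]
      exact congrArg (a * ·) (aeval_X val (Sum.inr k))
  have h2 : Ψ.comp Φπ = AlgHom.id R Bπ := by
    refine AlgHom.coe_ringHom_injective (IsLocalization.ringHom_ext (Submonoid.powers (algebraMap R d.Alg π)) ?_)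
    refine RingHom.ext fun b => ?_
    obtain ⟨q, rfl⟩ := Ideal.Quotient.mk_surjective b
    show Ψ (Φπ (algebraMap d.Alg Bπ (Ideal.Quotient.mk _ q))) = mkB q
    rw [hΦπ]
    exact hΨΦ q
  have : Algebra.Smooth R Bπ := Algebra.Smooth.of_equiv (AlgEquiv.ofAlgHom Ψ Φπ h2 h1)
  exact (Algebra.basicOpen_subset_smoothLocus_iff_smooth.2 this)
    (show (⟨Q, inferInstance⟩ : PrimeSpectrum d.Alg) ∈ PrimeSpectrum.basicOpen (algebraMap R d.Alg π) from hπ)

end DesingData

/-- Desingularization of a strictly standard element. -/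
theorem desingularize {R Λ A : Type u} [CommRing R] [IsNoetherianRing R] [CommRing Λ]
    [Algebra R Λ] (π : R) (hΛ : ∀ x : Λ, π ^ 2 • x = 0 → π • x = 0) [CommRing A] [Algebra R A]
    (φ : A →ₐ[R] Λ) (hπ : Smoothing.IsStrictlyStandard R A (algebraMap R A π))
    (ρ : A →ₐ[R] R ⧸ Ideal.span {π ^ 4})
    (hρ : ∀ (a : A) (r : R), Ideal.Quotient.mk (Ideal.span {π ^ 4}) r = ρ a →
      algebraMap R Λ r - φ a ∈ Ideal.span {algebraMap R Λ (π ^ 4)}) :
    ∃ (B : Type u) (_ : CommRing B) (_ : Algebra R B), Algebra.FinitePresentation R B ∧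
      ∃ (α : A →ₐ[R] B) (β : B →ₐ[R] Λ), β.comp α = φ ∧
        ∀ r : R, (∀ x : R, π ^ 2 * x = 0 → π * (r * x) = 0) →
          algebraMap R B r ∈ Smoothing.singularIdeal R B := by
  classical
  have hsm := (smooth_stablyFree_of_isStrictlyStandard (algebraMap R A π) hπ).1
  obtain ⟨P, hmin, hkill⟩ := hπ
  choose r hr using fun i => Ideal.Quotient.mk_surjective (ρ (P.hom (X i)))
  have hρP : ∀ q : MvPolynomial (Fin P.n) R, Ideal.Quotient.mk (Ideal.span {π ^ 4}) (aeval r q) = ρ (P.hom q) :=
    fun q => AlgHom.congr_fun (show (Ideal.Quotient.mkₐ R _).comp (aeval r) = ρ.comp P.hom from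
      MvPolynomial.algHom_ext fun i => by rw [AlgHom.comp_apply, AlgHom.comp_apply, aeval_X]; exact hr i) q
  have hrel : ∀ l, P.hom (P.rel l) = 0 := fun l =>
    show P.rel l ∈ RingHom.ker P.hom.toRingHom from P.ker_eq ▸ Ideal.subset_span ⟨l, rfl⟩
  have hcst : ∀ l, ∃ c, aeval r (P.rel l) = π ^ 4 * c := fun l => by
    have h : Ideal.Quotient.mk (Ideal.span {π ^ 4}) (aeval r (P.rel l)) = 0 := by rw [hρP, hrel, map_zero]
    rw [Ideal.Quotient.eq_zero_iff_mem, Ideal.mem_span_singleton] at h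
    exact h
  choose cst hcst using hcst
  choose Q hQ using fun l => exists_taylor r (π ^ 3) (P.rel l)
  let J : Matrix (Fin P.c) (Fin P.n) R := Matrix.of fun j i => aeval r (pderiv i (P.rel (Fin.castLE P.hcm j)))
  let K := Ideal.span (Set.range fun cols : Fin P.c → Fin P.n => (J.submatrix id cols).det)
  obtain ⟨s, hs⟩ : ∃ s : R, π - π ^ 4 * s ∈ K := by
    have h1 := Ideal.mem_map_of_mem ρ.toRingHom hmin
    rw [Ideal.map_span, ← Set.range_comp] at h1
    have h2 : Ideal.Quotient.mk (Ideal.span {π ^ 4}) π ∈ K.map (Ideal.Quotient.mk _) := by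
      rw [Ideal.map_span, ← Set.range_comp, show Ideal.Quotient.mk (Ideal.span {π ^ 4}) π = ρ (algebraMap R A π) from
        (ρ.commutes π).symm]
      refine Ideal.span_mono ?_ h1
      rintro _ ⟨cols, rfl⟩
      refine ⟨cols, ?_⟩
      show Ideal.Quotient.mk _ (J.submatrix id cols).det = ρ (P.hom (Smoothing.jacobianMinor P.rel _ cols))
      rw [← hρP, Smoothing.jacobianMinor, AlgHom.map_det]
      rfl
    rw [Ideal.mem_map_iff_of_surjective _ Ideal.Quotient.mk_surjective] at h2
    obtain ⟨k, hk, hkπ⟩ := h2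
    obtain ⟨t, ht⟩ := Ideal.mem_span_singleton.1 (Ideal.Quotient.eq.1 hkπ)
    refine ⟨-t, (congrArg (· ∈ K) ?_).mp hk⟩
    linear_combination ht
  obtain ⟨L, hL⟩ := exists_mul_eq_of_mem_span_minors J hs
  let d : DesingData R π :=
    { n := P.n
      m := P.m
      c := P.c
      hcm := P.hcm
      rel := P.rel
      r := r
      L := L
      s := s
      cst := cst
      Q := Q
      hcst := hcst
      hQ := fun j => by rw [hQ, hcst]
      hL := fun j k => by
        have := congrFun (congrFun hL j) k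
        rw [Matrix.mul_apply, Matrix.smul_apply, Matrix.one_apply] at this
        refine this.trans ?_
        split_ifs
        · rw [smul_eq_mul, mul_one]; ring
        · rw [smul_zero]
      hkill := fun j => by
        rcases lt_or_ge (j : ℕ) P.c with hj | hj
        · exact Ideal.mem_sup_left (Ideal.mul_mem_left _ _ (Ideal.subset_span ⟨j, hj, rfl⟩))
        · exact hkill (MvPolynomial.C π) (by rw [← MvPolynomial.algebraMap_eq]; exact P.hom.commutes π) j hj }
  let xΛ : Fin P.n → Λ := fun i => φ (P.hom (X i))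
  have hlam : ∀ i, ∃ l, xΛ i = algebraMap R Λ (r i) + algebraMap R Λ π ^ 4 * l := fun i => by
    obtain ⟨l, hl⟩ := Ideal.mem_span_singleton.1 (hρ _ _ (hr i))
    refine ⟨-l, ?_⟩
    rw [map_pow] at hl
    linear_combination -hl
  choose lam hlam using hlam
  have hann : ∀ y : Λ, algebraMap R Λ π ^ 4 * y = 0 → algebraMap R Λ π * y = 0 := fun y hy => by
    have h2 : ∀ z : Λ, algebraMap R Λ π ^ 2 * z = 0 → algebraMap R Λ π * z = 0 := fun z hz => by
      rw [← map_pow, ← Algebra.smul_def] at hz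
      rw [← Algebra.smul_def]; exact hΛ z hz
    have h3 := h2 (algebraMap R Λ π ^ 2 * y) (by rw [← mul_assoc, ← pow_add]; exact hy)
    have h4 := h2 (algebraMap R Λ π * y) (by rw [← h3]; ring)
    exact h2 y (by rw [← h4]; ring)
  let ev0 : d.Poly →ₐ[R] Λ := aeval (Sum.elim lam fun _ => 0)
  have hev0F : ∀ l, ev0 (d.F l) = 0 := fun l => by
    rw [d.aeval_x]
    have he : (fun i => ev0 (d.x i)) = xΛ := funext fun i => by
      rw [d.x_eq, show ev0 (X (Sum.inl i)) = lam i from aeval_X _ _, hlam i, Finset.sum_eq_zero fun k _ => by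
        rw [show ev0 (X (Sum.inr k)) = 0 from aeval_X _ _, mul_zero], mul_zero, add_zero]
    rw [he]
    exact (AlgHom.congr_fun (show aeval xΛ = φ.comp P.hom from MvPolynomial.algHom_ext fun i => by
      rw [aeval_X]; rfl) _).trans (show φ (P.hom (P.rel l)) = 0 by rw [hrel, map_zero])
  let δ : Fin P.c → Λ := fun j => ev0 (d.h j)
  have hδ : ∀ j, algebraMap R Λ π * δ j = 0 := fun j => by
    refine hann _ ?_
    have := hev0F (Fin.castLE P.hcm j)
    rw [show d.F (Fin.castLE P.hcm j) = _ from d.F_lead j, map_mul,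
      show ev0 (MvPolynomial.C (π ^ 4)) = algebraMap R Λ (π ^ 4) from aeval_C _ _, map_pow] at this
    exact this
  let ev : d.Poly →ₐ[R] Λ := aeval (Sum.elim lam fun k => -δ k)
  let annπ : Ideal Λ := Submodule.comap (LinearMap.mulLeft Λ (algebraMap R Λ π)) ⊥
  have hdiff : ∀ q : d.Poly, algebraMap R Λ π * (ev q - ev0 q) = 0 := fun q => by
    have he : (Ideal.Quotient.mkₐ R annπ).comp ev = (Ideal.Quotient.mkₐ R annπ).comp ev0 :=
      MvPolynomial.algHom_ext fun v => by
        rw [AlgHom.comp_apply, AlgHom.comp_apply, aeval_X, aeval_X]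
        rcases v with i | k
        · rfl
        · refine (Ideal.Quotient.eq (I := annπ)).2 ?_
          show algebraMap R Λ π * (-δ k - 0) ∈ (⊥ : Ideal Λ)
          rw [sub_zero, mul_neg, hδ, neg_zero]
          exact zero_mem _
    exact (Submodule.mem_bot Λ).1 ((Ideal.Quotient.eq (I := annπ)).1 (AlgHom.congr_fun he q))
  have hevC : ∀ a : R, ev (MvPolynomial.C a) = algebraMap R Λ a := fun a => aeval_C _ _
  have hev0C : ∀ a : R, ev0 (MvPolynomial.C a) = algebraMap R Λ a := fun a => aeval_C _ _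
  have hevh : ∀ j, ev (d.h j) = 0 := fun j => by
    have h2 := hdiff (aeval d.v (d.Q (Fin.castLE P.hcm j)))
    have h0 : δ j = ev0 (d.h j) := rfl
    rw [DesingData.h] at h0 ⊢
    simp only [map_add, map_mul, map_sum, map_pow, hevC, hev0C] at h0 ⊢
    rw [show ev (X (Sum.inr j)) = -δ j from aeval_X _ _]
    rw [show ev0 (X (Sum.inr j)) = 0 from aeval_X _ _, mul_zero, add_zero] at h0
    have hsum : ∀ i : Fin P.n, ev (X (Sum.inl i)) = ev0 (X (Sum.inl i)) := fun i => by
      rw [show ev (X (Sum.inl i)) = lam i from aeval_X _ _, show ev0 (X (Sum.inl i)) = lam i from aeval_X _ _]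
    rw [Finset.sum_congr rfl fun i _ => congrArg _ (hsum i)]
    have hu : algebraMap R Λ d.unitEl * δ j = δ j := by
      rw [DesingData.unitEl, map_sub, map_one, map_mul, map_pow, sub_mul, one_mul,
        show algebraMap R Λ π ^ 3 * algebraMap R Λ d.s * δ j =
          algebraMap R Λ π ^ 2 * algebraMap R Λ d.s * (algebraMap R Λ π * δ j) by ring, hδ, mul_zero, sub_zero]
    linear_combination (-1 : Λ) * h0 + (-1 : Λ) * hu + algebraMap R Λ π * h2
  have hevx : ∀ i, ev (d.x i) = xΛ i := fun i => by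
    rw [d.x_eq, show ev (X (Sum.inl i)) = lam i from aeval_X _ _, hlam i, Finset.mul_sum, Finset.sum_eq_zero fun k _ => by
      rw [show ev (X (Sum.inr k)) = -δ k from aeval_X _ _, show algebraMap R Λ π ^ 3 *
        (algebraMap R Λ (d.L i k) * -δ k) = -(algebraMap R Λ π ^ 2 * algebraMap R Λ (d.L i k)) *
          (algebraMap R Λ π * δ k) by ring, hδ, mul_zero], add_zero]
  have hevF : ∀ l, ev (d.F l) = 0 := fun l => by
    rw [d.aeval_x, show (fun i => ev (d.x i)) = xΛ from funext hevx]
    exact (AlgHom.congr_fun (show aeval xΛ = φ.comp P.hom from MvPolynomial.algHom_ext fun i => by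
      rw [aeval_X]; rfl) _).trans (show φ (P.hom (P.rel l)) = 0 by rw [hrel, map_zero])
  let B := d.Alg
  have : Algebra.FinitePresentation R B :=
    Algebra.FinitePresentation.quotient (Submodule.fg_span (Set.finite_range d.eqs))
  let mkB : d.Poly →ₐ[R] B := Ideal.Quotient.mkₐ R _
  let αP : MvPolynomial (Fin P.n) R →ₐ[R] B := aeval fun i => mkB (d.x i)
  have hαP : RingHom.ker P.hom.toRingHom ≤ RingHom.ker αP.toRingHom := by
    rw [P.ker_eq]
    refine Ideal.span_le.2 ?_
    rintro _ ⟨l, rfl⟩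
    show αP (P.rel l) = 0
    exact (d.aeval_x mkB l).symm.trans
      (Ideal.Quotient.eq_zero_iff_mem.2 (Ideal.subset_span (show d.F l ∈ Set.range d.eqs from ⟨Sum.inr l, rfl⟩)))
  let α : A →ₐ[R] B := (Ideal.Quotient.liftₐ _ αP hαP).comp (Ideal.quotientKerAlgEquivOfSurjective P.surj).symm.toAlgHom
  have hα : ∀ q, α (P.hom q) = αP q := fun q => by
    show Ideal.Quotient.liftₐ _ _ hαP ((Ideal.quotientKerAlgEquivOfSurjective P.surj).symm (P.hom q)) = _
    rw [show (Ideal.quotientKerAlgEquivOfSurjective P.surj).symm (P.hom q) = Ideal.Quotient.mk _ q from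
      (Ideal.quotientKerAlgEquivOfSurjective P.surj).symm_apply_eq.2
        (Ideal.quotientKerAlgEquivOfSurjective_mk P.surj q).symm]
    rfl
  let β : B →ₐ[R] Λ := Ideal.Quotient.liftₐ _ ev
    (show Ideal.span (Set.range d.eqs) ≤ RingHom.ker ev.toRingHom from Ideal.span_le.2 (by
      rintro _ ⟨j | l, rfl⟩
      · exact hevh j
      · exact hevF l))
  refine ⟨B, inferInstance, inferInstance, inferInstance, α, β, AlgHom.ext fun a => ?_, fun r' hr' => ?_⟩
  · obtain ⟨q, rfl⟩ := P.surj a
    rw [AlgHom.comp_apply, hα]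
    exact AlgHom.congr_fun (show β.comp αP = φ.comp P.hom from MvPolynomial.algHom_ext fun i => by
      rw [AlgHom.comp_apply, aeval_X]
      exact hevx i) q
  · show algebraMap R B r' ∈ PrimeSpectrum.vanishingIdeal _
    rw [PrimeSpectrum.mem_vanishingIdeal]
    intro Q' hQ'
    by_contra hrQ
    refine hQ' ?_
    by_cases hπQ : algebraMap R B π ∈ Q'.asIdeal
    · exact d.isSmoothAt_of_mem r' hr' Q'.asIdeal hπQ hrQ
    · exact d.isSmoothAt_of_notMem P.hom P.surj P.ker_eq Q'.asIdeal hπQ

end TransLib
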