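import Groth.Agent.TransLib.Desing

/-!
# Relative desingularization
-/

set_option autoImplicit false

universe u

open TensorProduct

namespace TransLib

theorem mem_singularIdeal_iff {R A : Type u} [CommRing R] [CommRing A] [Algebra R A] (a : A) :
    a ∈ Smoothing.singularIdeal R A ↔ ∀ (Q : Ideal A) [Q.IsPrime], ¬ Algebra.IsSmoothAt R Q → a ∈ Q := by
  show a ∈ PrimeSpectrum.vanishingIdeal _ ↔ _
  rw [PrimeSpectrum.mem_vanishingIdeal]
  exact ⟨fun h Q _ hQ => h ⟨Q, inferInstance⟩ hQ, fun h x hx => h x.asIdeal hx⟩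

theorem smooth_away_of_mem_singularIdeal {R A : Type u} [CommRing R] [CommRing A] [Algebra R A]
    [Algebra.FinitePresentation R A] {a : A} (ha : a ∈ Smoothing.singularIdeal R A) :
    Algebra.Smooth R (Localization.Away a) := by
  refine Algebra.basicOpen_subset_smoothLocus_iff_smooth.1 fun x hx => ?_
  by_contra hns
  exact hx ((mem_singularIdeal_iff a).1 ha x.asIdeal hns)

/-- A power of an element of the singular ideal repairs the annihilator condition. -/
theorem exists_pow_ann {R D : Type u} [CommRing R] [CommRing D] [Algebra R D] [Algebra.FinitePresentation R D]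
    [IsNoetherianRing D] (π : R) (hR : ∀ r : R, π ^ 2 * r = 0 → π * r = 0) {e : D}
    (he : e ∈ Smoothing.singularIdeal R D) :
    ∃ N : ℕ, ∀ x : D, algebraMap R D π ^ 2 * x = 0 → algebraMap R D π * (e ^ N * x) = 0 := by
  classical
  have := smooth_away_of_mem_singularIdeal he
  let De := Localization.Away e
  let I : Ideal D := Submodule.comap (LinearMap.mulLeft D (algebraMap R D π ^ 2)) ⊥
  have hone : ∀ x ∈ I, ∃ N : ℕ, algebraMap R D π * (e ^ N * x) = 0 := fun x hx => by
    have hx' : algebraMap R D π ^ 2 * x = 0 := (Submodule.mem_bot D).1 hx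
    have h1 : algebraMap R De π ^ 2 * algebraMap D De x = 0 := by
      rw [IsScalarTower.algebraMap_apply R D De, ← map_pow, ← map_mul, hx', map_zero]
    have h2 := DesingData.mul_eq_zero_of_flat (π := π) (C := De) 1 (fun r hr => by rw [one_mul]; exact hR r hr) h1
    rw [map_one, one_mul, IsScalarTower.algebraMap_apply R D De, ← map_mul,
      IsLocalization.map_eq_zero_iff (Submonoid.powers e)] at h2
    obtain ⟨⟨_, N, rfl⟩, hN⟩ := h2
    exact ⟨N, by rw [mul_left_comm]; exact hN⟩
  obtain ⟨t, ht⟩ := IsNoetherian.noetherian I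
  choose N hN using fun x : t => hone x.1 (ht ▸ Ideal.subset_span x.2)
  refine ⟨Finset.univ.sup N, fun x hx => ?_⟩
  have hxI : x ∈ Ideal.span (t : Set D) := (show x ∈ Submodule.span D (t : Set D) from ht.symm ▸ ((Submodule.mem_bot D).2 hx : x ∈ I))
  induction hxI using Submodule.span_induction with
  | mem y hy =>
    rw [← Nat.sub_add_cancel (Finset.le_sup (f := N) (Finset.mem_univ ⟨y, hy⟩)), pow_add, mul_assoc, mul_left_comm]
    rw [hN ⟨y, hy⟩, mul_zero]
  | zero => rw [mul_zero, mul_zero]
  | add y z hy hz hy' hz' =>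
    have hmem : ∀ w, w ∈ Submodule.span D (t : Set D) → algebraMap R D π ^ 2 * w = 0 := fun w hw =>
      (Submodule.mem_bot D).1 (show w ∈ I by rw [← ht]; exact hw)
    rw [mul_add, mul_add, hy' (hmem y hy), hz' (hmem z hz), add_zero]
  | smul c y hy hy' =>
    have hmem : algebraMap R D π ^ 2 * y = 0 := (Submodule.mem_bot D).1 (show y ∈ I by rw [← ht]; exact hy)
    rw [smul_eq_mul, mul_left_comm (e ^ _), mul_left_comm, hy' hmem, mul_zero]

/-- Relative desingularization of a strictly standard element. -/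
theorem desingularize_strictly_standard {R Λ A D : Type u} [CommRing R] [IsNoetherianRing R]
    [CommRing Λ] [Algebra R Λ] (π : R) (hR : ∀ r : R, π ^ 2 * r = 0 → π * r = 0)
    (hΛ : ∀ x : Λ, π ^ 2 • x = 0 → π • x = 0) [CommRing A] [Algebra R A]
    [Algebra.FinitePresentation R A] [CommRing D] [Algebra R D] [Algebra.FinitePresentation R D]
    (φ : A →ₐ[R] Λ) (δ : D →ₐ[R] Λ) (hπ : Smoothing.IsStrictlyStandard R A (algebraMap R A π))
    (ψ : A →ₐ[R] D ⧸ Ideal.span {algebraMap R D (π ^ 4)})
    (hψ : ∀ (a : A) (d : D), Ideal.Quotient.mk (Ideal.span {algebraMap R D (π ^ 4)}) d = ψ a →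
      δ d - φ a ∈ Ideal.span {algebraMap R Λ (π ^ 4)}) :
    ∃ (B : Type u) (_ : CommRing B) (_ : Algebra R B) (_ : Algebra D B) (_ : IsScalarTower R D B),
      Algebra.FinitePresentation R B ∧
      ∃ (α : A →ₐ[R] B) (β : B →ₐ[R] Λ), β.comp α = φ ∧
        β.comp (IsScalarTower.toAlgHom R D B) = δ ∧
        (Smoothing.singularIdeal R D).map (algebraMap D B) ≤ Smoothing.singularIdeal D B ∧
        (Smoothing.singularIdeal R D).map (algebraMap D B) ≤ Smoothing.singularIdeal R B := by
  classical
  have : IsNoetherianRing D := Algebra.FiniteType.isNoetherianRing R D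
  letI : Algebra D Λ := δ.toRingHom.toAlgebra
  have : IsScalarTower R D Λ := IsScalarTower.of_algebraMap_eq fun r => (δ.commutes r).symm
  let p := algebraMap R D π
  have hpΛ : algebraMap D Λ p = algebraMap R Λ π := (IsScalarTower.algebraMap_apply R D Λ π).symm
  have hΛD : ∀ x : Λ, p ^ 2 • x = 0 → p • x = 0 := fun x hx => by
    rw [Algebra.smul_def, map_pow, hpΛ, ← map_pow, ← Algebra.smul_def] at hx
    rw [Algebra.smul_def, hpΛ, ← Algebra.smul_def]
    exact hΛ x hx
  let φD : D ⊗[R] A →ₐ[D] Λ := Algebra.TensorProduct.lift (Algebra.ofId D Λ) φ (fun _ _ => Commute.all _ _)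
  have hstd : Smoothing.IsStrictlyStandard D (D ⊗[R] A) (algebraMap D (D ⊗[R] A) p) := by
    have h := (isStandard_baseChange (R' := D) (algebraMap R A π)).2 hπ
    rwa [show (1 : D) ⊗ₜ[R] algebraMap R A π = algebraMap D (D ⊗[R] A) p from
      (Algebra.TensorProduct.tmul_one_eq_one_tmul π).symm] at h
  have hspan : Ideal.span {algebraMap R D (π ^ 4)} = Ideal.span {p ^ 4} := by rw [map_pow]
  let ψ' : A →ₐ[R] D ⧸ Ideal.span {p ^ 4} := (Ideal.quotientEquivAlgOfEq R hspan).toAlgHom.comp ψ
  let ρ : D ⊗[R] A →ₐ[D] D ⧸ Ideal.span {p ^ 4} :=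
    Algebra.TensorProduct.lift (Algebra.ofId D _) ψ' (fun _ _ => Commute.all _ _)
  have hIΛ : Ideal.span {algebraMap D Λ (p ^ 4)} = Ideal.span {algebraMap R Λ (π ^ 4)} := by
    rw [map_pow, hpΛ, map_pow]
  have hρ : ∀ (x : D ⊗[R] A) (r : D), Ideal.Quotient.mk (Ideal.span {p ^ 4}) r = ρ x →
      algebraMap D Λ r - φD x ∈ Ideal.span {algebraMap D Λ (p ^ 4)} := by
    intro x
    induction x with
    | zero =>
      intro r hr
      rw [map_zero, Ideal.Quotient.eq_zero_iff_mem, Ideal.mem_span_singleton] at hr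
      obtain ⟨c, rfl⟩ := hr
      rw [map_zero, sub_zero, map_mul]
      exact Ideal.mul_mem_right _ _ (Ideal.mem_span_singleton_self _)
    | tmul d a =>
      intro r hr
      obtain ⟨da, hda⟩ := Ideal.Quotient.mk_surjective (ψ a)
      have h1 := hψ a da hda
      have h2 : ψ' a = Ideal.Quotient.mk (Ideal.span {p ^ 4}) da := by
        show (Ideal.quotientEquivAlgOfEq R hspan) (ψ a) = _
        rw [← hda]
        exact Ideal.quotientEquivAlgOfEq_mk R hspan da
      rw [show ρ (d ⊗ₜ[R] a) = Ideal.Quotient.mk _ d * ψ' a from Algebra.TensorProduct.lift_tmul _ _ _ _ _, h2,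
        ← map_mul, Ideal.Quotient.eq, Ideal.mem_span_singleton] at hr
      obtain ⟨c, hc⟩ := hr
      rw [show φD (d ⊗ₜ[R] a) = algebraMap D Λ d * φ a from Algebra.TensorProduct.lift_tmul _ _ _ _ _,
        show algebraMap D Λ r - algebraMap D Λ d * φ a =
          algebraMap D Λ (p ^ 4) * algebraMap D Λ c + algebraMap D Λ d * (δ da - φ a) by
          rw [← map_mul, ← hc, map_sub, map_mul, show algebraMap D Λ da = δ da from rfl]; ring]
      refine add_mem (Ideal.mul_mem_right _ _ (Ideal.mem_span_singleton_self _)) (Ideal.mul_mem_left _ _ ?_)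
      rw [hIΛ]; exact h1
    | add x y hx hy =>
      intro r hr
      obtain ⟨rx, hrx⟩ := Ideal.Quotient.mk_surjective (ρ x)
      have hy' := hy (r - rx) (by rw [map_sub, hr, hrx, map_add, add_sub_cancel_left])
      have hsum := add_mem (hx rx hrx) hy'
      refine (congrArg (· ∈ Ideal.span {algebraMap D Λ (p ^ 4)}) ?_).mp hsum
      rw [map_sub, map_add]; ring
  obtain ⟨B, _, _, hB, α₀, β₀, hαβ, hsing⟩ := desingularize (R := D) p hΛD φD hstd ρ hρ
  letI : Algebra R B := ((algebraMap D B).comp (algebraMap R D)).toAlgebra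
  have : IsScalarTower R D B := IsScalarTower.of_algebraMap_eq fun _ => rfl
  have : Algebra.FinitePresentation R B := Algebra.FinitePresentation.trans R D B
  have hmemD : ∀ e ∈ Smoothing.singularIdeal R D, algebraMap D B e ∈ Smoothing.singularIdeal D B := fun e he => by
    obtain ⟨N, hN⟩ := exists_pow_ann π hR he
    have h1 := hsing (e ^ N) (fun x hx => hN x hx)
    rw [map_pow] at h1
    exact (PrimeSpectrum.isRadical_vanishingIdeal _) ⟨N, h1⟩
  refine ⟨B, inferInstance, inferInstance, inferInstance, inferInstance, inferInstance,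
    (α₀.restrictScalars R).comp Algebra.TensorProduct.includeRight, β₀.restrictScalars R, AlgHom.ext fun a => ?_,
    AlgHom.ext fun x => ?_, Ideal.map_le_iff_le_comap.2 hmemD, Ideal.map_le_iff_le_comap.2 fun e he => ?_⟩
  · refine (AlgHom.congr_fun hαβ _).trans ?_
    show Algebra.TensorProduct.lift _ φ _ ((1 : D) ⊗ₜ[R] a) = φ a
    rw [Algebra.TensorProduct.lift_tmul, map_one, one_mul]
  · exact β₀.commutes x
  · show algebraMap D B e ∈ Smoothing.singularIdeal R B
    rw [mem_singularIdeal_iff]
    intro Q _ hQ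
    by_contra heQ
    refine hQ ?_
    have hsmQ : Algebra.IsSmoothAt D Q := by
      by_contra hns
      exact heQ ((mem_singularIdeal_iff _).1 (hmemD e he) Q hns)
    have := smooth_away_of_mem_singularIdeal he
    let De := Localization.Away e
    let LB := Localization.AtPrime Q
    have hu : IsUnit (algebraMap D LB e) := by
      rw [IsScalarTower.algebraMap_apply D B LB]
      exact IsLocalization.map_units LB (⟨_, heQ⟩ : Q.primeCompl)
    letI : Algebra De LB := (IsLocalization.Away.lift (S := De) e hu).toAlgebra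
    have : IsScalarTower D De LB := IsScalarTower.of_algebraMap_eq fun x => (IsLocalization.Away.lift_eq e hu x).symm
    have : IsScalarTower R De LB := IsScalarTower.of_algebraMap_eq fun x => by
      rw [IsScalarTower.algebraMap_apply R D De, ← IsScalarTower.algebraMap_apply D De LB,
        ← IsScalarTower.algebraMap_apply]
    have : Algebra.FormallyEtale D De := Algebra.FormallyEtale.of_isLocalization (Submonoid.powers e)
    have : Algebra.FormallySmooth D LB := hsmQ
    have : Algebra.FormallySmooth De LB := Algebra.FormallySmooth.of_restrictScalars D De LB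
    exact Algebra.FormallySmooth.comp R De LB

end TransLib
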