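import Groth.Agent.TransLib.StdElem

/-!
# Powers of an element with smooth, stably free localization are strictly standard
-/

set_option autoImplicit false

universe u

open TensorProduct MvPolynomial

namespace TransLib

section Coord

variable {R A : Type u} [CommRing R] [CommRing A] [Algebra R A] {N : ℕ} (G : Algebra.Generators R A (Fin N))
  (B : Type u) [CommRing B] [Algebra A B]

/-- The cotangent space after base change, in coordinates. -/
noncomputable def spaceCoord : B ⊗[A] G.toExtension.CotangentSpace ≃ₗ[B] (Fin N → B) :=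
  G.cotangentSpaceBasis.equivFun.baseChange A B ≪≫ₗ TensorProduct.piScalarRight A B B (Fin N)

/-- The images of the coordinate vectors in the differentials. -/
noncomputable def kaehlerCoord (v : Fin N → A) : (Fin N → B) →ₗ[B] B ⊗[A] Ω[A⁄R] :=
  Fintype.linearCombination B fun i => (1 : B) ⊗ₜ[A] KaehlerDifferential.D R A (v i)

theorem spaceCoord_tmul (y : G.toExtension.CotangentSpace) (i : Fin N) :
    spaceCoord G B ((1 : B) ⊗ₜ[A] y) i = algebraMap A B (G.cotangentSpaceBasis.repr y i) := by
  rw [spaceCoord, LinearEquiv.trans_apply, LinearEquiv.baseChange_tmul, TensorProduct.piScalarRight_apply,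
    TensorProduct.piScalarRightHom_tmul]
  exact (Algebra.algebraMap_eq_smul_one _).symm

theorem toKaehler_baseChange_eq (x : B ⊗[A] G.toExtension.CotangentSpace) :
    G.toExtension.toKaehler.baseChange B x = kaehlerCoord (R := R) B G.val (spaceCoord G B x) := by
  suffices h : G.toExtension.toKaehler.baseChange B =
      (kaehlerCoord (R := R) B G.val).comp (spaceCoord G B).toLinearMap from LinearMap.congr_fun h x
  refine (Module.Basis.baseChange B G.cotangentSpaceBasis).ext fun i => ?_
  rw [Module.Basis.baseChange_apply, LinearMap.baseChange_tmul, LinearMap.comp_apply, LinearEquiv.coe_coe,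
    Algebra.Generators.toKaehler_cotangentSpaceBasis,
    show spaceCoord G B ((1 : B) ⊗ₜ[A] G.cotangentSpaceBasis i) = Pi.single i 1 from funext fun j => by
      rw [spaceCoord_tmul, Module.Basis.repr_self, Finsupp.single_apply, Pi.single_apply]
      by_cases hij : i = j
      · rw [if_pos hij, if_pos hij.symm, map_one]
      · rw [if_neg hij, if_neg (Ne.symm hij), map_zero],
    kaehlerCoord, Fintype.linearCombination_apply_single, one_smul]

theorem kaehlerCoord_surjective : Function.Surjective (kaehlerCoord (R := R) B G.val) := fun y => by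
  obtain ⟨x, rfl⟩ := LinearMap.lTensor_surjective B G.toExtension.toKaehler_surjective y
  exact ⟨spaceCoord G B x, (toKaehler_baseChange_eq G B x).symm⟩

/-- When the localized conormal sequence is exact on the left, the conormal module is the kernel in coordinates. -/
noncomputable def cotangentEquivKer (hinj : Function.Injective (G.toExtension.cotangentComplex.baseChange B)) :
    B ⊗[A] G.toExtension.Cotangent ≃ₗ[B] LinearMap.ker (kaehlerCoord (R := R) B G.val) :=
  LinearEquiv.ofBijective
    (((spaceCoord G B).toLinearMap.comp (G.toExtension.cotangentComplex.baseChange B)).codRestrict _ fun x => by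
      show kaehlerCoord (R := R) B G.val (spaceCoord G B (G.toExtension.cotangentComplex.baseChange B x)) = 0
      rw [← toKaehler_baseChange_eq]
      exact (lTensor_exact B G.toExtension.exact_cotangentComplex_toKaehler
        G.toExtension.toKaehler_surjective).apply_apply_eq_zero x)
    ⟨fun x y h => hinj ((spaceCoord G B).injective (congrArg Subtype.val h)), fun ⟨z, hz⟩ => by
      obtain ⟨w, rfl⟩ := (spaceCoord G B).surjective z
      have hz' : G.toExtension.toKaehler.baseChange B w = 0 := by
        rw [toKaehler_baseChange_eq]; exact hz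
      obtain ⟨x, rfl⟩ := (lTensor_exact B G.toExtension.exact_cotangentComplex_toKaehler
        G.toExtension.toKaehler_surjective w).1 hz'
      exact ⟨x, rfl⟩⟩

end Coord

/-- Splitting the kernel of a map which ignores the last coordinates. -/
noncomputable def kerAppendEquiv {B W : Type u} [CommRing B] [AddCommGroup W] [Module B W] {n q : ℕ}
    (f : (Fin (n + q) → B) →ₗ[B] W) (g : (Fin n → B) →ₗ[B] W)
    (h : ∀ z, f z = g (fun i => z (Fin.castAdd q i))) :
    LinearMap.ker f ≃ₗ[B] LinearMap.ker g × (Fin q → B) where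
  toFun z := (⟨fun i => z.1 (Fin.castAdd q i), (h z.1).symm.trans z.2⟩, fun j => z.1 (Fin.natAdd n j))
  invFun w := ⟨Fin.append w.1.1 w.2, by
    show f _ = 0
    rw [h]
    simp only [Fin.append_left]
    exact w.1.2⟩
  map_add' _ _ := rfl
  map_smul' _ _ := rfl
  left_inv z := Subtype.ext (Fin.append_castAdd_natAdd (f := z.1))
  right_inv w := by
    refine Prod.ext (Subtype.ext ?_) ?_ <;> ext i <;> simp

/-- In a localization at one element, a family generating after localization generates up to a power. -/
theorem exists_pow_smul_mem_span {A : Type u} [CommRing A] (a : A) {M : Type u} [AddCommGroup M] [Module A M]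
    {ι : Type} [Fintype ι] (y : ι → M)
    (h : Submodule.span (Localization.Away a) (Set.range fun j => (1 : Localization.Away a) ⊗ₜ[A] y j) = ⊤) (x : M) :
    ∃ k : ℕ, a ^ k • x ∈ Submodule.span A (Set.range y) := by
  classical
  let B := Localization.Away a
  let F := Submodule.span A (Set.range y)
  let j₁ : M →ₗ[A] B ⊗[A] M := TensorProduct.mk A B M 1
  have hx : (1 : B) ⊗ₜ[A] x ∈ Submodule.span B (Set.range fun j => (1 : B) ⊗ₜ[A] y j) := h ▸ Submodule.mem_top
  obtain ⟨r, hr⟩ := (Submodule.mem_span_range_iff_exists_fun B).1 hx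
  obtain ⟨b, hb⟩ := IsLocalization.exist_integer_multiples_of_finite (Submonoid.powers a) r
  choose s hs using hb
  have h1 : j₁ ((b : A) • x) = j₁ (∑ i, s i • y i) := by
    rw [map_smul, map_sum]
    show (b : A) • ((1 : B) ⊗ₜ[A] x) = _
    rw [← hr, Finset.smul_sum]
    refine Finset.sum_congr rfl fun i _ => ?_
    rw [← smul_assoc, ← hs i, algebraMap_smul, map_smul]
    rfl
  obtain ⟨c, hc⟩ := IsLocalizedModule.exists_of_eq (S := Submonoid.powers a) (f := j₁) h1
  obtain ⟨k₁, hk₁⟩ := c.2
  obtain ⟨k₂, hk₂⟩ := b.2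
  refine ⟨k₁ + k₂, ?_⟩
  have hk : a ^ (k₁ + k₂) • x = (c : A) • ((b : A) • x) := by rw [pow_add, mul_smul, show a ^ k₁ = (c : A) from hk₁, show a ^ k₂ = (b : A) from hk₂]
  rw [hk, show (c : A) • ((b : A) • x) = (c : A) • ∑ i, s i • y i from hc]
  exact Submodule.smul_mem _ _ (Submodule.sum_mem _ fun i _ => Submodule.smul_mem _ _ (Submodule.subset_span ⟨i, rfl⟩))

/-- If a matrix has a left inverse, its maximal minors generate the unit ideal. -/
theorem span_minors_eq_top {B : Type u} [CommRing B] {c N : ℕ} (J : Matrix (Fin c) (Fin N) B)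
    (L : Matrix (Fin N) (Fin c) B) (h : J * L = 1) :
    Ideal.span (Set.range fun cols : Fin c → Fin N => (J.submatrix id cols).det) = ⊤ := by
  classical
  by_contra hne
  obtain ⟨m, hm, hle⟩ := Ideal.exists_le_maximal _ hne
  let _ : Field (B ⧸ m) := Ideal.Quotient.field m
  let π := Ideal.Quotient.mk m
  have hinv : J.map π * L.map π = 1 := by rw [← Matrix.map_mul, h, Matrix.map_one _ (map_zero π) (map_one π)]
  have hli : LinearIndependent (B ⧸ m) (J.map π).row :=
    Matrix.vecMul_injective_iff.1 fun v w hvw => by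
      have := congrArg (fun z => Matrix.vecMul z (L.map π)) hvw
      simpa [Matrix.vecMul_vecMul, hinv] using this
  obtain ⟨I, hI⟩ := (exists_minor_iff_linearIndependent_rows (J.map π)).2 hli
  refine hI ?_
  rw [show (J.map π).submatrix id I = (J.submatrix id I).map π from rfl, ← RingHom.mapMatrix_apply, ← RingHom.map_det]
  exact Ideal.Quotient.eq_zero_iff_mem.2 (hle (Ideal.subset_span ⟨⇑I, rfl⟩))

/-- A presentation whose localized conormal module is free gives strictly standard powers. -/
theorem exists_pow_isStrictlyStandard {R A : Type u} [CommRing R] [CommRing A] [Algebra R A] (a : A) {N m c : ℕ}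
    (φ : MvPolynomial (Fin N) R →ₐ[R] A) (hφ : Function.Surjective φ) (f : Fin m → MvPolynomial (Fin N) R)
    (hker : RingHom.ker φ.toRingHom = Ideal.span (Set.range f)) (hcN : c ≤ N)
    (G : Algebra.Generators R A (Fin N)) (hG : (aeval G.val : MvPolynomial (Fin N) R →ₐ[R] A) = φ)
    (B_cot : ((Localization.Away a) ⊗[A] G.toExtension.Cotangent) ≃ₗ[Localization.Away a]
      (Fin c → Localization.Away a))
    (hsplit : ∃ ρ, ρ ∘ₗ G.toExtension.cotangentComplex.baseChange (Localization.Away a) = LinearMap.id) :
    ∃ e₀ : ℕ, ∀ n : ℕ, e₀ ≤ n → Smoothing.IsStrictlyStandard R A (a ^ n) := by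
  classical
  let B := Localization.Away a
  let E := G.toExtension
  have halg : ∀ p : MvPolynomial (Fin N) R, algebraMap E.Ring A p = φ p := fun p =>
    (G.algebraMap_apply p).trans (AlgHom.congr_fun hG p)
  have hkerE : E.ker = (Ideal.span (Set.range f) : Ideal (MvPolynomial (Fin N) R)) := by
    rw [← hker]
    ext p
    show algebraMap E.Ring A p = 0 ↔ φ p = 0
    rw [halg]
  -- a basis made of images
  let j₁ : E.Cotangent →ₗ[A] B ⊗[A] E.Cotangent := TensorProduct.mk A B E.Cotangent 1
  choose ys hys using fun j : Fin c => IsLocalizedModule.surj (Submonoid.powers a) j₁ (B_cot.symm (Pi.single j 1))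
  let u : Fin c → Bˣ := fun j => (IsLocalization.map_units B (ys j).2).unit
  let bas : Module.Basis (Fin c) B (B ⊗[A] E.Cotangent) := ((Pi.basisFun B (Fin c)).map B_cot.symm).unitsSMul u
  let y : Fin c → E.Cotangent := fun j => (ys j).1
  have hbas : ∀ j, bas j = (1 : B) ⊗ₜ[A] y j := fun j => by
    rw [Module.Basis.unitsSMul_apply, Module.Basis.map_apply, Pi.basisFun_apply]
    rw [Units.smul_def, IsUnit.unit_spec, algebraMap_smul]
    exact hys j
  choose g₀ hg₀ using fun j => Algebra.Extension.Cotangent.mk_surjective (y j)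
  let g : Fin c → MvPolynomial (Fin N) R := fun j => (g₀ j : E.Ring)
  have hgmem : ∀ j, g j ∈ Ideal.span (Set.range f) := fun j => by
    exact (SetLike.ext_iff.mp hkerE _).1 (g₀ j).2
  -- the minors
  let J : Matrix (Fin c) (Fin N) A := Matrix.of fun j i => φ (pderiv i (g j))
  obtain ⟨ρ, hρ⟩ := hsplit
  let L : Matrix (Fin N) (Fin c) B := Matrix.of fun i k => bas.repr (ρ ((spaceCoord G B).symm (Pi.single i 1))) k
  have hJL : J.map (algebraMap A B) * L = 1 := by
    ext j k
    have h1 : spaceCoord G B (E.cotangentComplex.baseChange B (bas j)) = fun i => algebraMap A B (J j i) := funext fun i => by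
      rw [hbas, LinearMap.baseChange_tmul, spaceCoord_tmul, ← hg₀ j, Algebra.Extension.cotangentComplex_mk]
      refine congrArg (algebraMap A B) ((G.cotangentSpaceBasis_repr_one_tmul _ _).trans ?_)
      show aeval G.val (pderiv i (g j)) = _
      rw [hG]
      rfl
    have h2 : bas.repr (ρ ((spaceCoord G B).symm fun i => algebraMap A B (J j i))) k =
        (1 : Matrix (Fin c) (Fin c) B) j k := by
      rw [← h1, LinearEquiv.symm_apply_apply, ← LinearMap.comp_apply, hρ, LinearMap.id_apply, Module.Basis.repr_self,
        Finsupp.single_apply, Matrix.one_apply]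
    rw [← h2, pi_eq_sum_univ' fun i => algebraMap A B (J j i), map_sum, map_sum, map_sum, Finsupp.finset_sum_apply,
      Matrix.mul_apply]
    refine Finset.sum_congr rfl fun i _ => ?_
    rw [map_smul, map_smul, map_smul, Finsupp.smul_apply]
    rfl
  have htop : (Ideal.span (Set.range fun cols : Fin c → Fin N => (J.submatrix id cols).det)).map (algebraMap A B) = ⊤ := by
    rw [Ideal.map_span, ← Set.range_comp, ← span_minors_eq_top _ L hJL]
    congr 2
    funext cols
    show algebraMap A B (J.submatrix id cols).det = _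
    rw [RingHom.map_det]
    rfl
  obtain ⟨e, he⟩ : ∃ e : ℕ, a ^ e ∈ Ideal.span (Set.range fun cols : Fin c → Fin N => (J.submatrix id cols).det) := by
    by_contra hne
    refine (IsLocalization.map_algebraMap_ne_top_iff_disjoint (Submonoid.powers a) B _).2 ?_ htop
    rw [Set.disjoint_left]
    rintro _ ⟨e, rfl⟩ h
    exact hne ⟨e, h⟩
  -- the tail
  have hspanB : Submodule.span B (Set.range fun j => (1 : B) ⊗ₜ[A] y j) = ⊤ := by
    rw [← bas.span_eq]; exact congrArg (fun t => Submodule.span B (Set.range t)) (funext fun j => (hbas j).symm)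
  let relK : Fin m → E.ker := fun j => ⟨f j, hkerE ▸ Ideal.subset_span ⟨j, rfl⟩⟩
  choose k hk using fun ℓ => exists_pow_smul_mem_span a y hspanB (Algebra.Extension.Cotangent.mk (relK ℓ))
  refine ⟨max e (Finset.univ.sup k), fun n hn => ?_⟩
  let rel : Fin (c + m) → MvPolynomial (Fin N) R := Fin.append g f
  have hrel : Ideal.span (Set.range rel) = Ideal.span (Set.range f) := by
    refine le_antisymm (Ideal.span_le.2 ?_) (Ideal.span_mono ?_)
    · rintro _ ⟨i, rfl⟩
      induction i using Fin.addCases with
      | left i => simp only [rel, Fin.append_left]; exact hgmem i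
      | right i => simp only [rel, Fin.append_right]; exact Ideal.subset_span ⟨i, rfl⟩
    · rintro _ ⟨i, rfl⟩; exact ⟨Fin.natAdd c i, Fin.append_right g f i⟩
  let P : Smoothing.MarkedPresentation R A :=
    { n := N
      m := c + m
      c := c
      hcn := hcN
      hcm := Nat.le_add_right c m
      rel := rel
      hom := φ
      surj := hφ
      ker_eq := hker.trans hrel.symm }
  have hcast : ∀ j : Fin c, rel (Fin.castLE (Nat.le_add_right c m) j) = g j := fun j => Fin.append_left g f j
  refine ⟨P, ?_, fun a₁ ha₁ j hj => ?_⟩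
  · have h := Ideal.mul_mem_left _ (a ^ (n - e)) he
    rw [← pow_add, Nat.sub_add_cancel (le_of_max_le_left hn)] at h
    refine Ideal.span_mono ?_ h
    rintro _ ⟨cols, rfl⟩
    refine ⟨cols, ?_⟩
    show φ (Smoothing.jacobianMinor rel (Fin.castLE (Nat.le_add_right c m)) cols) = (J.submatrix id cols).det
    rw [Smoothing.jacobianMinor, AlgHom.map_det]
    congr 1
    ext1 i l
    show φ (pderiv (cols l) (rel (Fin.castLE _ i))) = φ (pderiv (cols l) (g i))
    rw [hcast]
  · induction j using Fin.addCases with
    | left i => exact absurd hj (not_le.2 i.2)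
    | right ℓ =>
      have hkn : k ℓ ≤ n := (Finset.le_sup (Finset.mem_univ ℓ)).trans (le_of_max_le_right hn)
      have hmem : a ^ n • Algebra.Extension.Cotangent.mk (relK ℓ) ∈ Submodule.span A (Set.range y) := by
        rw [← Nat.sub_add_cancel hkn, pow_add, mul_smul]; exact Submodule.smul_mem _ _ (hk ℓ)
      obtain ⟨w, hw⟩ := (Submodule.mem_span_range_iff_exists_fun A).1 hmem
      choose w' hw' using fun i => hφ (w i)
      let aE : E.Ring := a₁
      let wE : Fin c → E.Ring := w'
      have hdiff : Algebra.Extension.Cotangent.mk (aE • relK ℓ - ∑ i, wE i • g₀ i) = 0 := by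
        rw [map_sub, map_sum, map_smul, ← algebraMap_smul A aE,
          show algebraMap E.Ring A aE = a ^ n from (halg a₁).trans ha₁]
        refine sub_eq_zero.2 (hw.symm.trans (Finset.sum_congr rfl fun i _ => ?_))
        rw [map_smul, ← algebraMap_smul A (wE i), show algebraMap E.Ring A (wE i) = w i from (halg (w' i)).trans (hw' i),
          hg₀]
      rw [Algebra.Extension.Cotangent.mk_eq_zero_iff] at hdiff
      have h2 : a₁ * f ℓ - ∑ i, w' i * g i ∈ Ideal.span (Set.range f) ^ 2 := by
        have hval : ((aE • relK ℓ - ∑ i, wE i • g₀ i : E.ker) : E.Ring) =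
            (a₁ * f ℓ - ∑ i, w' i * g i : MvPolynomial (Fin N) R) := by
          rw [Submodule.coe_sub, Submodule.coe_sum]
          rfl
        rw [hval, hkerE] at hdiff
        exact hdiff
      show a₁ * rel (Fin.natAdd c ℓ) ∈ Ideal.span (rel '' {j' | (j' : ℕ) < c}) ⊔ Ideal.span (Set.range rel) ^ 2
      rw [show rel (Fin.natAdd c ℓ) = f ℓ from Fin.append_right g f ℓ, hrel,
        show a₁ * f ℓ = (∑ i, w' i * g i) + (a₁ * f ℓ - ∑ i, w' i * g i) by ring]
      exact Submodule.add_mem _ (Ideal.mem_sup_left (Submodule.sum_mem _ fun i _ =>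
        Ideal.mul_mem_left _ _ (Ideal.subset_span ⟨Fin.castLE (Nat.le_add_right c m) i, i.2, hcast i⟩)))
        (Ideal.mem_sup_right h2)

/-- For smooth localizations the conormal sequence is split injective after localizing. -/
theorem exists_split_cotangentComplex {R A : Type u} [CommRing R] [CommRing A] [Algebra R A] (a : A) {ι : Type}
    (G : Algebra.Generators R A ι) [Algebra.FormallySmooth R (Localization.Away a)] :
    ∃ ρ, ρ ∘ₗ G.toExtension.cotangentComplex.baseChange (Localization.Away a) = LinearMap.id := by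
  classical
  let B := Localization.Away a
  let E := G.toExtension
  have : Algebra.FormallySmooth R E.Ring := inferInstanceAs (Algebra.FormallySmooth R G.Ring)
  have : Module.Flat A B := IsLocalization.flat B (Submonoid.powers a)
  have : Algebra.FormallyEtale A B := Algebra.FormallyEtale.of_isLocalization (Submonoid.powers a)
  let l := E.cotangentComplex
  have hinj : Function.Injective (l.baseChange B) := by
    refine (injective_iff_map_eq_zero _).2 fun x hx => ?_
    obtain ⟨y, rfl⟩ := (Module.Flat.lTensor_exact B (LinearMap.exact_subtype_ker_map l) x).1 hx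
    let eH : B ⊗[A] (LinearMap.ker l) ≃ₗ[B] Algebra.H1Cotangent R B :=
      (Algebra.Extension.equivH1CotangentOfFormallySmooth E).baseChange A B ≪≫ₗ
        Algebra.tensorH1CotangentOfIsLocalization R B (Submonoid.powers a)
    have : Subsingleton (B ⊗[A] (LinearMap.ker l)) := eH.toEquiv.subsingleton
    rw [Subsingleton.elim y 0, map_zero]
  have : Module.Projective B (B ⊗[A] Ω[A⁄R]) :=
    Module.Projective.of_equiv (KaehlerDifferential.tensorKaehlerEquivOfFormallyEtale R A B).symm
  have hex : Function.Exact (l.baseChange B) (E.toKaehler.baseChange B) :=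
    lTensor_exact B E.exact_cotangentComplex_toKaehler E.toKaehler_surjective
  have hsurj : Function.Surjective (E.toKaehler.baseChange B) :=
    LinearMap.lTensor_surjective B E.toKaehler_surjective
  exact ((hex.split_tfae'.out 0 1 rfl rfl).mp ⟨hinj, Module.projective_lifting_property _ _ hsurj⟩).2

theorem pow_isStrictlyStandard_of_smooth_stablyFree {R A : Type u} [CommRing R] [CommRing A] [Algebra R A]
    [Algebra.FinitePresentation R A] (a : A) [Algebra.Smooth R (Localization.Away a)] (p q : ℕ)
    (e : (Ω[Localization.Away a⁄R] × (Fin p → Localization.Away a)) ≃ₗ[Localization.Away a]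
      (Fin q → Localization.Away a)) :
    ∃ e₀ : ℕ, ∀ n : ℕ, e₀ ≤ n → Smoothing.IsStrictlyStandard R A (a ^ n) := by
  classical
  rcases subsingleton_or_nontrivial (Localization.Away a) with hB | hB
  · obtain ⟨k, hk⟩ : (0 : A) ∈ Submonoid.powers a := IsLocalization.subsingleton_iff.1 hB
    obtain ⟨n, φ, hφ, t, ht⟩ := (inferInstance : Algebra.FinitePresentation R A).out
    refine ⟨k, fun l hl => ?_⟩
    have ha : a ^ l = 0 := by rw [← Nat.sub_add_cancel hl, pow_add, show a ^ k = 0 from hk, mul_zero]
    have hker : RingHom.ker φ.toRingHom =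
        Ideal.span (Set.range fun i => (t.equivFin.symm i : MvPolynomial (Fin n) R)) := by
      rw [← ht]
      congr 1
      ext x
      refine ⟨fun hx => ⟨t.equivFin ⟨x, hx⟩, by simp⟩, ?_⟩
      rintro ⟨i, rfl⟩
      exact (t.equivFin.symm i).2
    refine ⟨⟨n, t.card, 0, Nat.zero_le _, Nat.zero_le _, _, φ, hφ, hker⟩, by rw [ha]; exact zero_mem _,
      fun a₁ ha₁ j _ => Ideal.mem_sup_right ?_⟩
    rw [sq]
    refine Ideal.mul_mem_mul ?_ (Ideal.subset_span ⟨j, rfl⟩)
    show a₁ ∈ Ideal.span (Set.range fun i => (t.equivFin.symm i : MvPolynomial (Fin n) R))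
    rw [← hker]
    show φ a₁ = 0
    exact ha₁.trans ha
  let B := Localization.Away a
  obtain ⟨n, ψ, hψ, -⟩ := (inferInstance : Algebra.FinitePresentation R A).out
  let v : Fin n → A := fun i => ψ (X i)
  have hv : (aeval v : MvPolynomial (Fin n) R →ₐ[R] A) = ψ := (MvPolynomial.aeval_unique ψ).symm
  let w : Fin (n + q) → A := Fin.append v 0
  have hw : Function.Surjective (aeval w : MvPolynomial (Fin (n + q)) R →ₐ[R] A) := fun x => by
    obtain ⟨y, rfl⟩ := hψ x
    refine ⟨rename (Fin.castAdd q) y, ?_⟩
    rw [aeval_rename, show w ∘ Fin.castAdd q = v from funext fun i => Fin.append_left v 0 i, hv]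
  let G : Algebra.Generators R A (Fin n) := Algebra.Generators.ofSurjective v (by rw [hv]; exact hψ)
  let G' : Algebra.Generators R A (Fin (n + q)) := Algebra.Generators.ofSurjective w hw
  obtain ⟨ρ, hρ⟩ := exists_split_cotangentComplex a G
  obtain ⟨ρ', hρ'⟩ := exists_split_cotangentComplex a G'
  have hinj : Function.Injective (G.toExtension.cotangentComplex.baseChange B) :=
    Function.LeftInverse.injective (g := ρ) (LinearMap.congr_fun hρ)
  have hinj' : Function.Injective (G'.toExtension.cotangentComplex.baseChange B) :=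
    Function.LeftInverse.injective (g := ρ') (LinearMap.congr_fun hρ')
  have hval : ∀ z, kaehlerCoord (R := R) B G'.val z = kaehlerCoord (R := R) B G.val fun i => z (Fin.castAdd q i) := fun z => by
    simp only [kaehlerCoord, Fintype.linearCombination_apply, Fin.sum_univ_add]
    rw [show ∑ i : Fin q, z (Fin.natAdd n i) • ((1 : B) ⊗ₜ[A] KaehlerDifferential.D R A (G'.val (Fin.natAdd n i))) = 0 from
      Finset.sum_eq_zero fun i _ => by
        show z _ • ((1 : B) ⊗ₜ[A] KaehlerDifferential.D R A (w (Fin.natAdd n i))) = 0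
        rw [show w (Fin.natAdd n i) = 0 from Fin.append_right v 0 i, map_zero, TensorProduct.tmul_zero, smul_zero],
      add_zero]
    refine Finset.sum_congr rfl fun i _ => ?_
    show z _ • ((1 : B) ⊗ₜ[A] KaehlerDifferential.D R A (w (Fin.castAdd q i))) = _
    rw [show w (Fin.castAdd q i) = v i from Fin.append_left v 0 i]
    rfl
  have : Algebra.FormallyEtale A B := Algebra.FormallyEtale.of_isLocalization (Submonoid.powers a)
  have : Module.Projective B (B ⊗[A] Ω[A⁄R]) :=
    Module.Projective.of_equiv (KaehlerDifferential.tensorKaehlerEquivOfFormallyEtale R A B).symm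
  let π₀ := kaehlerCoord (R := R) B G.val
  obtain ⟨ρ₀, hρ₀⟩ := (((LinearMap.exact_subtype_ker_map π₀).split_tfae'.out 0 1 rfl rfl).mp
    ⟨(LinearMap.ker π₀).injective_subtype, Module.projective_lifting_property _ _ (kaehlerCoord_surjective G B)⟩).2
  let eSplit := equivProdOfExact _ _ ρ₀ (LinearMap.exact_subtype_ker_map π₀) hρ₀ (kaehlerCoord_surjective G B)
  let eCot : (B ⊗[A] G'.toExtension.Cotangent) ≃ₗ[B] (Fin (n + p) → B) :=
    cotangentEquivKer G' B hinj' ≪≫ₗ kerAppendEquiv _ _ hval ≪≫ₗ
      LinearEquiv.prodCongr (LinearEquiv.refl B (LinearMap.ker π₀))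
        (e.symm ≪≫ₗ LinearEquiv.prodCongr (KaehlerDifferential.tensorKaehlerEquivOfFormallyEtale R A B).symm
          (LinearEquiv.refl B (Fin p → B))) ≪≫ₗ
      (LinearEquiv.prodAssoc B (LinearMap.ker π₀) (B ⊗[A] Ω[A⁄R]) (Fin p → B)).symm ≪≫ₗ
      LinearEquiv.prodCongr eSplit.symm (LinearEquiv.refl B (Fin p → B)) ≪≫ₗ
      (LinearEquiv.sumArrowLequivProdArrow (Fin n) (Fin p) B B).symm ≪≫ₗ
      LinearEquiv.funCongrLeft B B finSumFinEquiv.symm
  have hle : n + p ≤ n + q := by
    have hs : Function.Surjective ((LinearMap.snd B Ω[B⁄R] (Fin p → B)).comp e.symm.toLinearMap) :=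
      fun y => ⟨e (0, y), by simp [B]⟩
    have := le_of_fin_surjective B _ hs
    omega
  have hkerfg : (RingHom.ker (aeval w : MvPolynomial (Fin (n + q)) R →ₐ[R] A).toRingHom).FG :=
    Algebra.FinitePresentation.ker_fG_of_surjective _ hw
  obtain ⟨t, ht⟩ := hkerfg
  refine exists_pow_isStrictlyStandard a (aeval w) hw (fun i => (t.equivFin.symm i : MvPolynomial (Fin (n + q)) R)) ?_
    hle G' rfl eCot ⟨ρ', hρ'⟩
  rw [← ht]
  congr 1
  ext x
  refine ⟨fun hx => ⟨t.equivFin ⟨x, hx⟩, by simp⟩, ?_⟩
  rintro ⟨i, rfl⟩
  exact (t.equivFin.symm i).2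

end TransLib
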