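import Groth.Agent.TransLib.RelKoszul
import Groth.Agent.JacFSLib.Criterion

/-!
# The Jacobian criterion for Koszul exact equations
-/

set_option autoImplicit false

universe u

open TensorProduct KoszDetLib

namespace TransLib

theorem exists_minor_iff_linearIndependent_rows {κ : Type*} [Field κ] {n c : ℕ} (M : Matrix (Fin c) (Fin n) κ) :
    (∃ I : Fin c ↪ Fin n, (M.submatrix id I).det ≠ 0) ↔ LinearIndependent κ M.row := by
  classical
  constructor
  · rintro ⟨I, hI⟩
    have h : LinearIndependent κ (M.submatrix id I).row :=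
      Matrix.linearIndependent_rows_iff_isUnit.2 ((Matrix.isUnit_iff_isUnit_det _).2 (Ne.isUnit hI))
    exact LinearIndependent.of_comp (LinearMap.funLeft κ κ I) h
  · intro h
    obtain ⟨σ, a, ha, hsp, hli⟩ := exists_linearIndependent' κ M.col
    have : Fintype σ := Fintype.ofInjective a ha
    have hc : Fintype.card σ = c := by
      rw [← finrank_span_eq_card hli, hsp, ← M.rank_eq_finrank_span_cols, h.rank_matrix, Fintype.card_fin]
    let e : Fin c ≃ σ := (Fintype.equivFinOfCardEq hc).symm
    refine ⟨⟨a ∘ e, ha.comp e.injective⟩, ?_⟩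
    have h2 : LinearIndependent κ (M.submatrix id (a ∘ e)).col := by
      have h3 := hli.comp e e.injective
      exact h3
    exact ((Matrix.isUnit_iff_isUnit_det _).1 (Matrix.linearIndependent_cols_iff_isUnit.1 h2)).ne_zero

theorem exists_coord {A : Type u} [CommRing A] {c : ℕ} (f : Fin c → A) (hf : IsExactK f) (J : Ideal A)
    (hJ : J = Ideal.span (Set.range f)) :
    ∃ v : Fin c → J.Cotangent, (∀ i, ∃ h : f i ∈ J, v i = J.toCotangent ⟨f i, h⟩) ∧
      Submodule.span A (Set.range v) = ⊤ ∧
      ∃ ψ : Fin c → (J.Cotangent →ₗ[A] A ⧸ Ideal.span (Set.range f)), ∀ j k, ψ j (v k) = if k = j then 1 else 0 := by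
  classical
  subst hJ
  obtain ⟨hli, hsp⟩ := cotangent_basis_of_isExactK f hf
  refine ⟨_, fun i => ⟨Ideal.subset_span (Set.mem_range_self i), rfl⟩, ?_, fun j => ((Module.Basis.mk hli hsp.ge).coord j).restrictScalars A, fun j k => ?_⟩
  · rw [← Submodule.restrictScalars_span A (A ⧸ Ideal.span (Set.range f)) Ideal.Quotient.mk_surjective, hsp,
      Submodule.restrictScalars_top]
  · rw [LinearMap.restrictScalars_apply]
    have := congrArg (fun z => z j) ((Module.Basis.mk hli hsp.ge).repr_self k)
    rw [Module.Basis.mk_apply] at this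
    simpa [Finsupp.single_apply] using this

variable {R : Type u} [CommRing R] {n c : ℕ}

/-- For Koszul exact equations, smoothness at a prime is the nonvanishing of a maximal Jacobian minor. -/
theorem isSmoothAt_iff_exists_minor (F : Fin c → MvPolynomial (Fin n) R) (hF : IsExactK F)
    (q : Ideal (MvPolynomial (Fin n) R ⧸ Ideal.span (Set.range F))) [q.IsPrime] :
    Algebra.IsSmoothAt R q ↔ ∃ I : Fin c ↪ Fin n,
      Ideal.Quotient.mk (Ideal.span (Set.range F))
        (Matrix.det (Matrix.of fun j i => MvPolynomial.pderiv (I i) (F j))) ∉ q := by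
  classical
  let P := MvPolynomial (Fin n) R
  let S := P ⧸ Ideal.span (Set.range F)
  let κ := q.ResidueField
  have hsurj : Function.Surjective (algebraMap P S) := Ideal.Quotient.mk_surjective
  let J := RingHom.ker (algebraMap P S)
  have hJ : J = Ideal.span (Set.range F) := Ideal.mk_ker
  have : Module.Finite P J.Cotangent :=
    have : Module.Finite P J := Module.Finite.of_fg (hJ ▸ Submodule.fg_span (Set.finite_range F))
    Module.Finite.of_surjective _ (Ideal.toCotangent_surjective _)
  obtain ⟨v, hv, hsp, ψ, hψ⟩ := exists_coord F hF J hJ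
  let M : Matrix (Fin c) (Fin n) κ := Matrix.of fun j i => algebraMap P κ (MvPolynomial.pderiv i (F j))
  have hdet : ∀ I : Fin c ↪ Fin n, (M.submatrix id I).det ≠ 0 ↔
      Ideal.Quotient.mk (Ideal.span (Set.range F))
        (Matrix.det (Matrix.of fun j i => MvPolynomial.pderiv (I i) (F j))) ∉ q := fun I => by
    have h1 : (M.submatrix id I).det = algebraMap P κ (Matrix.det (Matrix.of fun j i => MvPolynomial.pderiv (I i) (F j))) := by
      rw [RingHom.map_det]; rfl
    rw [Ne, h1, IsScalarTower.algebraMap_apply P S κ, Ideal.algebraMap_residueField_eq_zero]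
    rfl
  rw [show Algebra.IsSmoothAt R q ↔ _ from JacFSLib.formallySmooth_atPrime_iff (A := R) hsurj q]
  refine Iff.trans ?_ ((exists_minor_iff_linearIndependent_rows M).symm.trans (exists_congr hdet))
  let φ := KaehlerDifferential.kerCotangentToTensor R P S
  have hφ : ∀ j, φ (v j) = (1 : S) ⊗ₜ[P] KaehlerDifferential.D R P (F j) := fun j => by
    obtain ⟨h, e⟩ := hv j
    rw [e]
    exact KaehlerDifferential.kerCotangentToTensor_toCotangent R P S _
  rw [Fintype.linearIndependent_iff]
  constructor
  · intro hinj a ha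
    let x : κ ⊗[P] J.Cotangent := ∑ j, a j ⊗ₜ v j
    have hx : LinearMap.lTensor κ φ x = 0 := by
      rw [map_sum]
      simp only [LinearMap.lTensor_tmul, hφ]
      have e : ∀ j, KaehlerDifferential.D R P (F j) =
          ∑ i, MvPolynomial.pderiv i (F j) • KaehlerDifferential.D R P (MvPolynomial.X i) := fun j => by
        conv_lhs => rw [← (KaehlerDifferential.mvPolynomialBasis R (Fin n)).sum_repr (KaehlerDifferential.D R P (F j))]
        exact Finset.sum_congr rfl fun i _ => by
          rw [KaehlerDifferential.mvPolynomialBasis_repr_apply, KaehlerDifferential.mvPolynomialBasis_apply]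
      have e' : ∀ j i, a j ⊗ₜ[P] ((1 : S) ⊗ₜ[P] (MvPolynomial.pderiv i (F j) • KaehlerDifferential.D R P (MvPolynomial.X i))) =
          (a j * M j i) ⊗ₜ[P] ((1 : S) ⊗ₜ[P] KaehlerDifferential.D R P (MvPolynomial.X i)) := fun j i => by
        rw [TensorProduct.tmul_smul (M := S), ← TensorProduct.smul_tmul, Algebra.smul_def, mul_comm]
        rfl
      simp only [e, TensorProduct.tmul_sum, e']
      rw [Finset.sum_comm]
      refine Finset.sum_eq_zero fun i _ => ?_
      have hi : ∑ j, a j * M j i = 0 := by simpa using congrFun ha i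
      rw [← TensorProduct.sum_tmul, hi, TensorProduct.zero_tmul]
    have h0 : x = 0 := hinj (by rw [hx, map_zero])
    intro j
    let μ : κ ⊗[P] S →ₗ[P] κ := (LinearMap.mul' P κ).comp (LinearMap.lTensor κ (IsScalarTower.toAlgHom P S κ).toLinearMap)
    have h1 := congrArg (fun z => μ (LinearMap.lTensor κ (ψ j) z)) h0
    simp only [x, map_sum, map_zero] at h1
    have h2 : ∀ k, μ (LinearMap.lTensor κ (ψ j) (a k ⊗ₜ[P] v k)) = if k = j then a k else 0 := fun k => by
      show a k * algebraMap S κ (ψ j (v k)) = _
      rw [hψ]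
      split_ifs
      · exact (congrArg (a k * ·) (map_one (algebraMap S κ))).trans (mul_one _)
      · exact (congrArg (a k * ·) (map_zero (algebraMap S κ))).trans (mul_zero _)
    rw [Finset.sum_eq_single_of_mem j (Finset.mem_univ _) (fun k _ hk => (h2 k).trans (if_neg hk)), h2, if_pos rfl] at h1
    exact h1
  · intro hli
    rw [injective_iff_map_eq_zero]
    intro x hx
    obtain ⟨a, rfl⟩ : ∃ a : Fin c → κ, ∑ j, a j ⊗ₜ[P] v j = x := by
      clear hx
      induction x with
      | zero => exact ⟨0, by simp⟩
      | tmul b y =>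
        obtain ⟨r, rfl⟩ := (Submodule.mem_span_range_iff_exists_fun P).1 (hsp ▸ (Submodule.mem_top : y ∈ ⊤))
        exact ⟨fun j => r j • b, by simp only [TensorProduct.tmul_sum, TensorProduct.smul_tmul]⟩
      | add y z hy hz =>
        obtain ⟨a, rfl⟩ := hy
        obtain ⟨b, rfl⟩ := hz
        exact ⟨a + b, by simp [TensorProduct.add_tmul, Finset.sum_add_distrib]⟩
    suffices a = 0 by simp [this]
    refine funext (hli a (funext fun i => ?_))
    let coordS : S ⊗[P] KaehlerDifferential R P →ₗ[P] S :=
      (TensorProduct.rid P S).toLinearMap.comp (LinearMap.lTensor S ((KaehlerDifferential.mvPolynomialBasis R (Fin n)).coord i))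
    let μ : κ ⊗[P] S →ₗ[P] κ := (LinearMap.mul' P κ).comp (LinearMap.lTensor κ (IsScalarTower.toAlgHom P S κ).toLinearMap)
    have h1 := congrArg (fun z => μ (LinearMap.lTensor κ coordS z)) hx
    simp only [map_sum, map_zero, LinearMap.lTensor_tmul] at h1
    refine Eq.trans ?_ h1
    rw [Finset.sum_apply]
    refine Finset.sum_congr rfl fun j _ => ?_
    show a j * M j i = μ (a j ⊗ₜ coordS (φ (v j)))
    rw [hφ]
    show _ = a j * algebraMap S κ ((KaehlerDifferential.mvPolynomialBasis R (Fin n)).coord i (KaehlerDifferential.D R P (F j)) • (1 : S))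
    rw [Module.Basis.coord_apply, KaehlerDifferential.mvPolynomialBasis_repr_apply,
      ← Algebra.algebraMap_eq_smul_one, ← IsScalarTower.algebraMap_apply]
    rfl

end TransLib
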