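import Groth.Agent.TransLib.StrictStd
import Groth.Agent.TransLib.JacMinor

/-!
# A standard element at a smooth prime
-/

set_option autoImplicit false

universe u

open TensorProduct MvPolynomial

namespace TransLib

theorem exists_smul_mem_span_of_residueField {A M : Type u} [CommRing A] [AddCommGroup M] [Module A M] [Module.Finite A M]
    (q : Ideal A) [q.IsPrime] {ι : Type*} (v : ι → M)
    (h : Submodule.span q.ResidueField (Set.range fun i => (1 : q.ResidueField) ⊗ₜ[A] v i) = ⊤) :
    ∃ b : A, b ∉ q ∧ ∀ x : M, b • x ∈ Submodule.span A (Set.range v) := by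
  classical
  let κ := q.ResidueField
  let F := Submodule.span A (Set.range v)
  have hQ : (⟨q, inferInstance⟩ : PrimeSpectrum A) ∉ Module.support A (M ⧸ F) := by
    rw [Module.mem_support_iff_nontrivial_residueField_tensorProduct, not_nontrivial_iff_subsingleton,
      subsingleton_iff_forall_eq 0]
    intro y
    obtain ⟨x, rfl⟩ := LinearMap.lTensor_surjective κ F.mkQ_surjective y
    have hx : x ∈ Submodule.span κ (Set.range fun i => (1 : κ) ⊗ₜ[A] v i) := h ▸ Submodule.mem_top
    induction hx using Submodule.span_induction with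
    | mem z hz =>
      obtain ⟨i, rfl⟩ := hz
      rw [LinearMap.lTensor_tmul, Submodule.mkQ_apply,
        (Submodule.Quotient.mk_eq_zero F).2 (Submodule.subset_span (Set.mem_range_self i)), tmul_zero]
    | zero => exact map_zero _
    | add z w _ _ hz hw => rw [map_add, hz, hw, add_zero]
    | smul a z _ hz =>
      show (F.mkQ.baseChange κ) (a • z) = 0
      rw [map_smul]
      exact (congrArg (a • ·) hz).trans (smul_zero a)
  rw [Module.support_eq_zeroLocus, PrimeSpectrum.mem_zeroLocus, Set.not_subset] at hQ
  obtain ⟨b, hb, hbq⟩ := hQ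
  refine ⟨b, hbq, fun x => ?_⟩
  have h0 := Module.mem_annihilator.1 hb (Submodule.Quotient.mk x)
  rwa [← Submodule.Quotient.mk_smul, Submodule.Quotient.mk_eq_zero] at h0

/-- At a smooth prime some standard element avoids the prime. -/
theorem exists_standard_element_of_isSmoothAt {R A : Type u} [CommRing R] [CommRing A] [Algebra R A] {n m : ℕ}
    (f : Fin m → MvPolynomial (Fin n) R) (φ : MvPolynomial (Fin n) R →ₐ[R] A) (hφ : Function.Surjective φ)
    (hker : RingHom.ker φ.toRingHom = Ideal.span (Set.range f)) (q : Ideal A) [q.IsPrime] [Algebra.IsSmoothAt R q] :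
    ∃ a : A, a ∉ q ∧ ∃ (c : ℕ) (rows : Fin c ↪ Fin m) (cols : Fin c ↪ Fin n) (a' : A),
      a = a' * φ (Smoothing.jacobianMinor f rows cols) ∧
      ∀ a₁ : MvPolynomial (Fin n) R, φ a₁ = a → ∀ ℓ : Fin m,
        a₁ * f ℓ ∈ Ideal.span (Set.range (f ∘ rows)) ⊔ Ideal.span (Set.range f) ^ 2 := by
  classical
  let κ := q.ResidueField
  have hφ' : (aeval fun i => φ (X i)) = φ := (MvPolynomial.aeval_unique φ).symm
  let G : Algebra.Generators R A (Fin n) :=
    Algebra.Generators.ofSurjective (fun i => φ (X i)) (by rw [hφ']; exact hφ)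
  let E := G.toExtension
  have : Algebra.FormallySmooth R E.Ring := inferInstanceAs (Algebra.FormallySmooth R G.Ring)
  have hkerE : E.ker = (Ideal.span (Set.range f) : Ideal (MvPolynomial (Fin n) R)) := by
    rw [← hker]
    show RingHom.ker (aeval fun i => φ (X i)).toRingHom = _
    rw [hφ']
  let relK : Fin m → E.ker := fun j => ⟨f j, hkerE ▸ Ideal.subset_span ⟨j, rfl⟩⟩
  let cls : Fin m → E.Cotangent := fun j => Algebra.Extension.Cotangent.mk (relK j)
  have hcls : ∀ z : E.Cotangent, z ∈ Submodule.span A (Set.range cls) := fun z => by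
    have h := smul_mem_span_mk_of_kills E relK hkerE.le Set.univ 1 (fun j => by
      rw [one_mul]; exact Ideal.mem_sup_left (Ideal.subset_span ⟨j, trivial, rfl⟩)) z
    rwa [map_one, one_smul, Set.image_univ] at h
  have : Module.Finite A E.Cotangent :=
    Module.Finite.of_surjective (Fintype.linearCombination A cls) fun z =>
      (Submodule.mem_span_range_iff_exists_fun A).1 (hcls z) |>.imp fun w hw => by
        rw [Fintype.linearCombination_apply]; exact hw
  have hinj : Function.Injective (E.cotangentComplex.lTensor κ) :=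
    JacFSLib.injective_of_formallySmooth (Localization.AtPrime q) q.primeCompl E κ
  let v : Fin m → κ ⊗[A] E.Cotangent := fun j => (1 : κ) ⊗ₜ[A] cls j
  obtain ⟨σ, rowsFn, hrows, hsp, hli⟩ := exists_linearIndependent' κ v
  have : Fintype σ := Fintype.ofInjective rowsFn hrows
  let c := Fintype.card σ
  let e : Fin c ≃ σ := (Fintype.equivFin σ).symm
  let rows : Fin c ↪ Fin m := ⟨rowsFn ∘ e, hrows.comp e.injective⟩
  have hli' : LinearIndependent κ (v ∘ rows) := hli.comp e e.injective
  have hsp' : Submodule.span κ (Set.range (v ∘ rows)) = ⊤ := by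
    rw [show v ∘ rows = (v ∘ rowsFn) ∘ e from rfl, e.surjective.range_comp, hsp, eq_top_iff]
    rintro x -
    induction x with
    | zero => exact zero_mem _
    | add x y hx hy => exact add_mem hx hy
    | tmul a z =>
      obtain ⟨w, rfl⟩ := (Submodule.mem_span_range_iff_exists_fun A).1 (hcls z)
      rw [TensorProduct.tmul_sum]
      refine Submodule.sum_mem _ fun j _ => ?_
      rw [← TensorProduct.smul_tmul, show (w j • a) ⊗ₜ[A] cls j = (w j • a) • v j by
        rw [TensorProduct.smul_tmul', smul_eq_mul, mul_one]]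
      exact Submodule.smul_mem _ _ (Submodule.subset_span ⟨j, rfl⟩)
  -- the Jacobian rows are independent
  let M : Matrix (Fin c) (Fin n) κ := Matrix.of fun j i => algebraMap A κ (φ (pderiv i (f (rows j))))
  let coord : κ ⊗[A] E.CotangentSpace →ₗ[κ] (Fin n → κ) :=
    ((TensorProduct.piScalarRight A κ κ (Fin n)).toLinearMap).comp (G.cotangentSpaceBasis.equivFun.toLinearMap.baseChange κ)
  have hcoord : Function.Injective coord :=
    (TensorProduct.piScalarRight A κ κ (Fin n)).injective.comp
      (G.cotangentSpaceBasis.equivFun.baseChange A κ).injective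
  have hM : M.row = fun j => (coord.comp (E.cotangentComplex.baseChange κ)) (v (rows j)) := funext fun j => funext fun i => by
    show algebraMap A κ (φ (pderiv i (f (rows j)))) = coord (E.cotangentComplex.baseChange κ ((1 : κ) ⊗ₜ cls (rows j))) i
    rw [LinearMap.baseChange_tmul, LinearMap.comp_apply, LinearMap.baseChange_tmul, LinearEquiv.coe_coe,
      TensorProduct.piScalarRight_apply, TensorProduct.piScalarRightHom_tmul]
    refine Eq.trans ?_ (Algebra.algebraMap_eq_smul_one _)
    refine congrArg (algebraMap A κ) ?_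
    show _ = G.cotangentSpaceBasis.repr (E.cotangentComplex (Algebra.Extension.Cotangent.mk _)) i
    rw [Algebra.Extension.cotangentComplex_mk]
    refine Eq.trans ?_ (G.cotangentSpaceBasis_repr_one_tmul _ _).symm
    show _ = aeval (fun i => φ (X i)) (pderiv i (f (rows j)))
    rw [hφ']
  have hMli : LinearIndependent κ M.row := by
    rw [hM]
    exact hli'.map' _ (LinearMap.ker_eq_bot.2 (hcoord.comp hinj))
  obtain ⟨cols, hcols⟩ := (exists_minor_iff_linearIndependent_rows M).2 hMli
  have hδ : φ (Smoothing.jacobianMinor f rows cols) ∉ q := by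
    intro hmem
    apply hcols
    have h1 : (M.submatrix id cols).det = algebraMap A κ (φ (Smoothing.jacobianMinor f rows cols)) := by
      rw [Smoothing.jacobianMinor, AlgHom.map_det, RingHom.map_det]
      rfl
    rw [h1, Ideal.algebraMap_residueField_eq_zero]
    exact hmem
  obtain ⟨b, hb, hbspan⟩ := exists_smul_mem_span_of_residueField q (cls ∘ rows) hsp'
  refine ⟨b * φ (Smoothing.jacobianMinor f rows cols), fun h => ((inferInstance : q.IsPrime).mem_or_mem h).elim hb hδ,
    c, rows, cols, b, rfl, fun a₁ ha₁ ℓ => ?_⟩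
  let δ := φ (Smoothing.jacobianMinor f rows cols)
  have hmem : (b * δ) • cls ℓ ∈ Submodule.span A (Set.range (cls ∘ rows)) := by
    rw [mul_comm, mul_smul]; exact Submodule.smul_mem _ _ (hbspan _)
  obtain ⟨w, hw⟩ := (Submodule.mem_span_range_iff_exists_fun A).1 hmem
  choose w' hw' using fun j => hφ (w j)
  have halg : ∀ p : MvPolynomial (Fin n) R, algebraMap E.Ring A p = φ p := fun p => by
    show aeval (fun i => φ (X i)) p = φ p
    rw [hφ']
  let aE : E.Ring := a₁
  let wE : Fin c → E.Ring := w'
  have hdiff : Algebra.Extension.Cotangent.mk (aE • relK ℓ - ∑ j, wE j • relK (rows j)) = 0 := by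
    rw [map_sub, map_sum, map_smul, ← algebraMap_smul A aE, show algebraMap E.Ring A aE = b * δ from (halg a₁).trans ha₁]
    refine sub_eq_zero.2 (hw.symm.trans (Finset.sum_congr rfl fun j _ => ?_))
    rw [map_smul, ← algebraMap_smul A (wE j), show algebraMap E.Ring A (wE j) = w j from (halg (w' j)).trans (hw' j)]
    rfl
  rw [Algebra.Extension.Cotangent.mk_eq_zero_iff] at hdiff
  have h2 : a₁ * f ℓ - ∑ j, w' j * f (rows j) ∈ Ideal.span (Set.range f) ^ 2 := by
    have hval : ((aE • relK ℓ - ∑ j, wE j • relK (rows j) : E.ker) : E.Ring) =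
        (a₁ * f ℓ - ∑ j, w' j * f (rows j) : MvPolynomial (Fin n) R) := by
      rw [Submodule.coe_sub, Submodule.coe_sum]
      rfl
    rw [hval, hkerE] at hdiff
    exact hdiff
  rw [show a₁ * f ℓ = (∑ j, w' j * f (rows j)) + (a₁ * f ℓ - ∑ j, w' j * f (rows j)) by ring]
  exact Submodule.add_mem _ (Ideal.mem_sup_left
    (Submodule.sum_mem _ fun j _ => Ideal.mul_mem_left _ _ (Ideal.subset_span ⟨j, rfl⟩))) (Ideal.mem_sup_right h2)

end TransLib
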