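import Groth.Agent.TransLib.DesingLift
import Groth.Agent.TransLib.SingIdeal

/-!
# Desingularization along a sequence
-/

set_option autoImplicit false

universe u

open TensorProduct

namespace TransLib

theorem isStrictlyStandard_map_equiv {R A A' : Type u} [CommRing R] [CommRing A] [Algebra R A] [CommRing A']
    [Algebra R A'] (e : A ≃ₐ[R] A') {a : A} (h : Smoothing.IsStrictlyStandard R A a) :
    Smoothing.IsStrictlyStandard R A' (e a) := by
  obtain ⟨P, ha, hk⟩ := h
  refine ⟨{ P with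
    hom := e.toAlgHom.comp P.hom
    surj := e.surjective.comp P.surj
    ker_eq := (show RingHom.ker (e.toAlgHom.comp P.hom).toRingHom = RingHom.ker P.hom.toRingHom from
      Ideal.ext fun x => show e (P.hom x) = 0 ↔ P.hom x = 0 from EmbeddingLike.map_eq_zero_iff).trans P.ker_eq }, ?_,
    fun a' ha' => hk a' (e.injective ha')⟩
  have h := Ideal.mem_map_of_mem e.toAlgHom ha
  rw [Ideal.map_span, ← Set.range_comp] at h
  exact h

/-- The singular ideal pushes forward along a base change. -/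
theorem map_mem_singularIdeal_baseChange {R A R' A' : Type u} [CommRing R] [CommRing A] [Algebra R A]
    [Algebra.FinitePresentation R A] [CommRing R'] [Algebra R R'] [CommRing A'] [Algebra R' A']
    (e : R' ⊗[R] A ≃ₐ[R'] A') {a : A} (ha : a ∈ Smoothing.singularIdeal R A) :
    e ((1 : R') ⊗ₜ[R] a) ∈ Smoothing.singularIdeal R' A' := by
  have : Algebra.FinitePresentation R' A' := Algebra.FinitePresentation.equiv e
  rw [(singularIdeal_eq_radical_span_standard (R := R')).1]
  rw [(singularIdeal_eq_radical_span_standard (R := R)).1] at ha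
  obtain ⟨n, hn⟩ := ha
  let f : A →+* A' := e.toRingEquiv.toRingHom.comp Algebra.TensorProduct.includeRight.toRingHom
  refine ⟨n, ?_⟩
  rw [show e ((1 : R') ⊗ₜ[R] a) ^ n = f (a ^ n) from (map_pow f a n).symm]
  refine Ideal.mem_comap.1 ((Ideal.map_le_iff_le_comap (f := f) (K := Ideal.span {b | Smoothing.IsStrictlyStandard R' A' b})).1 ?_ hn)
  rw [Ideal.map_span]
  refine Ideal.span_mono ?_
  rintro _ ⟨b, hb, rfl⟩
  exact isStrictlyStandard_map_equiv e ((isStandard_baseChange b).2 hb)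

theorem mk_mem_singularIdeal {R A : Type u} [CommRing R] [CommRing A] [Algebra R A]
    [Algebra.FinitePresentation R A] (K : Ideal R) {a : A} (ha : a ∈ Smoothing.singularIdeal R A) :
    Ideal.Quotient.mk (K.map (algebraMap R A)) a ∈ Smoothing.singularIdeal (R ⧸ K) (A ⧸ K.map (algebraMap R A)) := by
  have h := map_mem_singularIdeal_baseChange (R' := R ⧸ K) (A' := A ⧸ K.map (algebraMap R A))
    (Algebra.TensorProduct.quotIdealMapEquivQuotTensor A K).symm ha
  rw [← Algebra.TensorProduct.quotIdealMapEquivQuotTensor_mk, AlgEquiv.symm_apply_apply] at h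
  exact h

theorem apply_mem_singRad {R A Λ : Type u} [CommRing R] [CommRing A] [Algebra R A] [CommRing Λ] [Algebra R Λ]
    (φ : A →ₐ[R] Λ) {a : A} (ha : a ∈ Smoothing.singularIdeal R A) : φ a ∈ Smoothing.singRad R φ :=
  Ideal.le_radical (Ideal.mem_map_of_mem φ ha)

/-- The image of the singular radical is controlled by a resolution of the reduced problem. -/
theorem map_singRad_le {R A Λ C : Type u} [CommRing R] [CommRing A] [Algebra R A] [Algebra.FinitePresentation R A]
    [CommRing Λ] [Algebra R Λ] (φ : A →ₐ[R] Λ) (K : Ideal R)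
    (φK : (A ⧸ K.map (algebraMap R A)) →ₐ[R ⧸ K] (Λ ⧸ K.map (algebraMap R Λ)))
    (hφK : ∀ a : A, φK (Ideal.Quotient.mk _ a) = Ideal.Quotient.mk _ (φ a))
    [CommRing C] [Algebra (R ⧸ K) C] (h' : C →ₐ[R ⧸ K] Λ ⧸ K.map (algebraMap R Λ))
    (hle : Smoothing.singRad (R ⧸ K) φK ≤ Smoothing.singRad (R ⧸ K) h') :
    (Smoothing.singRad R φ).map (Ideal.Quotient.mk (K.map (algebraMap R Λ))) ≤ Smoothing.singRad (R ⧸ K) h' := by
  have h1 : ((Smoothing.singularIdeal R A).map φ).map (Ideal.Quotient.mk (K.map (algebraMap R Λ))) ≤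
      Smoothing.singRad (R ⧸ K) h' := by
    rw [Ideal.map_le_iff_le_comap, Ideal.map_le_iff_le_comap]
    intro a ha
    rw [Ideal.mem_comap, Ideal.mem_comap, ← hφK]
    exact hle (apply_mem_singRad φK (mk_mem_singularIdeal K ha))
  refine (Ideal.map_radical_le _).trans ?_
  show _ ≤ ((Smoothing.singularIdeal (R ⧸ K) C).map h').radical
  exact (Ideal.radical_isRadical _).radical_le_iff.2 h1

/-- Factorization through an algebra whose singular radical contains `S` and is not contained in `𝔮`. -/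
def ResolvesOn (R : Type u) [CommRing R] {A Λ : Type u} [CommRing A] [Algebra R A] [CommRing Λ] [Algebra R Λ]
    (φ : A →ₐ[R] Λ) (𝔮 : Ideal Λ) (S : Ideal Λ) : Prop :=
  ∃ (B : Type u) (_ : CommRing B) (_ : Algebra R B), Algebra.FinitePresentation R B ∧
    ∃ (g : A →ₐ[R] B) (h : B →ₐ[R] Λ), h.comp g = φ ∧
      S ≤ Smoothing.singRad R h ∧ ¬ Smoothing.singRad R h ≤ 𝔮

theorem mem_of_map_mem {Λ Λ' : Type u} [CommRing Λ] [CommRing Λ'] {f : Λ →+* Λ'} (hf : Function.Surjective f)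
    {J : Ideal Λ} (hJ : RingHom.ker f ≤ J) {x : Λ} (hx : f x ∈ J.map f) : x ∈ J := by
  have : x ∈ (J.map f).comap f := hx
  rwa [Ideal.comap_map_of_surjective f hf, ← RingHom.ker_eq_comap_bot, sup_eq_left.2 hJ] at this

/-- One step. -/
theorem resolvesOn_step {R A Λ : Type u} [CommRing R] [IsNoetherianRing R] [CommRing A] [Algebra R A]
    [Algebra.FinitePresentation R A] [CommRing Λ] [Algebra R Λ] (φ : A →ₐ[R] Λ) (𝔮 : Ideal Λ) [h𝔮 : 𝔮.IsPrime]
    (S : Ideal Λ) (π : R) (hπ : algebraMap R Λ π ∈ 𝔮) (hR : ∀ r : R, π ^ 2 * r = 0 → π * r = 0)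
    (hΛ : ∀ x : Λ, π ^ 2 • x = 0 → π • x = 0)
    (hstd : Smoothing.IsStrictlyStandard R A (algebraMap R A π))
    [Algebra (R ⧸ Ideal.span {π ^ 8}) (Λ ⧸ Ideal.span {algebraMap R Λ (π ^ 8)})]
    [IsScalarTower R (R ⧸ Ideal.span {π ^ 8}) (Λ ⧸ Ideal.span {algebraMap R Λ (π ^ 8)})]
    (φ₁ : (R ⧸ Ideal.span {π ^ 8}) ⊗[R] A →ₐ[R ⧸ Ideal.span {π ^ 8}] Λ ⧸ Ideal.span {algebraMap R Λ (π ^ 8)})
    (hφ₁ : ∀ a, φ₁ (1 ⊗ₜ[R] a) = Ideal.Quotient.mk _ (φ a))
    (hres : ResolvesOn (R ⧸ Ideal.span {π ^ 8}) φ₁ (𝔮.map (Ideal.Quotient.mk _))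
      (S.map (Ideal.Quotient.mk (Ideal.span {algebraMap R Λ (π ^ 8)})))) : ResolvesOn R φ 𝔮 S := by
  obtain ⟨C, _, _, hC, g, h, hgh, hS, hne⟩ := hres
  let R₁ := R ⧸ Ideal.span {π ^ 8}
  let mk := Ideal.Quotient.mk (Ideal.span {algebraMap R Λ (π ^ 8)})
  letI : Algebra R C := ((algebraMap R₁ C).comp (algebraMap R R₁)).toAlgebra
  haveI : IsScalarTower R R₁ C := IsScalarTower.of_algebraMap_eq fun _ => rfl
  obtain ⟨B, _, _, hB, α, β, hαβ, hsm, hle⟩ :=
    desingularize_lifting_apply π hR hΛ φ hstd ((g.restrictScalars R).comp Algebra.TensorProduct.includeRight)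
      (h.restrictScalars R) (fun a => by
        show h (g ((1 : R₁) ⊗ₜ[R] a)) = _
        rw [← AlgHom.comp_apply, hgh]
        exact hφ₁ a)
  let J := ((Smoothing.singularIdeal R B).map β).radical
  have hπJ : algebraMap R Λ π ∈ J := by
    refine Ideal.le_radical ?_
    rw [← β.commutes]
    refine Ideal.mem_map_of_mem _ ((mem_singularIdeal_iff _).2 fun Q _ hQ => ?_)
    by_contra h'
    exact hQ (hsm Q h')
  have hkJ : RingHom.ker mk ≤ J := by
    rw [Ideal.mk_ker, Ideal.span_singleton_le_iff_mem, map_pow]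
    exact Ideal.pow_mem_of_mem _ hπJ 8 (by norm_num)
  have hk𝔮 : RingHom.ker mk ≤ 𝔮 := by
    rw [Ideal.mk_ker, Ideal.span_singleton_le_iff_mem, map_pow]
    exact Ideal.pow_mem_of_mem _ hπ 8 (by norm_num)
  have hsing : Smoothing.singRad R₁ h ≤ (J.map mk).radical := Ideal.radical_mono hle
  refine ⟨B, inferInstance, inferInstance, hB, α, β, hαβ, fun x hx => ?_, fun hJ𝔮 => hne ?_⟩
  · obtain ⟨n, hn⟩ := hsing (hS (Ideal.mem_map_of_mem mk hx))
    rw [← map_pow] at hn
    exact (Ideal.radical_isRadical _) ⟨n, mem_of_map_mem Ideal.Quotient.mk_surjective hkJ hn⟩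
  · refine hsing.trans ?_
    have : (𝔮.map mk).IsPrime := Ideal.map_isPrime_of_surjective Ideal.Quotient.mk_surjective hk𝔮
    exact this.radical_le_iff.2 (Ideal.map_mono hJ𝔮)

theorem span_image_succ {R : Type u} [CommRing R] {r : ℕ} (f : Fin (r + 1) → R) (i : Fin r) :
    Ideal.span (f '' {j | j < i.succ}) = Ideal.span ((fun j : Fin r => f j.succ) '' {j | j < i}) ⊔ Ideal.span {f 0} := by
  rw [← Ideal.span_union]
  congr 1
  ext x
  constructor
  · rintro ⟨j, hj, rfl⟩
    refine Fin.cases (fun _ => Or.inr rfl) (fun k hk => Or.inl ⟨k, Fin.succ_lt_succ_iff.1 hk, rfl⟩) j hj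
  · rintro (⟨k, hk, rfl⟩ | rfl)
    · exact ⟨k.succ, Fin.succ_lt_succ_iff.2 hk, rfl⟩
    · exact ⟨0, Fin.succ_pos i, rfl⟩

theorem span_range_succ {R : Type u} [CommRing R] {r : ℕ} (f : Fin (r + 1) → R) :
    Ideal.span (Set.range f) = Ideal.span (Set.range fun j : Fin r => f j.succ) ⊔ Ideal.span {f 0} := by
  rw [← Ideal.span_union]
  congr 1
  ext x
  constructor
  · rintro ⟨j, rfl⟩
    exact Fin.cases (Or.inr rfl) (fun k => Or.inl ⟨k, rfl⟩) j
  · rintro (⟨k, rfl⟩ | rfl)
    · exact ⟨k.succ, rfl⟩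
    · exact ⟨0, rfl⟩

theorem mk_mem_span_iff {R : Type u} [CommRing R] {ι : Type} (I : Ideal R) (f : ι → R) (s : Set ι) (x : R) :
    Ideal.Quotient.mk I x ∈ Ideal.span ((fun j => Ideal.Quotient.mk I (f j)) '' s) ↔ x ∈ Ideal.span (f '' s) ⊔ I := by
  rw [← Ideal.mem_quotient_iff_mem_sup, Ideal.map_span, Set.image_image]

/-- Desingularization along a sequence. -/
theorem resolvesOn_seq : ∀ (r : ℕ) {R A Λ : Type u} [CommRing R] [IsNoetherianRing R] [CommRing A] [Algebra R A]
    [Algebra.FinitePresentation R A] [CommRing Λ] [Algebra R Λ] (φ : A →ₐ[R] Λ) (𝔮 : Ideal Λ) [𝔮.IsPrime]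
    (S : Ideal Λ) (π : Fin r → R) (_ : ∀ i, algebraMap R Λ (π i) ∈ 𝔮)
    (_ : ∀ i x, π i ^ 2 * x ∈ Ideal.span ((fun j => π j ^ 8) '' {j | j < i}) →
      π i * x ∈ Ideal.span ((fun j => π j ^ 8) '' {j | j < i}))
    (_ : ∀ i x, algebraMap R Λ (π i) ^ 2 * x ∈ Ideal.span ((fun j => algebraMap R Λ (π j ^ 8)) '' {j | j < i}) →
      algebraMap R Λ (π i) * x ∈ Ideal.span ((fun j => algebraMap R Λ (π j ^ 8)) '' {j | j < i}))
    (_ : ∀ i, Smoothing.IsStrictlyStandard R A (algebraMap R A (π i)))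
    {R'' C Λ'' : Type u} [CommRing R''] [Algebra R R''] (_ : Function.Surjective (algebraMap R R''))
    (_ : RingHom.ker (algebraMap R R'') = Ideal.span (Set.range fun j => π j ^ 8))
    [CommRing C] [Algebra R C] [Algebra R'' C] [IsScalarTower R R'' C] [Algebra.FinitePresentation R'' C]
    (g : A →ₐ[R] C) [CommRing Λ''] [Algebra R Λ''] (q : Λ →ₐ[R] Λ'') (_ : Function.Surjective q)
    (_ : RingHom.ker q.toRingHom = Ideal.span (Set.range fun j => algebraMap R Λ (π j ^ 8)))
    (h : C →ₐ[R] Λ'') (_ : h.comp g = q.comp φ)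
    (_ : S.map q ≤ ((Smoothing.singularIdeal R'' C).map h).radical)
    (_ : ¬ (Smoothing.singularIdeal R'' C).map h ≤ 𝔮.map q), ResolvesOn R φ 𝔮 S
  | 0, R, A, Λ, _, _, _, _, _, _, _, φ, 𝔮, _, S, π, _, _, _, _, R'', C, Λ'', _, _, hs, hk, _, _, _, _, _,
      g, _, _, q, hq, hqk, h, hgh, hS, hne => by
    have hb : Function.Bijective (algebraMap R R'') := by
      refine ⟨(RingHom.injective_iff_ker_eq_bot _).2 ?_, hs⟩
      rw [hk, Set.range_eq_empty, Ideal.span_empty]
    have hqb : Function.Bijective q := by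
      refine ⟨(RingHom.injective_iff_ker_eq_bot q.toRingHom).2 ?_, hq⟩
      rw [hqk, Set.range_eq_empty, Ideal.span_empty]
    let e : R ≃ₐ[R] R'' := AlgEquiv.ofBijective (Algebra.ofId R R'') hb
    have : Algebra.FormallySmooth R R'' := Algebra.FormallySmooth.of_equiv e
    have : Algebra.FinitePresentation R R'' := Algebra.FinitePresentation.equiv e
    have hC : Algebra.FinitePresentation R C := Algebra.FinitePresentation.trans R R'' C
    have hle : Smoothing.singularIdeal R'' C ≤ Smoothing.singularIdeal R C := fun c hc => by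
      rw [mem_singularIdeal_iff] at hc ⊢
      intro Q _ hQ
      refine hc Q fun hsm => hQ ?_
      have : Algebra.FormallySmooth R'' (Localization.AtPrime Q) := hsm
      exact Algebra.FormallySmooth.comp R R'' (Localization.AtPrime Q)
    let qe := AlgEquiv.ofBijective q hqb
    refine ⟨C, inferInstance, inferInstance, hC, g, qe.symm.toAlgHom.comp h, AlgHom.ext fun a => ?_, fun x hx => ?_,
      fun hJ => hne ?_⟩
    · show qe.symm (h (g a)) = φ a
      rw [← AlgHom.comp_apply, hgh]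
      exact qe.symm_apply_apply _
    · obtain ⟨n, hn⟩ := hS (Ideal.mem_map_of_mem q hx)
      refine ⟨n, ?_⟩
      have h1 := Ideal.mem_map_of_mem qe.symm.toAlgHom (Ideal.map_mono hle hn)
      have h2 : qe.symm.toAlgHom (q x ^ n) = x ^ n := by
        show qe.symm (q x ^ n) = _
        rw [map_pow]
        exact congrArg (· ^ n) (qe.symm_apply_apply x)
      rw [h2, ← Ideal.map_coe, ← Ideal.map_coe h, Ideal.map_map] at h1
      exact h1
    · rw [Ideal.map_le_iff_le_comap]
      intro c hc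
      have h1 : qe.symm (h c) ∈ 𝔮 := hJ (Ideal.le_radical (Ideal.mem_map_of_mem _ (hle hc)))
      show h c ∈ 𝔮.map q
      rw [show h c = q (qe.symm (h c)) from (qe.apply_symm_apply _).symm]
      exact Ideal.mem_map_of_mem q h1
  | r + 1, R, A, Λ, _, _, _, _, _, _, _, φ, 𝔮, _, S, π, hπ, hR, hΛ, hstd, R'', C, Λ'', _, _, hs, hk, _, _, _, _, _,
      g, _, _, q, hq, hqk, h, hgh, hS, hne => by
    let R₁ := R ⧸ Ideal.span {π 0 ^ 8}
    let IΛ : Ideal Λ := Ideal.span {algebraMap R Λ (π 0 ^ 8)}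
    let Λ₁ := Λ ⧸ IΛ
    letI algΛ : Algebra R₁ Λ₁ := (Ideal.Quotient.lift (Ideal.span {π 0 ^ 8}) (algebraMap R Λ₁) fun x hx => by
      obtain ⟨y, rfl⟩ := Ideal.mem_span_singleton'.1 hx
      rw [map_mul, IsScalarTower.algebraMap_apply R Λ Λ₁ (π 0 ^ 8),
        show algebraMap Λ Λ₁ (algebraMap R Λ (π 0 ^ 8)) = 0 from
          Ideal.Quotient.eq_zero_iff_mem.2 (Ideal.mem_span_singleton_self _), mul_zero]).toAlgebra
    haveI : IsScalarTower R R₁ Λ₁ := IsScalarTower.of_algebraMap_eq fun _ => rfl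
    let φ₁ : R₁ ⊗[R] A →ₐ[R₁] Λ₁ :=
      Algebra.TensorProduct.lift (Algebra.ofId R₁ Λ₁) ((Ideal.Quotient.mkₐ R IΛ).comp φ) fun _ _ => Commute.all _ _
    have hφ₁ : ∀ a, φ₁ (1 ⊗ₜ[R] a) = Ideal.Quotient.mk IΛ (φ a) := fun a => by
      rw [Algebra.TensorProduct.lift_tmul, map_one, one_mul]
      rfl
    have hk𝔮 : RingHom.ker (Ideal.Quotient.mk IΛ) ≤ 𝔮 := by
      rw [Ideal.mk_ker, Ideal.span_singleton_le_iff_mem, map_pow]
      exact Ideal.pow_mem_of_mem _ (hπ 0) 8 (by norm_num)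
    have : (𝔮.map (Ideal.Quotient.mk IΛ)).IsPrime := Ideal.map_isPrime_of_surjective Ideal.Quotient.mk_surjective hk𝔮
    have h00 : ∀ {T : Type u} [CommRing T] (f : Fin (r + 1) → T), Ideal.span (f '' {j | j < (0 : Fin (r + 1))}) = ⊥ :=
      fun f => by
        rw [show {j : Fin (r + 1) | j < 0} = (∅ : Set (Fin (r + 1))) from Set.eq_empty_of_forall_notMem fun j hj =>
          Fin.not_lt_zero j hj, Set.image_empty, Ideal.span_empty]
    refine resolvesOn_step φ 𝔮 S (π 0) (hπ 0) (fun x hx => ?_) (fun x hx => ?_) (hstd 0) φ₁ hφ₁ ?_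
    · have := hR 0 x
      rw [h00, Ideal.mem_bot, Ideal.mem_bot] at this
      exact this hx
    · have := hΛ 0 x
      rw [h00, Ideal.mem_bot, Ideal.mem_bot] at this
      rw [Algebra.smul_def] at hx ⊢
      exact this (by rwa [← map_pow])
    have hk0 : ∀ x ∈ Ideal.span {π 0 ^ 8}, algebraMap R R'' x = 0 := fun x hx => by
      have : x ∈ RingHom.ker (algebraMap R R'') := by
        rw [hk, span_range_succ (fun j => π j ^ 8)]
        exact Ideal.mem_sup_right hx
      exact this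
    letI : Algebra R₁ R'' := (Ideal.Quotient.lift _ (algebraMap R R'') hk0).toAlgebra
    letI : Algebra R₁ C := ((algebraMap R'' C).comp (algebraMap R₁ R'')).toAlgebra
    haveI : IsScalarTower R₁ R'' C := IsScalarTower.of_algebraMap_eq fun _ => rfl
    haveI : IsScalarTower R R₁ C := IsScalarTower.of_algebraMap_eq fun x =>
      (IsScalarTower.algebraMap_apply R R'' C x)
    have hq0 : ∀ x ∈ IΛ, q x = 0 := fun x hx => by
      have : x ∈ RingHom.ker q.toRingHom := by
        rw [hqk, span_range_succ (fun j => algebraMap R Λ (π j ^ 8))]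
        exact Ideal.mem_sup_right hx
      exact this
    letI : Algebra R₁ Λ'' := (Ideal.Quotient.lift (Ideal.span {π 0 ^ 8}) (algebraMap R Λ'') fun x hx => by
      obtain ⟨y, rfl⟩ := Ideal.mem_span_singleton'.1 hx
      rw [map_mul, ← q.commutes (π 0 ^ 8), hq0 _ (Ideal.mem_span_singleton_self _), mul_zero]).toAlgebra
    haveI : IsScalarTower R R₁ Λ'' := IsScalarTower.of_algebraMap_eq fun _ => rfl
    let h₁ : C →ₐ[R₁] Λ'' := { h with
      commutes' := fun x => by
        obtain ⟨x, rfl⟩ := Ideal.Quotient.mk_surjective x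
        show h (algebraMap R'' C (algebraMap R R'' x)) = algebraMap R Λ'' x
        rw [← IsScalarTower.algebraMap_apply]
        exact h.commutes x }
    let g₁ : R₁ ⊗[R] A →ₐ[R₁] C :=
      Algebra.TensorProduct.lift (Algebra.ofId R₁ C) g fun _ _ => Commute.all _ _
    let q₁ : Λ₁ →ₐ[R₁] Λ'' := { Ideal.Quotient.lift IΛ q.toRingHom hq0 with
      commutes' := fun x => by
        obtain ⟨x, rfl⟩ := Ideal.Quotient.mk_surjective x
        show Ideal.Quotient.lift IΛ q.toRingHom hq0 (Ideal.Quotient.mk IΛ (algebraMap R Λ x)) = algebraMap R Λ'' x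
        rw [Ideal.Quotient.lift_mk]
        exact q.commutes x }
    have hq₁ : ∀ x, q₁ (Ideal.Quotient.mk IΛ x) = q x := fun x => rfl
    have halgΛ : ∀ x : R, algebraMap R₁ Λ₁ (Ideal.Quotient.mk _ x) = Ideal.Quotient.mk IΛ (algebraMap R Λ x) :=
      fun _ => rfl
    refine resolvesOn_seq r φ₁ (𝔮.map (Ideal.Quotient.mk IΛ)) (S.map (Ideal.Quotient.mk IΛ))
      (fun i => Ideal.Quotient.mk _ (π i.succ)) (fun i => Ideal.mem_map_of_mem _ (hπ i.succ)) (fun i x hx => ?_)
      (fun i x hx => ?_) (fun i => ?_) (R'' := R'') (C := C) (Λ'' := Λ'') ?_ ?_ g₁ q₁ ?_ ?_ h₁ ?_ ?_ ?_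
    · obtain ⟨x, rfl⟩ := Ideal.Quotient.mk_surjective x
      simp only [← map_pow, ← map_mul] at hx ⊢
      rw [mk_mem_span_iff] at hx ⊢
      rw [← span_image_succ (fun j => π j ^ 8) i] at hx ⊢
      exact hR i.succ x hx
    · obtain ⟨x, rfl⟩ := Ideal.Quotient.mk_surjective x
      simp only [← map_pow (Ideal.Quotient.mk (Ideal.span {π 0 ^ 8})), halgΛ, ← map_pow, ← map_mul] at hx ⊢
      rw [mk_mem_span_iff] at hx ⊢
      rw [← span_image_succ (fun j => algebraMap R Λ (π j ^ 8)) i] at hx ⊢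
      have h2 := hΛ i.succ x
      simp only [map_pow] at h2 hx ⊢
      exact h2 hx
    · have h1 := (isStandard_baseChange (R' := R₁) (algebraMap R A (π i.succ))).2 (hstd i.succ)
      rw [← Algebra.TensorProduct.tmul_one_eq_one_tmul] at h1
      exact h1
    · intro y
      obtain ⟨x, rfl⟩ := hs y
      exact ⟨Ideal.Quotient.mk _ x, rfl⟩
    · refine (Ideal.ker_quotient_lift (algebraMap R R'') hk0).trans ?_
      rw [hk, span_range_succ (fun j => π j ^ 8), Ideal.map_sup, Ideal.map_quotient_self, sup_bot_eq, Ideal.map_span,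
        ← Set.range_comp]
      simp only [Function.comp_def, map_pow]
      rfl
    · intro y
      obtain ⟨x, rfl⟩ := hq y
      exact ⟨Ideal.Quotient.mk IΛ x, rfl⟩
    · refine (Ideal.ker_quotient_lift q.toRingHom hq0).trans ?_
      rw [hqk, span_range_succ (fun j => algebraMap R Λ (π j ^ 8)), Ideal.map_sup,
        show Ideal.map (Ideal.Quotient.mk IΛ) (Ideal.span {algebraMap R Λ (π 0 ^ 8)}) = ⊥ from Ideal.map_quotient_self _,
        sup_bot_eq, Ideal.map_span, ← Set.range_comp]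
      simp only [Function.comp_def, map_pow, halgΛ]
      rfl
    · refine Algebra.TensorProduct.ext (Subsingleton.elim _ _) (AlgHom.ext fun a => ?_)
      show h (g₁ ((1 : R₁) ⊗ₜ[R] a)) = q₁ (φ₁ ((1 : R₁) ⊗ₜ[R] a))
      rw [hφ₁, hq₁, Algebra.TensorProduct.lift_tmul, map_one, one_mul, ← AlgHom.comp_apply, hgh]
      rfl
    · refine le_trans (le_of_eq ?_) hS
      rw [← Ideal.map_coe q₁, Ideal.map_map, ← Ideal.map_coe q]
      rfl
    · intro hle
      refine hne (hle.trans (le_of_eq ?_))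
      rw [← Ideal.map_coe q₁, Ideal.map_map, ← Ideal.map_coe q]
      rfl

end TransLib
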