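import Groth.Agent.TransLib.DesingRel

/-!
# The algebra forcing powers of the parameters into the singular ideal
-/

set_option autoImplicit false

universe u

open MvPolynomial

namespace TransLib

variable {k A : Type u} [Field k] [CommRing A] [Algebra k A]

/-- The relations `xᵢ^n - ∑ zᵢⱼ aⱼ`. -/
noncomputable def powRelIdeal (d n : ℕ) {m : ℕ} (a : Fin m → A) : Ideal (MvPolynomial (Fin d ⊕ Fin d × Fin m) A) :=
  Ideal.span (Set.range fun i => X (Sum.inl i) ^ n - ∑ j, X (Sum.inr (i, j)) * MvPolynomial.C (a j))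

/-- The universal algebra in which `xᵢ^n` is a combination of the `aⱼ`. -/
abbrev PowAlg (d n : ℕ) {m : ℕ} (a : Fin m → A) : Type u :=
  MvPolynomial (Fin d ⊕ Fin d × Fin m) A ⧸ powRelIdeal d n a

/-- The coordinates of affine space. -/
noncomputable instance powAlgAlgebra (d n : ℕ) {m : ℕ} (a : Fin m → A) :
    Algebra (MvPolynomial (Fin d) k) (PowAlg d n a) :=
  (aeval (fun i => Ideal.Quotient.mk (powRelIdeal d n a) (X (Sum.inl i))) :
    MvPolynomial (Fin d) k →ₐ[k] PowAlg d n a).toRingHom.toAlgebra

instance (d n : ℕ) {m : ℕ} (a : Fin m → A) : IsScalarTower k (MvPolynomial (Fin d) k) (PowAlg d n a) :=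
  IsScalarTower.of_algebraMap_eq fun r =>
    (AlgHom.commutes (aeval fun i => Ideal.Quotient.mk (powRelIdeal d n a) (X (Sum.inl i))) r).symm

theorem powAlg_algebraMap_X (d n : ℕ) {m : ℕ} (a : Fin m → A) (i : Fin d) :
    algebraMap (MvPolynomial (Fin d) k) (PowAlg d n a) (X i) = Ideal.Quotient.mk _ (X (Sum.inl i)) :=
  aeval_X _ _

theorem powAlg_rel (d n : ℕ) {m : ℕ} (a : Fin m → A) (i : Fin d) :
    (Ideal.Quotient.mk (powRelIdeal d n a) (X (Sum.inl i)) : PowAlg d n a) ^ n =
      ∑ j, Ideal.Quotient.mk _ (X (Sum.inr (i, j))) * Ideal.Quotient.mk _ (MvPolynomial.C (a j)) := by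
  simp only [← map_mul, ← map_pow, ← map_sum]
  exact Ideal.Quotient.eq.2 (Ideal.subset_span ⟨i, rfl⟩)

theorem finitePresentation_powAlg (d n : ℕ) {m : ℕ} (a : Fin m → A) [Algebra.FinitePresentation k A] :
    Algebra.FinitePresentation (MvPolynomial (Fin d) k) (PowAlg d n a) := by
  have : IsNoetherianRing A := Algebra.FiniteType.isNoetherianRing k A
  have h1 : Algebra.FinitePresentation A (PowAlg d n a) :=
    Algebra.FinitePresentation.quotient (IsNoetherian.noetherian _)
  have : Algebra.FinitePresentation k (PowAlg d n a) := Algebra.FinitePresentation.trans k A _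
  exact Algebra.FinitePresentation.of_restrict_scalars_finitePresentation k (MvPolynomial (Fin d) k) (PowAlg d n a)

theorem formallySmooth_powAlg_away (d n : ℕ) {m : ℕ} (a : Fin m → A) (j : Fin m)
    [Algebra.Smooth k (Localization.Away (a j))] :
    Algebra.FormallySmooth (MvPolynomial (Fin d) k)
      (Localization.Away (Ideal.Quotient.mk (powRelIdeal d n a) (MvPolynomial.C (a j)))) := by
  classical
  let R := MvPolynomial (Fin d) k
  let B := PowAlg d n a
  let b : B := Ideal.Quotient.mk (powRelIdeal d n a) (MvPolynomial.C (a j))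
  let Bb := Localization.Away b
  refine Algebra.FormallySmooth.of_comp_surjective fun S _ _ J hJ f => ?_
  letI : Algebra k S := ((algebraMap R S).comp (algebraMap k R)).toAlgebra
  haveI : IsScalarTower k R S := IsScalarTower.of_algebraMap_eq fun _ => rfl
  let fB : B →ₐ[R] S ⧸ J := f.comp (IsScalarTower.toAlgHom R B Bb)
  let fA : A →ₐ[k] S ⧸ J := (fB.restrictScalars k).comp
    ((Ideal.Quotient.mkₐ k _).comp (IsScalarTower.toAlgHom k A (MvPolynomial (Fin d ⊕ Fin d × Fin m) A)))
  have hfA : ∀ x, fA x = fB (Ideal.Quotient.mk _ (MvPolynomial.C x)) := fun _ => rfl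
  have hu : IsUnit (fA (a j)) := (IsLocalization.Away.algebraMap_isUnit (S := Bb) b).map f
  let Aj := Localization.Away (a j)
  let fAj : Aj →ₐ[k] S ⧸ J := IsLocalization.liftAlgHom (M := Submonoid.powers (a j)) (f := fA) (by
    rintro ⟨_, i, rfl⟩
    show IsUnit (fA (a j ^ i))
    rw [map_pow]; exact hu.pow i)
  let α : Aj →ₐ[k] S := Algebra.FormallySmooth.lift J ⟨2, hJ⟩ fAj
  have hα : ∀ x : A, Ideal.Quotient.mk J (α (algebraMap A Aj x)) = fA x := fun x => by
    refine (AlgHom.congr_fun (Algebra.FormallySmooth.comp_lift J ⟨2, hJ⟩ fAj) _).trans ?_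
    exact IsLocalization.lift_eq _ x
  obtain ⟨v, hv⟩ : ∃ v, α (algebraMap A Aj (a j)) * v = 1 :=
    isUnit_iff_exists_inv.1 ((IsLocalization.Away.algebraMap_isUnit (S := Aj) (a j)).map α)
  choose w hw using fun p : Fin d × Fin m =>
    Ideal.Quotient.mk_surjective (fB (Ideal.Quotient.mk _ (X (Sum.inr p))))
  let xs : Fin d → S := fun i => algebraMap R S (X i)
  let wj : Fin d → S := fun i => v * (xs i ^ n - ∑ l ∈ Finset.univ.erase j, w (i, l) * α (algebraMap A Aj (a l)))
  let val : Fin d ⊕ Fin d × Fin m → S := Sum.elim xs fun p => if p.2 = j then wj p.1 else w p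
  let ψ : MvPolynomial (Fin d ⊕ Fin d × Fin m) A →+* S :=
    eval₂Hom (α.toRingHom.comp (algebraMap A Aj)) val
  have hker : powRelIdeal d n a ≤ RingHom.ker ψ := by
    refine Ideal.span_le.2 ?_
    rintro _ ⟨i, rfl⟩
    show ψ _ = 0
    simp only [ψ, map_sub, map_pow, map_sum, map_mul, eval₂Hom_X', eval₂Hom_C, RingHom.comp_apply, val, Sum.elim_inl,
      Sum.elim_inr]
    rw [← Finset.sum_erase_add _ _ (Finset.mem_univ j), if_pos rfl,
      Finset.sum_congr rfl fun l hl => by rw [if_neg (Finset.ne_of_mem_erase hl)]]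
    show xs i ^ n - (∑ l ∈ Finset.univ.erase j, w (i, l) * α (algebraMap A Aj (a l)) +
      wj i * α (algebraMap A Aj (a j))) = 0
    simp only [wj]
    linear_combination
      -(xs i ^ n - ∑ l ∈ Finset.univ.erase j, w (i, l) * α (algebraMap A Aj (a l))) * hv
  let ψB : B →ₐ[R] S :=
    { Ideal.Quotient.lift (powRelIdeal d n a) ψ hker with
      commutes' := fun r => RingHom.congr_fun (f := (Ideal.Quotient.lift (powRelIdeal d n a) ψ hker).comp (algebraMap R B))
        (g := algebraMap R S) (MvPolynomial.ringHom_ext (fun c => by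
          show Ideal.Quotient.lift _ ψ hker (algebraMap R B (algebraMap k R c)) = algebraMap R S (algebraMap k R c)
          rw [← IsScalarTower.algebraMap_apply, ← IsScalarTower.algebraMap_apply,
            IsScalarTower.algebraMap_apply k A B]
          show ψ (MvPolynomial.C (algebraMap k A c)) = _
          rw [eval₂Hom_C, RingHom.comp_apply, ← IsScalarTower.algebraMap_apply]
          exact α.commutes c) fun i => by
          show Ideal.Quotient.lift _ ψ hker (algebraMap R B (X i)) = _
          rw [powAlg_algebraMap_X, Ideal.Quotient.lift_mk, eval₂Hom_X']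
          rfl) r }
  have hψb : IsUnit (ψB b) := by
    show IsUnit (ψ (MvPolynomial.C (a j)))
    rw [eval₂Hom_C]
    exact (IsLocalization.Away.algebraMap_isUnit (S := Aj) (a j)).map α
  let ψb : Bb →ₐ[R] S := IsLocalization.liftAlgHom (M := Submonoid.powers b) (f := ψB) (by
    rintro ⟨_, i, rfl⟩
    show IsUnit (ψB (b ^ i))
    rw [map_pow]; exact hψb.pow i)
  refine ⟨ψb, AlgHom.coe_ringHom_injective (IsLocalization.ringHom_ext (Submonoid.powers b) ?_)⟩
  refine Ideal.Quotient.ringHom_ext (MvPolynomial.ringHom_ext (fun x => ?_) fun p => ?_)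
  all_goals show Ideal.Quotient.mk J (ψb (algebraMap B Bb _)) = fB _
  all_goals rw [show ∀ z, ψb (algebraMap B Bb z) = ψB z from fun z => IsLocalization.lift_eq _ z]
  · show Ideal.Quotient.mk J (ψ (MvPolynomial.C x)) = _
    rw [eval₂Hom_C]
    exact hα x
  · show Ideal.Quotient.mk J (ψ (X p)) = _
    rw [eval₂Hom_X']
    rcases p with i | ⟨i, l⟩
    · show algebraMap R (S ⧸ J) (X i) = fB (Ideal.Quotient.mk _ (X (Sum.inl i)))
      rw [← powAlg_algebraMap_X (k := k)]
      exact (fB.commutes _).symm
    · by_cases hl : l = j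
      · subst hl
        show Ideal.Quotient.mk J (if (i, l).2 = l then wj i else w (i, l)) = _
        rw [if_pos rfl]
        refine (hu.mul_left_inj).1 ?_
        have hrel : fB (Ideal.Quotient.mk _ (X (Sum.inl i))) ^ n =
            ∑ j', fB (Ideal.Quotient.mk _ (X (Sum.inr (i, j')))) * fA (a j') := by
          rw [← map_pow, powAlg_rel, map_sum]
          exact Finset.sum_congr rfl fun j' _ => by rw [map_mul]; rfl
        rw [← Finset.sum_erase_add _ _ (Finset.mem_univ l)] at hrel
        have h2 : Ideal.Quotient.mk J (wj i) * fA (a l) =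
            Ideal.Quotient.mk J (xs i ^ n - ∑ l' ∈ Finset.univ.erase l, w (i, l') * α (algebraMap A Aj (a l'))) := by
          rw [← hα, ← map_mul]
          refine congrArg _ ?_
          simp only [wj]
          linear_combination
            (xs i ^ n - ∑ l' ∈ Finset.univ.erase l, w (i, l') * α (algebraMap A Aj (a l'))) * hv
        rw [h2, map_sub, map_pow, map_sum,
          show Ideal.Quotient.mk J (xs i) = fB (Ideal.Quotient.mk _ (X (Sum.inl i))) from by
            rw [← powAlg_algebraMap_X (k := k), fB.commutes]; rfl, hrel,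
          Finset.sum_congr rfl fun l' _ => show Ideal.Quotient.mk J (w (i, l') * α (algebraMap A Aj (a l'))) = _ by
            rw [map_mul, hw, hα]]
        exact add_sub_cancel_left _ _
      · show Ideal.Quotient.mk J (if (i, l).2 = j then wj i else w (i, l)) = _
        rw [if_neg hl]
        exact hw _

theorem mem_singularIdeal_powAlg (d n : ℕ) {m : ℕ} (a : Fin m → A) (j : Fin m) [Algebra.FinitePresentation k A]
    (ha : a j ∈ Smoothing.singularIdeal k A) :
    Ideal.Quotient.mk (powRelIdeal d n a) (MvPolynomial.C (a j)) ∈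
      Smoothing.singularIdeal (MvPolynomial (Fin d) k) (PowAlg d n a) := by
  have := smooth_away_of_mem_singularIdeal ha
  have := finitePresentation_powAlg (k := k) d n a
  let b : PowAlg d n a := Ideal.Quotient.mk (powRelIdeal d n a) (MvPolynomial.C (a j))
  have : Algebra.FinitePresentation (PowAlg d n a) (Localization.Away b) := IsLocalization.Away.finitePresentation b
  have hsm : Algebra.Smooth (MvPolynomial (Fin d) k) (Localization.Away b) :=
    ⟨formallySmooth_powAlg_away d n a j, Algebra.FinitePresentation.trans _ (PowAlg d n a) _⟩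
  rw [mem_singularIdeal_iff]
  intro Q _ hQ
  by_contra h
  exact hQ (Algebra.basicOpen_subset_smoothLocus_iff_smooth.2 hsm
    (show (⟨Q, inferInstance⟩ : PrimeSpectrum (PowAlg d n a)) ∈ (PrimeSpectrum.basicOpen b : Set _) from h))

theorem X_mem_singularIdeal_powAlg (d n : ℕ) {m : ℕ} (a : Fin m → A) [Algebra.FinitePresentation k A]
    (ha : ∀ j, a j ∈ Smoothing.singularIdeal k A) (i : Fin d) :
    algebraMap (MvPolynomial (Fin d) k) (PowAlg d n a) (X i) ∈
      Smoothing.singularIdeal (MvPolynomial (Fin d) k) (PowAlg d n a) := by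
  have h : (Smoothing.singularIdeal (MvPolynomial (Fin d) k) (PowAlg d n a)).IsRadical :=
    PrimeSpectrum.isRadical_vanishingIdeal _
  refine h ⟨n, ?_⟩
  rw [powAlg_algebraMap_X, powAlg_rel]
  exact Ideal.sum_mem _ fun j _ => Ideal.mul_mem_left _ _ (mem_singularIdeal_powAlg d n a j (ha j))

end TransLib
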