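import Groth.Agent.TransLib.SepRes
import Groth.Agent.TransLib.SepResBlow
import Groth.Agent.TransLib.FreeKaehler
import Groth.Agent.TransLib.ParamAnn
import Groth.Agent.TransLib.DesingSeq
import Groth.Agent.TransLib.GlueLocal
import Groth.Agent.TransLib.StdPow

/-!
# Resolving at a regular prime with separable residue field
-/

set_option autoImplicit false

universe u

open MvPolynomial

namespace TransLib

/-- A problem at a prime with ind-smooth local ring and nilpotent maximal ideal can be resolved. -/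
theorem resolvable_of_indSmooth_atPrime {R A Λ L : Type u} [CommRing R] [IsNoetherianRing R] [CommRing A] [Algebra R A]
    [Algebra.FinitePresentation R A] [CommRing Λ] [Algebra R Λ] (φ : A →ₐ[R] Λ) (q : Ideal Λ) [q.IsPrime]
    [CommRing L] [Algebra Λ L] [IsLocalization.AtPrime L q] [Algebra R L] [IsScalarTower R Λ L]
    (hind : Smoothing.IndSmooth R L) (hnil : ∀ x ∈ q, IsNilpotent (algebraMap Λ L x)) :
    Smoothing.Resolvable R φ q := by
  classical
  by_cases hA : Smoothing.singRad R φ ≤ q
  swap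
  · exact ⟨A, inferInstance, inferInstance, inferInstance, AlgHom.id R A, φ, φ.comp_id, le_rfl, hA⟩
  have : IsNoetherianRing A := Algebra.FiniteType.isNoetherianRing R A
  obtain ⟨B, _, _, hB, αB, χB, hχ⟩ := hind A inferInstance ((IsScalarTower.toAlgHom R Λ L).comp φ)
  obtain ⟨l, ψ, hψ, -⟩ := hB.finitePresentation.out
  have hgen : ∀ b : B, ∃ (s : R) (p : MvPolynomial (Fin l) R), s ∉ q.comap (algebraMap R Λ) ∧
      algebraMap R B s * b = aeval (fun i => ψ (X i)) p := fun b => by
    obtain ⟨p, rfl⟩ := hψ b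
    refine ⟨1, p, fun h => ‹q.IsPrime›.ne_top ((Ideal.eq_top_iff_one _).2 (by simpa using h)), ?_⟩
    rw [map_one, one_mul]
    exact AlgHom.congr_fun (MvPolynomial.aeval_unique ψ) p
  obtain ⟨m, a, ha⟩ := Submodule.fg_iff_exists_fin_generating_family.1
    (IsNoetherian.noetherian (Smoothing.singularIdeal R A))
  have hak : ∀ j, a j ∈ Smoothing.singularIdeal R A := fun j => ha ▸ Submodule.subset_span ⟨j, rfl⟩
  obtain ⟨C, _, _, hC, g, h, hgh, hsm, hsm'⟩ := exists_glue φ q (Λq := L) αB χB (fun x => AlgHom.congr_fun hχ x)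
    (fun i => ψ (X i)) hgen a (fun j => smooth_away_of_mem_singularIdeal (hak j))
    (fun j => hnil _ (hA (apply_mem_singRad φ (hak j))))
  refine ⟨C, inferInstance, inferInstance, hC, g, h, hgh, ?_,
    fun hle => exists_mem_of_isSmoothAt h q hsm (Ideal.le_radical.trans hle)⟩
  unfold Smoothing.singRad
  refine Ideal.radical_le_radical_iff.2 ?_
  rw [Ideal.map_le_iff_le_comap, ← ha]
  refine Submodule.span_le.2 ?_
  rintro _ ⟨j, rfl⟩
  show φ (a j) ∈ Ideal.radical _
  rw [Ideal.radical_eq_sInf, Submodule.mem_sInf]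
  rintro r ⟨hr, hrp⟩
  by_contra hj
  exact exists_mem_of_isSmoothAt h r (hsm' r ⟨j, hj⟩) hr

theorem exists_pow_isStrictlyStandard_of_free {R C : Type u} [CommRing R] [CommRing C] [Algebra R C]
    [Algebra.FinitePresentation R C] (c : C) [Algebra.Smooth R (Localization.Away c)]
    [Module.Free (Localization.Away c) Ω[Localization.Away c⁄R]] :
    ∃ e₀ : ℕ, ∀ n : ℕ, e₀ ≤ n → Smoothing.IsStrictlyStandard R C (c ^ n) := by
  let T := Localization.Away c
  obtain ⟨q, ⟨e⟩⟩ : ∃ q : ℕ, Nonempty (Ω[T⁄R] ≃ₗ[T] (Fin q → T)) := by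
    rcases subsingleton_or_nontrivial T with h | h
    · have : Subsingleton Ω[T⁄R] := Module.subsingleton T _
      exact ⟨0, ⟨LinearEquiv.ofSubsingleton _ _⟩⟩
    · exact ⟨_, ⟨(Module.finBasis T Ω[T⁄R]).equivFun⟩⟩
  exact pow_isStrictlyStandard_of_smooth_stablyFree c 0 q
    (LinearEquiv.prodUnique.trans e)

theorem mem_singularIdeal_of_formallySmooth_away {R C : Type u} [CommRing R] [CommRing C] [Algebra R C]
    [Algebra.FinitePresentation R C] {c : C} [Algebra.FormallySmooth R (Localization.Away c)] :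
    c ∈ Smoothing.singularIdeal R C := by
  have : Algebra.FinitePresentation C (Localization.Away c) := IsLocalization.Away.finitePresentation c
  have hsm : Algebra.Smooth R (Localization.Away c) :=
    ⟨inferInstance, Algebra.FinitePresentation.trans _ C _⟩
  rw [mem_singularIdeal_iff]
  intro Q _ hQ
  by_contra h
  exact hQ (Algebra.basicOpen_subset_smoothLocus_iff_smooth.2 hsm
    (show (⟨Q, inferInstance⟩ : PrimeSpectrum C) ∈ (PrimeSpectrum.basicOpen c : Set _) from h))

theorem singularIdeal_le_of_formallySmooth (k R D : Type u) [CommRing k] [CommRing R] [CommRing D] [Algebra k R]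
    [Algebra R D] [Algebra k D] [IsScalarTower k R D] [Algebra.FormallySmooth k R] :
    Smoothing.singularIdeal R D ≤ Smoothing.singularIdeal k D := fun d hd => by
  rw [mem_singularIdeal_iff] at hd ⊢
  intro Q _ hQ
  refine hd Q fun hsm => hQ ?_
  have : Algebra.FormallySmooth R (Localization.AtPrime Q) := hsm
  exact Algebra.FormallySmooth.comp k R (Localization.AtPrime Q)

theorem exists_pow_le_map_of_mem_minimalPrimes {Λ : Type u} [CommRing Λ] [IsNoetherianRing Λ] (S q : Ideal Λ)
    [q.IsPrime] (hmin : q ∈ S.radical.minimalPrimes) :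
    ∃ n, 0 < n ∧ (q ^ n).map (algebraMap Λ (Localization.AtPrime q)) ≤ S.map (algebraMap Λ (Localization.AtPrime q)) := by
  let L := Localization.AtPrime q
  have hrad : IsLocalRing.maximalIdeal L ≤ (S.map (algebraMap Λ L)).radical := by
    rw [Ideal.radical_eq_sInf]
    refine le_sInf fun P hP => ?_
    obtain ⟨hPS, hP⟩ := hP
    have hle : P.comap (algebraMap Λ L) ≤ q := fun x hx =>
      (IsLocalization.AtPrime.to_map_mem_maximal_iff L q x).1 (IsLocalRing.le_maximalIdeal hP.ne_top hx)
    have hge : q ≤ P.comap (algebraMap Λ L) := hmin.2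
      ⟨hP.comap _, (hP.comap _).radical_le_iff.2 (Ideal.map_le_iff_le_comap.1 hPS)⟩ hle
    rw [← Localization.AtPrime.map_eq_maximalIdeal]
    exact Ideal.map_le_iff_le_comap.2 hge
  obtain ⟨n, hn⟩ := Ideal.exists_pow_le_of_le_radical_of_fg hrad (IsNoetherian.noetherian _)
  refine ⟨n + 1, Nat.succ_pos n, ?_⟩
  rw [Ideal.map_pow, Localization.AtPrime.map_eq_maximalIdeal]
  exact (Ideal.pow_le_pow_right (Nat.le_succ n)).trans hn

/-- The induced map modulo an ideal of the base. -/
noncomputable def quotMapₐ {R C Λ : Type u} [CommRing R] [CommRing C] [Algebra R C] [CommRing Λ] [Algebra R Λ]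
    (φ : C →ₐ[R] Λ) (K : Ideal R) : (C ⧸ K.map (algebraMap R C)) →ₐ[R ⧸ K] Λ ⧸ K.map (algebraMap R Λ) :=
  { Ideal.quotientMap (K.map (algebraMap R Λ)) φ.toRingHom (by
      rw [← Ideal.map_le_iff_le_comap, Ideal.map_map, show φ.toRingHom.comp (algebraMap R C) = algebraMap R Λ from
        φ.comp_algebraMap]) with
    commutes' := fun x => by
      obtain ⟨x, rfl⟩ := Ideal.Quotient.mk_surjective x
      show Ideal.Quotient.mk (K.map (algebraMap R Λ)) (φ (algebraMap R C x)) =
        Ideal.Quotient.mk (K.map (algebraMap R Λ)) (algebraMap R Λ x)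
      rw [φ.commutes] }

theorem quotMapₐ_mk {R C Λ : Type u} [CommRing R] [CommRing C] [Algebra R C] [CommRing Λ] [Algebra R Λ]
    (φ : C →ₐ[R] Λ) (K : Ideal R) (c : C) :
    quotMapₐ φ K (Ideal.Quotient.mk _ c) = Ideal.Quotient.mk _ (φ c) := rfl

/-- Resolving the reduced problem when the reduced local ring is ind-smooth with nilpotent maximal ideal. -/
theorem resolvable_quotient {R C Λ L : Type u} [CommRing R] [IsNoetherianRing R] [CommRing C] [Algebra R C]
    [Algebra.FinitePresentation R C] [CommRing Λ] [Algebra R Λ] (φ : C →ₐ[R] Λ) (q : Ideal Λ) [q.IsPrime]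
    [CommRing L] [Algebra Λ L] [IsLocalization.AtPrime L q] [Algebra R L] [IsScalarTower R Λ L] (K : Ideal R)
    (hK : K.map (algebraMap R Λ) ≤ q)
    (hind : Smoothing.IndSmooth (R ⧸ K) (L ⧸ K.map (algebraMap R L)))
    (hnil : ∀ y ∈ q, IsNilpotent (Ideal.Quotient.mk (K.map (algebraMap R L)) (algebraMap Λ L y))) :
    Smoothing.Resolvable (R ⧸ K) (quotMapₐ φ K) (q.map (Ideal.Quotient.mk (K.map (algebraMap R Λ)))) := by
  let I := K.map (algebraMap R Λ)
  let J := K.map (algebraMap R L)
  have hJ : J = I.map (algebraMap Λ L) := by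
    show K.map (algebraMap R L) = (K.map (algebraMap R Λ)).map (algebraMap Λ L)
    rw [Ideal.map_map, ← IsScalarTower.algebraMap_eq]
  have hIJ : I ≤ J.comap (algebraMap Λ L) := Ideal.map_le_iff_le_comap.1 hJ.ge
  letI algL : Algebra (Λ ⧸ I) (L ⧸ J) := (Ideal.quotientMap J (algebraMap Λ L) hIJ).toAlgebra
  haveI : IsScalarTower Λ (Λ ⧸ I) (L ⧸ J) :=
    IsScalarTower.of_algebraMap_eq (R := Λ) (S := Λ ⧸ I) (A := L ⧸ J) fun _ => rfl
  haveI : IsScalarTower (R ⧸ K) (Λ ⧸ I) (L ⧸ J) :=
    IsScalarTower.of_algebraMap_eq (R := R ⧸ K) (S := Λ ⧸ I) (A := L ⧸ J) fun x => by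
    obtain ⟨x, rfl⟩ := Ideal.Quotient.mk_surjective x
    show Ideal.Quotient.mk J (algebraMap R L x) = Ideal.Quotient.mk J (algebraMap Λ L (algebraMap R Λ x))
    rw [← IsScalarTower.algebraMap_apply]
  have hk : RingHom.ker (Ideal.Quotient.mk I) ≤ q := by rw [Ideal.mk_ker]; exact hK
  have hq₀ : (q.map (Ideal.Quotient.mk I)).IsPrime := Ideal.map_isPrime_of_surjective Ideal.Quotient.mk_surjective hk
  have hloc := isLocalization_atPrime_quotient I q hK L J hJ
  have : Algebra.FinitePresentation (R ⧸ K) (C ⧸ K.map (algebraMap R C)) :=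
    Algebra.FinitePresentation.equiv (R := R ⧸ K) (A := TensorProduct R (R ⧸ K) C) (B := C ⧸ K.map (algebraMap R C))
      (Algebra.TensorProduct.quotIdealMapEquivQuotTensor C K).symm
  refine resolvable_of_indSmooth_atPrime (L := L ⧸ J) (quotMapₐ φ K) (q.map (Ideal.Quotient.mk I)) hind fun x hx => ?_
  rw [← mem_nilradical]
  refine Ideal.mem_comap.1 ((Ideal.map_le_iff_le_comap.2 ?_) hx)
  intro y hy
  exact mem_nilradical.2 (hnil y hy)

/-- Lifting a resolution of the reduced problem. -/
theorem resolvesOn_of_resolvable_quotient {R C Λ : Type u} [CommRing R] [IsNoetherianRing R] [CommRing C] [Algebra R C]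
    [Algebra.FinitePresentation R C] [CommRing Λ] [Algebra R Λ] (φ : C →ₐ[R] Λ) (q : Ideal Λ) [q.IsPrime]
    {r : ℕ} (π : Fin r → R) (hπq : ∀ i, algebraMap R Λ (π i) ∈ q)
    (hR : ∀ i x, π i ^ 2 * x ∈ Ideal.span ((fun j => π j ^ 8) '' {j | j < i}) →
      π i * x ∈ Ideal.span ((fun j => π j ^ 8) '' {j | j < i}))
    (hΛ : ∀ i x, algebraMap R Λ (π i) ^ 2 * x ∈ Ideal.span ((fun j => algebraMap R Λ (π j ^ 8)) '' {j | j < i}) →
      algebraMap R Λ (π i) * x ∈ Ideal.span ((fun j => algebraMap R Λ (π j ^ 8)) '' {j | j < i}))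
    (hstd : ∀ i, Smoothing.IsStrictlyStandard R C (algebraMap R C (π i)))
    (K : Ideal R) (hK : K = Ideal.span (Set.range fun i => π i ^ 8))
    (hres : Smoothing.Resolvable (R ⧸ K) (quotMapₐ φ K) (q.map (Ideal.Quotient.mk (K.map (algebraMap R Λ))))) :
    ResolvesOn R φ q (Smoothing.singRad R φ) := by
  obtain ⟨D, _, _, hD, g, h, hgh, hle, hne⟩ := hres
  letI : Algebra R D := ((algebraMap (R ⧸ K) D).comp (algebraMap R (R ⧸ K))).toAlgebra
  haveI : IsScalarTower R (R ⧸ K) D := IsScalarTower.of_algebraMap_eq (R := R) (S := R ⧸ K) (A := D) fun _ => rfl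
  have hk : RingHom.ker (Ideal.Quotient.mk (K.map (algebraMap R Λ))) ≤ q := by
    rw [Ideal.mk_ker, Ideal.map_le_iff_le_comap, hK, Ideal.span_le]
    rintro _ ⟨j, rfl⟩
    show algebraMap R Λ (π j ^ 8) ∈ q
    rw [map_pow]
    exact Ideal.pow_mem_of_mem _ (hπq j) 8 (by norm_num)
  refine resolvesOn_seq r φ q (Smoothing.singRad R φ) π hπq hR hΛ hstd
    (R'' := R ⧸ K) (C := D) (Λ'' := Λ ⧸ K.map (algebraMap R Λ)) Ideal.Quotient.mk_surjective (Ideal.mk_ker.trans hK)
    ((g.restrictScalars R).comp (Ideal.Quotient.mkₐ R (K.map (algebraMap R C))))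
    (Ideal.Quotient.mkₐ R (K.map (algebraMap R Λ))) Ideal.Quotient.mk_surjective ?_ (h.restrictScalars R)
    (AlgHom.ext fun a => AlgHom.congr_fun hgh (Ideal.Quotient.mk _ a))
    (map_singRad_le φ K (quotMapₐ φ K) (fun _ => rfl) h hle) ?_
  · refine (Ideal.mk_ker (I := K.map (algebraMap R Λ))).trans ?_
    rw [hK, Ideal.map_span, ← Set.range_comp]
    rfl
  · intro hle'
    have hp : (q.map (Ideal.Quotient.mk (K.map (algebraMap R Λ)))).IsPrime :=
      Ideal.map_isPrime_of_surjective Ideal.Quotient.mk_surjective hk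
    exact hne (hp.radical_le_iff.2 hle')

/-- The resolution over affine space of a problem in which the parameters give a flat model. -/
theorem resolvesOn_affine {k C Λ : Type u} [Field k] {d : ℕ} [CommRing C] [Algebra (MvPolynomial (Fin d) k) C]
    [Algebra.FinitePresentation (MvPolynomial (Fin d) k) C] [CommRing Λ] [IsNoetherianRing Λ]
    [Algebra (MvPolynomial (Fin d) k) Λ] [Algebra k Λ] [IsScalarTower k (MvPolynomial (Fin d) k) Λ]
    (φ : C →ₐ[MvPolynomial (Fin d) k] Λ) (q : Ideal Λ) [q.IsPrime]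
    [IsRegularLocalRing (Localization.AtPrime q)] [Algebra.IsGeometricallyReduced k q.ResidueField]
    (hd : ringKrullDim (Localization.AtPrime q) = d)
    (hspan : Ideal.span (Set.range fun i => algebraMap Λ (Localization.AtPrime q)
      (algebraMap (MvPolynomial (Fin d) k) Λ (X i))) = IsLocalRing.maximalIdeal (Localization.AtPrime q))
    (M : ℕ) (hM : 0 < M)
    (hstd : ∀ i, Smoothing.IsStrictlyStandard (MvPolynomial (Fin d) k) C
      (algebraMap (MvPolynomial (Fin d) k) C (X i ^ M)))
    (p : Fin d → Λ) (hp : ∀ i, algebraMap (MvPolynomial (Fin d) k) Λ (X i) = p i)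
    (hann : ∀ i : Fin d, ∀ x : Λ ⧸ Ideal.span (Set.range fun j : {j : Fin d // (j : ℕ) < (i : ℕ)} => p j ^ (8 * M)),
      Ideal.Quotient.mk _ (p i) ^ 2 * x = 0 → Ideal.Quotient.mk _ (p i) * x = 0) :
    ResolvesOn (MvPolynomial (Fin d) k) φ q (Smoothing.singRad (MvPolynomial (Fin d) k) φ) := by
  classical
  obtain rfl : (fun i => algebraMap (MvPolynomial (Fin d) k) Λ (X i)) = p := funext hp
  let R := MvPolynomial (Fin d) k
  let L := Localization.AtPrime q
  let π : Fin d → R := fun i => X i ^ M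
  let K : Ideal R := Ideal.span (Set.range fun i => π i ^ 8)
  let I : Ideal Λ := K.map (algebraMap R Λ)
  let J : Ideal L := K.map (algebraMap R L)
  have hxq : ∀ i, algebraMap R Λ (X i) ∈ q := fun i => by
    refine (IsLocalization.AtPrime.to_map_mem_maximal_iff L q _).1 ?_
    rw [← hspan]
    exact Ideal.subset_span ⟨i, rfl⟩
  have hKo : K ≤ origin k d := by
    refine Ideal.span_le.2 ?_
    rintro _ ⟨i, rfl⟩
    exact Ideal.pow_mem_of_mem _ (Ideal.pow_mem_of_mem _ (constantCoeff_X _ i) M hM) 8 (by norm_num)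
  have hIq : I ≤ q := by
    refine Ideal.map_le_iff_le_comap.2 (Ideal.span_le.2 ?_)
    rintro _ ⟨i, rfl⟩
    show algebraMap R Λ ((X i ^ M) ^ 8) ∈ q
    rw [map_pow, map_pow]
    exact Ideal.pow_mem_of_mem _ (Ideal.pow_mem_of_mem _ (hxq i) M hM) 8 (by norm_num)
  have : Algebra.IsGeometricallyReduced k (IsLocalRing.ResidueField L) :=
    (inferInstance : Algebra.IsGeometricallyReduced k q.ResidueField)
  have hspanL : Ideal.span (Set.range fun i => algebraMap R L (X i)) = IsLocalRing.maximalIdeal L := by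
    rw [← hspan]
    exact congrArg Ideal.span (congrArg Set.range (funext fun i => IsScalarTower.algebraMap_apply R Λ L (X i)))
  have hind : Smoothing.IndSmooth (R ⧸ K) (L ⧸ J) := indSmooth_mod_powers hd hspanL K hKo fun i =>
    ⟨M * 8, by rw [pow_mul]; exact Ideal.subset_span ⟨i, rfl⟩⟩
  have hnil : ∀ y ∈ q, IsNilpotent (Ideal.Quotient.mk J (algebraMap Λ L y)) := fun y hy => by
    rw [← mem_nilradical]
    have hmax : algebraMap Λ L y ∈ Ideal.span (Set.range fun i => algebraMap R L (X i)) := by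
      rw [hspanL]; exact (IsLocalization.AtPrime.to_map_mem_maximal_iff L q y).2 hy
    refine (Ideal.span_le (I := (nilradical (L ⧸ J)).comap (Ideal.Quotient.mk J))).2 ?_ hmax
    rintro _ ⟨i, rfl⟩
    refine ⟨M * 8, ?_⟩
    rw [← map_pow, ← map_pow, pow_mul]
    exact Ideal.Quotient.eq_zero_iff_mem.2 (Ideal.mem_map_of_mem _ (Ideal.subset_span ⟨i, rfl⟩))
  refine resolvesOn_of_resolvable_quotient φ q π (fun i => ?_) (fun i x hx => ?_) (fun i x hx => ?_) hstd K rfl
    (resolvable_quotient (L := L) φ q K hIq hind hnil)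
  · show algebraMap R Λ (X i ^ M) ∈ q
    rw [map_pow]
    exact Ideal.pow_mem_of_mem _ (hxq i) M hM
  · have hrw : (fun j => π j ^ 8) = fun j => (X j : R) ^ (M * 8) := funext fun j => (pow_mul _ _ _).symm
    rw [hrw] at hx ⊢
    refine Ideal.mul_mem_left _ _ (mem_span_X_pow_of_mul _ i (lt_irrefl i) (M * 2) (M * 8) x ?_)
    rw [pow_mul]
    exact hx
  · have hrange : (fun j => algebraMap R Λ (π j ^ 8)) '' {j | j < i} =
        Set.range fun j : {j : Fin d // (j : ℕ) < (i : ℕ)} => algebraMap R Λ (X j) ^ (8 * M) := by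
      have hj : ∀ j, algebraMap R Λ (π j ^ 8) = algebraMap R Λ (X j) ^ (8 * M) := fun j => by
        show algebraMap R Λ ((X j ^ M) ^ 8) = _
        rw [map_pow, map_pow, ← pow_mul, mul_comm]
      ext y
      exact ⟨fun ⟨j, hj', hy⟩ => ⟨⟨j, hj'⟩, (hj j).symm.trans hy⟩, fun ⟨⟨j, hj'⟩, hy⟩ => ⟨j, hj', (hj j).trans hy⟩⟩
    rw [hrange] at hx ⊢
    have h1 := mul_eq_zero_of_pow (hann i) (2 * M - 1) (Ideal.Quotient.mk _ x) (by
      rw [← map_pow, ← map_mul, Ideal.Quotient.eq_zero_iff_mem, Nat.sub_add_cancel (by omega)]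
      convert hx using 2
      show _ = algebraMap R Λ (X i ^ M) ^ 2
      rw [map_pow, ← pow_mul, mul_comm])
    rw [← map_mul, Ideal.Quotient.eq_zero_iff_mem] at h1
    show algebraMap R Λ (X i ^ M) * x ∈ _
    rw [map_pow, show algebraMap R Λ (X i) ^ M = algebraMap R Λ (X i) ^ (M - 1) * algebraMap R Λ (X i) by
      rw [← pow_succ, Nat.sub_add_cancel hM], mul_assoc]
    exact Ideal.mul_mem_left _ _ h1

/-- The resolution at a regular prime with separable residue field. -/
theorem resolvable_of_regular_of_separable_residueField {k A Λ : Type u} [Field k] [CommRing A] [Algebra k A]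
    [Algebra.FinitePresentation k A] [CommRing Λ] [Algebra k Λ] [IsNoetherianRing Λ] (φ : A →ₐ[k] Λ) (q : Ideal Λ)
    [q.IsPrime] (hmin : q ∈ (Smoothing.singRad k φ).minimalPrimes) [IsRegularLocalRing (Localization.AtPrime q)]
    [Algebra.IsGeometricallyReduced k q.ResidueField] : Smoothing.Resolvable k φ q := by
  classical
  have : IsNoetherianRing A := Algebra.FiniteType.isNoetherianRing k A
  obtain ⟨m, a, ha⟩ := Submodule.fg_iff_exists_fin_generating_family.1
    (IsNoetherian.noetherian (Smoothing.singularIdeal k A))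
  have hak : ∀ j, a j ∈ Smoothing.singularIdeal k A := fun j => ha ▸ Submodule.subset_span ⟨j, rfl⟩
  let S : Ideal Λ := Ideal.span (Set.range fun j => φ (a j))
  have hS : (Smoothing.singularIdeal k A).map φ = S := by
    rw [← ha]
    show (Ideal.span (Set.range a)).map φ = S
    rw [Ideal.map_span, ← Set.range_comp]
    rfl
  have hmin' : q ∈ S.radical.minimalPrimes := by rw [← hS]; exact hmin
  obtain ⟨n, hn, hpow⟩ := exists_pow_le_map_of_mem_minimalPrimes S q hmin'
  let L := Localization.AtPrime q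
  let d := (IsLocalRing.maximalIdeal L).spanFinrank
  have hd : ringKrullDim L = d := (IsRegularLocalRing.spanFinrank_maximalIdeal (R := L)).symm
  let R := MvPolynomial (Fin d) k
  let B := PowAlg d n a
  have hBfp : Algebra.FinitePresentation R B := finitePresentation_powAlg d n a
  obtain ⟨C, _, _, _, _, hCft, ⟨ρ⟩, hCsm⟩ := exists_retract_free_kaehler_smooth (R := R) (A := B)
  have : IsNoetherianRing B := Algebra.FiniteType.isNoetherianRing R B
  have : Algebra.FinitePresentation B C := Algebra.FinitePresentation.of_finiteType.1 hCft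
  have hCfp : Algebra.FinitePresentation R C := Algebra.FinitePresentation.trans R B C
  have hbsm : ∀ b ∈ Smoothing.singularIdeal R B,
      Algebra.FormallySmooth R (Localization.Away (algebraMap B C b)) ∧
        Module.Free (Localization.Away (algebraMap B C b)) Ω[Localization.Away (algebraMap B C b)⁄R] :=
    fun b hb => hCsm b (smooth_away_of_mem_singularIdeal hb)
  have hx : ∀ i : Fin d, algebraMap R B (X i) ∈ Smoothing.singularIdeal R B := X_mem_singularIdeal_powAlg d n a hak
  have hstd₀ : ∀ i : Fin d, ∃ e₀ : ℕ, ∀ N : ℕ, e₀ ≤ N →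
      Smoothing.IsStrictlyStandard R C (algebraMap R C (X i ^ N)) := fun i => by
    obtain ⟨hfs, hfree⟩ := hbsm _ (hx i)
    have : Algebra.FinitePresentation C (Localization.Away (algebraMap B C (algebraMap R B (X i)))) :=
      IsLocalization.Away.finitePresentation (algebraMap B C (algebraMap R B (X i)))
    have : Algebra.Smooth R (Localization.Away (algebraMap B C (algebraMap R B (X i)))) :=
      ⟨hfs, Algebra.FinitePresentation.trans _ C _⟩
    obtain ⟨e₀, he₀⟩ := exists_pow_isStrictlyStandard_of_free (R := R) (algebraMap B C (algebraMap R B (X i)))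
    refine ⟨e₀, fun N hN => ?_⟩
    rw [map_pow, IsScalarTower.algebraMap_apply R B C]
    exact he₀ N hN
  choose e₀ he₀ using hstd₀
  let M := Finset.univ.sup e₀ + 1
  obtain ⟨π, hspan, hπI, hann⟩ := exists_parameters_pow_mem S q n (8 * M) d hn (by omega) hpow hd
  have hlam : ∀ i, ∃ c : Fin m → Λ, ∑ j, c j • φ (a j) = π i ^ n := fun i =>
    (Submodule.mem_span_range_iff_exists_fun Λ).1 (hπI i)
  choose lam hlam using hlam
  letI : Algebra R Λ := (aeval π : R →ₐ[k] Λ).toRingHom.toAlgebra
  haveI : IsScalarTower k R Λ := IsScalarTower.of_algebraMap_eq fun r => (AlgHom.commutes (aeval π) r).symm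
  have hX : ∀ i, algebraMap R Λ (X i) = π i := fun i => aeval_X π i
  let ev : MvPolynomial (Fin d ⊕ Fin d × Fin m) A →+* Λ :=
    eval₂Hom φ.toRingHom (Sum.elim π fun p => lam p.1 p.2)
  have hev : powRelIdeal d n a ≤ RingHom.ker ev := by
    refine Ideal.span_le.2 ?_
    rintro _ ⟨i, rfl⟩
    show ev _ = 0
    simp only [ev, map_sub, map_pow, map_sum, map_mul, eval₂Hom_X', eval₂Hom_C, Sum.elim_inl, Sum.elim_inr]
    rw [← hlam i]
    exact sub_self _
  let hB : B →ₐ[R] Λ :=
    { Ideal.Quotient.lift (powRelIdeal d n a) ev hev with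
      commutes' := fun r => RingHom.congr_fun (f := (Ideal.Quotient.lift (powRelIdeal d n a) ev hev).comp (algebraMap R B))
        (g := algebraMap R Λ) (MvPolynomial.ringHom_ext (fun c => by
          show Ideal.Quotient.lift _ ev hev (algebraMap R B (algebraMap k R c)) = algebraMap R Λ (algebraMap k R c)
          rw [← IsScalarTower.algebraMap_apply, ← IsScalarTower.algebraMap_apply,
            IsScalarTower.algebraMap_apply k A B]
          show ev (MvPolynomial.C (algebraMap k A c)) = _
          rw [eval₂Hom_C]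
          exact φ.commutes c) fun i => by
          show Ideal.Quotient.lift _ ev hev (algebraMap R B (X i)) = _
          rw [powAlg_algebraMap_X, Ideal.Quotient.lift_mk, eval₂Hom_X', hX]
          rfl) r }
  let ρR : C →ₐ[R] B := ρ.restrictScalars R
  let φC : C →ₐ[R] Λ := hB.comp ρR
  have hφC : ∀ b, φC (algebraMap B C b) = hB b := fun b => congrArg hB (ρ.commutes b)
  have hXf : (fun i => algebraMap R Λ (X i)) = π := funext hX
  have hres := resolvesOn_affine (k := k) φC q hd (by
      rw [← Localization.AtPrime.map_eq_maximalIdeal, ← hspan]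
      exact congrArg Ideal.span (congrArg Set.range (funext fun i => congrArg (algebraMap Λ L) (hX i))))
    M (Nat.succ_pos _) (fun i => he₀ i M ((Finset.le_sup (Finset.mem_univ i)).trans (Nat.le_succ _))) π hX hann
  obtain ⟨D, _, _, hD, g, h, hgh, hle, hne⟩ := hres
  letI : Algebra k D := ((algebraMap R D).comp (algebraMap k R)).toAlgebra
  haveI : IsScalarTower k R D := IsScalarTower.of_algebraMap_eq fun _ => rfl
  letI : Algebra k C := ((algebraMap R C).comp (algebraMap k R)).toAlgebra
  haveI : IsScalarTower k R C := IsScalarTower.of_algebraMap_eq fun _ => rfl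
  haveI : IsScalarTower k B C := IsScalarTower.of_algebraMap_eq (R := k) (S := B) (A := C) fun c => by
    rw [IsScalarTower.algebraMap_apply k R B, ← IsScalarTower.algebraMap_apply R B C]
    rfl
  let inA : A →ₐ[k] B :=
    (Ideal.Quotient.mkₐ k (powRelIdeal d n a)).comp (IsScalarTower.toAlgHom k A (MvPolynomial (Fin d ⊕ Fin d × Fin m) A))
  refine ⟨D, inferInstance, inferInstance, Algebra.FinitePresentation.trans k R D,
    (g.restrictScalars k).comp ((IsScalarTower.toAlgHom k B C).comp inA), h.restrictScalars k, ?_, ?_, ?_⟩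
  · refine AlgHom.ext fun z => ?_
    show h (g (algebraMap B C (Ideal.Quotient.mk _ (MvPolynomial.C z)))) = φ z
    rw [← AlgHom.comp_apply, hgh, hφC]
    show ev (MvPolynomial.C z) = φ z
    rw [eval₂Hom_C]
    rfl
  · have hsing := Ideal.radical_mono (Ideal.map_mono (f := h) (singularIdeal_le_of_formallySmooth k R D))
    refine Ideal.IsRadical.radical_le_iff (Ideal.radical_isRadical _) |>.2 ?_
    rw [hS]
    refine Ideal.span_le.2 ?_
    rintro _ ⟨j, rfl⟩
    refine hsing (hle ?_)
    obtain ⟨hfs, -⟩ := hbsm _ (mem_singularIdeal_powAlg (k := k) d n a j (hak j))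
    have h1 := apply_mem_singRad φC (mem_singularIdeal_of_formallySmooth_away (R := R)
      (c := algebraMap B C (Ideal.Quotient.mk (powRelIdeal d n a) (MvPolynomial.C (a j)))))
    rw [hφC] at h1
    convert h1 using 1
    show φ (a j) = ev (MvPolynomial.C (a j))
    rw [eval₂Hom_C]
    rfl
  · exact fun hle' => hne ((Ideal.radical_mono (Ideal.map_mono (f := h)
      (singularIdeal_le_of_formallySmooth k R D))).trans hle')

end TransLib
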