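import Groth.Agent.TransLib.Bundle

/-!
# The conormal bundle of a syntomic presentation is a relative global complete intersection
-/

set_option autoImplicit false

universe u

open MvPolynomial TensorProduct

namespace TransLib

theorem ringKrullDim_le_of_isLocalization {S : Type u} [CommRing S] (M : Submonoid S) (T : Type u) [CommRing T]
    [Algebra S T] [IsLocalization M T] : ringKrullDim T ≤ ringKrullDim S :=
  (ringKrullDim_le_iff_height_le _).2 fun J hJ => by
    rw [← IsLocalization.height_under M J]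
    exact Ideal.height_le_ringKrullDim_of_ne_top (Ideal.comap_ne_top _ hJ.ne_top)

/-- Equations of a syntomic algebra near a point of a fibre. -/
theorem exists_equations_fibre {R : Type u} [CommRing R] {A : Type u} [CommRing A] [Algebra R A] {n : ℕ}
    (φ : MvPolynomial (Fin n) R →ₐ[R] A) (hφ : Function.Surjective φ) (hI : (RingHom.ker φ.toRingHom).FG)
    (hsyn : Synt.IsSyntomic R A) (p : Ideal R) [p.IsPrime] (QB : Ideal (p.Fiber A)) [QB.IsPrime] (q : Ideal A) [q.IsPrime]
    (hq : ∀ a, a ∈ q ↔ (1 : p.ResidueField) ⊗ₜ[R] a ∈ QB) :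
    ∃ (c : ℕ) (f : Fin c → MvPolynomial (Fin n) R) (g₁ : MvPolynomial (Fin n) R), c ≤ n ∧
      (∀ i, f i ∈ RingHom.ker φ.toRingHom) ∧ φ g₁ ∉ q ∧
      (∀ x ∈ RingHom.ker φ.toRingHom, g₁ * x ∈ Ideal.span (Set.range f)) ∧
      ringKrullDim (p.Fiber (Synt.RelGCIRing R (n + 1) (c + 1) (awayPres f g₁))) ≤
        ((n + 1 - (c + 1) : ℕ) : WithBot ℕ∞) := by
  have h1 : Synt.IsSyntomic R (Localization.Away (1 : A)) :=
    isSyntomic_congr ((IsLocalization.atOne A (Localization.Away (1 : A))).restrictScalars R) hsyn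
  have hQq : QB.comap (Algebra.TensorProduct.includeRight : A →ₐ[R] p.Fiber A).toRingHom = q :=
    Ideal.ext fun a => (hq a).symm
  obtain ⟨-, hfl, hCI⟩ := local_of_syntomic_nhd p q QB hQq 1
    (fun hh => (inferInstance : q.IsPrime).ne_top ((Ideal.eq_top_iff_one _).2 hh)) h1
  exact exists_equations φ hφ hI p (AlgEquiv.refl (R := p.ResidueField) (A₁ := p.Fiber A)) QB q hq hfl hCI

variable {R : Type u} [CommRing R] {n m : ℕ} {I : Ideal (MvPolynomial (Fin n) R)}

theorem fibre_bundle_dim_le (D : IdemData I m) (hsyn : Synt.IsSyntomic R (MvPolynomial (Fin n) R ⧸ I))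
    {C : Type u} [CommRing C] [Algebra R C] [Algebra (MvPolynomial (Fin n) R ⧸ I) C]
    [IsScalarTower R (MvPolynomial (Fin n) R ⧸ I) C]
    (φ : MvPolynomial (Fin (n + m)) R →ₐ[R] C) (hφ : Function.Surjective φ)
    (hι : ∀ x, φ (bundleIncl m x) = algebraMap (MvPolynomial (Fin n) R ⧸ I) C (Ideal.Quotient.mk I x))
    (hy : ∀ j, φ (X (Fin.natAdd n j)) = ∑ i, φ (bundleIncl m (D.E i j)) * φ (X (Fin.natAdd n i)))
    (p : Ideal R) [p.IsPrime] : ringKrullDim (p.Fiber C) ≤ (n : WithBot ℕ∞) := by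
  classical
  let P := MvPolynomial (Fin n) R
  let A := P ⧸ I
  let κ := p.ResidueField
  let toC : A →ₐ[R] C := IsScalarTower.toAlgHom R A C
  let mapC : p.Fiber A →ₐ[κ] p.Fiber C := Algebra.TensorProduct.map (AlgHom.id κ κ) toC
  refine (ringKrullDim_le_iff_height_le _).2 fun Q hQ => ?_
  obtain ⟨Q', hQ', hle⟩ := Ideal.exists_le_maximal Q hQ.ne_top
  refine le_trans (WithBot.coe_le_coe.2 (Ideal.height_mono hle)) ?_
  have : Q'.IsPrime := hQ'.isPrime
  let QB : Ideal (p.Fiber A) := Q'.comap mapC.toRingHom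
  let q : Ideal A := QB.comap (Algebra.TensorProduct.includeRight : A →ₐ[R] p.Fiber A).toRingHom
  have : QB.IsPrime := Ideal.comap_isPrime _ _
  have : q.IsPrime := Ideal.comap_isPrime _ _
  let ψ : P →ₐ[R] A := Ideal.Quotient.mkₐ R I
  have hkerψ : RingHom.ker ψ.toRingHom = I := Ideal.mk_ker
  have hI : I.FG := D.gen ▸ Submodule.fg_span (Set.finite_range D.a)
  have hIψ : (RingHom.ker ψ.toRingHom).FG := by rw [hkerψ]; exact hI
  obtain ⟨c, f, g, hc, hfI, hg, hkill, hdim⟩ := exists_equations_fibre (A := A) ψ (Ideal.Quotient.mkₐ_surjective R I)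
    hIψ hsyn p QB q (fun a => Iff.rfl)
  obtain ⟨e₀⟩ := nonempty_awayEquiv f g
  obtain ⟨e₁⟩ := nonempty_awayEquiv_of_mul_le ψ (Ideal.Quotient.mkₐ_surjective R I) (Ideal.span (Set.range f))
    (Ideal.span_le.2 (Set.range_subset_iff.2 hfI)) g hkill
  let Ag := Localization.Away (ψ g)
  let G := p.Fiber Ag
  have hG : ringKrullDim G ≤ ((n + 1 - (c + 1) : ℕ) : WithBot ℕ∞) :=
    le_of_eq_of_le (ringKrullDim_eq_of_ringEquiv
      (Algebra.TensorProduct.congr (AlgEquiv.refl (R := κ) (A₁ := κ)) (e₁.symm.trans e₀)).toRingEquiv) hdim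
  have : Algebra.FiniteType R Ag :=
    Algebra.FiniteType.trans (inferInstance : Algebra.FiniteType R A)
      (IsLocalization.finiteType_of_monoid_fg (Submonoid.powers (ψ g)) Ag)
  have : IsNoetherianRing G := Algebra.FiniteType.isNoetherianRing κ G
  -- the combinations
  rw [hkerψ] at hfI hkill
  choose β hβ using fun l => Ideal.mem_span_range_iff_exists_fun.1 (D.gen.le (hfI l))
  choose r hr using fun j => Ideal.mem_span_range_iff_exists_fun.1 (hkill _ (D.mem j))
  let v : Fin c → Fin m → P := fun l k => ∑ i, D.E k i * β l i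
  have hcong : ∀ j k, D.E k j * g - ∑ l, r j l * v l k ∈ I := fun j k => by
    have h0 : ∑ i, ((if i = j then g else 0) - ∑ l, r j l * β l i) * D.a i = 0 := by
      simp only [sub_mul, Finset.sum_sub_distrib, ite_mul, zero_mul, Finset.sum_ite_eq', Finset.mem_univ, if_true,
        Finset.sum_mul]
      rw [Finset.sum_comm, sub_eq_zero, ← hr j]
      refine Finset.sum_congr rfl fun l _ => ?_
      rw [← hβ l, Finset.mul_sum]
      exact Finset.sum_congr rfl fun i _ => (mul_assoc _ _ _).symm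
    have h1 := D.ker _ (h0 ▸ zero_mem (I ^ 2)) k
    convert h1 using 1
    simp only [mul_sub, Finset.sum_sub_distrib, mul_ite, mul_zero, Finset.sum_ite_eq', Finset.mem_univ, if_true,
      v, Finset.mul_sum]
    rw [Finset.sum_comm]
    exact congrArg _ (Finset.sum_congr rfl fun i _ => Finset.sum_congr rfl fun l _ => by ring)
  -- the chart
  let g' : p.Fiber C := (1 : κ) ⊗ₜ[R] toC (ψ g)
  have hg' : g' ∉ Q' := fun h => hg h
  let T := Localization.Away g'
  let cT : p.Fiber C →ₐ[κ] T := IsScalarTower.toAlgHom κ (p.Fiber C) T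
  let incC : C →ₐ[R] T := (cT.restrictScalars R).comp Algebra.TensorProduct.includeRight
  let θ : A →+* T := (incC.comp toC).toRingHom
  have hu : IsUnit (θ (ψ g)) := IsLocalization.Away.algebraMap_isUnit g'
  let liftA : Ag →+* T := IsLocalization.Away.lift (ψ g) (g := θ) hu
  have hliftA : ∀ a, liftA (algebraMap A Ag a) = incC (toC a) := fun a => IsLocalization.Away.lift_eq _ hu a
  let liftA' : Ag →ₐ[R] T :=
    { liftA with
      commutes' := fun s => by
        show liftA _ = _
        rw [IsScalarTower.algebraMap_apply R A Ag, hliftA, AlgHom.commutes, AlgHom.commutes] }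
  let β' : G →ₐ[κ] T := Algebra.TensorProduct.lift (Algebra.ofId κ T) liftA' fun _ _ => Commute.all _ _
  have hβ1 : ∀ y : Ag, β' ((1 : κ) ⊗ₜ[R] y) = liftA y := fun y => by
    show algebraMap κ T 1 * liftA y = _
    rw [map_one, one_mul]
  let w : Fin c → T := fun l => ∑ k, incC (φ (bundleIncl m (v l k)) * φ (X (Fin.natAdd n k)))
  let Ψ : MvPolynomial (Fin c) G →+* T := MvPolynomial.eval₂Hom β'.toRingHom w
  have hΨC : ∀ x, Ψ (MvPolynomial.C x) = β' x := fun x => MvPolynomial.eval₂Hom_C _ _ _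
  have hA : ∀ a : A, incC (toC a) ∈ Ψ.rangeS := fun a =>
    RingHom.mem_rangeS.2 ⟨MvPolynomial.C ((1 : κ) ⊗ₜ[R] algebraMap A Ag a),
      ((hΨC _).trans (hβ1 _)).trans (hliftA a)⟩
  obtain ⟨iv, hiv⟩ : ∃ y : Ag, algebraMap A Ag (ψ g) * y = 1 :=
    (IsLocalization.Away.algebraMap_isUnit (S := Ag) (ψ g)).exists_right_inv
  have hinv : liftA iv ∈ Ψ.rangeS := RingHom.mem_rangeS.2 ⟨MvPolynomial.C ((1 : κ) ⊗ₜ[R] iv), (hΨC _).trans (hβ1 _)⟩
  have hinv1 : liftA iv * incC (toC (ψ g)) = 1 := by rw [← hliftA, ← map_mul, mul_comm, hiv, map_one]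
  have hY : ∀ j, incC (φ (X (Fin.natAdd n j))) ∈ Ψ.rangeS := fun j => by
    have e : incC (φ (bundleIncl m g) * φ (X (Fin.natAdd n j))) = ∑ l, incC (φ (bundleIncl m (r j l))) * w l := by
      rw [hy j, Finset.mul_sum]
      simp only [w, Finset.mul_sum, ← map_mul incC, ← map_sum incC]
      rw [Finset.sum_comm]
      refine congrArg incC (Finset.sum_congr rfl fun k _ => ?_)
      have hk : φ (bundleIncl m g) * φ (bundleIncl m (D.E k j)) =
          ∑ l, φ (bundleIncl m (r j l)) * φ (bundleIncl m (v l k)) := by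
        simp only [hι, ← map_mul, ← map_sum]
        refine congrArg _ (Ideal.Quotient.eq.2 ?_)
        rw [mul_comm g]
        exact hcong j k
      rw [← mul_assoc, hk, Finset.sum_mul]
      exact Finset.sum_congr rfl fun l _ => mul_assoc _ _ _
    have : incC (φ (X (Fin.natAdd n j))) = liftA iv * ∑ l, incC (φ (bundleIncl m (r j l))) * w l := by
      rw [← e, map_mul, hι, ← mul_assoc]
      rw [show incC (algebraMap A C (Ideal.Quotient.mk I g)) = incC (toC (ψ g)) from rfl, hinv1, one_mul]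
    rw [this]
    refine mul_mem hinv (sum_mem fun l _ => mul_mem ?_ ⟨MvPolynomial.X l, MvPolynomial.eval₂Hom_X' _ _ _⟩)
    rw [hι]
    exact hA _
  have hC : ∀ z : C, incC z ∈ Ψ.rangeS := fun z => by
    obtain ⟨x, rfl⟩ := hφ z
    induction x using MvPolynomial.induction_on with
    | C a =>
      rw [← MvPolynomial.algebraMap_eq, AlgHom.commutes, ← AlgHom.commutes (toC)]
      exact hA _
    | add a b ha hb => rw [map_add, map_add]; exact add_mem ha hb
    | mul_X a i ha =>
      rw [map_mul, map_mul]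
      refine mul_mem ha (Fin.addCases (fun i => ?_) (fun j => hY j) i)
      rw [show (X (Fin.castAdd m i) : MvPolynomial (Fin (n + m)) R) = bundleIncl m (X i) from (rename_X _ _).symm, hι]
      exact hA _
  have hall : ∀ z, cT z ∈ Ψ.rangeS := fun z => by
    induction z using TensorProduct.induction_on with
    | zero => rw [map_zero]; exact zero_mem _
    | add a b ha hb => rw [map_add]; exact add_mem ha hb
    | tmul a x =>
      have : (a ⊗ₜ[R] x : p.Fiber C) = algebraMap κ (p.Fiber C) a * (1 : κ) ⊗ₜ[R] x := by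
        rw [Algebra.TensorProduct.algebraMap_apply, Algebra.TensorProduct.tmul_mul_tmul, mul_one, one_mul]
        rfl
      rw [this, map_mul, AlgHom.commutes]
      exact mul_mem ⟨MvPolynomial.C (algebraMap κ G a), by rw [hΨC, AlgHom.commutes]⟩ (hC x)
  have hsurj : Function.Surjective Ψ := fun t => by
    obtain ⟨k, z, hz⟩ := IsLocalization.Away.surj g' t
    have h2 : t = cT z * liftA iv ^ k := by
      show t = algebraMap (p.Fiber C) T z * _
      rw [← hz, mul_assoc, ← mul_pow, mul_comm (algebraMap _ T g')]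
      rw [show algebraMap (p.Fiber C) T g' = incC (toC (ψ g)) from rfl, hinv1, one_pow, mul_one]
    rw [h2]
    exact mul_mem (hall z) (pow_mem hinv k)
  have hT : ringKrullDim T ≤ (n : WithBot ℕ∞) := by
    refine (ringKrullDim_le_of_surjective Ψ hsurj).trans ?_
    rw [MvPolynomial.ringKrullDim_of_isNoetherianRing, Nat.card_fin]
    refine (add_le_add hG le_rfl).trans (le_of_eq ?_)
    norm_cast
    omega
  refine le_trans ?_ hT
  have hd : Disjoint (Submonoid.powers g' : Set (p.Fiber C)) (Q' : Set (p.Fiber C)) := by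
    rwa [Ideal.disjoint_powers_iff_notMem_of_isPrime]
  rw [← IsLocalization.under_map_of_isPrime_disjoint (Submonoid.powers g') T ‹Q'.IsPrime› hd,
    IsLocalization.height_under (Submonoid.powers g')]
  have := IsLocalization.isPrime_of_isPrime_disjoint (Submonoid.powers g') T Q' ‹_› hd
  exact Ideal.height_le_ringKrullDim_of_ne_top (Ideal.IsPrime.ne_top ‹_›)

/-- Basic opens of the conormal bundle are relative global complete intersections. -/
theorem exists_relGCI_bundle (D : IdemData I m) (hsyn : Synt.IsSyntomic R (MvPolynomial (Fin n) R ⧸ I))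
    {C : Type u} [CommRing C] [Algebra R C] [Algebra (MvPolynomial (Fin n) R ⧸ I) C]
    [IsScalarTower R (MvPolynomial (Fin n) R ⧸ I) C]
    (φ : MvPolynomial (Fin (n + m)) R →ₐ[R] C) (hφ : Function.Surjective φ)
    (hι : ∀ x, φ (bundleIncl m x) = algebraMap (MvPolynomial (Fin n) R ⧸ I) C (Ideal.Quotient.mk I x))
    (hy : ∀ j, φ (X (Fin.natAdd n j)) = ∑ i, φ (bundleIncl m (D.E i j)) * φ (X (Fin.natAdd n i)))
    (h : MvPolynomial (Fin (n + m)) R) (hF : ∀ j, φ (bundleEq D j) = 0)
    (hkill : ∀ x ∈ RingHom.ker φ.toRingHom, h * x ∈ Ideal.span (Set.range (bundleEq D)))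
    (d : MvPolynomial (Fin (n + m)) R) :
    Synt.IsRelGCI R (n + m + 1) (m + 1) (awayPres (bundleEq D) (h * d)) ∧
      Nonempty (Synt.RelGCIRing R (n + m + 1) (m + 1) (awayPres (bundleEq D) (h * d)) ≃ₐ[R]
        Localization.Away (φ (h * d))) := by
  obtain ⟨e₁⟩ := nonempty_awayEquiv_of_mul_le φ hφ (Ideal.span (Set.range (bundleEq D)))
    (Ideal.span_le.2 (Set.range_subset_iff.2 hF)) (h * d) (fun x hx => by
      rw [mul_comm h, mul_assoc]; exact Ideal.mul_mem_left _ _ (hkill x hx))
  obtain ⟨e₀⟩ := nonempty_awayEquiv (bundleEq D) (h * d)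
  let e := e₀.symm.trans e₁
  refine ⟨isRelGCI_of_fibre_le (by omega) fun p _ => ?_, ⟨e⟩⟩
  let κ := p.ResidueField
  let T := Localization.Away (φ (h * d))
  refine le_of_eq_of_le (ringKrullDim_eq_of_ringEquiv
    (Algebra.TensorProduct.congr (AlgEquiv.refl (R := κ) (A₁ := κ)) e).toRingEquiv) ?_
  refine le_of_eq_of_le (ringKrullDim_eq_of_ringEquiv (R := p.Fiber T)
    (IsLocalization.Away.tensorProductEquivTMulRight R κ (φ (h * d)) T).toRingEquiv) ?_
  refine (ringKrullDim_le_of_isLocalization (Submonoid.powers ((1 : κ) ⊗ₜ[R] φ (h * d))) _).trans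
    ((fibre_bundle_dim_le D hsyn φ hφ hι hy p).trans (le_of_eq ?_))
  congr 1
  omega

end TransLib
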