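import Groth.Agent.TransLib.LiftData
import Groth.Agent.TransLib.BundleGCI
import Groth.Agent.TransLib.JacMinor
import Groth.Agent.TransLib.SyntBC

/-!
# Syntomic algebras lift along surjections
-/

set_option autoImplicit false

universe u

open MvPolynomial TensorProduct

namespace TransLib

theorem ringKrullDim_away_mul_le {S : Type u} [CommRing S] (x y : S) :
    ringKrullDim (Localization.Away (x * y)) ≤ ringKrullDim (Localization.Away x) := by
  let S' := Localization.Away x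
  let T := Localization.Away (algebraMap S S' y)
  have : IsLocalization.Away (x * y) T := IsLocalization.Away.mul' S' T x y
  rw [ringKrullDim_eq_of_ringEquiv (IsLocalization.algEquiv (Submonoid.powers (x * y)) (Localization.Away (x * y)) T).toRingEquiv]
  exact ringKrullDim_le_of_isLocalization (Submonoid.powers (algebraMap S S' y)) T

/-- The reduction of a basic open of a lift. -/
theorem exists_away_reduce {R Dl A₀ : Type u} [CommRing R] [CommRing Dl] [Algebra R Dl] [CommRing A₀] [Algebra R A₀]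
    (I₀ : Ideal R) (π : Dl →ₐ[R] A₀) (hπ : Function.Surjective π) (h : Dl)
    (hker : ∀ x, π x = 0 → h * x ∈ I₀.map (algebraMap R Dl)) (hI₀ : ∀ r ∈ I₀, algebraMap R A₀ r = 0) (g : Dl) (hg : h ∣ g) :
    ∃ θ : Localization.Away g →ₐ[R] Localization.Away (π g), Function.Surjective θ ∧
      RingHom.ker θ.toRingHom = I₀.map (algebraMap R (Localization.Away g)) ∧
      ∀ x, θ (algebraMap Dl (Localization.Away g) x) = algebraMap A₀ (Localization.Away (π g)) (π x) := by
  let T := Localization.Away g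
  let T₀ := Localization.Away (π g)
  have hT : (Submonoid.powers g).map π.toRingHom = Submonoid.powers (π g) := Submonoid.map_powers π.toRingHom g
  let θ₀ : T →+* T₀ := IsLocalization.map T₀ π.toRingHom ((Submonoid.powers g).le_comap_of_map_le hT.le)
  have hθ : ∀ x, θ₀ (algebraMap Dl T x) = algebraMap A₀ T₀ (π x) := fun x =>
    IsLocalization.map_eq ((Submonoid.powers g).le_comap_of_map_le hT.le) x
  let θ : T →ₐ[R] T₀ :=
    { θ₀ with
      commutes' := fun r => by
        show θ₀ _ = _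
        rw [IsScalarTower.algebraMap_apply R Dl T, hθ, π.commutes, ← IsScalarTower.algebraMap_apply] }
  refine ⟨θ, fun z => ?_, ?_, hθ⟩
  · obtain ⟨k, a, ha⟩ := IsLocalization.Away.surj (π g) z
    obtain ⟨x, rfl⟩ := hπ a
    obtain ⟨iv, hiv⟩ := ((IsLocalization.Away.algebraMap_isUnit (S := T) g).pow k).exists_right_inv
    refine ⟨algebraMap Dl T x * iv, ?_⟩
    have h1 : θ (algebraMap Dl T g) ^ k * θ iv = 1 := by rw [← map_pow, ← map_mul, hiv, map_one]
    rw [map_mul, show θ (algebraMap Dl T x) = algebraMap A₀ T₀ (π x) from hθ x, ← ha, mul_assoc]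
    rw [show algebraMap A₀ T₀ (π g) = θ (algebraMap Dl T g) from (hθ g).symm, h1, mul_one]
  · show RingHom.ker θ₀ = _
    refine le_antisymm ?_ (Ideal.map_le_iff_le_comap.2 fun r hr => ?_)
    · rw [IsLocalization.ker_map T₀ π.toRingHom hT, Ideal.map_le_iff_le_comap]
      intro x hx
      have hu : IsUnit (algebraMap Dl T h) :=
        isUnit_of_dvd_unit (map_dvd (algebraMap Dl T) hg) (IsLocalization.Away.algebraMap_isUnit g)
      have h1 := Ideal.mem_map_of_mem (algebraMap Dl T) (hker x hx)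
      rw [map_mul, Ideal.map_map, ← IsScalarTower.algebraMap_eq] at h1
      exact ((Ideal.unit_mul_mem_iff_mem _ hu).1 h1 : algebraMap Dl T x ∈ I₀.map (algebraMap R T))
    · show θ (algebraMap R T r) = 0
      rw [θ.commutes, IsScalarTower.algebraMap_apply R A₀ T₀, hI₀ r hr, map_zero]

/-- The fibre over a prime containing the ideal only sees the reduction. -/
theorem ringKrullDim_fiber_reduce {R : Type u} [CommRing R] (I₀ : Ideal R) (p : Ideal R) [p.IsPrime] (hp : I₀ ≤ p)
    (p₀ : Ideal (R ⧸ I₀)) [p₀.IsPrime] (hp₀ : p = p₀.comap (Ideal.Quotient.mk I₀))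
    {T T₀ : Type u} [CommRing T] [Algebra R T] [CommRing T₀] [Algebra R T₀] [Algebra (R ⧸ I₀) T₀]
    [IsScalarTower R (R ⧸ I₀) T₀] (θ : T →ₐ[R] T₀) (hθ : Function.Surjective θ)
    (hker : RingHom.ker θ.toRingHom = I₀.map (algebraMap R T)) :
    ringKrullDim (p.Fiber T) = ringKrullDim (p₀.Fiber T₀) := by
  let κ := p.ResidueField
  let κ₀ := p₀.ResidueField
  let j : κ →ₐ[R] κ₀ := Ideal.ResidueField.mapₐ p p₀ (Algebra.ofId R (R ⧸ I₀)) hp₀
  have hj : ∀ r, j (algebraMap R κ r) = algebraMap R κ₀ r := j.commutes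
  have hjs : Function.Surjective j := fun x => by
    obtain ⟨⟨a, b, hb⟩, rfl⟩ := IsLocalization.mk'_surjective (nonZeroDivisors ((R ⧸ I₀) ⧸ p₀)) x
    obtain ⟨a, rfl⟩ := Ideal.Quotient.mk_surjective a
    obtain ⟨a, rfl⟩ := Ideal.Quotient.mk_surjective a
    obtain ⟨b, rfl⟩ := Ideal.Quotient.mk_surjective b
    obtain ⟨b, rfl⟩ := Ideal.Quotient.mk_surjective b
    refine ⟨algebraMap R κ a / algebraMap R κ b, ?_⟩
    show _ = IsLocalization.mk' κ₀ _ _
    rw [map_div₀, hj, hj, IsFractionRing.mk'_eq_div]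
    rfl
  let ej : κ ≃ₐ[R] κ₀ := AlgEquiv.ofBijective j ⟨j.toRingHom.injective, hjs⟩
  let χ : κ ⊗[R] T →ₐ[κ] κ ⊗[R] T₀ := Algebra.TensorProduct.map (AlgHom.id κ κ) θ
  have hχs : Function.Surjective χ := fun z => by
    induction z using TensorProduct.induction_on with
    | zero => exact ⟨0, map_zero _⟩
    | tmul a b => obtain ⟨x, rfl⟩ := hθ b; exact ⟨a ⊗ₜ x, rfl⟩
    | add a b ha hb =>
      obtain ⟨x, rfl⟩ := ha
      obtain ⟨y, rfl⟩ := hb
      exact ⟨x + y, map_add _ _ _⟩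
  have hχi : Function.Injective χ := by
    rw [injective_iff_map_eq_zero]
    intro z hz
    have h : RingHom.ker χ.toRingHom = (RingHom.ker θ.toRingHom).map
        (Algebra.TensorProduct.includeRight : T →ₐ[R] κ ⊗[R] T).toRingHom :=
      Algebra.TensorProduct.lTensor_ker θ hθ
    have hz' : z ∈ RingHom.ker χ.toRingHom := hz
    rw [h, hker, Ideal.map_map] at hz'
    have hz'' : z ∈ I₀.map (algebraMap R (κ ⊗[R] T)) := by
      rwa [show algebraMap R (κ ⊗[R] T) = (Algebra.TensorProduct.includeRight : T →ₐ[R] κ ⊗[R] T).toRingHom.comp (algebraMap R T)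
        from RingHom.ext fun r => ((Algebra.TensorProduct.includeRight : T →ₐ[R] κ ⊗[R] T).commutes r).symm]
    have h0 : I₀.map (algebraMap R (κ ⊗[R] T)) ≤ ⊥ := Ideal.map_le_iff_le_comap.2 fun r hr => by
      show algebraMap R (κ ⊗[R] T) r ∈ (⊥ : Ideal (κ ⊗[R] T))
      rw [IsScalarTower.algebraMap_apply R κ (κ ⊗[R] T), Ideal.algebraMap_residueField_eq_zero.2 (hp hr), map_zero]
      exact zero_mem _
    exact h0 hz''
  have : TensorProduct.CompatibleSMul R (R ⧸ I₀) κ₀ T₀ :=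
    TensorProduct.CompatibleSMul.of_algebraMap_surjective _ _ Ideal.Quotient.mk_surjective
  have : TensorProduct.CompatibleSMul (R ⧸ I₀) R κ₀ T₀ :=
    ⟨fun r m n => by rw [← algebraMap_smul (R ⧸ I₀) r m, ← algebraMap_smul (R ⧸ I₀) r n, TensorProduct.smul_tmul]⟩
  let e1 : κ ⊗[R] T ≃+* κ ⊗[R] T₀ := RingEquiv.ofBijective χ ⟨hχi, hχs⟩
  let e2 : κ ⊗[R] T₀ ≃+* κ₀ ⊗[R] T₀ := (Algebra.TensorProduct.congr ej AlgEquiv.refl).toRingEquiv
  let e3 : κ₀ ⊗[R] T₀ ≃+* κ₀ ⊗[R ⧸ I₀] T₀ :=
    (Algebra.TensorProduct.equivOfCompatibleSMul (R ⧸ I₀) R R κ₀ T₀).toRingEquiv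
  exact ringKrullDim_eq_of_ringEquiv ((e1.trans e2).trans e3)

/-- A rank inequality for complements. -/
theorem le_rank_add_rank_one_sub {κ : Type u} [Field κ] {m : ℕ} (M : Matrix (Fin m) (Fin m) κ) :
    m ≤ M.rank + (1 - M).rank := by
  have htop : (⊤ : Submodule κ (Fin m → κ)) ≤ LinearMap.range M.mulVecLin ⊔ LinearMap.range (1 - M).mulVecLin := fun x _ => by
    have : x = M.mulVecLin x + (1 - M).mulVecLin x := by simp [Matrix.sub_mulVec]
    rw [this]
    exact Submodule.add_mem_sup ⟨x, rfl⟩ ⟨x, rfl⟩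
  have h1 := Submodule.finrank_sup_add_finrank_inf_eq (LinearMap.range M.mulVecLin) (LinearMap.range (1 - M).mulVecLin)
  have h2 := Submodule.finrank_mono htop
  rw [finrank_top, Module.finrank_fin_fun] at h2
  show m ≤ Module.finrank κ (LinearMap.range M.mulVecLin) + Module.finrank κ (LinearMap.range (1 - M).mulVecLin)
  omega

/-- A maximal nonvanishing minor. -/
theorem exists_rank_minor {κ : Type u} [Field κ] {a b : ℕ} (N : Matrix (Fin a) (Fin b) κ) :
    ∃ (J : Fin N.rank ↪ Fin a) (T : Fin N.rank ↪ Fin b), (N.submatrix J T).det ≠ 0 := by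
  classical
  obtain ⟨σ, t, ht, hsp, hli⟩ := exists_linearIndependent' κ N.col
  have : Fintype σ := Fintype.ofInjective t ht
  have hc : Fintype.card σ = N.rank := by rw [← finrank_span_eq_card hli, hsp, ← N.rank_eq_finrank_span_cols]
  let e : Fin N.rank ≃ σ := (Fintype.equivFinOfCardEq hc).symm
  let N' : Matrix (Fin N.rank) (Fin a) κ := Matrix.of fun i j => N j (t (e i))
  have hN' : LinearIndependent κ N'.row := hli.comp e e.injective
  obtain ⟨J, hJ⟩ := (exists_minor_iff_linearIndependent_rows N').2 hN'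
  refine ⟨J, ⟨t ∘ e, ht.comp e.injective⟩, ?_⟩
  rw [← Matrix.det_transpose]
  exact hJ

/-- A square minor of linear relations eliminates its variables. -/
theorem det_mul_mem_of_relations {Q : Type u} [CommRing Q] {m k : ℕ} (W : Ideal Q) (N : Matrix (Fin m) (Fin m) Q)
    (v : Fin m → Q) (J T : Fin k ↪ Fin m) (hrel : ∀ j, ∑ i, N j i * v i ∈ W)
    (hW : ∀ i, i ∉ Set.range T → v i ∈ W) (i : Fin m) : (N.submatrix J T).det * v i ∈ W := by
  classical
  by_cases hi : i ∈ Set.range T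
  · obtain ⟨t, rfl⟩ := hi
    let M := N.submatrix J T
    have hw : ∀ l, ∑ t, M l t * v (T t) ∈ W := fun l => by
      have h1 := hrel (J l)
      rw [← Finset.sum_add_sum_compl (Finset.univ.map T), Finset.sum_map] at h1
      have h2 : ∑ i ∈ (Finset.univ.map T)ᶜ, N (J l) i * v i ∈ W := Ideal.sum_mem _ fun i hi => W.mul_mem_left _
        (hW i fun ⟨t, ht⟩ => Finset.mem_compl.1 hi (Finset.mem_map.2 ⟨t, Finset.mem_univ _, ht⟩))
      have h3 := W.sub_mem h1 h2
      rwa [add_sub_cancel_right] at h3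
    have h4 : M.det * v (T t) = ∑ l, M.adjugate t l * ∑ s, M l s * v (T s) := by
      have h5 := congrFun (congrArg (fun A : Matrix (Fin k) (Fin k) Q => A.mulVec fun s => v (T s)) M.adjugate_mul) t
      simp only [Matrix.smul_mulVec, Matrix.one_mulVec, Pi.smul_apply, smul_eq_mul, ← Matrix.mulVec_mulVec] at h5
      rw [← h5]
      rfl
    rw [show (N.submatrix J T).det = M.det from rfl, h4]
    exact Ideal.sum_mem _ fun l _ => W.mul_mem_left _ (hw l)
  · exact W.mul_mem_left _ (hW i hi)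

variable {R : Type u} [CommRing R]

/-- Syntomic neighbourhoods on a lift. -/
theorem exists_syntomic_nhd_lift (I₀ : Ideal R) {A₀ : Type u} [CommRing A₀] [Algebra R A₀] [Algebra (R ⧸ I₀) A₀]
    [IsScalarTower R (R ⧸ I₀) A₀] (hsyn : Synt.IsSyntomic (R ⧸ I₀) A₀) {n m d : ℕ}
    (φ₀ : MvPolynomial (Fin n) (R ⧸ I₀) →ₐ[R ⧸ I₀] A₀) (hφ₀ : Function.Surjective φ₀)
    (D : IdemData (RingHom.ker φ₀.toRingHom) m)
    (φ : MvPolynomial (Fin (n + d)) R →ₐ[R] A₀) (hφ : Function.Surjective φ)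
    (eqs : Fin d → MvPolynomial (Fin (n + d)) R) (v : Fin m → MvPolynomial (Fin (n + d)) R)
    (E : Matrix (Fin m) (Fin m) (MvPolynomial (Fin (n + d)) R)) (h : MvPolynomial (Fin (n + d)) R)
    (heqs : ∀ k, φ (eqs k) = 0) (hv : ∀ j, φ (v j) = 0) (hE : ∀ i j, φ (E i j) = φ₀ (D.E i j))
    (hvE : ∀ j, v j - ∑ i, E i j * v i ∈ Ideal.span (Set.range eqs)) (hh : φ h = 1)
    (hker : ∀ x, φ x = 0 → h * x ∈ Ideal.span (Set.range eqs) ⊔ Ideal.span (Set.range v) ⊔ I₀.map MvPolynomial.C)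
    (π : MvPolynomial (Fin (n + d)) R ⧸ (Ideal.span (Set.range eqs) ⊔ Ideal.span (Set.range v)) →ₐ[R] A₀)
    (hπ : ∀ x, π (Ideal.Quotient.mk _ x) = φ x)
    (q' : Ideal A₀) [q'.IsPrime] :
    ∃ g : MvPolynomial (Fin (n + d)) R ⧸ (Ideal.span (Set.range eqs) ⊔ Ideal.span (Set.range v)),
      π g ∉ q' ∧ Synt.IsSyntomic R (Localization.Away g) := by
  classical
  let R₀ := R ⧸ I₀
  let Q := MvPolynomial (Fin (n + d)) R
  let J : Ideal Q := Ideal.span (Set.range eqs) ⊔ Ideal.span (Set.range v)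
  let Dl := Q ⧸ J
  let q : Ideal Dl := q'.comap π.toRingHom
  have : q.IsPrime := Ideal.comap_isPrime _ _
  let p₀ : Ideal R₀ := q'.comap (algebraMap R₀ A₀)
  let p : Ideal R := p₀.comap (Ideal.Quotient.mk I₀)
  have : p₀.IsPrime := Ideal.comap_isPrime _ _
  have : p.IsPrime := Ideal.comap_isPrime _ _
  have hp : I₀ ≤ p := fun r hr => by
    show Ideal.Quotient.mk I₀ r ∈ p₀
    rw [Ideal.Quotient.eq_zero_iff_mem.2 hr]
    exact zero_mem _
  have hI₀ : ∀ r ∈ I₀, algebraMap R A₀ r = 0 := fun r hr => by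
    rw [IsScalarTower.algebraMap_apply R R₀ A₀]
    show algebraMap R₀ A₀ (Ideal.Quotient.mk I₀ r) = 0
    rw [Ideal.Quotient.eq_zero_iff_mem.2 hr, map_zero]
  have hqp : ∀ r, algebraMap R Dl r ∈ q ↔ r ∈ p := fun r => by
    show π (algebraMap R Dl r) ∈ q' ↔ algebraMap R₀ A₀ (Ideal.Quotient.mk I₀ r) ∈ q'
    rw [π.commutes, IsScalarTower.algebraMap_apply R R₀ A₀]
    rfl
  -- the fibre
  let y := PrimeSpectrum.preimageHomeomorphFiber R₀ A₀ ⟨p₀, inferInstance⟩ ⟨⟨q', inferInstance⟩, rfl⟩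
  have hy : y.asIdeal.comap (Algebra.TensorProduct.includeRight : A₀ →ₐ[R₀] p₀.Fiber A₀).toRingHom = q' :=
    congrArg (fun w => PrimeSpectrum.asIdeal w.1)
      ((PrimeSpectrum.preimageHomeomorphFiber R₀ A₀ ⟨p₀, inferInstance⟩).symm_apply_apply ⟨⟨q', inferInstance⟩, rfl⟩)
  have hIfg : (RingHom.ker φ₀.toRingHom).FG := D.gen ▸ Submodule.fg_span (Set.finite_range D.a)
  obtain ⟨c₀, f₀, g₀, hc₀, hf₀, hg₀, hkill₀, hdim₀⟩ := exists_equations_fibre φ₀ hφ₀ hIfg hsyn p₀ y.asIdeal q'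
    (fun a => Iff.of_eq (congrArg (fun P : Ideal A₀ => a ∈ P) hy.symm))
  obtain ⟨ea⟩ := nonempty_awayEquiv_of_mul_le φ₀ hφ₀ (Ideal.span (Set.range f₀))
    (Ideal.span_le.2 (Set.range_subset_iff.2 hf₀)) g₀ hkill₀
  obtain ⟨eb⟩ := nonempty_awayEquiv f₀ g₀
  have hdimA : ringKrullDim (p₀.Fiber (Localization.Away (φ₀ g₀))) ≤ ((n + 1 - (c₀ + 1) : ℕ) : WithBot ℕ∞) :=
    le_of_eq_of_le (ringKrullDim_eq_of_ringEquiv
      (Algebra.TensorProduct.congr (AlgEquiv.refl (R := p₀.ResidueField) (A₁ := p₀.ResidueField)) (ea.symm.trans eb)).toRingEquiv) hdim₀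
  -- the rank
  let κ := q'.ResidueField
  let ρ : MvPolynomial (Fin n) R₀ →+* κ := (algebraMap A₀ κ).comp φ₀.toRingHom
  have hρker : ∀ x, φ₀ x = 0 → ρ x = 0 := fun x hx => by show algebraMap A₀ κ (φ₀ x) = 0; rw [hx, map_zero]
  have hρg : ρ g₀ ≠ 0 := fun hh0 => hg₀ (Ideal.algebraMap_residueField_eq_zero.1 hh0)
  let M : Matrix (Fin m) (Fin m) κ := ρ.mapMatrix D.E
  choose β hβ using fun l => Ideal.mem_span_range_iff_exists_fun.1 (D.gen.le (hf₀ l))
  choose r hr using fun j => Ideal.mem_span_range_iff_exists_fun.1 (hkill₀ _ (D.mem j))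
  have hrank : M.rank ≤ c₀ := by
    have hM : M = (Matrix.of fun k l => (ρ g₀)⁻¹ * ρ (∑ i, D.E k i * β l i) : Matrix (Fin m) (Fin c₀) κ) *
        (Matrix.of fun l j => ρ (r j l) : Matrix (Fin c₀) (Fin m) κ) := by
      refine Matrix.ext fun k j => ?_
      rw [Matrix.mul_apply]
      have h0 : ∑ i, ((if i = j then g₀ else 0) - ∑ l, r j l * β l i) * D.a i = 0 := by
        simp only [sub_mul, Finset.sum_sub_distrib, ite_mul, zero_mul, Finset.sum_ite_eq', Finset.mem_univ, if_true,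
          Finset.sum_mul]
        rw [Finset.sum_comm, sub_eq_zero, ← hr j]
        refine Finset.sum_congr rfl fun l _ => ?_
        rw [← hβ l, Finset.mul_sum]
        exact Finset.sum_congr rfl fun i _ => (mul_assoc _ _ _).symm
      have h1 := hρker _ (D.ker _ (h0 ▸ zero_mem _) k)
      simp only [mul_sub, Finset.sum_sub_distrib, mul_ite, mul_zero, Finset.sum_ite_eq', Finset.mem_univ, if_true,
        Finset.mul_sum, map_sub, map_sum, map_mul, sub_eq_zero] at h1
      rw [Finset.sum_comm] at h1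
      simp only [Matrix.of_apply, map_sum, map_mul, Finset.mul_sum, Finset.sum_mul]
      show ρ (D.E k j) = _
      calc ρ (D.E k j) = (ρ g₀)⁻¹ * (ρ (D.E k j) * ρ g₀) := by
            rw [mul_comm (ρ (D.E k j)), ← mul_assoc, inv_mul_cancel₀ hρg, one_mul]
        _ = _ := by
          rw [h1, Finset.mul_sum]
          refine Finset.sum_congr rfl fun l _ => ?_
          rw [Finset.mul_sum]
          exact Finset.sum_congr rfl fun i _ => by ring
    rw [hM]
    exact (Matrix.rank_mul_le_left _ _).trans (Matrix.rank_le_width _)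
  let NQ : Matrix (Fin m) (Fin m) Q := Matrix.of fun j i => (if i = j then 1 else 0) - E i j
  have hrel : ∀ j, ∑ i, NQ j i * v i ∈ Ideal.span (Set.range eqs) := fun j => by
    simpa [NQ, sub_mul, Finset.sum_sub_distrib] using hvE j
  let Nκ : Matrix (Fin m) (Fin m) κ := (algebraMap A₀ κ).mapMatrix (φ.toRingHom.mapMatrix NQ)
  have hNκ : Nκ = (1 - M).transpose := Matrix.ext fun j i => by
    show algebraMap A₀ κ (φ ((if i = j then 1 else 0) - E i j)) = (1 : Matrix (Fin m) (Fin m) κ) i j - ρ (D.E i j)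
    rw [map_sub, map_sub, hE, Matrix.one_apply]
    split_ifs <;> simp [ρ]
  have hrN : m ≤ c₀ + Nκ.rank := by
    have := le_rank_add_rank_one_sub M
    rw [hNκ, Matrix.rank_transpose]
    omega
  obtain ⟨Jr, T, hdet⟩ := exists_rank_minor Nκ
  let δ : Q := (NQ.submatrix Jr T).det
  have hδ : algebraMap A₀ κ (φ δ) ≠ 0 := by
    have : algebraMap A₀ κ (φ δ) = (Nκ.submatrix Jr T).det := by
      rw [show φ δ = φ.toRingHom ((NQ.submatrix Jr T).det) from rfl, RingHom.map_det, RingHom.map_det]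
      rfl
    rwa [this]
  let S := {i : Fin m // i ∉ Set.range T}
  have hScard : Fintype.card S = m - Nκ.rank := by
    rw [Fintype.card_subtype_compl]
    have : Fintype.card {i // i ∈ Set.range T} = Nκ.rank := by
      rw [← Fintype.card_congr (Equiv.ofInjective T T.injective)]
      exact Fintype.card_fin _
    rw [this, Fintype.card_fin]
  let r₁ := m - Nκ.rank
  let eS : Fin r₁ ≃ S := (Fintype.equivFinOfCardEq hScard).symm
  let f : Fin (d + r₁) → Q := Fin.append eqs fun l => v (eS l).1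
  let W : Ideal Q := Ideal.span (Set.range f)
  have hfe : ∀ k, eqs k ∈ W := fun k => Ideal.subset_span ⟨Fin.castAdd r₁ k, Fin.append_left _ _ k⟩
  have hfv : ∀ i, i ∉ Set.range T → v i ∈ W := fun i hi => Ideal.subset_span
    ⟨Fin.natAdd d (eS.symm ⟨i, hi⟩), by simp [f]⟩
  obtain ⟨G, hG⟩ := hφ (φ₀ g₀)
  let g₁ : Q := δ * h * G
  let φD : Q →ₐ[R] Dl := Ideal.Quotient.mkₐ R J
  have hkerD : RingHom.ker φD.toRingHom = J := Ideal.mk_ker
  have hfI : ∀ i, f i ∈ RingHom.ker φD.toRingHom := fun i => by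
    rw [hkerD]
    refine Fin.addCases (fun k => ?_) (fun l => ?_) i
    · rw [show f (Fin.castAdd r₁ k) = eqs k from Fin.append_left _ _ k]
      exact Ideal.mem_sup_left (Ideal.subset_span ⟨k, rfl⟩)
    · rw [show f (Fin.natAdd d l) = v (eS l).1 from Fin.append_right _ _ l]
      exact Ideal.mem_sup_right (Ideal.subset_span ⟨_, rfl⟩)
  have hkill : ∀ x ∈ RingHom.ker φD.toRingHom, g₁ * x ∈ W := by
    intro x hx
    rw [hkerD] at hx
    have hle : J ≤ Submodule.comap (LinearMap.mulLeft Q δ) W := by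
      refine sup_le (Ideal.span_le.2 ?_) (Ideal.span_le.2 ?_)
      · rintro _ ⟨k, rfl⟩
        exact W.mul_mem_left _ (hfe k)
      · rintro _ ⟨i, rfl⟩
        exact det_mul_mem_of_relations W NQ v Jr T
          (fun j => (Ideal.span_le.2 (Set.range_subset_iff.2 hfe)) (hrel j)) hfv i
    rw [show g₁ * x = h * G * (δ * x) by ring]
    exact W.mul_mem_left _ (hle hx)
  have hg₁ : φD g₁ ∉ q := by
    show π (φD g₁) ∉ q'
    rw [show π (φD g₁) = φ g₁ from hπ g₁, map_mul, map_mul, hh, mul_one, hG]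
    exact fun hmem => ((inferInstance : q'.IsPrime).mem_or_mem hmem).elim
      (fun h1 => hδ (Ideal.algebraMap_residueField_eq_zero.2 h1)) hg₀
  have hc : d + r₁ ≤ n + d := by omega
  -- the dimension of the fibre
  obtain ⟨e₁⟩ := nonempty_awayEquiv_of_mul_le φD (Ideal.Quotient.mkₐ_surjective R J) W
    (Ideal.span_le.2 (Set.range_subset_iff.2 hfI)) g₁ hkill
  obtain ⟨e₀⟩ := nonempty_awayEquiv f g₁
  have hπs : Function.Surjective π := fun a => by
    obtain ⟨x, rfl⟩ := hφ a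
    exact ⟨_, hπ x⟩
  have hkerπ : ∀ x, π x = 0 → φD h * x ∈ I₀.map (algebraMap R Dl) := fun x hx => by
    obtain ⟨x, rfl⟩ := Ideal.Quotient.mk_surjective x
    rw [hπ] at hx
    have h1 := Ideal.mem_map_of_mem φD.toRingHom (hker x hx)
    rw [show φD.toRingHom = Ideal.Quotient.mk J from rfl, Ideal.map_sup, Ideal.map_quotient_self, bot_sup_eq, Ideal.map_map] at h1
    exact h1
  obtain ⟨θ, hθs, hθk, -⟩ := exists_away_reduce I₀ π hπs (φD h) hkerπ hI₀ (φD g₁)
    ⟨φD δ * φD G, by simp only [g₁, map_mul]; ring⟩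
  let T' := Localization.Away (φD g₁)
  let T₀ := Localization.Away (π (φD g₁))
  have hd1 : ringKrullDim (p.Fiber T') = ringKrullDim (p₀.Fiber T₀) :=
    ringKrullDim_fiber_reduce I₀ p hp p₀ rfl θ hθs hθk
  have hd2 : ringKrullDim (p₀.Fiber T₀) ≤ ((n + 1 - (c₀ + 1) : ℕ) : WithBot ℕ∞) := by
    refine le_trans ?_ hdimA
    let κ₀ := p₀.ResidueField
    refine le_of_eq_of_le (ringKrullDim_eq_of_ringEquiv (R := p₀.Fiber T₀)
      (IsLocalization.Away.tensorProductEquivTMulRight R₀ κ₀ (π (φD g₁)) T₀).toRingEquiv) ?_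
    refine le_of_le_of_eq ?_ (ringKrullDim_eq_of_ringEquiv (R := p₀.Fiber (Localization.Away (φ₀ g₀)))
      (IsLocalization.Away.tensorProductEquivTMulRight R₀ κ₀ (φ₀ g₀) (Localization.Away (φ₀ g₀))).toRingEquiv).symm
    have e : (1 : κ₀) ⊗ₜ[R₀] π (φD g₁) = ((1 : κ₀) ⊗ₜ[R₀] φ₀ g₀) * ((1 : κ₀) ⊗ₜ[R₀] φ δ) := by
      rw [Algebra.TensorProduct.tmul_mul_tmul, mul_one, show π (φD g₁) = φ g₁ from hπ g₁, map_mul, map_mul, hh, mul_one,
        hG, mul_comm]
    rw [e]
    exact ringKrullDim_away_mul_le _ _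
  have hdim : ringKrullDim (p.Fiber (Synt.RelGCIRing R (n + d + 1) (d + r₁ + 1) (awayPres f g₁))) ≤
      ((n + d + 1 - (d + r₁ + 1) : ℕ) : WithBot ℕ∞) := by
    refine le_of_eq_of_le (ringKrullDim_eq_of_ringEquiv
      (Algebra.TensorProduct.congr (AlgEquiv.refl (R := p.ResidueField) (A₁ := p.ResidueField)) (e₀.symm.trans e₁)).toRingEquiv) ?_
    refine (hd1.trans_le hd2).trans ?_
    exact natCast_withBot_le (by omega)
  obtain ⟨g, hg, N, c, F, hF, ⟨e⟩⟩ := relGCI_nhd_of_equations φD (Ideal.Quotient.mkₐ_surjective R J) p q hqp f g₁ hc hfI hg₁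
    hkill hdim
  exact ⟨g, hg, isSyntomic_congr e.symm (isSyntomic_relGCIRing hF)⟩

/-- Syntomic algebras lift along surjections. -/
theorem exists_syntomic_lift {A₀ : Type u} (I₀ : Ideal R) [CommRing A₀] [Algebra (R ⧸ I₀) A₀]
    (hsyn : Synt.IsSyntomic (R ⧸ I₀) A₀) :
    ∃ (A : Type u) (_ : CommRing A) (_ : Algebra R A), Synt.IsSyntomic R A ∧
      Nonempty ((A ⧸ I₀.map (algebraMap R A)) ≃ₐ[R ⧸ I₀] A₀) := by
  classical
  let R₀ := R ⧸ I₀
  letI : Algebra R A₀ := ((algebraMap R₀ A₀).comp (Ideal.Quotient.mk I₀)).toAlgebra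
  have : IsScalarTower R R₀ A₀ := IsScalarTower.of_algebraMap_eq fun _ => rfl
  obtain ⟨n, φ₀, hφ₀, hI⟩ := hsyn.2.1.out
  obtain ⟨m, ⟨D⟩⟩ := nonempty_idemData (RingHom.ker φ₀.toRingHom) hI
    (isSyntomic_congr (Ideal.quotientKerAlgEquivOfSurjective hφ₀).symm hsyn)
  obtain ⟨d, φ, eqs, v, E, h, hφ, heqs, hv, hE, hvE, hh, hker⟩ := exists_lift_data I₀ D φ₀.toRingHom hφ₀ rfl
    (fun r => φ₀.commutes _)
  let Q := MvPolynomial (Fin (n + d)) R
  let J : Ideal Q := Ideal.span (Set.range eqs) ⊔ Ideal.span (Set.range v)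
  let Dl := Q ⧸ J
  have hJ : J ≤ RingHom.ker φ := sup_le (Ideal.span_le.2 (Set.range_subset_iff.2 heqs)) (Ideal.span_le.2 (Set.range_subset_iff.2 hv))
  let π : Dl →ₐ[R] A₀ := Ideal.Quotient.liftₐ J φ hJ
  have hπs : Function.Surjective π := fun a => by
    obtain ⟨x, rfl⟩ := hφ a
    exact ⟨Ideal.Quotient.mk J x, rfl⟩
  let Gs : Set Dl := {g | Synt.IsSyntomic R (Localization.Away g)}
  have hspan : Ideal.span (π '' Gs) = ⊤ := by
    by_contra hne
    obtain ⟨q', hq', hle⟩ := Ideal.exists_le_maximal _ hne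
    have := hq'.isPrime
    obtain ⟨g, hg, hgs⟩ := exists_syntomic_nhd_lift I₀ hsyn φ₀ hφ₀ D φ hφ eqs v E h heqs hv hE hvE hh hker π (fun x => rfl) q'
    exact hg (hle (Ideal.subset_span ⟨g, hgs, rfl⟩))
  obtain ⟨s, hs, hs'⟩ := (Ideal.span_eq_top_iff_finite (π '' Gs)).1 hspan
  choose gw hgw hgwe using fun w : s => hs w.2
  have h1 : (1 : A₀) ∈ Ideal.span (Set.range fun w : s => (w : A₀)) := by
    rw [show Set.range (fun w : s => (w : A₀)) = (s : Set _) from Subtype.range_coe, hs']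
    exact Submodule.mem_top
  obtain ⟨b, hb⟩ := Ideal.mem_span_range_iff_exists_fun.1 h1
  choose b' hb' using fun w => hπs (b w)
  let hD : Dl := Ideal.Quotient.mk J h
  let gs : Dl := hD * ∑ w, b' w * gw w
  let T := Localization.Away gs
  have hπgs : π gs = 1 := by
    rw [map_mul, show π hD = 1 from hh, one_mul, map_sum, ← hb]
    exact Finset.sum_congr rfl fun w _ => by rw [map_mul, hb', hgwe]
  have hT : Synt.IsSyntomic R T := by
    refine isSyntomic_of_span (Finset.univ.image fun w : s => algebraMap Dl T (gw w)) ?_ ?_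
    · rw [Ideal.eq_top_iff_one]
      obtain ⟨iv, hiv⟩ := (IsLocalization.Away.algebraMap_isUnit (S := T) gs).exists_left_inv
      rw [← hiv]
      refine Ideal.mul_mem_left _ _ ?_
      rw [map_mul, map_sum]
      refine Ideal.mul_mem_left _ _ (Ideal.sum_mem _ fun w _ => ?_)
      rw [map_mul]
      exact Ideal.mul_mem_left _ _ (Ideal.subset_span (Finset.mem_image_of_mem _ (Finset.mem_univ w)))
    · intro z hz
      obtain ⟨w, -, rfl⟩ := Finset.mem_image.1 hz
      let g := gw w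
      let Sg := Localization.Away g
      let V := Localization.Away (algebraMap Dl T g)
      have hgu : IsUnit (algebraMap Dl V g) := by
        rw [IsScalarTower.algebraMap_apply Dl T V]
        exact IsLocalization.Away.algebraMap_isUnit _
      let lift : Sg →+* V := IsLocalization.Away.lift g hgu
      letI : Algebra Sg V := lift.toAlgebra
      have : IsScalarTower Dl Sg V := IsScalarTower.of_algebraMap_eq (R := Dl) (S := Sg) (A := V) fun x => (IsLocalization.Away.lift_eq g hgu x).symm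
      have : IsScalarTower R Sg V := IsScalarTower.to₁₃₄ R Dl Sg V
      have : IsLocalization.Away (gs * g) V := IsLocalization.Away.mul' T V gs g
      have : IsLocalization.Away (algebraMap Dl Sg gs) V := by
        have hW : IsLocalization.Away (gs * g) (Localization.Away (algebraMap Dl Sg gs)) :=
          mul_comm g gs ▸ IsLocalization.Away.mul' Sg (Localization.Away (algebraMap Dl Sg gs)) g gs
        let e := IsLocalization.algEquiv (Submonoid.powers (gs * g)) (Localization.Away (algebraMap Dl Sg gs)) V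
        let e' : Localization.Away (algebraMap Dl Sg gs) ≃ₐ[Sg] V := AlgEquiv.ofRingEquiv (f := e.toRingEquiv) fun x => by
          refine RingHom.congr_fun (f := e.toRingEquiv.toRingHom.comp (algebraMap Sg _)) (g := algebraMap Sg V)
            (IsLocalization.ringHom_ext (Submonoid.powers g) (RingHom.ext fun y => ?_)) x
          show e (algebraMap Sg _ (algebraMap Dl Sg y)) = algebraMap Sg V (algebraMap Dl Sg y)
          rw [← IsScalarTower.algebraMap_apply, ← IsScalarTower.algebraMap_apply, e.commutes]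
        exact IsLocalization.isLocalization_of_algEquiv _ e'
      exact isSyntomic_away_target (algebraMap Dl Sg gs) V (hgw w)
  have hI₀ : ∀ r ∈ I₀, algebraMap R A₀ r = 0 := fun r hr => by
    show algebraMap R₀ A₀ (Ideal.Quotient.mk I₀ r) = 0
    rw [Ideal.Quotient.eq_zero_iff_mem.2 hr, map_zero]
  obtain ⟨θ, hθs, hθk, -⟩ := exists_away_reduce I₀ π hπs hD (fun x hx => by
    obtain ⟨x, rfl⟩ := Ideal.Quotient.mk_surjective x
    have h1 := Ideal.mem_map_of_mem (Ideal.Quotient.mk J) (hker x hx)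
    rw [Ideal.map_sup, Ideal.map_quotient_self, bot_sup_eq, Ideal.map_map] at h1
    exact h1) hI₀ gs ⟨_, rfl⟩
  have : IsLocalization.Away (1 : A₀) (Localization.Away (π gs)) := by rw [hπgs]; infer_instance
  let e1 : Localization.Away (π gs) ≃ₐ[R] A₀ :=
    ((IsLocalization.atOne A₀ (Localization.Away (π gs))).restrictScalars R).symm
  let Θ : T →ₐ[R] A₀ := e1.toAlgHom.comp θ
  have hΘs : Function.Surjective Θ := e1.surjective.comp hθs
  have hΘk : RingHom.ker Θ.toRingHom = I₀.map (algebraMap R T) := by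
    rw [← hθk]
    exact Ideal.ext fun z => ⟨fun hz => e1.injective (hz.trans (map_zero e1).symm), fun hz => by
      show e1 (θ z) = 0
      rw [show θ z = 0 from hz, map_zero]⟩
  let e2 : (T ⧸ I₀.map (algebraMap R T)) ≃ₐ[R] A₀ :=
    (Ideal.quotientEquivAlgOfEq R hΘk.symm).trans (Ideal.quotientKerAlgEquivOfSurjective hΘs)
  refine ⟨T, inferInstance, inferInstance, hT, ⟨AlgEquiv.ofRingEquiv (f := e2.toRingEquiv) fun r => ?_⟩⟩
  obtain ⟨r, rfl⟩ := Ideal.Quotient.mk_surjective r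
  exact e2.commutes r

end TransLib
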