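import Groth.Agent.TransLib.BundleGCI

/-!
# A syntomic algebra is a smooth retract of a relative global complete intersection
-/

set_option autoImplicit false

universe u

open MvPolynomial

namespace TransLib

theorem exists_retract_relGCI_quotient {R : Type u} [CommRing R] {n : ℕ} (I : Ideal (MvPolynomial (Fin n) R))
    (hI : I.FG) (h : Synt.IsSyntomic R (MvPolynomial (Fin n) R ⧸ I)) :
    ∃ (N c : ℕ) (F : Fin c → MvPolynomial (Fin N) R), Synt.IsRelGCI R N c F ∧
      ∃ (_ : Algebra (MvPolynomial (Fin n) R ⧸ I) (Synt.RelGCIRing R N c F))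
        (_ : IsScalarTower R (MvPolynomial (Fin n) R ⧸ I) (Synt.RelGCIRing R N c F)),
        Algebra.Smooth (MvPolynomial (Fin n) R ⧸ I) (Synt.RelGCIRing R N c F) ∧
        Nonempty (Synt.RelGCIRing R N c F →ₐ[MvPolynomial (Fin n) R ⧸ I] MvPolynomial (Fin n) R ⧸ I) := by
  classical
  obtain ⟨m, ⟨D⟩⟩ := nonempty_idemData I hI h
  obtain ⟨C, _, _, _, _, hsm, φ, ρ, hφ, -, hι, hy, -, h', hh', hF, hkill⟩ := exists_bundle D
  obtain ⟨hG, ⟨e⟩⟩ := exists_relGCI_bundle D h φ hφ hι hy h' hF hkill 1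
  let A := MvPolynomial (Fin n) R ⧸ I
  let Rg := Synt.RelGCIRing R (n + m + 1) (m + 1) (awayPres (bundleEq D) (h' * 1))
  have hu : φ (h' * 1) = 1 := by rw [mul_one, hh']
  have : IsLocalization.Away (1 : C) (Localization.Away (φ (h' * 1))) := by rw [hu]; infer_instance
  let e₂ : C ≃ₐ[R] Rg := ((IsLocalization.atOne C (Localization.Away (φ (h' * 1)))).restrictScalars R).trans e.symm
  letI : Algebra A Rg := (e₂.toAlgHom.toRingHom.comp (algebraMap A C)).toAlgebra
  have : IsScalarTower R A Rg := IsScalarTower.of_algebraMap_eq (R := R) (S := A) (A := Rg) fun r => by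
    show _ = e₂ (algebraMap A C (algebraMap R A r))
    rw [← IsScalarTower.algebraMap_apply, e₂.commutes]
  let e₃ : C ≃ₐ[A] Rg := AlgEquiv.ofRingEquiv (f := e₂.toRingEquiv) fun a => rfl
  exact ⟨_, _, _, hG, ‹_›, ‹_›, Algebra.Smooth.of_equiv e₃, ⟨ρ.comp e₃.symm.toAlgHom⟩⟩

/-- A syntomic algebra is a smooth retract of a relative global complete intersection. -/
theorem exists_retract_relGCI {R A : Type u} [CommRing R] [CommRing A] [Algebra R A] (h : Synt.IsSyntomic R A) :
    ∃ (N c : ℕ) (F : Fin c → MvPolynomial (Fin N) R), Synt.IsRelGCI R N c F ∧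
      ∃ (_ : Algebra A (Synt.RelGCIRing R N c F)) (_ : IsScalarTower R A (Synt.RelGCIRing R N c F)),
        Algebra.Smooth A (Synt.RelGCIRing R N c F) ∧
        ∃ ρ : Synt.RelGCIRing R N c F →ₐ[R] A, ∀ a : A, ρ (algebraMap A (Synt.RelGCIRing R N c F) a) = a := by
  obtain ⟨n, φ, hφ, hI⟩ := h.2.1.out
  let e : (MvPolynomial (Fin n) R ⧸ RingHom.ker φ.toRingHom) ≃ₐ[R] A := Ideal.quotientKerAlgEquivOfSurjective hφ
  obtain ⟨N, c, F, hF, _, _, hsm, ⟨ρ⟩⟩ := exists_retract_relGCI_quotient _ hI (isSyntomic_congr e.symm h)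
  let B := MvPolynomial (Fin n) R ⧸ RingHom.ker φ.toRingHom
  let Rg := Synt.RelGCIRing R N c F
  letI : Algebra A B := e.symm.toAlgHom.toRingHom.toAlgebra
  letI : Algebra A Rg := ((algebraMap B Rg).comp e.symm.toAlgHom.toRingHom).toAlgebra
  have : IsScalarTower A B Rg := IsScalarTower.of_algebraMap_eq fun _ => rfl
  have : IsScalarTower R A Rg := IsScalarTower.of_algebraMap_eq fun r => by
    show _ = algebraMap B Rg (e.symm (algebraMap R A r))
    rw [e.symm.commutes, ← IsScalarTower.algebraMap_apply]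
  have : Algebra.Smooth A B := Algebra.Smooth.of_equiv (AlgEquiv.ofRingEquiv (f := e.symm.toRingEquiv) fun _ => rfl : A ≃ₐ[A] B)
  refine ⟨N, c, F, hF, ‹_›, ‹_›, Algebra.Smooth.comp A B Rg, e.toAlgHom.comp (ρ.restrictScalars R), fun a => ?_⟩
  show e (ρ (algebraMap B Rg (e.symm a))) = a
  rw [ρ.commutes]
  exact e.apply_symm_apply a

end TransLib
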