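import Groth.Agent.TransLib.Popescu
import Groth.Agent.CohenLib.GeomRed
import Groth.Agent.JacFSLib.GeomReg

/-!
# Regular fibres with field target
-/

set_option autoImplicit false

universe u

open TensorProduct

namespace TransLib

/-- A fibre which is a field, formally smooth over the residue field, is geometrically regular. -/
theorem fibre_geometricallyRegular {R Λ K L : Type u} [CommRing R] [CommRing Λ] [Algebra R Λ] (p : Ideal R) [p.IsPrime]
    [Field K] [Algebra R K] (hker : ∀ r, algebraMap R K r = 0 ↔ r ∈ p)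
    (hK : ∀ z : K, ∃ a b, b ∉ p ∧ z * algebraMap R K b = algebraMap R K a)
    [Field L] [Algebra K L] [Algebra Λ L] [Algebra R L] [IsScalarTower R K L] [IsScalarTower R Λ L]
    [Algebra.IsGeometricallyReduced K L]
    (hinj : ∀ x : Λ, algebraMap Λ L x = 0 → (1 : p.ResidueField) ⊗ₜ[R] x = 0)
    (hsurj : ∀ y : L, ∃ r x, r ∉ p ∧ y * algebraMap R L r = algebraMap Λ L x) :
    IsNoetherianRing (p.Fiber Λ) ∧ CAlg.IsGeometricallyRegular p.ResidueField (p.Fiber Λ) := by
  let K₀ := p.ResidueField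
  have hu : p.primeCompl ≤ (IsUnit.submonoid K).comap (algebraMap R K) :=
    fun r hr => isUnit_iff_ne_zero.2 fun h => hr ((hker r).1 h)
  let h : K₀ →+* K := Ideal.ResidueField.lift p (algebraMap R K) (fun r hr => (hker r).2 hr) hu
  have hh : ∀ r, h (algebraMap R K₀ r) = algebraMap R K r := Ideal.ResidueField.lift_algebraMap p _ _ hu
  have hbij : Function.Bijective h := ⟨h.injective, fun z => by
    obtain ⟨a, b, hb, hab⟩ := hK z
    refine ⟨algebraMap R K₀ a / algebraMap R K₀ b, ?_⟩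
    rw [map_div₀, hh, hh, div_eq_iff fun h0 => hb ((hker b).1 h0), hab]⟩
  letI : Algebra K₀ K := h.toAlgebra
  have : Algebra.FormallySmooth K₀ K :=
    Algebra.FormallySmooth.of_equiv (AlgEquiv.ofBijective (Algebra.ofId K₀ K) hbij)
  have : Algebra.FormallySmooth K L := CohenLib.formallySmooth_of_isGeometricallyReduced K L
  letI : Algebra K₀ L := ((algebraMap K L).comp h).toAlgebra
  haveI : IsScalarTower K₀ K L := IsScalarTower.of_algebraMap_eq fun _ => rfl
  have : Algebra.FormallySmooth K₀ L := Algebra.FormallySmooth.comp K₀ K L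
  haveI : IsScalarTower R K₀ L := IsScalarTower.of_algebraMap_eq fun r => by
    show _ = algebraMap K L (h (algebraMap R K₀ r))
    rw [hh, ← IsScalarTower.algebraMap_apply]
  let Φ : p.Fiber Λ →ₐ[K₀] L :=
    Algebra.TensorProduct.lift (Algebra.ofId K₀ L) (IsScalarTower.toAlgHom R Λ L) fun _ _ => Commute.all _ _
  have hΦ : ∀ x : Λ, Φ ((1 : K₀) ⊗ₜ[R] x) = algebraMap Λ L x := fun x => by
    rw [Algebra.TensorProduct.lift_tmul, map_one, one_mul]
    rfl
  have hne : ∀ r, r ∉ p → algebraMap R K₀ r ≠ 0 := fun r hr h0 => hr (Ideal.algebraMap_residueField_eq_zero.1 h0)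
  have hΦb : Function.Bijective Φ := by
    refine ⟨(injective_iff_map_eq_zero Φ).2 fun z hz => ?_, fun y => ?_⟩
    · obtain ⟨r, hr, x, hrx⟩ := Ideal.Fiber.exists_smul_eq_one_tmul p z
      have h1 : (1 : K₀) ⊗ₜ[R] x = 0 := by
        refine hinj x ?_
        rw [← hΦ, ← hrx, Φ.map_smul_of_tower, hz, smul_zero]
      rw [h1, ← IsScalarTower.algebraMap_smul K₀ r z] at hrx
      exact (smul_eq_zero.1 hrx).resolve_left (hne r hr)
    · obtain ⟨r, x, hr, hrx⟩ := hsurj y
      refine ⟨(algebraMap R K₀ r)⁻¹ • ((1 : K₀) ⊗ₜ[R] x), ?_⟩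
      rw [map_smul, hΦ, ← hrx, IsScalarTower.algebraMap_apply R K₀ L, Algebra.smul_def, mul_left_comm, ← map_mul,
        inv_mul_cancel₀ (hne r hr), map_one, mul_one]
  let e : p.Fiber Λ ≃ₐ[K₀] L := AlgEquiv.ofBijective Φ hΦb
  exact ⟨isNoetherianRing_of_ringEquiv _ e.symm.toRingEquiv,
    isGeometricallyRegular_of_algEquiv e.symm JacFSLib.isGeometricallyRegular_of_formallySmooth⟩

end TransLib
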