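import Groth.Agent.CohenLib.DerExt
import Groth.Agent.CohenLib.FSSubfield
import Groth.Agent.CohenLib.GeomRed
import Groth.Agent.CohenLib.PSHom
import Mathlib.RingTheory.Smooth.AdicCompletion

/-!
# Artinian local algebras are directed unions of essentially finite type ones
-/

set_option autoImplicit false

universe u

open IsLocalRing TensorProduct

namespace TransLib

/-- A finite set carries the kernel on differentials; derivations extend from the remaining basis. -/
theorem exists_finite_split {k K : Type u} [Field k] [Field K] [Algebra k K]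
    (hW : (LinearMap.ker (KaehlerDifferential.mapBaseChange ℤ k K)).FG) :
    ∃ B₁ B₂ : Set k, B₁.Finite ∧ Submodule.span k (KaehlerDifferential.D ℤ k '' (B₁ ∪ B₂)) = ⊤ ∧
      ∀ δ : k → K, ∃ D' : Derivation ℤ K K, ∀ b ∈ B₂, D' (algebraMap k K b) = δ b := by
  classical
  let bV := Module.Basis.ofSpan (KaehlerDifferential.span_range_derivation ℤ k).ge
  choose c hc using fun j => Module.Basis.ofSpan_subset (KaehlerDifferential.span_range_derivation ℤ k).ge ⟨j, rfl⟩
  let bK := Algebra.TensorProduct.basis K bV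
  let u := KaehlerDifferential.mapBaseChange ℤ k K
  obtain ⟨gen, hgen⟩ := hW
  let I₁ := gen.biUnion fun z => (bK.repr z).support
  have hker : ∀ z ∈ LinearMap.ker u, z ∈ Submodule.span K (bK '' (I₁ : Set _)) := fun z hz => by
    rw [← hgen] at hz
    refine Submodule.span_le.2 (fun w hw => ?_) hz
    rw [SetLike.mem_coe, Module.Basis.mem_span_image]
    exact Finset.coe_subset.2 (Finset.subset_biUnion_of_mem (fun z => (bK.repr z).support) hw)
  refine ⟨c '' (I₁ : Set _), c '' ((I₁ : Set _))ᶜ, I₁.finite_toSet.image c, ?_, fun δ => ?_⟩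
  · rw [← Set.image_union, Set.union_compl_self, Set.image_univ, ← Set.range_comp, eq_top_iff, ← bV.span_eq]
    exact Submodule.span_mono (by rintro _ ⟨j, rfl⟩; exact ⟨j, hc j⟩)
  · let v : {j // j ∈ ((I₁ : Set _))ᶜ} → Ω[K⁄ℤ] := fun j => u (bK j.1)
    have hv : LinearIndependent K v := by
      refine (bK.linearIndependent.comp _ Subtype.val_injective).map ?_
      rw [disjoint_iff, eq_bot_iff]
      rintro z ⟨hz1, hz2⟩
      have h1 := (Module.Basis.mem_span_image _).1 (hker z hz2)
      rw [Set.range_comp, Subtype.range_coe_subtype] at hz1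
      have h2 := (Module.Basis.mem_span_image _).1 hz1
      have h3 : bK.repr z = 0 := Finsupp.support_eq_empty.1 (Finset.eq_empty_of_forall_notMem fun j hj => h2 hj (h1 hj))
      simpa using congrArg bK.repr.symm h3
    obtain ⟨φ, hφ⟩ := LinearMap.exists_extend ((Module.Basis.span hv).constr K fun j => δ (c j.1))
    refine ⟨φ.compDer (KaehlerDifferential.D ℤ K), ?_⟩
    rintro _ ⟨j, hj, rfl⟩
    show φ (KaehlerDifferential.D ℤ K (algebraMap k K (c j))) = δ (c j)
    have h1 : v ⟨j, hj⟩ = KaehlerDifferential.D ℤ K (algebraMap k K (c j)) := by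
      show u (bK j) = _
      rw [Algebra.TensorProduct.basis_apply, KaehlerDifferential.mapBaseChange_tmul, one_smul, ← hc j,
        KaehlerDifferential.map_D]
    have h2 := LinearMap.congr_fun hφ (Module.Basis.span hv ⟨j, hj⟩)
    rw [LinearMap.comp_apply, Module.Basis.constr_basis, Submodule.subtype_apply,
      Module.Basis.coe_span_apply, h1] at h2
    exact h2

/-- A coefficient field agreeing with the structure map on a set of independent differentials. -/
theorem exists_section_fixing {k Λ : Type u} [Field k] [CommRing Λ] [IsLocalRing Λ] [Algebra k Λ]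
    (hnil : IsNilpotent (maximalIdeal Λ)) (B₂ : Set k)
    (hB : ∀ δ : k → ResidueField Λ, ∃ D' : Derivation ℤ (ResidueField Λ) (ResidueField Λ),
      ∀ b ∈ B₂, D' (algebraMap k (ResidueField Λ) b) = δ b) :
    ∃ s : ResidueField Λ →+* Λ, (∀ x, residue Λ (s x) = x) ∧
      ∀ b ∈ B₂, s (algebraMap k (ResidueField Λ) b) = algebraMap k Λ b := by
  classical
  let K := ResidueField Λ
  let k₂ := Subfield.closure B₂
  obtain ⟨P, hP, hPD⟩ := CohenLib.exists_perfect_subfield k₂
  have : IsScalarTower P k₂ K := IsScalarTower.of_algebraMap_eq fun _ => rfl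
  have : Algebra.FormallySmooth k₂ K := by
    refine CohenLib.formallySmooth_of_derivation_extends P fun D => ?_
    obtain ⟨D', hD'⟩ := hB fun b => if hb : b ∈ k₂ then D ⟨b, hb⟩ else 0
    have hagree : ∀ x (hx : x ∈ k₂), D' (algebraMap k K x) = D ⟨x, hx⟩ := fun x hx => by
      induction hx using Subfield.closure_induction with
      | mem b hb => rw [hD' b hb, dif_pos (show b ∈ k₂ from Subfield.subset_closure hb)]
      | one =>
        rw [map_one, Derivation.map_one_eq_zero]
        exact (Derivation.map_one_eq_zero D).symm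
      | add a b ha hb iha ihb =>
        rw [map_add, map_add, iha, ihb, ← map_add]
        rfl
      | neg a ha iha =>
        rw [map_neg, map_neg, iha, ← map_neg]
        rfl
      | inv a ha iha =>
        rw [map_inv₀, Derivation.leibniz_inv, iha,
          show (⟨a⁻¹, Subfield.inv_mem _ ha⟩ : k₂) = (⟨a, ha⟩ : k₂)⁻¹ from rfl, Derivation.leibniz_inv,
          smul_eq_mul]
        refine Eq.trans ?_ (Algebra.smul_def _ _).symm
        show _ = algebraMap k K (-(a⁻¹ ^ 2)) * D ⟨a, ha⟩
        rw [map_neg, map_pow, map_inv₀]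
      | mul a b ha hb iha ihb =>
        rw [map_mul, Derivation.leibniz, iha, ihb, show (⟨a * b, Subfield.mul_mem _ ha hb⟩ : k₂) = (⟨a, ha⟩ : k₂) * ⟨b, hb⟩ from rfl,
          Derivation.leibniz]
        exact congrArg₂ (· + ·) (Algebra.smul_def (⟨a, ha⟩ : k₂) _).symm (Algebra.smul_def (⟨b, hb⟩ : k₂) _).symm
    refine ⟨Derivation.mk'
      { toFun := D'
        map_add' := map_add D'
        map_smul' := fun r a => ?_ } D'.leibniz, fun x => hagree x.1 x.2⟩
    rw [RingHom.id_apply, Algebra.smul_def, D'.leibniz, IsScalarTower.algebraMap_apply P k₂ K,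
      IsScalarTower.algebraMap_apply k₂ k K]
    rw [show D' (algebraMap k K (algebraMap k₂ k (algebraMap P k₂ r))) = D (algebraMap P k₂ r) from hagree _ (algebraMap P k₂ r).2]
    rw [D.map_algebraMap, smul_zero, add_zero, ← IsScalarTower.algebraMap_apply, ← IsScalarTower.algebraMap_apply,
      smul_eq_mul]
    exact (Algebra.smul_def r (D' a)).symm
  have : IsAdicComplete (maximalIdeal Λ) Λ := CohenLib.isAdicComplete_of_isNilpotent _ hnil
  obtain ⟨σ, hσ⟩ := Algebra.FormallySmooth.exists_mkₐ_comp_eq_of_isAdicComplete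
    (R := k₂) (I := maximalIdeal Λ) (AlgHom.id k₂ K : K →ₐ[k₂] Λ ⧸ maximalIdeal Λ)
  refine ⟨σ.toRingHom, fun x => AlgHom.congr_fun hσ x, fun b hb => ?_⟩
  exact σ.commutes ⟨b, Subfield.subset_closure hb⟩

/-- A subring containing the values on a spanning set of differentials contains all values. -/
theorem algebraMap_mem_of_span {k Λ : Type u} [Field k] [CommRing Λ] [IsLocalRing Λ] [Algebra k Λ]
    (hnil : IsNilpotent (maximalIdeal Λ)) (s : ResidueField Λ →+* Λ) (hs : ∀ x, residue Λ (s x) = x)
    (A : Subring Λ) (hsA : ∀ a : k, s (algebraMap k (ResidueField Λ) a) ∈ A) (B : Set k)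
    (hspan : Submodule.span k (KaehlerDifferential.D ℤ k '' B) = ⊤) (hB : ∀ b ∈ B, algebraMap k Λ b ∈ A) (a : k) :
    algebraMap k Λ a ∈ A := by
  classical
  let j : k →+* A := (s.comp (algebraMap k (ResidueField Λ))).codRestrict A hsA
  have hj : ∀ x : k, algebraMap k Λ x - (j x : Λ) ∈ maximalIdeal Λ := fun x => by
    rw [← residue_eq_zero_iff, map_sub, show residue Λ (j x : Λ) = algebraMap k (ResidueField Λ) x from hs _, sub_eq_zero]
    rfl
  have main : ∀ i : ℕ, ∀ x : k, ∃ α : A, algebraMap k Λ x - (α : Λ) ∈ maximalIdeal Λ ^ (i + 1) := by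
    intro i
    induction i with
    | zero => exact fun x => ⟨j x, by rw [pow_one]; exact hj x⟩
    | succ i ih =>
      let G : Submodule A Λ := Submodule.span A {(1 : Λ)} ⊔ (maximalIdeal Λ ^ (i + 2)).restrictScalars A
      letI : Module k (Λ ⧸ G) := Module.compHom (Λ ⧸ G) j
      let δ₀ : k →+ Λ ⧸ G := (Submodule.mkQ G).toAddMonoidHom.comp (algebraMap k Λ).toAddMonoidHom
      have hmemA : ∀ α : A, (α : Λ) ∈ G := fun α =>
        Submodule.mem_sup_left (Submodule.mem_span_singleton.2 ⟨α, mul_one _⟩)
      let δ : Derivation ℤ k (Λ ⧸ G) := Derivation.mk' δ₀.toIntLinearMap fun x y => by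
        obtain ⟨α, hα⟩ := ih x
        obtain ⟨β, hβ⟩ := ih y
        show Submodule.Quotient.mk (algebraMap k Λ (x * y)) =
          j x • (Submodule.Quotient.mk (algebraMap k Λ y) : Λ ⧸ G) + j y • Submodule.Quotient.mk (algebraMap k Λ x)
        rw [← Submodule.Quotient.mk_smul, ← Submodule.Quotient.mk_smul, ← Submodule.Quotient.mk_add, Submodule.Quotient.eq]
        show algebraMap k Λ (x * y) - ((j x : Λ) * algebraMap k Λ y + (j y : Λ) * algebraMap k Λ x) ∈ G
        set μ := algebraMap k Λ x - (α : Λ)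
        set ν := algebraMap k Λ y - (β : Λ)
        have hx : algebraMap k Λ x = (α : Λ) + μ := by simp [μ]
        have hy : algebraMap k Λ y = (β : Λ) + ν := by simp [ν]
        have key : algebraMap k Λ (x * y) - ((j x : Λ) * algebraMap k Λ y + (j y : Λ) * algebraMap k Λ x) =
            ((α * β - j x * β - j y * α : A) : Λ) + (((α : Λ) - (j x : Λ)) * ν + ((β : Λ) - (j y : Λ)) * μ + μ * ν) := by
          rw [map_mul, hx, hy]; push_cast; ring
        have hax : (α : Λ) - (j x : Λ) ∈ maximalIdeal Λ := by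
          have h1 := hj x
          rw [hx] at h1
          have := sub_mem h1 (Ideal.pow_le_self (Nat.succ_ne_zero i) hα)
          rwa [show (α : Λ) + μ - (j x : Λ) - μ = (α : Λ) - (j x : Λ) by ring] at this
        have hby : (β : Λ) - (j y : Λ) ∈ maximalIdeal Λ := by
          have h1 := hj y
          rw [hy] at h1
          have := sub_mem h1 (Ideal.pow_le_self (Nat.succ_ne_zero i) hβ)
          rwa [show (β : Λ) + ν - (j y : Λ) - ν = (β : Λ) - (j y : Λ) by ring] at this
        rw [key]
        refine add_mem (hmemA _) (Submodule.mem_sup_right ?_)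
        show _ ∈ maximalIdeal Λ ^ (i + 2)
        rw [show i + 2 = 1 + (i + 1) by ring, pow_add, pow_one]
        exact add_mem (add_mem (Ideal.mul_mem_mul hax hβ) (Ideal.mul_mem_mul hby hα))
          (Ideal.mul_mem_mul (Ideal.pow_le_self (Nat.succ_ne_zero i) hα) hβ)
      have h0 : δ.liftKaehlerDifferential = 0 := LinearMap.ext_on hspan (by
        rintro _ ⟨b, hb, rfl⟩
        rw [Derivation.liftKaehlerDifferential_comp_D, LinearMap.zero_apply]
        exact (Submodule.Quotient.mk_eq_zero G).2 (hmemA ⟨_, hB b hb⟩))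
      intro x
      have hx : algebraMap k Λ x ∈ G := by
        have h1 := LinearMap.congr_fun h0 (KaehlerDifferential.D ℤ k x)
        rw [Derivation.liftKaehlerDifferential_comp_D, LinearMap.zero_apply] at h1
        exact (Submodule.Quotient.mk_eq_zero G).1 h1
      obtain ⟨y, hy, z, hz, hyz⟩ := Submodule.mem_sup.1 hx
      obtain ⟨α, rfl⟩ := Submodule.mem_span_singleton.1 hy
      refine ⟨α, ?_⟩
      rw [← hyz, show α • (1 : Λ) = (α : Λ) from mul_one _, add_sub_cancel_left]
      exact hz
  obtain ⟨N, hN⟩ := hnil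
  obtain ⟨α, hα⟩ := main N a
  have : algebraMap k Λ a - (α : Λ) = 0 := by
    have h := Ideal.pow_le_pow_right (Nat.le_succ N) hα
    rwa [hN] at h
  rw [sub_eq_zero.1 this]
  exact α.2

/-- Artinian local subalgebras of essentially finite type. -/
theorem exists_artinian_subalgebra {k Λ : Type u} [Field k] [CommRing Λ] [Algebra k Λ] [IsArtinianRing Λ]
    [IsLocalRing Λ] (hW : (LinearMap.ker (KaehlerDifferential.mapBaseChange ℤ k (ResidueField Λ))).FG)
    (E : Finset Λ) :
    ∃ (A : Subalgebra k Λ) (_ : IsLocalRing A), (E : Set Λ) ⊆ A ∧ IsArtinianRing A ∧ Module.Flat A Λ ∧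
      Algebra.EssFiniteType k A ∧ (maximalIdeal A).map (algebraMap A Λ) = maximalIdeal Λ := by
  classical
  let K := ResidueField Λ
  have hnil : IsNilpotent (maximalIdeal Λ) := IsArtinianRing.jacobson_eq_radical (⊥ : Ideal Λ) |> fun _ => by
    rw [← jacobson_eq_maximalIdeal (⊥ : Ideal Λ) bot_ne_top]
    exact IsArtinianRing.isNilpotent_jacobson_bot
  obtain ⟨B₁, B₂, hB₁, hspan, hext⟩ := exists_finite_split hW
  obtain ⟨s, hs, hsB⟩ := exists_section_fixing hnil B₂ hext
  letI : Algebra K Λ := s.toAlgebra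
  have hsmul : ∀ (c : K) (x : Λ), c • x = s c * x := fun c x => Algebra.smul_def c x
  let m' : Submodule K Λ := (maximalIdeal Λ).restrictScalars K
  have hfin : Module.Finite K Λ := by
    have : ∀ x : Λ, x - s (residue Λ x) ∈ maximalIdeal Λ := fun x => by
      rw [← residue_eq_zero_iff, map_sub, hs, sub_self]
    obtain ⟨N, hN⟩ := hnil
    obtain ⟨gm, hgm⟩ := IsNoetherian.noetherian (maximalIdeal Λ)
    refine ⟨?_⟩
    have : ∀ i : ℕ, ∃ t : Finset Λ, ∀ x : Λ, ∃ y ∈ Submodule.span K (t : Set Λ), x - y ∈ maximalIdeal Λ ^ i := by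
      intro i
      induction i with
      | zero => exact ⟨∅, fun x => ⟨0, zero_mem _, by simp⟩⟩
      | succ i ih =>
        obtain ⟨t, ht⟩ := ih
        refine ⟨{1} ∪ (gm ×ˢ t).image fun p => p.1 * p.2, fun x => ?_⟩
        have hm : x - s (residue Λ x) ∈ Submodule.span Λ (gm : Set Λ) := hgm ▸ this x
        obtain ⟨f, -, hf⟩ := (Submodule.mem_span_finset).1 hm
        choose y hy hy' using fun g => ht (f g)
        refine ⟨s (residue Λ x) • (1 : Λ) + ∑ g ∈ gm, g * y g, add_mem ?_ (Submodule.sum_mem _ fun g hg => ?_), ?_⟩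
        · rw [show s (residue Λ x) • (1 : Λ) = residue Λ x • (1 : Λ) by rw [smul_eq_mul, hsmul]]
          exact Submodule.smul_mem _ _ (Submodule.subset_span (Finset.mem_coe.2 (Finset.mem_union_left _ (Finset.mem_singleton_self _))))
        · have h1 : Submodule.span K (t : Set Λ) ≤ (Submodule.span K
              ((({1} ∪ (gm ×ˢ t).image fun p => p.1 * p.2 : Finset Λ)) : Set Λ)).comap (LinearMap.mulLeft K g) := by
            refine Submodule.span_le.2 fun w hw => ?_
            exact Submodule.subset_span (Finset.mem_coe.2 (Finset.mem_union_right _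
              (Finset.mem_image.2 ⟨(g, w), Finset.mem_product.2 ⟨hg, hw⟩, rfl⟩)))
          exact h1 (hy g)
        · rw [smul_eq_mul, mul_one, ← sub_sub, ← hf, ← Finset.sum_sub_distrib]
          refine Ideal.sum_mem _ fun g hg => ?_
          rw [smul_eq_mul, mul_comm (f g), ← mul_sub, pow_succ']
          exact Ideal.mul_mem_mul (hgm ▸ Submodule.subset_span hg) (hy' g)
    obtain ⟨t, ht⟩ := this N
    refine ⟨t, eq_top_iff.2 fun x _ => ?_⟩
    obtain ⟨y, hy, hxy⟩ := ht x
    rw [hN, Ideal.zero_eq_bot, Ideal.mem_bot, sub_eq_zero] at hxy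
    rwa [hxy]
  let bm := Module.finBasis K m'
  let ι := Option (Fin (Module.finrank K m'))
  let e : ι → Λ := fun o => o.elim 1 fun i => (bm i : Λ)
  have hem : ∀ i, e (some i) ∈ maximalIdeal Λ := fun i => (bm i).2
  have hres : ∀ (f : ι → K), residue Λ (∑ o, f o • e o) = f none := fun f => by
    rw [map_sum, Fintype.sum_option, Finset.sum_eq_zero fun i _ => ?_, add_zero, hsmul]
    · show residue Λ (s (f none) * 1) = _
      rw [mul_one, hs]
    · rw [hsmul, map_mul, (residue_eq_zero_iff _).2 (hem i), mul_zero]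
  have hind : LinearIndependent K e := by
    rw [Fintype.linearIndependent_iff]
    intro f hf
    have h0 : f none = 0 := by rw [← hres f, hf, map_zero]
    rw [Fintype.sum_option, h0, zero_smul, zero_add] at hf
    have h1 := Fintype.linearIndependent_iff.1 bm.linearIndependent (fun i => f (some i)) (Subtype.ext (by
      rw [Submodule.coe_sum]; simp only [Submodule.coe_smul]; exact hf))
    rintro (_ | i)
    exacts [h0, h1 i]
  have hsp : ⊤ ≤ Submodule.span K (Set.range e) := fun x _ => by
    have hx : x - s (residue Λ x) ∈ m' := by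
      show x - s (residue Λ x) ∈ maximalIdeal Λ
      rw [← residue_eq_zero_iff, map_sub, hs, sub_self]
    have h2 := congrArg Subtype.val (bm.sum_repr ⟨_, hx⟩)
    rw [Submodule.coe_sum] at h2
    simp only [Submodule.coe_smul] at h2
    rw [show x = residue Λ x • e none + ∑ i, bm.repr ⟨_, hx⟩ i • e (some i) from by
      rw [hsmul, show e none = 1 from rfl, mul_one]
      simp only [e, Option.elim_some]
      rw [h2, add_sub_cancel]]
    exact add_mem (Submodule.smul_mem _ _ (Submodule.subset_span ⟨none, rfl⟩))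
      (Submodule.sum_mem _ fun i _ => Submodule.smul_mem _ _ (Submodule.subset_span ⟨some i, rfl⟩))
  let b : Module.Basis ι K Λ := Module.Basis.mk hind hsp
  have hbe : ∀ o, b o = e o := fun o => Module.Basis.mk_apply _ _ o
  let X : Finset Λ := E ∪ hB₁.toFinset.image (algebraMap k Λ) ∪ Finset.univ.image (fun p : ι × ι => e p.1 * e p.2)
  let cs : Finset K := (X ×ˢ Finset.univ).image fun p : Λ × ι => b.repr p.1 p.2
  let K' : IntermediateField k K := IntermediateField.adjoin k (cs : Set K)
  let S : Set Λ := {x | ∀ o, b.repr x o ∈ K'}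
  have hX : ∀ x ∈ X, x ∈ S := fun x hx o =>
    IntermediateField.subset_adjoin k _ (Finset.mem_coe.2 (Finset.mem_image.2 ⟨(x, o), Finset.mem_product.2 ⟨hx, Finset.mem_univ o⟩, rfl⟩))
  have hsum : ∀ (c : K), c ∈ K' → ∀ x ∈ S, c • x ∈ S := fun c hc x hx o => by
    rw [map_smul, Finsupp.smul_apply, smul_eq_mul]
    exact mul_mem hc (hx o)
  have hdec : ∀ x : Λ, x = ∑ o, b.repr x o • e o := fun x => by
    conv_lhs => rw [← b.sum_repr x]
    exact Finset.sum_congr rfl fun o _ => by rw [hbe]
  have he1 : ∀ o, e o ∈ S := fun o o' => by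
    rw [← hbe, b.repr_self, Finsupp.single_apply]
    split_ifs
    exacts [one_mem _, zero_mem _]
  have hzero : (0 : Λ) ∈ S := fun o => by rw [map_zero]; exact zero_mem _
  have hadd : ∀ {x y}, x ∈ S → y ∈ S → x + y ∈ S := fun {x y} hx hy o => by
    rw [map_add, Finsupp.add_apply]; exact add_mem (hx o) (hy o)
  have hrn : ∀ x : Λ, b.repr x none = residue Λ x := fun x => by
    conv_rhs => rw [hdec x]
    exact (hres _).symm
  let A₁ : Subring Λ :=
    { carrier := S
      zero_mem' := hzero
      add_mem' := hadd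
      one_mem' := he1 none
      neg_mem' := fun {x} hx o => by rw [map_neg, Finsupp.neg_apply]; exact neg_mem (hx o)
      mul_mem' := fun {x y} hx hy => by
        rw [hdec x, hdec y, Finset.sum_mul]
        refine Finset.sum_induction _ (· ∈ S) (fun a b => hadd) hzero fun o _ => ?_
        rw [Finset.mul_sum]
        refine Finset.sum_induction _ (· ∈ S) (fun a b => hadd) hzero fun o' _ => ?_
        rw [smul_mul_smul_comm]
        exact hsum _ (mul_mem (hx o) (hy o')) _ (hX _ (Finset.mem_union_right _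
          (Finset.mem_image.2 ⟨(o, o'), Finset.mem_univ _, rfl⟩))) }
  have hs1 : ∀ c ∈ K', s c ∈ A₁ := fun c hc => by
    have := hsum c hc _ (he1 none)
    rwa [hsmul, show e none = 1 from rfl, mul_one] at this
  have hk : ∀ a : k, algebraMap k Λ a ∈ A₁ := fun a =>
    algebraMap_mem_of_span hnil s hs A₁ (fun a => hs1 _ (IntermediateField.algebraMap_mem K' a)) (B₁ ∪ B₂) hspan
      (by
        rintro c (hc | hc)
        · exact hX _ (Finset.mem_union_left _ (Finset.mem_union_right _ (Finset.mem_image_of_mem _ (hB₁.mem_toFinset.2 hc))))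
        · rw [← hsB c hc]
          exact hs1 _ (IntermediateField.algebraMap_mem K' c)) a
  let A : Subalgebra k Λ := { A₁.toSubsemiring with algebraMap_mem' := hk }
  let eA : ι → A := fun o => ⟨e o, he1 o⟩
  letI algKA : Algebra K' A := (((s.comp K'.val.toRingHom)).codRestrict A fun c => hs1 _ c.2).toAlgebra
  have hdecA : ∀ x : A, x = ∑ o, (⟨b.repr x.1 o, x.2 o⟩ : K') • eA o := fun x => by
    refine Subtype.ext ((hdec x.1).trans ?_)
    rw [AddSubmonoidClass.coe_finsetSum]
    exact Finset.sum_congr rfl fun o _ => hsmul _ _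
  have : Module.Finite K' A := ⟨⟨Finset.univ.image eA, eq_top_iff.2 fun x _ => by
    rw [hdecA x]
    exact Submodule.sum_mem _ fun o _ => Submodule.smul_mem _ _ (Submodule.subset_span
      (Finset.mem_coe.2 (Finset.mem_image_of_mem _ (Finset.mem_univ o))))⟩⟩
  have hArt : IsArtinianRing A := IsArtinianRing.of_finite K' A
  obtain ⟨N, hN⟩ := hnil
  have hunit : ∀ x : A, IsUnit (x : Λ) → IsUnit x := fun x hx => by
    have hc : b.repr x.1 none ≠ 0 := by
      rw [hrn x.1]
      exact fun h => (mem_maximalIdeal _).1 ((residue_eq_zero_iff _).1 h) hx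
    have hc' : IsUnit (algebraMap K' A ⟨_, x.2 none⟩) :=
      (isUnit_iff_ne_zero.2 fun h => hc (congrArg Subtype.val h)).map _
    have hn : IsNilpotent (x - algebraMap K' A ⟨_, x.2 none⟩) := by
      refine ⟨N, Subtype.ext ?_⟩
      show ((x : Λ) - s (b.repr x.1 none)) ^ N = 0
      have hm : (x : Λ) - s (b.repr x.1 none) ∈ maximalIdeal Λ := by
        rw [← residue_eq_zero_iff, map_sub, hs]
        rw [hrn, sub_self]
      have h := Ideal.pow_mem_pow hm N
      rwa [hN] at h
    have := hn.isUnit_add_left_of_commute hc' (Commute.all _ _)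
    rwa [add_sub_cancel] at this
  have hloc : IsLocalRing A := IsLocalRing.of_nonunits_add fun x y hx hy => fun h =>
    (mem_maximalIdeal _).1 (add_mem ((mem_maximalIdeal _).2 fun h' => hx (hunit x h'))
      ((mem_maximalIdeal _).2 fun h' => hy (hunit y h'))) (h.map A.val)
  have hmemA : ∀ x : A, x ∈ maximalIdeal A ↔ (x : Λ) ∈ maximalIdeal Λ := fun x =>
    ⟨fun h => (mem_maximalIdeal _).2 fun h' => (mem_maximalIdeal _).1 h (hunit x h'),
      fun h => (mem_maximalIdeal _).2 fun h' => (mem_maximalIdeal _).1 h (h'.map A.val)⟩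
  have hIm : maximalIdeal A = Ideal.span (Set.range fun i => eA (some i)) := by
    refine le_antisymm (fun x hx => ?_) (Ideal.span_le.2 ?_)
    · rw [hdecA x]
      refine Ideal.sum_mem _ fun o _ => ?_
      rw [Algebra.smul_def]
      rcases o with _ | i
      · have : (⟨b.repr x.1 none, x.2 none⟩ : K') = 0 := Subtype.ext (by
          show b.repr x.1 none = 0
          rw [hrn x.1]
          exact (residue_eq_zero_iff _).2 ((hmemA x).1 hx))
        rw [this, map_zero, zero_mul]; exact zero_mem _
      · exact Ideal.mul_mem_left _ _ (Ideal.subset_span ⟨i, rfl⟩)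
    · rintro _ ⟨i, rfl⟩
      exact (hmemA _).2 (hem i)
  refine ⟨A, hloc, fun x hx => hX x (Finset.mem_union_left _ (Finset.mem_union_left _ hx)), hArt, ?_, ?_, ?_⟩
  · -- freeness over `A`
    let w := Module.Basis.ofVectorSpace K' K
    let Φ : (Module.Basis.ofVectorSpaceIndex K' K →₀ A) →ₗ[A] Λ := Finsupp.linearCombination A fun j => s (w j)
    have hco : ∀ (g : Module.Basis.ofVectorSpaceIndex K' K →₀ A) (o : ι),
        b.repr (Φ g) o = ∑ j ∈ g.support, (⟨b.repr (g j).1 o, (g j).2 o⟩ : K') • w j := fun g o => by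
      rw [Finsupp.linearCombination_apply, Finsupp.sum, map_sum, Finsupp.finsetSum_apply]
      refine Finset.sum_congr rfl fun j _ => ?_
      rw [show g j • s (w j) = w j • (g j).1 from by rw [hsmul, mul_comm]; rfl, map_smul, Finsupp.smul_apply,
        smul_eq_mul, mul_comm, IntermediateField.smul_def, smul_eq_mul]
    refine Module.Flat.of_linearEquiv (LinearEquiv.ofBijective Φ ⟨?_, fun x => ?_⟩).symm
    · rw [injective_iff_map_eq_zero]
      intro g hg
      ext j
      show (g j : Λ) = 0
      rw [hdec (g j).1]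
      refine Finset.sum_eq_zero fun o _ => ?_
      by_cases hj : j ∈ g.support
      · have h1 := hco g o
        rw [hg, map_zero, Finsupp.zero_apply] at h1
        have := linearIndependent_iff'.1 w.linearIndependent g.support _ h1.symm j hj
        rw [show b.repr (g j).1 o = 0 from congrArg Subtype.val this, zero_smul]
      · rw [Finsupp.notMem_support_iff.1 hj, ZeroMemClass.coe_zero, map_zero, Finsupp.zero_apply, zero_smul]
    · refine ⟨∑ o, (w.repr (b.repr x o)).mapRange (fun c => c • eA o) (zero_smul _ _), ?_⟩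
      rw [map_sum]
      conv_rhs => rw [hdec x]
      refine Finset.sum_congr rfl fun o _ => ?_
      rw [Finsupp.linearCombination_apply]
      refine (Finsupp.sum_mapRange_index (fun j => zero_smul A (s (w j)))).trans ?_
      conv_rhs => rw [← w.linearCombination_repr (b.repr x o), Finsupp.linearCombination_apply, Finsupp.sum, Finset.sum_smul]
      refine Finset.sum_congr rfl fun j _ => ?_
      show s ((w.repr (b.repr x o) j : K')) * e o * s (w j) = _
      rw [hsmul, IntermediateField.smul_def, smul_eq_mul, map_mul]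
      ring
  · -- essentially of finite type
    rw [Algebra.essFiniteType_iff]
    let σ : Finset A := cs.attach.image (fun c => algebraMap K' A ⟨c.1, IntermediateField.subset_adjoin k _ c.2⟩) ∪
      Finset.univ.image eA
    let A₀ := Algebra.adjoin k (σ : Set A)
    let T : Subalgebra k A :=
      { carrier := {x | ∃ t ∈ A₀, IsUnit t ∧ x * t ∈ A₀}
        mul_mem' := fun {x y} ⟨t, ht, htu, hxt⟩ ⟨t', ht', htu', hyt⟩ => ⟨t * t', mul_mem ht ht', htu.mul htu', by
          rw [mul_mul_mul_comm]; exact mul_mem hxt hyt⟩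
        add_mem' := fun {x y} ⟨t, ht, htu, hxt⟩ ⟨t', ht', htu', hyt⟩ => ⟨t * t', mul_mem ht ht', htu.mul htu', by
          rw [add_mul, ← mul_assoc x, mul_left_comm y t t']
          exact add_mem (mul_mem hxt ht') (mul_mem ht hyt)⟩
        algebraMap_mem' := fun c => ⟨1, one_mem _, isUnit_one, by rw [mul_one]; exact Subalgebra.algebraMap_mem _ c⟩ }
    have hA₀T : ∀ x ∈ A₀, x ∈ T := fun x hx => ⟨1, one_mem _, isUnit_one, by rwa [mul_one]⟩
    have heT : ∀ o, eA o ∈ T := fun o =>
      hA₀T _ (Algebra.subset_adjoin (Finset.mem_coe.2 (Finset.mem_union_right _ (Finset.mem_image_of_mem _ (Finset.mem_univ o)))))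
    have hinv : ∀ (x : A) (u : A), x ∈ T → x * u = 1 → u ∈ T := fun x u ⟨t, ht, htu, hxt⟩ hxu =>
      ⟨x * t, hxt, ((IsUnit.of_mul_eq_one u hxu)).mul htu, by rw [← mul_assoc, mul_comm u, hxu, one_mul]; exact ht⟩
    have hresT : ∀ c ∈ K', ∃ x ∈ T, residue Λ (x : A).1 = c := fun c hc => by
      induction hc using IntermediateField.adjoin_induction with
      | mem c hc =>
        refine ⟨_, hA₀T _ (Algebra.subset_adjoin (Finset.mem_coe.2 (Finset.mem_union_left _
          (Finset.mem_image.2 ⟨⟨c, hc⟩, Finset.mem_attach _ _, rfl⟩)))), ?_⟩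
        exact hs c
      | algebraMap a => exact ⟨algebraMap k A a, Subalgebra.algebraMap_mem _ a, rfl⟩
      | add a b _ _ ha hb =>
        obtain ⟨x, hx, rfl⟩ := ha
        obtain ⟨y, hy, rfl⟩ := hb
        exact ⟨x + y, add_mem hx hy, map_add _ _ _⟩
      | inv a _ ha =>
        obtain ⟨x, hx, rfl⟩ := ha
        by_cases h0 : residue Λ x.1 = 0
        · exact ⟨0, zero_mem _, by rw [h0, inv_zero]; exact map_zero _⟩
        · obtain ⟨u, hu⟩ := isUnit_iff_exists_inv.1 (hunit x (by
            by_contra h
            exact h0 ((residue_eq_zero_iff _).2 ((mem_maximalIdeal _).2 h))))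
          refine ⟨u, hinv x u hx hu, eq_inv_of_mul_eq_one_right ?_⟩
          rw [← map_mul, show (x : Λ) * (u : Λ) = 1 from congrArg Subtype.val hu, map_one]
      | mul a b _ _ ha hb =>
        obtain ⟨x, hx, rfl⟩ := ha
        obtain ⟨y, hy, rfl⟩ := hb
        exact ⟨x * y, mul_mem hx hy, map_mul _ _ _⟩
    have happ : ∀ (i : ℕ) (x : A), ∃ y ∈ T, x - y ∈ maximalIdeal A ^ i := by
      intro i
      induction i with
      | zero => exact fun x => ⟨0, zero_mem _, by simp⟩
      | succ i ih =>
        intro x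
        obtain ⟨y, hy, hyx⟩ := hresT (b.repr x.1 none) (x.2 none)
        have hm : x - y ∈ Ideal.span (Set.range fun i => eA (some i)) := by
          rw [← hIm, hmemA]
          show (x : Λ) - (y : Λ) ∈ _
          rw [← residue_eq_zero_iff, map_sub, hyx, hrn, sub_self]
        obtain ⟨f, hf⟩ := (Submodule.mem_span_range_iff_exists_fun A).1 hm
        choose z hz hz' using fun l => ih (f l)
        refine ⟨y + ∑ l, z l * eA (some l), add_mem hy (sum_mem fun l _ => mul_mem (hz l) (heT _)), ?_⟩
        rw [← sub_sub, ← hf, ← Finset.sum_sub_distrib]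
        refine Ideal.sum_mem _ fun l _ => ?_
        rw [smul_eq_mul, ← sub_mul, pow_succ]
        exact Ideal.mul_mem_mul (hz' l) (hIm ▸ Ideal.subset_span ⟨l, rfl⟩)
    refine ⟨σ, fun x => ?_⟩
    obtain ⟨M, hM⟩ := IsArtinianRing.isNilpotent_jacobson_bot (R := A)
    rw [jacobson_eq_maximalIdeal (⊥ : Ideal A) bot_ne_top] at hM
    obtain ⟨y, hy, hxy⟩ := happ M x
    rw [hM, Ideal.zero_eq_bot, Ideal.mem_bot, sub_eq_zero] at hxy
    rw [hxy]
    exact hy
  · rw [hIm, Ideal.map_span, ← Set.range_comp]
    refine le_antisymm (Ideal.span_le.2 (by rintro _ ⟨i, rfl⟩; exact hem i)) fun x hx => ?_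
    rw [hdec x, Fintype.sum_option, show b.repr x none = 0 from by
      rw [hrn x]
      exact (residue_eq_zero_iff _).2 hx, zero_smul, zero_add]
    refine Ideal.sum_mem _ fun i _ => ?_
    rw [hsmul]
    exact Ideal.mul_mem_left _ _ (Ideal.subset_span ⟨i, rfl⟩)

end TransLib
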