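import Mathlib

/-!
# Submersive presentations containing given elements
-/

set_option autoImplicit false

universe u

open MvPolynomial

namespace TransLib

theorem ker_aeval_eq_span {A : Type u} [CommRing A] {σ : Type} (e : σ → A) :
    RingHom.ker (aeval e : MvPolynomial σ A →ₐ[A] A).toRingHom = Ideal.span (Set.range fun i => X i - C (e i)) := by
  refine le_antisymm (fun p hp => ?_) (Ideal.span_le.2 ?_)
  · have h : ∀ q : MvPolynomial σ A, q - C (aeval e q) ∈ Ideal.span (Set.range fun i => X i - C (e i)) := fun q => by
      induction q using MvPolynomial.induction_on with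
      | C a => simp
      | add a b ha hb =>
        rw [map_add, map_add, show a + b - (C (aeval e a) + C (aeval e b)) =
          (a - C (aeval e a)) + (b - C (aeval e b)) by ring]
        exact add_mem ha hb
      | mul_X a i ha =>
        rw [map_mul, aeval_X, map_mul, show a * X i - C (aeval e a) * C (e i) =
          (a - C (aeval e a)) * X i + C (aeval e a) * (X i - C (e i)) by ring]
        exact add_mem (Ideal.mul_mem_right _ _ ha) (Ideal.mul_mem_left _ _ (Ideal.subset_span ⟨i, rfl⟩))
    have h1 := h p
    rw [show aeval e p = 0 from hp, map_zero, sub_zero] at h1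
    exact h1
  · rintro _ ⟨i, rfl⟩
    show aeval e (X i - C (e i)) = 0
    simp

/-- The generators of a ring over itself with given values. -/
noncomputable def graphGenerators {A : Type u} [CommRing A] {σ : Type} (e : σ → A) : Algebra.Generators A A σ :=
  Algebra.Generators.ofSurjective e fun a => ⟨C a, by simp⟩

/-- The presentation of a ring over itself adjoining variables with given values. -/
noncomputable def graphPre {A : Type u} [CommRing A] {σ : Type} (e : σ → A) :
    Algebra.PreSubmersivePresentation A A σ σ where
  toGenerators := graphGenerators e
  relation i := X i - C (e i)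
  span_range_relation_eq_ker := by
    refine (ker_aeval_eq_span e).symm.trans ?_
    ext p
    rfl
  map := id
  map_inj := Function.injective_id

/-- The presentation of a ring over itself adjoining variables with given values. -/
noncomputable def graphPresentation {A : Type u} [CommRing A] {σ : Type} [Finite σ] (e : σ → A) :
    Algebra.SubmersivePresentation A A σ σ where
  toPreSubmersivePresentation := graphPre e
  jacobian_isUnit := by
    classical
    cases nonempty_fintype σ
    rw [Algebra.PreSubmersivePresentation.jacobian_eq_jacobiMatrix_det]
    refine RingHom.isUnit_map _ ?_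
    have h : (graphPre e).jacobiMatrix = (1 : Matrix σ σ (MvPolynomial σ A)) := by
      ext1 i j
      rw [Algebra.PreSubmersivePresentation.jacobiMatrix_apply]
      show pderiv i (X j - C (e j)) = _
      rw [map_sub, pderiv_C, sub_zero, Matrix.one_apply, pderiv_X, Pi.single_apply]
      simp only [eq_comm]
    rw [h, Matrix.det_one]
    exact isUnit_one

theorem exists_submersivePresentation_containing {R A : Type u} [CommRing R] [CommRing A] [Algebra R A]
    [Algebra.IsStandardSmooth R A] (E : Finset A) :
    ∃ (ι σ : Type) (_ : Finite ι) (_ : Finite σ) (P : Algebra.SubmersivePresentation R A ι σ),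
      (↑E : Set A) ⊆ Set.range (P.val ∘ P.map) := by
  obtain ⟨ι, σ, _, _, ⟨P⟩⟩ := Algebra.IsStandardSmooth.out (R := R) (S := A)
  let k := E.card
  let e : Fin k → A := fun i => (E.equivFin.symm i : A)
  refine ⟨Fin k ⊕ ι, Fin k ⊕ σ, inferInstance, inferInstance, (graphPresentation e).comp P, fun x hx => ?_⟩
  refine ⟨Sum.inl (E.equivFin ⟨x, hx⟩), ?_⟩
  show e (E.equivFin ⟨x, hx⟩) = x
  simp [e]

end TransLib
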