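import Groth.Agent.TransLib.SyntBC

/-!
# Syntomic algebras over colimits descend to a stage
-/

set_option autoImplicit false

universe u

open TensorProduct MvPolynomial

namespace TransLib

/-- A presentation, base changed. -/
theorem exists_baseChange_presentation {B₀ C₀ : Type u} [CommRing B₀] [CommRing C₀] [Algebra B₀ C₀] {n : ℕ}
    (φ : MvPolynomial (Fin n) B₀ →ₐ[B₀] C₀) (hφ : Function.Surjective φ) (K : Type u) [CommRing K] [Algebra B₀ K] :
    ∃ φK : MvPolynomial (Fin n) K →ₐ[K] K ⊗[B₀] C₀, Function.Surjective φK ∧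
      RingHom.ker φK.toRingHom = (RingHom.ker φ.toRingHom).map (MvPolynomial.map (algebraMap B₀ K)) ∧
      ∀ x, φK (MvPolynomial.map (algebraMap B₀ K) x) = (1 : K) ⊗ₜ[B₀] φ x := by
  let u : K ⊗[B₀] MvPolynomial (Fin n) B₀ ≃ₐ[K] MvPolynomial (Fin n) K := MvPolynomial.algebraTensorAlgEquiv B₀ K
  let ψ : K ⊗[B₀] MvPolynomial (Fin n) B₀ →ₐ[K] K ⊗[B₀] C₀ := Algebra.TensorProduct.map (AlgHom.id K K) φ
  have hu : ∀ x, u ((1 : K) ⊗ₜ[B₀] x) = MvPolynomial.map (algebraMap B₀ K) x := fun x => by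
    simp [u, MvPolynomial.algebraTensorAlgEquiv_tmul]
  have hψs : Function.Surjective ψ := fun z => by
    induction z with
    | zero => exact ⟨0, map_zero _⟩
    | tmul a b =>
      obtain ⟨x, rfl⟩ := hφ b
      exact ⟨a ⊗ₜ x, rfl⟩
    | add a b ha hb =>
      obtain ⟨x, rfl⟩ := ha
      obtain ⟨y, rfl⟩ := hb
      exact ⟨x + y, map_add _ _ _⟩
  refine ⟨ψ.comp u.symm.toAlgHom, hψs.comp u.symm.surjective, ?_, fun x => ?_⟩
  · have hk : RingHom.ker ψ.toRingHom = (RingHom.ker φ.toRingHom).map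
        (Algebra.TensorProduct.includeRight : MvPolynomial (Fin n) B₀ →ₐ[B₀] K ⊗[B₀] MvPolynomial (Fin n) B₀).toRingHom :=
      Algebra.TensorProduct.lTensor_ker φ hφ
    have hcomp : (MvPolynomial.map (algebraMap B₀ K)) = u.toRingEquiv.toRingHom.comp
        (Algebra.TensorProduct.includeRight : MvPolynomial (Fin n) B₀ →ₐ[B₀] K ⊗[B₀] MvPolynomial (Fin n) B₀).toRingHom :=
      RingHom.ext fun x => (hu x).symm
    rw [hcomp, ← Ideal.map_map, ← hk]
    refine Ideal.ext fun z => ?_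
    rw [Ideal.mem_map_iff_of_surjective u.toRingEquiv.toRingHom u.toRingEquiv.surjective]
    show ψ (u.symm z) = 0 ↔ ∃ y, ψ y = 0 ∧ u y = z
    exact ⟨fun hz => ⟨_, hz, u.apply_symm_apply z⟩, fun ⟨y, hy, hyz⟩ => by rw [← hyz, u.symm_apply_apply]; exact hy⟩
  · show ψ (u.symm (MvPolynomial.map (algebraMap B₀ K) x)) = _
    rw [← hu, u.symm_apply_apply]
    rfl

section Stages

variable {B₀ : Type u} [CommRing B₀] {ι : Type u} {Bs : ι → Type u} [∀ i, CommRing (Bs i)] [∀ i, Algebra B₀ (Bs i)]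
  {B : Type u} [CommRing B] [Algebra B₀ B] {π : ∀ i, Bs i →ₐ[B₀] B} {σ : Type*}

variable (π) in
/-- A map of stages. -/
def Hom (i j : ι) : Type u := {t : Bs i →ₐ[B₀] Bs j // (π j).comp t = π i}

theorem Hom.comp_apply {i j : ι} (t : Hom π i j) (x : Bs i) : π j (t.1 x) = π i x :=
  AlgHom.congr_fun t.2 x

/-- The induced map of polynomial rings. -/
noncomputable def Hom.poly {i j : ι} (t : Hom π i j) : MvPolynomial σ (Bs i) →+* MvPolynomial σ (Bs j) :=
  MvPolynomial.map t.1.toRingHom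

theorem Hom.poly_comp {i j : ι} (t : Hom π i j) (x : MvPolynomial σ (Bs i)) :
    MvPolynomial.map (π j).toRingHom (t.poly x) = MvPolynomial.map (π i).toRingHom x := by
  rw [Hom.poly, MvPolynomial.map_map]
  congr 2
  exact RingHom.ext t.comp_apply

theorem Hom.poly_map {i j : ι} (t : Hom π i j) (x : MvPolynomial σ B₀) :
    t.poly (MvPolynomial.map (algebraMap B₀ (Bs i)) x) = MvPolynomial.map (algebraMap B₀ (Bs j)) x := by
  rw [Hom.poly, MvPolynomial.map_map]
  congr 2
  exact RingHom.ext t.1.commutes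

variable (hsurj : ∀ b : B, ∃ i, ∃ x, π i x = b) (hjoin : ∀ i j, ∃ k, Nonempty (Hom π i k) ∧ Nonempty (Hom π j k))
  (hkill : ∀ i x, π i x = 0 → ∃ j, ∃ t : Hom π i j, t.1 x = 0) [Nonempty ι]

include hjoin hsurj in
theorem exists_stage_poly (f : MvPolynomial σ B) : ∃ i, ∃ x, MvPolynomial.map (π i).toRingHom x = f := by
  induction f using MvPolynomial.induction_on with
  | C a =>
    obtain ⟨i, x, rfl⟩ := hsurj a
    exact ⟨i, MvPolynomial.C x, MvPolynomial.map_C _ _⟩
  | add f g hf hg =>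
    obtain ⟨i, x, rfl⟩ := hf
    obtain ⟨j, y, rfl⟩ := hg
    obtain ⟨k, ⟨t⟩, ⟨s⟩⟩ := hjoin i j
    exact ⟨k, t.poly x + s.poly y, by rw [map_add, t.poly_comp, s.poly_comp]⟩
  | mul_X f m hf =>
    obtain ⟨i, x, rfl⟩ := hf
    exact ⟨i, x * MvPolynomial.X m, by rw [map_mul, MvPolynomial.map_X]⟩

include hjoin hsurj in
theorem exists_stage_family {α : Type*} (s : Finset α) (f : α → MvPolynomial σ B) (i₀ : ι) :
    ∃ i, Nonempty (Hom π i₀ i) ∧ ∃ x : α → MvPolynomial σ (Bs i), ∀ a ∈ s, MvPolynomial.map (π i).toRingHom (x a) = f a := by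
  classical
  induction s using Finset.induction with
  | empty => exact ⟨i₀, ⟨⟨AlgHom.id B₀ _, AlgHom.comp_id _⟩⟩, fun _ => 0, by simp⟩
  | insert a s ha ih =>
    obtain ⟨i, ⟨t₀⟩, x, hx⟩ := ih
    obtain ⟨j, y, hy⟩ := exists_stage_poly hsurj hjoin (f a)
    obtain ⟨k, ⟨t⟩, ⟨t'⟩⟩ := hjoin i j
    refine ⟨k, ⟨⟨t.1.comp t₀.1, by rw [← AlgHom.comp_assoc, t.2, t₀.2]⟩⟩,
      fun b => if b = a then t'.poly y else t.poly (x b), fun b hb => ?_⟩
    by_cases hba : b = a
    · dsimp only; rw [if_pos hba, t'.poly_comp, hy, hba]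
    · dsimp only; rw [if_neg hba, t.poly_comp, hx b ((Finset.mem_insert.1 hb).resolve_left hba)]

include hkill in
theorem exists_kill_finset {i : ι} (s : Finset (Bs i)) (h : ∀ x ∈ s, π i x = 0) :
    ∃ j, ∃ t : Hom π i j, ∀ x ∈ s, t.1 x = 0 := by
  classical
  induction s using Finset.induction with
  | empty => exact ⟨i, ⟨AlgHom.id B₀ _, AlgHom.comp_id _⟩, by simp⟩
  | insert a s ha ih =>
    obtain ⟨j, t, ht⟩ := ih fun x hx => h x (Finset.mem_insert_of_mem hx)
    obtain ⟨k, t', ht'⟩ := hkill j (t.1 a) (by rw [t.comp_apply]; exact h a (Finset.mem_insert_self a s))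
    refine ⟨k, ⟨t'.1.comp t.1, by rw [← AlgHom.comp_assoc, t'.2, t.2]⟩, fun x hx => ?_⟩
    rcases Finset.mem_insert.1 hx with rfl | hx
    · exact ht'
    · show t'.1 (t.1 x) = 0
      rw [ht x hx, map_zero]

include hkill in
theorem exists_kill_poly {i : ι} {α : Type*} [Fintype α] (f : α → MvPolynomial σ (Bs i))
    (h : ∀ a, MvPolynomial.map (π i).toRingHom (f a) = 0) :
    ∃ j, ∃ t : Hom π i j, ∀ a, t.poly (f a) = 0 := by
  classical
  obtain ⟨j, t, ht⟩ := exists_kill_finset hkill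
    (Finset.univ.biUnion fun a => (f a).support.image fun m => MvPolynomial.coeff m (f a)) (by
      intro x hx
      simp only [Finset.mem_biUnion, Finset.mem_image] at hx
      obtain ⟨a, -, m, -, rfl⟩ := hx
      have := congrArg (MvPolynomial.coeff m) (h a)
      rwa [MvPolynomial.coeff_map, MvPolynomial.coeff_zero] at this)
  refine ⟨j, t, fun a => MvPolynomial.ext _ _ fun m => ?_⟩
  rw [Hom.poly, MvPolynomial.coeff_map, MvPolynomial.coeff_zero]
  by_cases hm : m ∈ (f a).support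
  · exact ht _ (Finset.mem_biUnion.2 ⟨a, Finset.mem_univ a, Finset.mem_image.2 ⟨m, hm, rfl⟩⟩)
  · rw [MvPolynomial.notMem_support_iff.1 hm, map_zero]

include hsurj hjoin hkill in
/-- A syntomic base change is already syntomic at a stage. -/
theorem exists_stage_syntomic {C₀ : Type u} [CommRing C₀] [Algebra B₀ C₀] [Algebra.FinitePresentation B₀ C₀]
    (h : Synt.IsSyntomic B (B ⊗[B₀] C₀)) : ∃ i, Synt.IsSyntomic (Bs i) (Bs i ⊗[B₀] C₀) := by
  classical
  obtain ⟨n, φ, hφ, hI⟩ := Algebra.FinitePresentation.out (R := B₀) (A := C₀)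
  obtain ⟨m, fs, hfs⟩ := Submodule.fg_iff_exists_fin_generating_family.1 hI
  choose φs hφs hkers hφsm using fun i => exists_baseChange_presentation φ hφ (Bs i)
  obtain ⟨φB, hφB, hkerB, hφBm⟩ := exists_baseChange_presentation φ hφ B
  have hkerB' : RingHom.ker φB.toRingHom = Ideal.span (Set.range fun k => MvPolynomial.map (algebraMap B₀ B) (fs k)) := by
    rw [hkerB, ← hfs]
    show Ideal.map _ (Ideal.span _) = _
    rw [Ideal.map_span, ← Set.range_comp]
    rfl
  have hkers' : ∀ i, RingHom.ker (φs i).toRingHom =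
      Ideal.span (Set.range fun k => MvPolynomial.map (algebraMap B₀ (Bs i)) (fs k)) := fun i => by
    rw [hkers i, ← hfs]
    show Ideal.map _ (Ideal.span _) = _
    rw [Ideal.map_span, ← Set.range_comp]
    rfl
  -- the maps from the stages
  let ψ : ∀ i, Bs i ⊗[B₀] C₀ →ₐ[B₀] B ⊗[B₀] C₀ := fun i => Algebra.TensorProduct.map (π i) (AlgHom.id B₀ C₀)
  have hψ : ∀ i x, ψ i (φs i x) = φB (MvPolynomial.map (π i).toRingHom x) := fun i => by
    refine fun x => RingHom.congr_fun (f := (ψ i).toRingHom.comp (φs i).toRingHom)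
      (g := φB.toRingHom.comp (MvPolynomial.map (π i).toRingHom)) (MvPolynomial.ringHom_ext (fun r => ?_) fun j => ?_) x
    · show ψ i (φs i (MvPolynomial.C r)) = φB (MvPolynomial.map (π i).toRingHom (MvPolynomial.C r))
      rw [MvPolynomial.map_C, ← MvPolynomial.algebraMap_eq, AlgHom.commutes, ← MvPolynomial.algebraMap_eq, AlgHom.commutes]
      show π i r ⊗ₜ[B₀] (1 : C₀) = _
      rfl
    · show ψ i (φs i (MvPolynomial.X j)) = φB (MvPolynomial.map (π i).toRingHom (MvPolynomial.X j))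
      rw [MvPolynomial.map_X, ← MvPolynomial.map_X (algebraMap B₀ (Bs i)), ← MvPolynomial.map_X (algebraMap B₀ B), hφsm, hφBm]
      show π i 1 ⊗ₜ[B₀] _ = _
      rw [map_one]
      rfl
  let G : ∀ i, Set (MvPolynomial (Fin n) (Bs i)) := fun i => {g | Synt.IsSyntomic (Bs i) (Localization.Away (φs i g))}
  have hmono : ∀ {i j} (t : Hom π i j) (g), g ∈ G i → t.poly g ∈ G j := by
    intro i j t g hg
    letI : Algebra (Bs i) (Bs j) := t.1.toRingHom.toAlgebra
    have : IsScalarTower B₀ (Bs i) (Bs j) := IsScalarTower.of_algebraMap_eq fun r => (t.1.commutes r).symm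
    let E : Bs j ⊗[Bs i] (Bs i ⊗[B₀] C₀) ≃ₐ[Bs j] Bs j ⊗[B₀] C₀ :=
      Algebra.TensorProduct.cancelBaseChange B₀ (Bs i) (Bs j) (Bs j) C₀
    have hE : ∀ x, E ((1 : Bs j) ⊗ₜ[Bs i] φs i x) = φs j (t.poly x) := by
      refine fun x => RingHom.congr_fun (f := E.toRingEquiv.toRingHom.comp
        ((Algebra.TensorProduct.includeRight : Bs i ⊗[B₀] C₀ →ₐ[Bs i] Bs j ⊗[Bs i] (Bs i ⊗[B₀] C₀)).toRingHom.comp (φs i).toRingHom))
        (g := (φs j).toRingHom.comp (MvPolynomial.map t.1.toRingHom)) (MvPolynomial.ringHom_ext (fun r => ?_) fun k => ?_) x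
      · show E ((1 : Bs j) ⊗ₜ[Bs i] φs i (MvPolynomial.C r)) = φs j (MvPolynomial.map t.1.toRingHom (MvPolynomial.C r))
        rw [MvPolynomial.map_C, ← MvPolynomial.algebraMap_eq, AlgHom.commutes, ← MvPolynomial.algebraMap_eq, AlgHom.commutes,
          Algebra.TensorProduct.algebraMap_apply, Algebra.TensorProduct.cancelBaseChange_tmul,
          Algebra.TensorProduct.algebraMap_apply, Algebra.smul_def, mul_one]
        rfl
      · show E ((1 : Bs j) ⊗ₜ[Bs i] φs i (MvPolynomial.X k)) = φs j (MvPolynomial.map t.1.toRingHom (MvPolynomial.X k))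
        rw [MvPolynomial.map_X, ← MvPolynomial.map_X (algebraMap B₀ (Bs i)), ← MvPolynomial.map_X (algebraMap B₀ (Bs j)),
          hφsm, hφsm, Algebra.TensorProduct.cancelBaseChange_tmul, one_smul]
    have h1 := isSyntomic_baseChange (Bs j) (show Synt.IsSyntomic (Bs i) (Localization.Away (φs i g)) from hg)
    refine isSyntomic_congr ((IsLocalization.Away.tensorProductEquivTMulRight (Bs i) (Bs j) (φs i g)
      (Localization.Away (φs i g))).trans ?_) h1
    exact IsLocalization.algEquivOfAlgEquiv (Localization.Away ((1 : Bs j) ⊗ₜ[Bs i] φs i g))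
      (Localization.Away (φs j (t.poly g))) E (M := Submonoid.powers ((1 : Bs j) ⊗ₜ[Bs i] φs i g))
      (T := Submonoid.powers (φs j (t.poly g))) (by rw [← hE g]; exact Submonoid.map_powers E _)
  -- every point has a syntomic neighbourhood at some stage
  let W : Set (B ⊗[B₀] C₀) := {w | ∃ i, ∃ g ∈ G i, φB (MvPolynomial.map (π i).toRingHom g) = w}
  have hW : Ideal.span W = ⊤ := by
    by_contra hne
    obtain ⟨Q, hQ, hle⟩ := Ideal.exists_le_maximal _ hne
    have := hQ.isPrime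
    suffices ∃ w ∈ W, w ∉ Q by
      obtain ⟨w, hw, hwQ⟩ := this
      exact hwQ (hle (Ideal.subset_span hw))
    have h1 : Synt.IsSyntomic B (Localization.Away (1 : B ⊗[B₀] C₀)) := isSyntomic_congr
      ((IsLocalization.atOne (B ⊗[B₀] C₀) (Localization.Away (1 : B ⊗[B₀] C₀))).restrictScalars B) h
    let p := Q.comap (algebraMap B (B ⊗[B₀] C₀))
    let y := PrimeSpectrum.preimageHomeomorphFiber B (B ⊗[B₀] C₀) ⟨p, inferInstance⟩ ⟨⟨Q, inferInstance⟩, rfl⟩
    have hy : y.asIdeal.comap (Algebra.TensorProduct.includeRight : B ⊗[B₀] C₀ →ₐ[B] p.Fiber (B ⊗[B₀] C₀)).toRingHom = Q :=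
      congrArg (fun w => PrimeSpectrum.asIdeal w.1)
        ((PrimeSpectrum.preimageHomeomorphFiber B (B ⊗[B₀] C₀) ⟨p, inferInstance⟩).symm_apply_apply ⟨⟨Q, inferInstance⟩, rfl⟩)
    have hq1 : (1 : B ⊗[B₀] C₀) ∉ Q := fun hq => hQ.ne_top ((Ideal.eq_top_iff_one Q).2 hq)
    obtain ⟨-, hfl, hCI⟩ := local_of_syntomic_nhd p Q y.asIdeal hy 1 hq1 h1
    have hIB : (RingHom.ker φB.toRingHom).FG := hkerB ▸ hI.map _
    obtain ⟨c, a, g₁, hc, haI, hg₁, hkl, hdim⟩ := exists_equations φB hφB hIB p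
      (AlgEquiv.refl (R := p.ResidueField) (A₁ := p.Fiber (B ⊗[B₀] C₀))) y.asIdeal Q
      (fun w => Iff.of_eq (congrArg (fun P : Ideal (B ⊗[B₀] C₀) => w ∈ P) hy.symm)) hfl hCI
    -- descend the equations
    rw [hkerB'] at haI hkl
    choose s hs using fun l => Ideal.mem_span_range_iff_exists_fun.1 (haI l)
    choose r hr using fun k => Ideal.mem_span_range_iff_exists_fun.1 (hkl _ (Ideal.subset_span ⟨k, rfl⟩))
    obtain ⟨i, -, x, hx⟩ := exists_stage_family hsurj hjoin
      (Finset.univ : Finset (Option ((Fin c × Fin m) ⊕ (Fin m × Fin c))))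
      (fun o => o.elim g₁ (Sum.elim (fun lk => s lk.1 lk.2) (fun kl => r kl.1 kl.2))) (Classical.arbitrary ι)
    let fi : Fin m → MvPolynomial (Fin n) (Bs i) := fun k => MvPolynomial.map (algebraMap B₀ (Bs i)) (fs k)
    have hfi : ∀ k, MvPolynomial.map (π i).toRingHom (fi k) = MvPolynomial.map (algebraMap B₀ B) (fs k) := fun k => by
      rw [MvPolynomial.map_map]
      congr 2
      exact RingHom.ext (π i).commutes
    let ai : Fin c → MvPolynomial (Fin n) (Bs i) := fun l => ∑ k, x (some (Sum.inl (l, k))) * fi k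
    have hai : ∀ l, MvPolynomial.map (π i).toRingHom (ai l) = a l := fun l => by
      rw [map_sum, ← hs l]
      refine Finset.sum_congr rfl fun k _ => ?_
      rw [map_mul, hfi, hx _ (Finset.mem_univ _)]
      rfl
    obtain ⟨j, t, ht⟩ := exists_kill_poly hkill
      (fun k => x none * fi k - ∑ l, x (some (Sum.inr (k, l))) * ai l) (fun k => by
        rw [map_sub, map_mul, map_sum, hx _ (Finset.mem_univ _), hfi, sub_eq_zero]
        refine Eq.trans (hr k).symm (Finset.sum_congr rfl fun l _ => ?_)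
        rw [map_mul, hai, hx _ (Finset.mem_univ _)]
        rfl)
    let aj : Fin c → MvPolynomial (Fin n) (Bs j) := fun l => t.poly (ai l)
    let gj := t.poly (x none)
    have hfj : ∀ k, t.poly (fi k) = MvPolynomial.map (algebraMap B₀ (Bs j)) (fs k) := fun k => t.poly_map _
    have haj : ∀ l, aj l ∈ RingHom.ker (φs j).toRingHom := fun l => by
      rw [hkers' j]
      show t.poly (ai l) ∈ _
      rw [map_sum]
      refine Submodule.sum_mem _ fun k _ => ?_
      rw [map_mul, hfj]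
      exact Ideal.mul_mem_left _ _ (Ideal.subset_span ⟨k, rfl⟩)
    have hkj : ∀ z ∈ RingHom.ker (φs j).toRingHom, gj * z ∈ Ideal.span (Set.range aj) := fun z hz => by
      rw [hkers' j] at hz
      refine (Submodule.span_le (p := Submodule.comap (LinearMap.mulLeft _ gj) (Ideal.span (Set.range aj)))).2 ?_ hz
      rintro _ ⟨k, rfl⟩
      show gj * MvPolynomial.map (algebraMap B₀ (Bs j)) (fs k) ∈ Ideal.span (Set.range aj)
      have h2 := ht k
      rw [map_sub, map_mul, map_sum, sub_eq_zero, hfj] at h2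
      rw [h2]
      refine Submodule.sum_mem _ fun l _ => ?_
      rw [map_mul]
      exact Ideal.mul_mem_left _ _ (Ideal.subset_span ⟨l, rfl⟩)
    have haB : ∀ l, MvPolynomial.map (π j).toRingHom (aj l) = a l := fun l => by rw [t.poly_comp, hai]
    have hgB : MvPolynomial.map (π j).toRingHom gj = g₁ := by
      rw [t.poly_comp, hx _ (Finset.mem_univ _)]
      rfl
    let q' : Ideal (Bs j ⊗[B₀] C₀) := Q.comap (ψ j).toRingHom
    letI : Algebra (Bs j) B := (π j).toRingHom.toAlgebra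
    let p' : Ideal (Bs j) := p.comap (algebraMap (Bs j) B)
    have hqp' : ∀ b, algebraMap (Bs j) (Bs j ⊗[B₀] C₀) b ∈ q' ↔ b ∈ p' := fun b => Iff.rfl
    obtain ⟨g, hg, n', c', F, hF, ⟨eF⟩⟩ := relGCI_nhd_of_equations (φs j) (hφs j) p' q' hqp' aj gj hc haj
      (fun hmem => hg₁ (by
        change ψ j (φs j gj) ∈ Q at hmem
        rwa [hψ, hgB] at hmem))
      hkj (le_of_eq_of_le (ringKrullDim_fibre_map (awayPres aj gj) (awayPres a g₁) (fun i => by
        induction i using Fin.lastCases with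
        | last =>
          rw [awayPres, awayPres, Fin.snoc_last, Fin.snoc_last, map_sub, map_mul, map_one, MvPolynomial.map_X,
            MvPolynomial.map_rename]
          rw [show algebraMap (Bs j) B = (π j).toRingHom from rfl, hgB]
        | cast l =>
          rw [awayPres, awayPres, Fin.snoc_castSucc, Fin.snoc_castSucc, MvPolynomial.map_rename,
            show algebraMap (Bs j) B = (π j).toRingHom from rfl, haB]) p).symm hdim)
    obtain ⟨G', hG'⟩ := hφs j g
    refine ⟨ψ j g, ⟨j, G', ?_, ?_⟩, hg⟩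
    · show Synt.IsSyntomic (Bs j) (Localization.Away (φs j G'))
      rw [hG']
      exact isSyntomic_congr eF.symm (isSyntomic_relGCIRing hF)
    · rw [← hψ, hG']
  -- finitely many suffice
  obtain ⟨s, hsW, hs⟩ := (Ideal.span_eq_top_iff_finite W).1 hW
  choose iw gw hgw hgwW using fun w : s => hsW w.2
  obtain ⟨i₁, T⟩ : ∃ i₁, ∀ w : s, Nonempty (Hom π (iw w) i₁) := by
    suffices ∀ u : Finset s, ∃ i₁, ∀ w ∈ u, Nonempty (Hom π (iw w) i₁) by
      obtain ⟨i₁, hi₁⟩ := this Finset.univ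
      exact ⟨i₁, fun w => hi₁ w (Finset.mem_univ w)⟩
    intro u
    induction u using Finset.induction with
    | empty => exact ⟨Classical.arbitrary ι, by simp⟩
    | insert a u ha ih =>
      obtain ⟨i, hi⟩ := ih
      obtain ⟨k, ⟨t⟩, ⟨t'⟩⟩ := hjoin i (iw a)
      refine ⟨k, fun w hw => ?_⟩
      rcases Finset.mem_insert.1 hw with rfl | hw
      · exact ⟨t'⟩
      · obtain ⟨t₁⟩ := hi w hw
        exact ⟨⟨t.1.comp t₁.1, by rw [← AlgHom.comp_assoc, t.2, t₁.2]⟩⟩
  replace T := fun w => (T w).some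
  have h1 : (1 : B ⊗[B₀] C₀) ∈ Ideal.span (Set.range fun w : s => (w : B ⊗[B₀] C₀)) := by
    rw [show Set.range (fun w : s => (w : B ⊗[B₀] C₀)) = (s : Set _) from Subtype.range_coe, hs]
    exact Submodule.mem_top
  obtain ⟨d, hd⟩ := Ideal.mem_span_range_iff_exists_fun.1 h1
  choose d' hd' using fun w => hφB (d w)
  have h2 : ∑ w, d' w * MvPolynomial.map (π (iw w)).toRingHom (gw w) - 1 ∈ RingHom.ker φB.toRingHom := by
    show φB _ = 0
    rw [map_sub, map_sum, map_one, sub_eq_zero, ← hd]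
    refine Finset.sum_congr rfl fun w _ => ?_
    rw [map_mul, hd', hgwW]
  rw [hkerB'] at h2
  obtain ⟨e, he⟩ := Ideal.mem_span_range_iff_exists_fun.1 h2
  obtain ⟨i₂, ⟨t₁⟩, x, hx⟩ := exists_stage_family hsurj hjoin (Finset.univ : Finset (s ⊕ Fin m)) (Sum.elim d' e) i₁
  let fi : Fin m → MvPolynomial (Fin n) (Bs i₂) := fun k => MvPolynomial.map (algebraMap B₀ (Bs i₂)) (fs k)
  obtain ⟨j, t, ht⟩ := exists_kill_poly hkill (fun _ : Unit =>
    ∑ w, x (Sum.inl w) * t₁.poly ((T w).poly (gw w)) - 1 - ∑ k, x (Sum.inr k) * fi k) (fun _ => by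
      rw [map_sub, map_sub, map_sum, map_sum, map_one, sub_eq_zero]
      refine Eq.trans ?_ (he.symm.trans ?_)
      · refine congrArg (· - 1) (Finset.sum_congr rfl fun w _ => ?_)
        rw [map_mul, t₁.poly_comp, (T w).poly_comp, hx _ (Finset.mem_univ _)]
        rfl
      · refine Finset.sum_congr rfl fun k _ => ?_
        rw [map_mul, hx _ (Finset.mem_univ _), MvPolynomial.map_map]
        congr 3
        exact RingHom.ext fun b => ((π i₂).commutes b).symm)
  refine ⟨j, isSyntomic_of_span (Finset.univ.image fun w : s => φs j (t.poly (t₁.poly ((T w).poly (gw w))))) ?_ ?_⟩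
  · rw [Ideal.eq_top_iff_one]
    have h3 := congrArg (φs j) (ht ())
    rw [map_sub, map_sub, map_sub, map_sub, map_one, map_one, map_zero, sub_eq_zero] at h3
    have h4 : φs j (t.poly (∑ k, x (Sum.inr k) * fi k)) = 0 := by
      show t.poly _ ∈ RingHom.ker (φs j).toRingHom
      rw [hkers' j, map_sum]
      refine Submodule.sum_mem _ fun k _ => ?_
      rw [map_mul, t.poly_map]
      exact Ideal.mul_mem_left _ _ (Ideal.subset_span ⟨k, rfl⟩)
    rw [h4, sub_eq_zero, map_sum, map_sum] at h3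
    rw [← h3]
    refine Submodule.sum_mem _ fun w _ => ?_
    simp only [map_mul]
    refine Ideal.mul_mem_left _ _ (Ideal.subset_span ?_)
    rw [Finset.coe_image, Finset.coe_univ, Set.image_univ]
    exact ⟨w, rfl⟩
  · intro g hg
    obtain ⟨w, -, rfl⟩ := Finset.mem_image.1 hg
    exact hmono t _ (hmono t₁ _ (hmono (T w) _ (hgw w)))

end Stages

end TransLib
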