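import Groth.Agent.TransLib.CIDescent
import Groth.Agent.TransLib.SyntField

/-!
# The complete intersection locus of fibres and base change
-/

set_option autoImplicit false

universe u

open TensorProduct CategoryTheory CategoryTheory.Limits AlgebraicGeometry

namespace TransLib

variable {k : Type u} [Field k]

/-- The local ring at a point of a scheme over a field is a complete intersection. -/
def StalkCI {X : Scheme.{u}} (p : X ⟶ Spec (CommRingCat.of k)) (x : X) : Prop :=
  letI := (structMap p ⊤ ≫ X.presheaf.germ ⊤ x trivial).hom.toAlgebra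
  Synt.IsCIOver k (X.presheaf.stalk x)

theorem stalkCI_comp_iff {X₁ X : Scheme.{u}} (j : X₁ ⟶ X) [IsOpenImmersion j] (p : X ⟶ Spec (CommRingCat.of k)) (x : X₁) :
    StalkCI (j ≫ p) x ↔ StalkCI p (j x) := by
  letI := (structMap p ⊤ ≫ X.presheaf.germ ⊤ (j x) trivial).hom.toAlgebra
  letI := (structMap (j ≫ p) ⊤ ≫ X₁.presheaf.germ ⊤ x trivial).hom.toAlgebra
  have h : (structMap p ⊤ ≫ X.presheaf.germ ⊤ (j x) trivial) ≫ j.stalkMap x =
      structMap (j ≫ p) ⊤ ≫ X₁.presheaf.germ ⊤ x trivial := by
    rw [Category.assoc, Scheme.Hom.germ_stalkMap, Category.assoc, Category.assoc]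
    simp only [Scheme.Hom.appLE, Scheme.Hom.comp_app, Category.assoc]
    simp
  let e : X.presheaf.stalk (j x) ≃ₐ[k] X₁.presheaf.stalk x :=
    AlgEquiv.ofRingEquiv (f := (asIso (j.stalkMap x)).commRingCatIsoToRingEquiv) fun a => congr($(h).hom a)
  exact ⟨fun h => isCIOver_congr e.symm h, fun h => isCIOver_congr e h⟩

theorem stalkCI_spec_iff (A : Type u) [CommRing A] [Algebra k A] (q : PrimeSpectrum A) :
    StalkCI (Spec.map (CommRingCat.ofHom (algebraMap k A))) (q : Spec (CommRingCat.of A)) ↔
      Synt.IsCIOver k (Localization.AtPrime q.asIdeal) := by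
  let X := Spec (CommRingCat.of A)
  let p : X ⟶ Spec (CommRingCat.of k) := Spec.map (CommRingCat.ofHom (algebraMap k A))
  letI := (structMap p ⊤ ≫ X.presheaf.germ ⊤ q trivial).hom.toAlgebra
  have h1 : structMap p ⊤ = CommRingCat.ofHom (algebraMap k A) ≫ (Scheme.ΓSpecIso (CommRingCat.of A)).inv := by
    rw [Scheme.ΓSpecIso_inv_naturality]
    simp [structMap, p, Scheme.Hom.appLE, Scheme.Hom.appTop]
  have h : (structMap p ⊤ ≫ X.presheaf.germ ⊤ q trivial) =
      CommRingCat.ofHom (algebraMap k (Localization.AtPrime q.asIdeal)) ≫ (Spec.stalkIso (CommRingCat.of A) q).inv := by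
    rw [h1, Category.assoc, ← Spec.algebraMap_stalkIso_inv, ← Category.assoc]
    rfl
  let e : Localization.AtPrime q.asIdeal ≃ₐ[k] X.presheaf.stalk q :=
    AlgEquiv.ofRingEquiv (f := (Spec.stalkIso (CommRingCat.of A) q).symm.commRingCatIsoToRingEquiv) fun a => (congr($(h).hom a)).symm
  exact ⟨fun h => isCIOver_congr e.symm h, fun h => isCIOver_congr e h⟩

/-- Complete intersection points and extensions of the ground field. -/
theorem stalkCI_baseChange_iff {K : Type u} [Field K] [Algebra k K] {X X' : Scheme.{u}} (p : X ⟶ Spec (CommRingCat.of k))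
    [LocallyOfFiniteType p] (p' : X' ⟶ Spec (CommRingCat.of K)) (g : X' ⟶ X)
    (h : IsPullback g p' p (Spec.map (CommRingCat.ofHom (algebraMap k K)))) (x' : X') :
    StalkCI p' x' ↔ StalkCI p (g x') := by
  obtain ⟨_, ⟨W, hW, rfl⟩, hxW, -⟩ := X.isBasis_affineOpens.exists_subset_of_mem_open (Set.mem_univ (g x')) isOpen_univ
  let A := Γ(X, W)
  let j : Spec A ⟶ X := hW.fromSpec
  let f0 : CommRingCat.of k ⟶ A := Spec.preimage (j ≫ p)
  letI : Algebra k A := f0.hom.toAlgebra
  have hjp : j ≫ p = Spec.map (CommRingCat.ofHom (algebraMap k A)) := (Spec.map_preimage _).symm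
  have : Algebra.FiniteType k A := by
    have h2 : LocallyOfFiniteType (Spec.map f0) := by
      rw [Spec.map_preimage]
      infer_instance
    exact (HasRingHomProperty.Spec_iff (P := @LocallyOfFiniteType)).1 h2
  let Q := Spec (CommRingCat.of (K ⊗[k] A))
  let a : Q ⟶ Spec A :=
    Spec.map (CommRingCat.ofHom (Algebra.TensorProduct.includeRight : A →ₐ[k] K ⊗[k] A).toRingHom)
  let b : Q ⟶ Spec (CommRingCat.of K) := Spec.map (CommRingCat.ofHom (algebraMap K (K ⊗[k] A)))
  have hQ : IsPullback a b (j ≫ p) (Spec.map (CommRingCat.ofHom (algebraMap k K))) := by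
    rw [hjp]
    exact isPullback_SpecMap_of_isPushout _ _ _ _ (CommRingCat.isPushout_tensorProduct k K A).flip
  have hw : (a ≫ j) ≫ p = b ≫ Spec.map (CommRingCat.ofHom (algebraMap k K)) := (Category.assoc _ _ _).trans hQ.w
  let j' : Q ⟶ X' := h.lift (a ≫ j) b hw
  have hl : j' ≫ g = a ≫ j := h.lift_fst _ _ _
  have hr : j' ≫ p' = b := h.lift_snd _ _ _
  have hsq : IsPullback a j' j g := IsPullback.of_bot (by rwa [hr]) hl.symm h
  have : IsOpenImmersion j' := MorphismProperty.of_isPullback (P := @IsOpenImmersion) hsq inferInstance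
  obtain ⟨z₀, hz₀⟩ : g x' ∈ Set.range j := by
    rw [hW.range_fromSpec]
    exact hxW
  obtain ⟨z, hza, hzj⟩ := Scheme.exists_preimage_of_isPullback hsq z₀ x' hz₀
  have e1 : StalkCI p' x' ↔ StalkCI b z := by
    rw [← hr, stalkCI_comp_iff]
    exact iff_of_eq (congrArg _ hzj.symm)
  have e2 : StalkCI p (g x') ↔ StalkCI (j ≫ p) z₀ := by
    rw [stalkCI_comp_iff]
    exact iff_of_eq (congrArg _ hz₀.symm)
  rw [e1, e2, hjp, stalkCI_spec_iff, stalkCI_spec_iff]
  exact isCIOver_atPrime_baseChange_iff z.asIdeal z₀.asIdeal (congrArg PrimeSpectrum.asIdeal hza)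

theorem stalkCI_fibre_congr {X S : Scheme.{u}} (f : X ⟶ S) (x : X) (s : S) (hs : f x = s) (z : f.fiber s)
    (hz : f.fiberι s z = x) :
    StalkCI (k := S.residueField s) (f.fiberToSpecResidueField s) z ↔
      StalkCI (k := S.residueField (f x)) (f.fiberToSpecResidueField (f x)) (f.asFiber x) := by
  subst hs
  obtain rfl : z = f.asFiber x :=
    (f.fiberι (f x)).isEmbedding.injective (hz.trans (f.fiberι_asFiber x).symm)
  rfl

/-- Complete intersection points of fibres and base change. -/
theorem stalkCI_fibre_baseChange_iff {X S X' S' : Scheme.{u}} (f : X ⟶ S) [LocallyOfFiniteType f] (g : S' ⟶ S)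
    (g' : X' ⟶ X) (f' : X' ⟶ S') (hsq : IsPullback g' f' f g) (x' : X') :
    StalkCI (k := S'.residueField (f' x')) (f'.fiberToSpecResidueField (f' x')) (f'.asFiber x') ↔
      StalkCI (k := S.residueField (f (g' x'))) (f.fiberToSpecResidueField (f (g' x'))) (f.asFiber (g' x')) := by
  let s' := f' x'
  letI : Algebra (S.residueField (g s')) (S'.residueField s') := (g.residueFieldMap s').hom.toAlgebra
  have : LocallyOfFiniteType (f.fiberToSpecResidueField (g s')) :=
    MorphismProperty.pullback_snd (P := @LocallyOfFiniteType) _ _ inferInstance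
  have hp := isPullback_fiberToSpecResidueField_of_isPullback hsq s'
  refine (stalkCI_baseChange_iff (k := S.residueField (g s')) (K := S'.residueField s')
    (f.fiberToSpecResidueField (g s')) (f'.fiberToSpecResidueField s') _ hp (f'.asFiber x')).trans
    (stalkCI_fibre_congr f (g' x') (g s') ?_ _ ?_)
  · exact congr($(hsq.w).base x')
  · rw [← Scheme.Hom.comp_apply]
    erw [pullback.lift_fst]
    exact congrArg g' (f'.fiberι_asFiber x')

end TransLib
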