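import Groth.Agent.TransLib.IdemData
import Groth.Agent.TransLib.SyntBC

/-!
# The conormal bundle of a syntomic presentation
-/

set_option autoImplicit false

universe u

open MvPolynomial

namespace TransLib

variable {R : Type u} [CommRing R] {n m : ℕ} {I : Ideal (MvPolynomial (Fin n) R)}

/-- The inclusion of the variables of the presentation. -/
noncomputable def bundleIncl (m : ℕ) : MvPolynomial (Fin n) R →ₐ[R] MvPolynomial (Fin (n + m)) R :=
  MvPolynomial.rename (Fin.castAdd m)

/-- The linear equations of the conormal bundle. -/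
noncomputable def bundleLin (E : Matrix (Fin m) (Fin m) (MvPolynomial (Fin n) R)) (j : Fin m) :
    MvPolynomial (Fin (n + m)) R :=
  X (Fin.natAdd n j) - ∑ i, bundleIncl m (E i j) * X (Fin.natAdd n i)

/-- The equations of the conormal bundle. -/
noncomputable def bundleEq (D : IdemData I m) (j : Fin m) : MvPolynomial (Fin (n + m)) R :=
  bundleIncl m (D.a j) + bundleLin D.E j

theorem bundleLin_combination (E : Matrix (Fin m) (Fin m) (MvPolynomial (Fin n) R)) (j : Fin m) :
    ∑ i, bundleIncl m (E i j) * bundleLin E i = -∑ k, bundleIncl m ((E * E - E) k j) * X (Fin.natAdd n k) := by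
  have h : ∀ k, bundleIncl m ((E * E - E) k j) =
      ∑ i, bundleIncl m (E k i) * bundleIncl m (E i j) - bundleIncl m (E k j) := fun k => by
    rw [Matrix.sub_apply, map_sub, Matrix.mul_apply, map_sum]
    simp only [map_mul]
  simp only [bundleLin, h, sub_mul, mul_sub, Finset.sum_sub_distrib, Finset.mul_sum, Finset.sum_mul]
  rw [Finset.sum_comm]
  rw [neg_sub]
  congr 1
  exact Finset.sum_congr rfl fun k _ => Finset.sum_congr rfl fun i _ => by ring

/-- The conormal bundle of a presentation with idempotent data: a smooth algebra with retraction,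
presented by equations whose number matches. -/
theorem exists_bundle (D : IdemData I m) :
    ∃ (C : Type u) (_ : CommRing C) (_ : Algebra R C) (_ : Algebra (MvPolynomial (Fin n) R ⧸ I) C)
      (_ : IsScalarTower R (MvPolynomial (Fin n) R ⧸ I) C),
      Algebra.Smooth (MvPolynomial (Fin n) R ⧸ I) C ∧
      ∃ (φ : MvPolynomial (Fin (n + m)) R →ₐ[R] C) (ρ : C →ₐ[MvPolynomial (Fin n) R ⧸ I] MvPolynomial (Fin n) R ⧸ I),
        Function.Surjective φ ∧ (RingHom.ker φ.toRingHom).FG ∧
        (∀ x, φ (bundleIncl m x) = algebraMap (MvPolynomial (Fin n) R ⧸ I) C (Ideal.Quotient.mk I x)) ∧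
        (∀ j, φ (X (Fin.natAdd n j)) = ∑ i, φ (bundleIncl m (D.E i j)) * φ (X (Fin.natAdd n i))) ∧
        (∀ j, ρ (φ (X (Fin.natAdd n j))) = 0) ∧
        ∃ h, φ h = 1 ∧ (∀ j, φ (bundleEq D j) = 0) ∧
          ∀ x ∈ RingHom.ker φ.toRingHom, h * x ∈ Ideal.span (Set.range (bundleEq D)) := by
  classical
  let P := MvPolynomial (Fin n) R
  let A := P ⧸ I
  let Q := MvPolynomial (Fin (n + m)) R
  let ι : P →ₐ[R] Q := bundleIncl m
  let J : Ideal Q := I.map ι ⊔ Ideal.span (Set.range (bundleLin D.E))
  have hI : I.FG := D.gen ▸ Submodule.fg_span (Set.finite_range D.a)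
  have hJ : J.FG := Submodule.FG.sup (Ideal.FG.map hI (ι : MvPolynomial (Fin n) R →+* MvPolynomial (Fin (n + m)) R))
    (Submodule.fg_span (Set.finite_range _))
  let C := Q ⧸ J
  let φ : Q →ₐ[R] C := Ideal.Quotient.mkₐ R J
  have hker : RingHom.ker φ.toRingHom = J := Ideal.mk_ker
  let toC : A →ₐ[R] C := Ideal.Quotient.liftₐ I (φ.comp ι) fun x hx =>
    Ideal.Quotient.eq_zero_iff_mem.2 (Ideal.mem_sup_left (Ideal.mem_map_of_mem ι hx))
  letI : Algebra A C := toC.toRingHom.toAlgebra
  have htow : IsScalarTower R A C := IsScalarTower.of_algebraMap_eq fun r => (toC.commutes r).symm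
  have hy : ∀ j, φ (X (Fin.natAdd n j)) = ∑ i, φ (ι (D.E i j)) * φ (X (Fin.natAdd n i)) := fun j => by
    have h : φ (bundleLin D.E j) = 0 := Ideal.Quotient.eq_zero_iff_mem.2 (Ideal.mem_sup_right (Ideal.subset_span ⟨j, rfl⟩))
    rw [bundleLin, map_sub, map_sum, sub_eq_zero] at h
    rw [h]
    exact Finset.sum_congr rfl fun i _ => map_mul _ _ _
  -- a retraction of a polynomial ring over `A`
  let T := MvPolynomial (Fin m) A
  let ev : (Fin m → T) → (Q →ₐ[R] T) := fun y => aeval
    (Fin.addCases (fun i => algebraMap A T (Ideal.Quotient.mk I (X i))) y)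
  have hev : ∀ y x, ev y (ι x) = algebraMap A T (Ideal.Quotient.mk I x) := fun y x => by
    refine AlgHom.congr_fun (φ₁ := (ev y).comp ι) (φ₂ := (IsScalarTower.toAlgHom R A T).comp (Ideal.Quotient.mkₐ R I))
      (MvPolynomial.algHom_ext fun i => ?_) x
    show ev y (bundleIncl m (X i)) = _
    rw [bundleIncl, rename_X]
    show aeval _ (X _) = _
    rw [aeval_X, Fin.addCases_left]
    rfl
  let w : Fin m → T := fun j => ∑ i, algebraMap A T (Ideal.Quotient.mk I (D.E i j)) * X i
  have hevy : ∀ y j, ev y (X (Fin.natAdd n j)) = y j := fun y j => by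
    show aeval _ (X _) = _
    rw [aeval_X, Fin.addCases_right]
  let σ₀ : C →ₐ[R] T := Ideal.Quotient.liftₐ J (ev w) (by
    show J ≤ RingHom.ker (ev w)
    refine sup_le (Ideal.map_le_iff_le_comap.2 fun x hx => ?_) (Ideal.span_le.2 ?_)
    · show ev w (ι x) = 0
      rw [hev, Ideal.Quotient.eq_zero_iff_mem.2 hx, map_zero]
    · rintro _ ⟨j, rfl⟩
      show ev w (bundleLin D.E j) = 0
      simp only [bundleLin, map_sub, map_sum, map_mul, hevy]
      rw [sub_eq_zero, show ∑ i, ev w (bundleIncl m (D.E i j)) * w i = ∑ i, algebraMap A T (Ideal.Quotient.mk I (D.E i j)) * w i from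
        Finset.sum_congr rfl fun i _ => by rw [← hev w]]
      simp only [w]
      rw [Finset.sum_congr rfl fun i (_ : i ∈ (Finset.univ : Finset (Fin m))) => Finset.mul_sum _ _ _]
      rw [Finset.sum_comm]
      refine Finset.sum_congr rfl fun k _ => ?_
      rw [← Finset.sum_congr rfl fun i _ => (mul_assoc _ _ _), ← Finset.sum_mul]
      congr 1
      have h2 : D.E k j - ∑ i, D.E i j * D.E k i ∈ I := by
        have h3 := Ideal.pow_le_self two_ne_zero (D.idem k j)
        rw [Matrix.sub_apply, Matrix.mul_apply] at h3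
        rw [← neg_mem_iff, neg_sub]
        convert h3 using 2
        exact Finset.sum_congr rfl fun i _ => mul_comm _ _
      have h4 := congrArg (algebraMap A T) (Ideal.Quotient.eq_zero_iff_mem.2 h2)
      rw [map_sub, map_sub, map_zero, sub_eq_zero, map_sum, map_sum] at h4
      rw [h4]
      exact Finset.sum_congr rfl fun i _ => by rw [map_mul, map_mul])
  let σ : C →ₐ[A] T :=
    { σ₀ with
      commutes' := fun z => by
        obtain ⟨x, rfl⟩ := Ideal.Quotient.mk_surjective z
        exact hev w x }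
  let π : T →ₐ[A] C := aeval fun j => φ (X (Fin.natAdd n j))
  have hπσ : π.comp σ = AlgHom.id A C := by
    suffices (π.restrictScalars R).comp σ₀ = AlgHom.id R C from AlgHom.ext fun z => AlgHom.congr_fun this z
    refine Ideal.Quotient.algHom_ext R (MvPolynomial.algHom_ext fun i => ?_)
    refine Fin.addCases (fun i => ?_) (fun j => ?_) i
    · show π (ev w (X (Fin.castAdd m i))) = φ (X (Fin.castAdd m i))
      rw [show (X (Fin.castAdd m i) : Q) = ι (X i) from (rename_X _ _).symm, hev, AlgHom.commutes]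
      rfl
    · show π (ev w (X (Fin.natAdd n j))) = φ (X (Fin.natAdd n j))
      rw [hevy, hy j, map_sum]
      refine Finset.sum_congr rfl fun i _ => ?_
      rw [map_mul, AlgHom.commutes, aeval_X]
      rfl
  have hfs : Algebra.FormallySmooth A C := by
    refine Algebra.FormallySmooth.of_split (R := A) (A := C) (P := T) π ((Ideal.Quotient.mkₐ A _).comp σ) (AlgHom.ext fun z => ?_)
    exact AlgHom.congr_fun hπσ z
  have : Algebra.FinitePresentation R C := Algebra.FinitePresentation.quotient hJ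
  have : Algebra.FiniteType R A := inferInstance
  have hfp : Algebra.FinitePresentation A C := Algebra.FinitePresentation.of_restrict_scalars_finitePresentation R A C
  let ρ : C →ₐ[A] A := (aeval (fun _ : Fin m => (0 : A))).comp σ
  -- Nakayama
  have hF : ∀ j, bundleEq D j ∈ J := fun j => add_mem (Ideal.mem_sup_left (Ideal.mem_map_of_mem ι (D.mem j)))
    (Ideal.mem_sup_right (Ideal.subset_span ⟨j, rfl⟩))
  let S : Ideal Q := Ideal.span (Set.range (bundleEq D)) ⊔ J ^ 2
  have hsq : ∀ x ∈ I ^ 2, ι x ∈ S := fun x hx => Ideal.mem_sup_right (by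
    have h := Ideal.mem_map_of_mem ι hx
    rw [Ideal.map_pow] at h
    exact Ideal.pow_right_mono le_sup_left 2 h)
  have hEL : ∀ j, ∑ i, ι (D.E i j) * bundleLin D.E i ∈ S := fun j => by
    rw [bundleLin_combination]
    exact neg_mem (sum_mem fun k _ => S.mul_mem_right _ (hsq _ (D.idem k j)))
  have hιa : ∀ j, ι (D.a j) ∈ S := fun j => by
    have h2 : ι (D.a j) = ι (D.a j - ∑ i, D.E i j * D.a i) +
        (∑ i, ι (D.E i j) * bundleEq D i - ∑ i, ι (D.E i j) * bundleLin D.E i) := by
      rw [map_sub, map_sum, ← Finset.sum_sub_distrib, sub_add, ← Finset.sum_sub_distrib]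
      rw [Finset.sum_eq_zero fun i _ => ?_, sub_zero]
      rw [map_mul, bundleEq]
      ring
    rw [h2]
    exact add_mem (hsq _ (D.rel j)) (sub_mem (sum_mem fun i _ =>
      S.mul_mem_left _ (Ideal.mem_sup_left (Ideal.subset_span ⟨i, rfl⟩))) (hEL j))
  have hJS : J ≤ S := by
    refine sup_le ?_ (Ideal.span_le.2 ?_)
    · rw [show I = Ideal.span (Set.range D.a) from D.gen, Ideal.map_span, Ideal.span_le]
      rintro _ ⟨_, ⟨j, rfl⟩, rfl⟩
      exact hιa j
    · rintro _ ⟨j, rfl⟩
      show bundleLin D.E j ∈ S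
      have h := sub_mem (Ideal.mem_sup_left (Ideal.subset_span ⟨j, rfl⟩) : bundleEq D j ∈ S) (hιa j)
      rwa [bundleEq, add_sub_cancel_left] at h
  let μ := Ideal.Quotient.mk (Ideal.span (Set.range (bundleEq D)))
  have hJm : J.map μ ≤ J.map μ • J.map μ := by
    suffices h2 : J.map μ ≤ J.map μ ^ 2 from h2.trans (le_of_eq (pow_two _))
    rw [← Ideal.map_pow]
    refine (Ideal.map_mono hJS).trans ?_
    rw [Ideal.map_sup, Ideal.map_quotient_self, bot_sup_eq]
  obtain ⟨r, hr, hrJ⟩ := Submodule.exists_sub_one_mem_and_smul_eq_zero_of_fg_of_le_smul (J.map μ) (J.map μ)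
    (hJ.map _) hJm
  obtain ⟨h, rfl⟩ := Ideal.Quotient.mk_surjective r
  refine ⟨C, inferInstance, inferInstance, inferInstance, htow, ⟨hfs, hfp⟩, φ, ρ,
    Ideal.Quotient.mkₐ_surjective R J, hker.symm ▸ hJ, fun x => rfl, hy, fun j => ?_, h, ?_, fun j => ?_, fun x hx => ?_⟩
  · show aeval (fun _ : Fin m => (0 : A)) (ev w (X (Fin.natAdd n j))) = 0
    rw [hevy]
    simp [w]
  · show φ h = 1
    rw [← sub_eq_zero, ← map_one φ, ← map_sub]
    have : h - 1 ∈ J := by
      rw [← map_one μ, ← map_sub] at hr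
      rw [Ideal.mem_map_iff_of_surjective μ Ideal.Quotient.mk_surjective] at hr
      obtain ⟨y, hyJ, hy'⟩ := hr
      have h5 : y - (h - 1) ∈ Ideal.span (Set.range (bundleEq D)) := Ideal.Quotient.eq.1 hy'
      have h6 := sub_mem hyJ ((Ideal.span_le.2 (Set.range_subset_iff.2 hF)) h5)
      rwa [sub_sub_cancel] at h6
    exact Ideal.Quotient.eq_zero_iff_mem.2 this
  · exact Ideal.Quotient.eq_zero_iff_mem.2 (hF j)
  · rw [hker] at hx
    refine Ideal.Quotient.eq_zero_iff_mem.1 ?_
    rw [map_mul]
    exact hrJ _ (Ideal.mem_map_of_mem μ hx)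

end TransLib
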