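import Groth.Agent.TransLib.CISpread
import Groth.Agent.TransLib.RegularFlat
import Groth.Agent.TransLib.DescSynt

/-!
# Complete intersections and flat local maps of presentations
-/

set_option autoImplicit false

universe u

open TensorProduct RingTheory.Sequence IsLocalRing

namespace TransLib

theorem comap_maximalIdeal {R S : Type u} [CommRing R] [CommRing S] [IsLocalRing R] [IsLocalRing S] (f : R →+* S)
    [IsLocalHom f] : (maximalIdeal S).comap f = maximalIdeal R :=
  Ideal.ext fun x => not_iff_not.2 (isUnit_map_iff f x)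

section Local

variable {T T' : Type u} [CommRing T] [CommRing T'] [IsLocalRing T] [IsLocalRing T'] [IsNoetherianRing T]
  [IsNoetherianRing T'] [Algebra T T'] [Module.Flat T T'] [IsLocalHom (algebraMap T T')]

omit [IsNoetherianRing T'] in
/-- Minimal numbers of generators survive flat local maps. -/
theorem spanFinrank_map_eq_of_flat (K : Ideal T) : (K.map (algebraMap T T')).spanFinrank = K.spanFinrank := by
  let K' := K.map (algebraMap T T')
  have hfg : K.FG := IsNoetherian.noetherian _
  have hfg' : K'.FG := hfg.map _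
  let j : T' ⊗[T] K →ₗ[T'] T' := (TensorProduct.AlgebraTensorModule.rid T T' T').toLinearMap.comp
    (TensorProduct.AlgebraTensorModule.lTensor T' T' K.subtype)
  have hj : ∀ a x, j (a ⊗ₜ[T] x) = a * algebraMap T T' (x : T) := fun a x => by
    show (x : T) • a = _
    rw [Algebra.smul_def, mul_comm]
  have hinj : Function.Injective j := fun a b h =>
    Module.Flat.lTensor_preserves_injective_linearMap K.subtype Subtype.val_injective
      ((TensorProduct.AlgebraTensorModule.rid T T' T').injective h)
  have hrange : LinearMap.range j = K' := by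
    refine le_antisymm ?_ (Ideal.map_le_iff_le_comap.2 fun x hx => ⟨1 ⊗ₜ ⟨x, hx⟩, by rw [hj, one_mul]⟩)
    rintro _ ⟨z, rfl⟩
    induction z with
    | zero => simp
    | tmul a x => rw [hj]; exact K'.mul_mem_left _ (Ideal.mem_map_of_mem _ x.2)
    | add a b ha hb => rw [map_add]; exact add_mem ha hb
  let e : T' ⊗[T] K ≃ₗ[T'] K' := (LinearEquiv.ofInjective j hinj).trans (LinearEquiv.ofEq _ _ hrange)
  let κ := ResidueField T
  let κ' := ResidueField T'
  have h1 : Module.finrank κ' (κ' ⊗[T'] K') = Module.finrank κ (κ ⊗[T] K) := by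
    have e1 : κ' ⊗[T'] K' ≃ₗ[κ'] κ' ⊗[T] K :=
      (TensorProduct.AlgebraTensorModule.congr (LinearEquiv.refl κ' κ') e.symm).trans
        (TensorProduct.AlgebraTensorModule.cancelBaseChange T T' κ' κ' K)
    have e2 : κ' ⊗[κ] (κ ⊗[T] K) ≃ₗ[κ'] κ' ⊗[T] K :=
      TensorProduct.AlgebraTensorModule.cancelBaseChange T κ κ' κ' K
    rw [(e1.trans e2.symm).finrank_eq, Module.finrank_baseChange]
  rw [← TensorProduct.spanFinrank_top_eq_of_residueField (K' : Submodule T' T') hfg',
    ← TensorProduct.spanFinrank_top_eq_of_residueField (K : Submodule T T) hfg,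
    ← Module.finrank_eq_spanFinrank_of_free, ← Module.finrank_eq_spanFinrank_of_free]
  exact h1

/-- Complete intersection ideals and flat local maps. -/
theorem dim_add_spanFinrank_iff (K : Ideal T) (hK : K ≤ maximalIdeal T) :
    ringKrullDim (T' ⧸ K.map (algebraMap T T')) + (K.map (algebraMap T T')).spanFinrank ≤ ringKrullDim T' ↔
      ringKrullDim (T ⧸ K) + K.spanFinrank ≤ ringKrullDim T := by
  let K' := K.map (algebraMap T T')
  have hm : (maximalIdeal T').comap (algebraMap T T') = maximalIdeal T :=
    comap_maximalIdeal (algebraMap T T')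
  have hK' : K' ≤ maximalIdeal T' := Ideal.map_le_iff_le_comap.2 (hK.trans hm.ge)
  have : Nontrivial (T ⧸ K) := Ideal.Quotient.nontrivial_iff.2 (ne_top_of_le_ne_top (maximalIdeal.isMaximal T).ne_top hK)
  have : Nontrivial (T' ⧸ K') := Ideal.Quotient.nontrivial_iff.2 (ne_top_of_le_ne_top (maximalIdeal.isMaximal T').ne_top hK')
  have : IsLocalRing (T ⧸ K) := IsLocalRing.of_surjective' _ Ideal.Quotient.mk_surjective
  have : IsLocalRing (T' ⧸ K') := IsLocalRing.of_surjective' _ Ideal.Quotient.mk_surjective
  have : Module.Flat (T ⧸ K) (T' ⧸ K') := by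
    let e0 : (T' ⧸ K') ≃ₗ[T] (T ⧸ K) ⊗[T] T' :=
      ((Algebra.TensorProduct.quotIdealMapEquivTensorQuot T' K).toLinearEquiv.restrictScalars T).trans
        (TensorProduct.comm T T' (T ⧸ K))
    exact Module.Flat.of_linearEquiv (e0.extendScalarsOfSurjective Ideal.Quotient.mk_surjective)
  have hM : (maximalIdeal (T' ⧸ K')).comap (algebraMap (T ⧸ K) (T' ⧸ K')) = maximalIdeal (T ⧸ K) := by
    refine Ideal.comap_injective_of_surjective (Ideal.Quotient.mk K) Ideal.Quotient.mk_surjective ?_
    rw [Ideal.comap_comap,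
      show (algebraMap (T ⧸ K) (T' ⧸ K')).comp (Ideal.Quotient.mk K) = (Ideal.Quotient.mk K').comp (algebraMap T T') from rfl,
      ← Ideal.comap_comap]
    have : IsLocalHom (Ideal.Quotient.mk K') := IsLocalHom.of_surjective _ Ideal.Quotient.mk_surjective
    have : IsLocalHom (Ideal.Quotient.mk K) := IsLocalHom.of_surjective _ Ideal.Quotient.mk_surjective
    rw [comap_maximalIdeal (Ideal.Quotient.mk K'), hm,
      comap_maximalIdeal (Ideal.Quotient.mk K)]
  obtain ⟨a, c, ha, hc, hT'⟩ := exists_dim_eq_add (maximalIdeal T) hm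
  obtain ⟨a', c', ha', hc', hTK'⟩ := exists_dim_eq_add (maximalIdeal (T ⧸ K)) hM
  have hcc : c = c' := by
    have e : ((T' ⧸ K') ⧸ (maximalIdeal (T ⧸ K)).map (algebraMap (T ⧸ K) (T' ⧸ K'))) ≃+* T' ⧸ (maximalIdeal T).map (algebraMap T T') := by
      refine (Ideal.quotEquivOfEq ?_).trans (DoubleQuot.quotQuotEquivQuotOfLE (Ideal.map_mono hK))
      rw [← IsLocalRing.map_maximalIdeal_of_surjective (Ideal.Quotient.mk K) Ideal.Quotient.mk_surjective, Ideal.map_map,
        Ideal.map_map]
      rfl
    have := (ringKrullDim_eq_of_ringEquiv e).symm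
    rw [hc, hc'] at this
    exact_mod_cast this
  have h1 := IsLocalRing.maximalIdeal_height_eq_ringKrullDim (R := T)
  have h2 := IsLocalRing.maximalIdeal_height_eq_ringKrullDim (R := T ⧸ K)
  rw [ha] at h1
  rw [ha'] at h2
  rw [spanFinrank_map_eq_of_flat K, hT', hTK', ← h1, ← h2, hcc]
  norm_cast
  omega

/-- Regular generators of an ideal descend and ascend along flat local maps. -/
theorem exists_regular_map_iff {T T' : Type u} [CommRing T] [CommRing T'] [IsRegularLocalRing T] [IsRegularLocalRing T']
    [Algebra T T'] [Module.Flat T T'] [IsLocalHom (algebraMap T T')] (K : Ideal T) (hK : K ≤ maximalIdeal T) :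
    (∃ rs : List T', IsRegular T' rs ∧ Ideal.ofList rs = K.map (algebraMap T T')) ↔
      ∃ rs : List T, IsRegular T rs ∧ Ideal.ofList rs = K := by
  rw [CommAlgDim.exists_isRegular_iff (CommAlgDim.isCM_of_isRegularLocalRing T) hK,
    CommAlgDim.exists_isRegular_iff (CommAlgDim.isCM_of_isRegularLocalRing T')
      (Ideal.map_le_iff_le_comap.2 (hK.trans (comap_maximalIdeal (algebraMap T T')).ge))]
  exact dim_add_spanFinrank_iff K hK

end Local

attribute [local instance] MvPolynomial.algebraMvPolynomial in
/-- Complete intersection local rings and extensions of the ground field. -/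
theorem isCIOver_atPrime_baseChange_iff {k K : Type u} [Field k] [Field K] [Algebra k K] {A : Type u} [CommRing A]
    [Algebra k A] [Algebra.FiniteType k A] (q' : Ideal (K ⊗[k] A)) [q'.IsPrime] (q : Ideal A) [q.IsPrime]
    (hq : q'.comap (Algebra.TensorProduct.includeRight : A →ₐ[k] K ⊗[k] A).toRingHom = q) :
    Synt.IsCIOver K (Localization.AtPrime q') ↔ Synt.IsCIOver k (Localization.AtPrime q) := by
  have : Algebra.FinitePresentation k A := Algebra.FinitePresentation.of_finiteType.1 ‹_›
  obtain ⟨n, φ, hφ⟩ := Algebra.FiniteType.iff_quotient_mvPolynomial''.1 (‹_› : Algebra.FiniteType k A)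
  obtain ⟨φK, hφK, hker, hφm⟩ := exists_baseChange_presentation φ hφ K
  let ι : MvPolynomial (Fin n) k →+* MvPolynomial (Fin n) K := MvPolynomial.map (algebraMap k K)
  let b' : Ideal (MvPolynomial (Fin n) K) := q'.comap φK.toRingHom
  let b : Ideal (MvPolynomial (Fin n) k) := q.comap φ.toRingHom
  have : b.IsPrime := Ideal.comap_isPrime _ _
  have : b'.IsPrime := Ideal.comap_isPrime _ _
  have hb : b = b'.comap ι := by
    ext x
    show φ x ∈ q ↔ φK (ι x) ∈ q'
    rw [hφm, ← hq]
    rfl
  rw [isCIOver_atPrime_iff φK hφK q' b' rfl, isCIOver_atPrime_iff φ hφ q b rfl]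
  let T := Localization.AtPrime b
  let T' := Localization.AtPrime b'
  let σ : T →+* T' := Localization.localRingHom b b' ι hb
  have hflat : σ.Flat := RingHom.Flat.localRingHom (f := ι) (by
    show Module.Flat (MvPolynomial (Fin n) k) (MvPolynomial (Fin n) K)
    have hbc : IsBaseChange (MvPolynomial (Fin n) k) (IsScalarTower.toAlgHom k K (MvPolynomial (Fin n) K)).toLinearMap :=
      (Algebra.isPushout_iff k (MvPolynomial (Fin n) k) K (MvPolynomial (Fin n) K)).1 inferInstance
    exact Module.Flat.of_linearEquiv hbc.equiv.symm) b' b hb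
  letI : Algebra T T' := σ.toAlgebra
  have : Module.Flat T T' := hflat
  have : IsLocalHom (algebraMap T T') := Localization.isLocalHom_localRingHom b b' ι hb
  have : IsRegularLocalRing T := IsRegularRing.isRegularLocalRing_localization b
  have : IsRegularLocalRing T' := IsRegularRing.isRegularLocalRing_localization b'
  have hK : (RingHom.ker φ.toRingHom).map (algebraMap _ T) ≤ maximalIdeal T := by
    rw [← Localization.AtPrime.map_eq_maximalIdeal]
    exact Ideal.map_mono fun x hx => by
      show φ x ∈ q
      rw [show φ x = 0 from hx]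
      exact zero_mem _
  rw [← exists_regular_map_iff (T' := T') ((RingHom.ker φ.toRingHom).map (algebraMap _ T)) hK, Ideal.map_map, hker,
    Ideal.map_map]
  have e : (algebraMap T T').comp (algebraMap (MvPolynomial (Fin n) k) T) = (algebraMap (MvPolynomial (Fin n) K) T').comp ι :=
    RingHom.ext fun x => Localization.localRingHom_to_map b b' ι hb x
  rw [e]

end TransLib
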