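import Groth.Prelude.Def_Smoothing
import Groth.Agent.TransLib.BundleStd

/-!
# Explicit data for desingularization
-/

set_option autoImplicit false

universe u

open MvPolynomial

namespace TransLib

/-- Second order Taylor expansion along a line of substitutions. -/
theorem exists_taylor {R : Type u} [CommRing R] {n : ℕ} (r : Fin n → R) (t : R) (p : MvPolynomial (Fin n) R) :
    ∃ Q : MvPolynomial (Fin n) R, (aeval (fun i => MvPolynomial.C (r i) + MvPolynomial.C t * X i) p : MvPolynomial (Fin n) R) =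
      MvPolynomial.C (aeval r p) + MvPolynomial.C t * (∑ i, MvPolynomial.C (aeval r (pderiv i p)) * X i) +
        MvPolynomial.C (t ^ 2) * Q := by
  classical
  induction p using MvPolynomial.induction_on with
  | C a => exact ⟨0, by simp⟩
  | add p q hp hq =>
    obtain ⟨P, hP⟩ := hp
    obtain ⟨Q, hQ⟩ := hq
    refine ⟨P + Q, ?_⟩
    rw [map_add, hP, hQ, Finset.sum_congr rfl fun i _ => show MvPolynomial.C (aeval r (pderiv i (p + q))) * X i =
      MvPolynomial.C (aeval r (pderiv i p)) * X i + MvPolynomial.C (aeval r (pderiv i q)) * X i by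
        rw [map_add, map_add, map_add, add_mul], Finset.sum_add_distrib, map_add, map_add]
    ring
  | mul_X p j hp =>
    obtain ⟨Q, hQ⟩ := hp
    refine ⟨(∑ i, MvPolynomial.C (aeval r (pderiv i p)) * X i) * X j +
      Q * (MvPolynomial.C (r j) + MvPolynomial.C t * X j), ?_⟩
    rw [map_mul, hQ, aeval_X, map_mul, aeval_X]
    have hsum : ∑ i, MvPolynomial.C (aeval r (pderiv i (p * X j))) * (X i : MvPolynomial (Fin n) R) =
        MvPolynomial.C (r j) * (∑ i, MvPolynomial.C (aeval r (pderiv i p)) * X i) +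
          MvPolynomial.C (aeval r p) * X j := by
      have hi : ∀ i, MvPolynomial.C (aeval r (pderiv i (p * X j))) * (X i : MvPolynomial (Fin n) R) =
          MvPolynomial.C (r j) * (MvPolynomial.C (aeval r (pderiv i p)) * X i) +
            (if i = j then MvPolynomial.C (aeval r p) * X i else 0) := fun i => by
        rw [pderiv_mul, pderiv_X, map_add, map_mul, map_mul, aeval_X, map_add, map_mul, map_mul, Pi.single_apply]
        by_cases h : i = j
        · subst h; simp; ring
        · rw [if_neg h, if_neg (Ne.symm h)]; simp; ring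
      rw [Finset.sum_congr rfl fun i _ => hi i, Finset.sum_add_distrib, ← Finset.mul_sum,
        Finset.sum_ite_eq' Finset.univ j, if_pos (Finset.mem_univ j)]
    rw [hsum, map_mul MvPolynomial.C]
    simp only [map_pow]
    ring

/-- The data of the explicit desingularization. -/
structure DesingData (R : Type u) [CommRing R] (π : R) where
  n : ℕ
  m : ℕ
  c : ℕ
  hcm : c ≤ m
  rel : Fin m → MvPolynomial (Fin n) R
  r : Fin n → R
  L : Matrix (Fin n) (Fin c) R
  s : R
  cst : Fin m → R
  Q : Fin m → MvPolynomial (Fin n) R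
  hcst : ∀ j, aeval r (rel j) = π ^ 4 * cst j
  hQ : ∀ j, (aeval (fun i => MvPolynomial.C (r i) + MvPolynomial.C (π ^ 3) * X i) (rel j) : MvPolynomial (Fin n) R) =
    MvPolynomial.C (π ^ 4 * cst j) + MvPolynomial.C (π ^ 3) * (∑ i, MvPolynomial.C (aeval r (pderiv i (rel j))) * X i) +
      MvPolynomial.C ((π ^ 3) ^ 2) * Q j
  hL : ∀ j k : Fin c, ∑ i, aeval r (pderiv i (rel (Fin.castLE hcm j))) * L i k = if j = k then π * (1 - π ^ 3 * s) else 0
  hkill : ∀ j, MvPolynomial.C π * rel j ∈
    Ideal.span (rel '' {j' : Fin m | (j' : ℕ) < c}) ⊔ Ideal.span (Set.range rel) ^ 2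

namespace DesingData

variable {R : Type u} [CommRing R] {π : R} (d : DesingData R π)

/-- The unit near `π`. -/
def unitEl : R := 1 - π ^ 3 * d.s

/-- The variables. -/
abbrev Vars : Type := Fin d.n ⊕ Fin d.c

/-- The polynomial ring. -/
abbrev Poly : Type u := MvPolynomial d.Vars R

/-- The substitution. -/
noncomputable def v (i : Fin d.n) : d.Poly :=
  MvPolynomial.C π * X (Sum.inl i) + ∑ k, MvPolynomial.C (d.L i k) * X (Sum.inr k)

/-- The new coordinates. -/
noncomputable def x (i : Fin d.n) : d.Poly := MvPolynomial.C (d.r i) + MvPolynomial.C (π ^ 3) * d.v i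

/-- The new equations. -/
noncomputable def h (j : Fin d.c) : d.Poly :=
  MvPolynomial.C (d.cst (Fin.castLE d.hcm j)) +
    (∑ i, MvPolynomial.C (aeval d.r (pderiv i (d.rel (Fin.castLE d.hcm j)))) * X (Sum.inl i)) +
    MvPolynomial.C d.unitEl * X (Sum.inr j) + MvPolynomial.C (π ^ 2) * aeval d.v (d.Q (Fin.castLE d.hcm j))

/-- The old equations in the new coordinates. -/
noncomputable def F (l : Fin d.m) : d.Poly := aeval d.x (d.rel l)

theorem F_eq (l : Fin d.m) : d.F l =
    MvPolynomial.C (π ^ 4 * d.cst l) +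
      MvPolynomial.C (π ^ 3) * (∑ i, MvPolynomial.C (aeval d.r (pderiv i (d.rel l))) * d.v i) +
        MvPolynomial.C ((π ^ 3) ^ 2) * aeval d.v (d.Q l) := by
  have h1 := congrArg (aeval d.v : MvPolynomial (Fin d.n) R →ₐ[R] d.Poly) (d.hQ l)
  have h2 : (aeval d.v : MvPolynomial (Fin d.n) R →ₐ[R] d.Poly).comp
      (aeval fun i => MvPolynomial.C (d.r i) + MvPolynomial.C (π ^ 3) * X i) = aeval d.x :=
    MvPolynomial.algHom_ext fun i => by
      rw [AlgHom.comp_apply, aeval_X, aeval_X, map_add, map_mul, aeval_X, aeval_C, aeval_C, MvPolynomial.algebraMap_eq]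
      rfl
  have h3 := AlgHom.congr_fun h2 (d.rel l)
  rw [AlgHom.comp_apply] at h3
  rw [F, ← h3, h1]
  simp only [map_add, map_mul, map_sum, aeval_C, aeval_X, MvPolynomial.algebraMap_eq]

theorem F_lead (j : Fin d.c) : d.F (Fin.castLE d.hcm j) = MvPolynomial.C (π ^ 4) * d.h j := by
  classical
  have hlin : ∑ i, MvPolynomial.C (aeval d.r (pderiv i (d.rel (Fin.castLE d.hcm j)))) * d.v i =
      MvPolynomial.C π * (∑ i, MvPolynomial.C (aeval d.r (pderiv i (d.rel (Fin.castLE d.hcm j)))) * X (Sum.inl i)) +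
        MvPolynomial.C π * (MvPolynomial.C d.unitEl * X (Sum.inr j)) := by
    simp only [v, mul_add, Finset.sum_add_distrib, Finset.mul_sum]
    refine congrArg₂ (· + ·) (Finset.sum_congr rfl fun i _ => by ring) ?_
    rw [Finset.sum_comm, Finset.sum_congr rfl fun k _ => show
      ∑ i, MvPolynomial.C (aeval d.r (pderiv i (d.rel (Fin.castLE d.hcm j)))) *
        (MvPolynomial.C (d.L i k) * (X (Sum.inr k) : d.Poly)) =
      (if j = k then MvPolynomial.C (π * d.unitEl) * X (Sum.inr k) else 0) by
        rw [Finset.sum_congr rfl fun i _ => (mul_assoc _ _ _).symm, ← Finset.sum_mul,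
          Finset.sum_congr rfl fun i _ => (map_mul MvPolynomial.C _ _).symm, ← map_sum, d.hL j k]
        split_ifs
        · rfl
        · rw [map_zero, zero_mul],
      Finset.sum_ite_eq Finset.univ j, if_pos (Finset.mem_univ j), map_mul, mul_assoc]
  rw [F_eq, hlin, h]
  simp only [map_mul, map_pow]
  ring

theorem pderiv_h (j k : Fin d.c) : ∃ D : d.Poly, pderiv (Sum.inr k) (d.h j) =
    (if j = k then MvPolynomial.C d.unitEl else 0) + MvPolynomial.C (π ^ 2) * D := by
  classical
  refine ⟨pderiv (Sum.inr k) (aeval d.v (d.Q (Fin.castLE d.hcm j))), ?_⟩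
  rw [h, map_add, map_add, map_add, pderiv_C, pderiv_C_mul, pderiv_C_mul, map_sum,
    Finset.sum_eq_zero fun i _ => by rw [pderiv_C_mul, pderiv_X_of_ne Sum.inl_ne_inr, mul_zero],
    pderiv_X, Pi.single_apply]
  simp only [Sum.inr.injEq, eq_comm]
  split_ifs <;> simp

/-- The Jacobian minor with respect to the new variables. -/
noncomputable def D : d.Poly := (Matrix.of fun k j => pderiv (Sum.inr k) (d.h j)).det

theorem D_notMem {S : Type u} [CommRing S] [Algebra R S] (f : d.Poly →ₐ[R] S) (Q : Ideal S) [Q.IsPrime]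
    (hπ : algebraMap R S π ∈ Q) : f d.D ∉ Q := by
  classical
  intro hD
  let g : d.Poly →+* S ⧸ Q := (Ideal.Quotient.mk Q).comp f.toRingHom
  have hgC : ∀ a : R, g (MvPolynomial.C a) = Ideal.Quotient.mk Q (algebraMap R S a) := fun a => by
    show Ideal.Quotient.mk Q (f (MvPolynomial.C a)) = _
    rw [← MvPolynomial.algebraMap_eq, f.commutes]
  have hgπ : g (MvPolynomial.C π) = 0 := by rw [hgC, Ideal.Quotient.eq_zero_iff_mem]; exact hπ
  have hgu : g (MvPolynomial.C d.unitEl) = 1 := by
    rw [unitEl, map_sub, map_sub, map_mul, map_mul, map_pow, map_pow, hgπ, map_one, map_one, zero_pow three_ne_zero,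
      zero_mul, sub_zero]
  have hM : (Matrix.of fun k j => pderiv (Sum.inr k) (d.h j)).map g = 1 := by
    ext k j
    obtain ⟨E, hE⟩ := d.pderiv_h j k
    rw [Matrix.map_apply, Matrix.of_apply, hE, map_add, map_mul, map_pow, map_pow, hgπ, zero_pow two_ne_zero, zero_mul,
      add_zero, Matrix.one_apply]
    by_cases hjk : j = k
    · rw [if_pos hjk, if_pos hjk.symm, hgu]
    · rw [if_neg hjk, if_neg (Ne.symm hjk), map_zero]
  have h1 : g d.D = 1 := by rw [D, RingHom.map_det, RingHom.mapMatrix_apply, hM, Matrix.det_one]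
  have h2 : g d.D = 0 := Ideal.Quotient.eq_zero_iff_mem.2 hD
  exact (‹Q.IsPrime›.ne_top) (Ideal.eq_top_iff_one Q |>.2 (Ideal.Quotient.eq_zero_iff_mem.1 (by rw [map_one, ← h1, h2])))

/-- The smooth cover. -/
abbrev Cov : Type u := d.Poly ⧸ Ideal.span (Set.range d.h)

theorem isStandardSmooth_cov :
    Algebra.IsStandardSmooth R (Localization.Away (Ideal.Quotient.mkₐ R (Ideal.span (Set.range d.h)) d.D)) := by
  classical
  refine isStandardSmooth_away_jacobian d.h (fun i : Fin d.n => (X (Sum.inl i) : d.Poly)) (Equiv.sumComm _ _)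
    (Ideal.Quotient.mkₐ R _) Ideal.Quotient.mk_surjective (Ideal.mk_ker) d.D ?_
  have hM : (Matrix.of fun a b => pderiv (Equiv.sumComm (Fin d.c) (Fin d.n) a)
      (Sum.elim d.h (fun i : Fin d.n => (X (Sum.inl i) : d.Poly)) b)) =
      Matrix.fromBlocks (Matrix.of fun k j => pderiv (Sum.inr k) (d.h j)) 0
        (Matrix.of fun (i : Fin d.n) (j : Fin d.c) => pderiv (Sum.inl i) (d.h j)) 1 := by
    ext1 a b
    rcases a with k | i <;> rcases b with j | i'
    · rfl
    · show pderiv (Sum.inr k) (X (Sum.inl i')) = 0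
      rw [pderiv_X_of_ne Sum.inl_ne_inr]
    · rfl
    · show pderiv (Sum.inl i) (X (Sum.inl i')) = (1 : Matrix (Fin d.n) (Fin d.n) d.Poly) i i'
      rw [Matrix.one_apply, pderiv_X, Pi.single_apply]
      simp only [Sum.inl.injEq, eq_comm]
  rw [hM, Matrix.det_fromBlocks_zero₁₂, Matrix.det_one, mul_one]
  exact dvd_refl _

/-- The relations of the desingularization. -/
noncomputable def eqs : Fin d.c ⊕ Fin d.m → d.Poly := Sum.elim d.h d.F

/-- The desingularization. -/
abbrev Alg : Type u := d.Poly ⧸ Ideal.span (Set.range d.eqs)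

end DesingData

end TransLib
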