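import Groth.Agent.TransLib.DesingData

/-!
# Smoothness of the desingularization
-/

set_option autoImplicit false

universe u

open MvPolynomial IsLocalRing

namespace TransLib

theorem mul_eq_zero_of_sq {L : Type u} [CommRing L] [IsLocalRing L] (p : L) (hp : p ∈ maximalIdeal L) {ι : Type*}
    [Finite ι] (f g : ι → L) (hg : ∀ i, f i = p ^ 3 * g i) (h : ∀ i, p * f i ∈ Ideal.span (Set.range f) ^ 2) (i : ι) :
    p * f i = 0 := by
  let N : Ideal L := Ideal.span (Set.range fun i => p * f i)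
  have hmul : Ideal.span (Set.range f) ^ 2 ≤ Ideal.span {p ^ 2} * N := by
    rw [sq, Ideal.span_mul_span', Ideal.span_le]
    rintro _ ⟨_, ⟨i, rfl⟩, _, ⟨j, rfl⟩, rfl⟩
    show f i * f j ∈ _
    rw [hg i, show p ^ 3 * g i * f j = p ^ 2 * (g i * (p * f j)) by ring]
    exact Ideal.mul_mem_mul (Ideal.mem_span_singleton_self _) (Ideal.mul_mem_left _ _ (Ideal.subset_span ⟨j, rfl⟩))
  have hle : N ≤ Ideal.span {p ^ 2} • N := Ideal.span_le.2 (by
    rintro _ ⟨i, rfl⟩
    exact hmul (h i))
  have hN : N = ⊥ := Submodule.eq_bot_of_le_smul_of_le_jacobson_bot (Ideal.span {p ^ 2}) N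
    (Submodule.fg_span (Set.finite_range _)) hle (by
      rw [IsLocalRing.jacobson_eq_maximalIdeal _ bot_ne_top]
      exact (Ideal.span_singleton_le_iff_mem _).2 (Ideal.pow_mem_of_mem _ hp 2 two_pos))
  have hmem : p * f i ∈ N := Ideal.subset_span ⟨i, rfl⟩
  rwa [hN, Ideal.mem_bot] at hmem

theorem isSmoothAt_of_surjective {R C B : Type u} [CommRing R] [CommRing C] [Algebra R C] [CommRing B] [Algebra R B]
    (fac : C →ₐ[R] B) (hf : Function.Surjective fac) (Q : Ideal B) [Q.IsPrime]
    (hker : ∀ a : C, fac a = 0 → algebraMap C (Localization.AtPrime (Q.comap fac.toRingHom)) a = 0)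
    (hsm : Algebra.IsSmoothAt R (Q.comap fac.toRingHom)) : Algebra.IsSmoothAt R Q := by
  let q0 : Ideal C := Q.comap fac.toRingHom
  let L := Localization.AtPrime q0
  let LB := Localization.AtPrime Q
  let φ : L →+* LB := Localization.localRingHom q0 Q fac.toRingHom rfl
  have hφmap : ∀ a, φ (algebraMap C L a) = algebraMap B LB (fac a) := fun a =>
    Localization.localRingHom_to_map q0 Q fac.toRingHom rfl a
  have hφinj : Function.Injective φ := by
    rw [injective_iff_map_eq_zero]
    intro y hy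
    obtain ⟨⟨a, s⟩, has⟩ := IsLocalization.surj q0.primeCompl y
    have h1 : algebraMap B LB (fac a) = algebraMap B LB 0 := by
      rw [← hφmap, ← has, map_mul, hy, zero_mul, map_zero]
    obtain ⟨⟨t, ht⟩, ht2⟩ := (IsLocalization.eq_iff_exists Q.primeCompl LB).1 h1
    simp only [mul_zero] at ht2
    obtain ⟨t0, rfl⟩ := hf t
    have h2 : algebraMap C L (t0 * a) = 0 := hker _ (by rw [map_mul]; exact ht2)
    rw [map_mul, (IsLocalization.map_units L (⟨t0, ht⟩ : q0.primeCompl)).mul_right_eq_zero, ← has] at h2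
    exact (IsLocalization.map_units L s).mul_left_eq_zero.1 h2
  have hφsurj : Function.Surjective φ := fun y => by
    obtain ⟨⟨b, ⟨t, ht⟩⟩, hbt⟩ := IsLocalization.surj Q.primeCompl y
    obtain ⟨a, rfl⟩ := hf b
    obtain ⟨t0, rfl⟩ := hf t
    refine ⟨IsLocalization.mk' L a (⟨t0, ht⟩ : q0.primeCompl), ?_⟩
    refine (IsLocalization.map_units LB (⟨fac t0, ht⟩ : Q.primeCompl)).mul_left_inj.1 ?_
    rw [hbt]
    show φ _ * algebraMap B LB (fac t0) = _
    rw [← hφmap, ← map_mul, IsLocalization.mk'_spec, hφmap]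
  let e : L ≃ₐ[R] LB := AlgEquiv.ofBijective
    { φ with
      commutes' := fun a => by
        show φ (algebraMap R L a) = _
        rw [IsScalarTower.algebraMap_apply R C L, hφmap, AlgHom.commutes, ← IsScalarTower.algebraMap_apply] }
    ⟨hφinj, hφsurj⟩
  exact Algebra.FormallySmooth.of_equiv (A := L) (B := LB) e

namespace DesingData

variable {R : Type u} [CommRing R] {π : R} (d : DesingData R π)

theorem mk_F_lead_eq_zero {S : Type u} [CommRing S] [Algebra R S] (f : d.Poly →ₐ[R] S) (hf : ∀ j, f (d.h j) = 0)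
    (j : Fin d.c) : f (d.F (Fin.castLE d.hcm j)) = 0 := by
  rw [F_lead, map_mul, hf, mul_zero]

theorem F_mem {S : Type u} [CommRing S] [Algebra R S] (f : d.Poly →ₐ[R] S) (l : Fin d.m) :
    ∃ g : S, f (d.F l) = algebraMap R S π ^ 3 * g := by
  refine ⟨algebraMap R S (π * d.cst l) + f (∑ i, MvPolynomial.C (aeval d.r (pderiv i (d.rel l))) * d.v i) +
    algebraMap R S π ^ 3 * f (aeval d.v (d.Q l)), ?_⟩
  have hC : ∀ a : R, f (MvPolynomial.C a) = algebraMap R S a := fun a => by
    rw [← MvPolynomial.algebraMap_eq, f.commutes]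
  rw [F_eq, map_add, map_add, hC, map_mul f (MvPolynomial.C (π ^ 3)), map_mul f (MvPolynomial.C ((π ^ 3) ^ 2)), hC, hC]
  simp only [map_mul, map_pow]
  ring

theorem smul_F_mem {S : Type u} [CommRing S] [Algebra R S] (f : d.Poly →ₐ[R] S) (hf : ∀ j, f (d.h j) = 0)
    (l : Fin d.m) :
    algebraMap R S π * f (d.F l) ∈ Ideal.span (Set.range fun l' => f (d.F l')) ^ 2 := by
  let Φ : MvPolynomial (Fin d.n) R →ₐ[R] S := f.comp (aeval d.x)
  have h := Ideal.mem_map_of_mem Φ.toRingHom (d.hkill l)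
  rw [Ideal.map_sup, Ideal.map_pow, Ideal.map_span, Ideal.map_span, ← Set.range_comp] at h
  have hlead : Ideal.span (Φ.toRingHom '' (d.rel '' {j' : Fin d.m | (j' : ℕ) < d.c})) = ⊥ := by
    rw [Ideal.span_eq_bot]
    rintro _ ⟨_, ⟨j', hj', rfl⟩, rfl⟩
    exact d.mk_F_lead_eq_zero f hf ⟨j', hj'⟩
  rw [hlead, bot_sup_eq] at h
  have e1 : Φ.toRingHom (MvPolynomial.C π * d.rel l) = algebraMap R S π * f (d.F l) := by
    show f (aeval d.x (MvPolynomial.C π * d.rel l)) = _
    rw [map_mul, map_mul, aeval_C, f.commutes]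
    rfl
  rw [e1] at h
  exact h

/-- Annihilators behave well on smooth algebras over primes where the hypothesis holds. -/
theorem mul_eq_zero_of_flat {C : Type u} [CommRing C] [Algebra R C] [Module.Flat R C] (r : R)
    (hr : ∀ x : R, π ^ 2 * x = 0 → π * (r * x) = 0) {y : C} (hy : algebraMap R C π ^ 2 * y = 0) :
    algebraMap R C π * (algebraMap R C r * y) = 0 := by
  have h0 : ∑ _i : Fin 1, π ^ 2 • y = 0 := by
    rw [Fin.sum_univ_one, Algebra.smul_def, map_pow, hy]
  obtain ⟨k, a, z, hz, ha⟩ := Module.Flat.isTrivialRelation_of_sum_smul_eq_zero (R := R) (M := C)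
    (f := fun _ : Fin 1 => π ^ 2) (x := fun _ => y) h0
  have hy' : y = ∑ j, a 0 j • z j := hz 0
  rw [hy', Finset.mul_sum, Finset.mul_sum]
  refine Finset.sum_eq_zero fun j _ => ?_
  have hj := ha j
  rw [Fin.sum_univ_one] at hj
  rw [Algebra.smul_def, ← mul_assoc, ← mul_assoc, ← map_mul, ← map_mul, mul_assoc, hr _ hj, map_zero, zero_mul]

theorem F_eq_zero {S : Type u} [CommRing S] [IsLocalRing S] [Algebra R S] (f : d.Poly →ₐ[R] S)
    (hf : ∀ j, f (d.h j) = 0) (hπ : algebraMap R S π ∈ maximalIdeal S)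
    (hann : ∀ y : S, algebraMap R S π ^ 2 * y = 0 → algebraMap R S π * y = 0) (l : Fin d.m) : f (d.F l) = 0 := by
  choose g hg using fun l => d.F_mem f l
  have h1 := mul_eq_zero_of_sq (algebraMap R S π) hπ (fun l => f (d.F l)) g hg (fun l => d.smul_F_mem f hf l) l
  rw [hg l] at h1
  have h2 : algebraMap R S π ^ 2 * (algebraMap R S π ^ 2 * g l) = 0 := by rw [← h1]; ring
  have h3 := hann _ h2
  have h4 : algebraMap R S π ^ 2 * (algebraMap R S π * g l) = 0 := by rw [← h3]; ring
  have h5 := hann _ h4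
  rw [hg l, show algebraMap R S π ^ 3 * g l = algebraMap R S π * (algebraMap R S π * (algebraMap R S π * g l)) by ring,
    h5, mul_zero]

theorem mul_eq_zero_atPrime {C : Type u} [CommRing C] [Algebra R C] (q0 : Ideal C) [q0.IsPrime] (δ : C) (hδ : δ ∉ q0)
    [Algebra.Smooth R (Localization.Away δ)] (r : R) (hr0 : algebraMap R C r ∉ q0)
    (hr : ∀ x : R, π ^ 2 * x = 0 → π * (r * x) = 0) (y : Localization.AtPrime q0)
    (hy : algebraMap R (Localization.AtPrime q0) π ^ 2 * y = 0) :
    algebraMap R (Localization.AtPrime q0) π * y = 0 := by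
  let L := Localization.AtPrime q0
  let Cd := Localization.Away δ
  obtain ⟨⟨a, s⟩, has⟩ := IsLocalization.surj q0.primeCompl y
  have h2 : algebraMap C L (algebraMap R C π ^ 2 * a) = algebraMap C L 0 := by
    rw [map_mul, map_pow, ← IsScalarTower.algebraMap_apply, ← has, ← mul_assoc, hy, zero_mul, map_zero]
  obtain ⟨⟨t, ht⟩, ht2⟩ := (IsLocalization.eq_iff_exists q0.primeCompl L).1 h2
  simp only [mul_zero] at ht2
  have h3 : algebraMap R Cd π ^ 2 * algebraMap C Cd (t * a) = 0 := by
    rw [IsScalarTower.algebraMap_apply R C Cd, ← map_pow, ← map_mul,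
      show algebraMap R C π ^ 2 * (t * a) = t * (algebraMap R C π ^ 2 * a) by ring, ht2, map_zero]
  have h4 := mul_eq_zero_of_flat (C := Cd) r hr h3
  rw [IsScalarTower.algebraMap_apply R C Cd, IsScalarTower.algebraMap_apply R C Cd r, ← map_mul, ← map_mul,
    IsLocalization.map_eq_zero_iff (Submonoid.powers δ)] at h4
  obtain ⟨⟨_, k, rfl⟩, hk⟩ := h4
  have hu : IsUnit (algebraMap C L (δ ^ k)) :=
    IsLocalization.map_units L (⟨δ ^ k, fun h => hδ (‹q0.IsPrime›.mem_of_pow_mem k h)⟩ : q0.primeCompl)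
  have h5 : algebraMap C L (δ ^ k) * (algebraMap C L (algebraMap R C r) * (algebraMap C L t *
      (algebraMap R L π * algebraMap C L a))) = 0 := by
    rw [IsScalarTower.algebraMap_apply R C L, ← map_mul, ← map_mul, ← map_mul, ← map_mul,
      show δ ^ k * (algebraMap R C r * (t * (algebraMap R C π * a))) =
        δ ^ k * (algebraMap R C π * (algebraMap R C r * (t * a))) by ring, show δ ^ k * _ = (0 : C) from hk, map_zero]
  rw [hu.mul_right_eq_zero, (IsLocalization.map_units L (⟨_, hr0⟩ : q0.primeCompl)).mul_right_eq_zero,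
    (IsLocalization.map_units L (⟨t, ht⟩ : q0.primeCompl)).mul_right_eq_zero, ← has, ← mul_assoc] at h5
  exact (IsLocalization.map_units L s).mul_left_eq_zero.1 h5

variable [IsNoetherianRing R]

/-- The desingularization is smooth at primes containing `π` but avoiding `r`. -/
theorem isSmoothAt_of_mem (r : R) (hr : ∀ x : R, π ^ 2 * x = 0 → π * (r * x) = 0) (Q : Ideal d.Alg) [Q.IsPrime]
    (hπ : algebraMap R d.Alg π ∈ Q) (hrQ : algebraMap R d.Alg r ∉ Q) : Algebra.IsSmoothAt R Q := by
  classical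
  have hle : Ideal.span (Set.range d.h) ≤ Ideal.span (Set.range d.eqs) :=
    Ideal.span_mono (by rintro _ ⟨j, rfl⟩; exact ⟨Sum.inl j, rfl⟩)
  let fac : d.Cov →ₐ[R] d.Alg := Ideal.Quotient.factorₐ R hle
  let q0 : Ideal d.Cov := Q.comap fac.toRingHom
  let L := Localization.AtPrime q0
  let mkC : d.Poly →ₐ[R] d.Cov := Ideal.Quotient.mkₐ R _
  let fL : d.Poly →ₐ[R] L := (IsScalarTower.toAlgHom R d.Cov L).comp mkC
  have hfh : ∀ j, fL (d.h j) = 0 := fun j => by
    show algebraMap d.Cov L (Ideal.Quotient.mk _ (d.h j)) = 0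
    rw [(Ideal.Quotient.eq_zero_iff_mem (I := Ideal.span (Set.range d.h))).2 (Ideal.subset_span (Set.mem_range_self j)),
      map_zero]
  have hπ0 : algebraMap R d.Cov π ∈ q0 := by
    show fac (algebraMap R d.Cov π) ∈ Q
    rw [AlgHom.commutes]; exact hπ
  have hr0 : algebraMap R d.Cov r ∉ q0 := fun h => hrQ (by
    have h' : fac (algebraMap R d.Cov r) ∈ Q := h
    rwa [AlgHom.commutes] at h')
  let δ := mkC d.D
  have hδ : δ ∉ q0 := d.D_notMem mkC q0 hπ0
  have hstd : Algebra.IsStandardSmooth R (Localization.Away δ) := d.isStandardSmooth_cov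
  have hsm0 : Algebra.IsSmoothAt R q0 := by
    have : Algebra.FinitePresentation R d.Cov :=
      Algebra.FinitePresentation.quotient (Submodule.fg_span (Set.finite_range d.h))
    exact (Algebra.basicOpen_subset_smoothLocus_iff_smooth.2 (inferInstance : Algebra.Smooth R (Localization.Away δ)))
      (show (⟨q0, inferInstance⟩ : PrimeSpectrum d.Cov) ∈ PrimeSpectrum.basicOpen δ from hδ)
  have hunit : ∀ a : d.Cov, a ∉ q0 → IsUnit (algebraMap d.Cov L a) := fun a ha =>
    IsLocalization.map_units L (⟨a, ha⟩ : q0.primeCompl)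
  have hann : ∀ y : L, algebraMap R L π ^ 2 * y = 0 → algebraMap R L π * y = 0 :=
    mul_eq_zero_atPrime q0 δ hδ r hr0 hr
  -- the extra equations die in the local ring
  have hmaxπ : algebraMap R L π ∈ maximalIdeal L := by
    rw [IsScalarTower.algebraMap_apply R d.Cov L]
    exact (IsLocalization.AtPrime.to_map_mem_maximal_iff L q0 _).2 hπ0
  have hFzero : ∀ l, fL (d.F l) = 0 := d.F_eq_zero (S := L) fL hfh hmaxπ hann
  exact isSmoothAt_of_surjective fac (Ideal.Quotient.factor_surjective hle) Q (fun a ha => by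
    obtain ⟨p, rfl⟩ := Ideal.Quotient.mk_surjective a
    have hkill : Ideal.span (Set.range d.eqs) ≤ RingHom.ker fL.toRingHom := Ideal.span_le.2 (by
      rintro _ ⟨j | l, rfl⟩
      · exact hfh j
      · exact hFzero l)
    exact hkill (Ideal.Quotient.eq_zero_iff_mem.1 ha)) hsm0

end DesingData

end TransLib
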