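import Groth.Agent.TransLib.GeomTest
import Groth.Agent.TransLib.GeomFlat
import Groth.Agent.TransLib.ArtinColim
import Groth.Agent.AlgSpLib.SrcRing
import Groth.Agent.CohenLib.FSOmega

/-!
# A regular model of an Artinian truncation
-/

set_option autoImplicit false

universe u

open IsLocalRing TensorProduct MvPolynomial

namespace TransLib

/-- Polynomials vanishing at the point given by residues. -/
noncomputable def residueVanishing (k : Type u) {L ι : Type u} [CommRing k] [CommRing L] [IsLocalRing L] [Algebra k L]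
    (v : ι → L) : Ideal (MvPolynomial ι k) :=
  RingHom.ker ((residue L).comp (aeval v).toRingHom)

instance residueVanishing_isPrime (k : Type u) {L ι : Type u} [CommRing k] [CommRing L] [IsLocalRing L] [Algebra k L]
    (v : ι → L) : (residueVanishing k v).IsPrime :=
  RingHom.ker_isPrime _

theorem mem_residueVanishing {k L ι : Type u} [CommRing k] [CommRing L] [IsLocalRing L] [Algebra k L] (v : ι → L)
    (G : MvPolynomial ι k) : G ∈ residueVanishing k v ↔ residue L (aeval v G) = 0 := Iff.rfl

theorem isUnit_aeval_of_notMem {k L ι : Type u} [CommRing k] [CommRing L] [IsLocalRing L] [Algebra k L] (v : ι → L)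
    (y : (residueVanishing k v).primeCompl) : IsUnit (aeval v (y : MvPolynomial ι k)) :=
  (residue_ne_zero_iff_isUnit _).1 y.2

/-- The evaluation map on the local ring at the point. -/
noncomputable def residueLocHom (k : Type u) {L ι : Type u} [CommRing k] [CommRing L] [IsLocalRing L] [Algebra k L]
    (v : ι → L) : Localization.AtPrime (residueVanishing k v) →ₐ[k] L :=
  IsLocalization.liftAlgHom (M := (residueVanishing k v).primeCompl) (f := aeval v) (isUnit_aeval_of_notMem v)

theorem residueLocHom_algebraMap {k L ι : Type u} [CommRing k] [CommRing L] [IsLocalRing L] [Algebra k L]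
    (v : ι → L) (G : MvPolynomial ι k) :
    residueLocHom k v (algebraMap _ (Localization.AtPrime (residueVanishing k v)) G) = aeval v G :=
  IsLocalization.lift_eq (M := (residueVanishing k v).primeCompl) (isUnit_aeval_of_notMem v) G

theorem derivation_aeval {k B M ι : Type u} [CommRing k] [CommRing B] [Algebra k B] [AddCommGroup M] [Module k M]
    [Module B M] [IsScalarTower k B M] [Fintype ι] (D : Derivation k B M) (c : ι → B) (G : MvPolynomial ι k) :
    D (aeval c G) = ∑ i, aeval c (pderiv i G) • D (c i) := by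
  classical
  induction G using MvPolynomial.induction_on with
  | C a => simp
  | add p q hp hq => simp only [map_add, hp, hq, add_smul, Finset.sum_add_distrib]
  | mul_X p j hp =>
    have key : ∀ i, aeval c (pderiv i (p * X j)) • D (c i) =
        c j • (aeval c (pderiv i p) • D (c i)) + if i = j then aeval c p • D (c i) else 0 := fun i => by
      rw [pderiv_mul, map_add, map_mul, map_mul, aeval_X, add_smul, mul_comm (aeval c (pderiv i p)), mul_smul]
      congr 1
      rcases eq_or_ne i j with rfl | hij
      · simp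
      · rw [pderiv_X_of_ne (Ne.symm hij), map_zero, mul_zero, zero_smul, if_neg hij]
    rw [Finset.sum_congr rfl fun i _ => key i, Finset.sum_add_distrib, ← Finset.smul_sum, ← hp,
      Finset.sum_ite_eq' Finset.univ j, if_pos (Finset.mem_univ j), map_mul, aeval_X, D.leibniz, add_comm]

/-- Coordinates whose residues form a differential basis. -/
theorem exists_coordinates {k A₀ : Type u} [Field k] [CommRing A₀] [IsLocalRing A₀] [Algebra k A₀]
    [Algebra.EssFiniteType k A₀] :
    ∃ (ι : Type u) (_ : Fintype ι) (c : ι → A₀),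
      Submodule.span (ResidueField A₀) (Set.range fun i => KaehlerDifferential.D k (ResidueField A₀) (residue A₀ (c i))) = ⊤ ∧
      ∀ G : MvPolynomial ι k, residue A₀ (aeval c G) = 0 → ∀ i, residue A₀ (aeval c (pderiv i G)) = 0 := by
  classical
  have : Algebra.EssFiniteType k (ResidueField A₀) := Algebra.EssFiniteType.comp k A₀ _
  let d := KaehlerDifferential.D k (ResidueField A₀)
  let s : Set Ω[ResidueField A₀⁄k] := Set.range fun a : A₀ => d (residue A₀ a)
  have hs : ⊤ ≤ Submodule.span (ResidueField A₀) s := by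
    rw [← KaehlerDifferential.span_range_derivation k (ResidueField A₀)]
    refine Submodule.span_mono ?_
    rintro _ ⟨a, rfl⟩
    obtain ⟨a, rfl⟩ := residue_surjective a
    exact ⟨a, rfl⟩
  let b := Module.Basis.ofSpan hs
  choose c hc using fun j => Module.Basis.ofSpan_subset hs ⟨j, rfl⟩
  have := Module.Finite.finite_basis b
  refine ⟨_, Fintype.ofFinite _, c, ?_, fun G hG i => ?_⟩
  · rw [show (fun i => d (residue A₀ (c i))) = b from funext hc]
    exact b.span_eq
  · letI := Fintype.ofFinite
    have h0 : ∀ G, aeval (fun j => residue A₀ (c j)) G = residue A₀ (aeval c G) := fun G =>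
      (MvPolynomial.comp_aeval_apply (f := c) (IsScalarTower.toAlgHom k A₀ (ResidueField A₀)) G).symm
    have h1 := derivation_aeval d (fun j => residue A₀ (c j)) G
    rw [h0, hG, map_zero] at h1
    have h2 := Fintype.linearIndependent_iff.1 b.linearIndependent _ (by
      rw [h1]
      exact Finset.sum_congr rfl fun j _ => by rw [show d (residue A₀ (c j)) = b j from hc j]) i
    rw [← h0]
    exact h2

/-- Extending coordinates to parameters. -/
theorem exists_params {k L ι : Type u} [Field k] [CommRing L] [IsRegularLocalRing L] [Algebra k L] [Fintype ι]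
    (hL : CohenLib.LiftsAdic k L) {d : ℕ} (hdim : ringKrullDim L = d) (v : ι → L)
    (hv : ∀ G ∈ residueVanishing k v, ∀ i, residue L (aeval v (pderiv i G)) = 0)
    (T : Set L) (hT : Ideal.span T = maximalIdeal L) :
    ∃ (ι' : Type u) (_ : Fintype ι') (x : ι' → L) (_ : ∀ j, x j ∈ T)
      (F : Fin d → MvPolynomial (ι ⊕ ι') k),
      Ideal.span (Set.range fun i => algebraMap _ (Localization.AtPrime (residueVanishing k (Sum.elim v x))) (F i)) =
        maximalIdeal (Localization.AtPrime (residueVanishing k (Sum.elim v x))) ∧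
      Ideal.span (Set.range fun i => aeval (Sum.elim v x) (F i)) = maximalIdeal L := by
  classical
  let K := ResidueField L
  let p := residueVanishing k v
  let R := Localization.AtPrime p
  let toR := fun (G : p) => (maximalIdeal R).toCotangent
    ⟨algebraMap _ R G.1, (IsLocalization.AtPrime.to_map_mem_maximal_iff _ p _).2 G.2⟩
  have hR : (⊤ : Submodule (ResidueField R) (CotangentSpace R)) ≤ Submodule.span (ResidueField R) (Set.range toR) := by
    rintro z -
    obtain ⟨⟨z, hz⟩, rfl⟩ := Ideal.toCotangent_surjective _ z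
    obtain ⟨G, s, rfl⟩ := IsLocalization.exists_mk'_eq p.primeCompl z
    have hG : G ∈ p := by
      by_contra hG
      exact (mem_maximalIdeal _).1 hz ((IsLocalization.AtPrime.isUnit_mk'_iff R p G s).2 hG)
    have hm : (⟨IsLocalization.mk' R G s, hz⟩ : maximalIdeal R) =
        IsLocalization.mk' R (1 : MvPolynomial ι k) s •
          ⟨algebraMap _ R G, (IsLocalization.AtPrime.to_map_mem_maximal_iff _ p _).2 hG⟩ := by
      refine Subtype.ext ?_
      exact (IsLocalization.mk'_eq_mul_mk'_one (S := R) G s).trans (mul_comm _ _)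
    rw [hm, map_smul, ← IsScalarTower.algebraMap_smul (ResidueField R)]
    exact Submodule.smul_mem _ _ (Submodule.subset_span ⟨⟨G, hG⟩, rfl⟩)
  obtain ⟨n, b, hb⟩ : ∃ (n : Type u) (b : Module.Basis n (ResidueField R) (CotangentSpace R)),
      ∀ j, ∃ G, toR G = b j :=
    ⟨_, Module.Basis.ofSpan hR, fun j => Module.Basis.ofSpan_subset hR ⟨j, rfl⟩⟩
  choose G hG using hb
  have := Module.Finite.finite_basis b
  letI := Fintype.ofFinite
  have hbspan : Ideal.span (Set.range fun j => algebraMap _ R (G j).1) = maximalIdeal R := by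
    have h : Submodule.span (ResidueField R) (Set.range fun j => toR (G j)) = ⊤ :=
      (congrArg (fun f => Submodule.span (ResidueField R) (Set.range f)) (funext hG)).trans b.span_eq
    have h2 := (CotangentSpace.span_image_eq_top_iff (R := R)
      (s := Set.range fun j => (⟨algebraMap _ R (G j).1, (IsLocalization.AtPrime.to_map_mem_maximal_iff _ p _).2 (G j).2⟩ :
        maximalIdeal R))).1 (by rw [← Set.range_comp]; exact h)
    have h3 := congrArg (Submodule.map (maximalIdeal R).subtype) h2
    rw [Submodule.map_span, ← Set.range_comp, Submodule.map_top, Submodule.range_subtype] at h3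
    exact h3
  have hmem : ∀ j, aeval v (G j).1 ∈ maximalIdeal L := fun j => (residue_eq_zero_iff _).1 (G j).2
  let f : _ → CotangentSpace L := fun j => (maximalIdeal L).toCotangent ⟨aeval v (G j).1, hmem j⟩
  have hf : LinearIndependent K f := by
    rw [Fintype.linearIndependent_iff]
    intro g hg l
    choose c hc using fun j => residue_surjective (g j)
    have h := linearIndependent_mod_sq hL v p (mem_residueVanishing v) hv (fun j => (G j).1) (fun j => (G j).2)
      (by rw [show _ = (b : _ → CotangentSpace R) from funext hG]; exact b.linearIndependent) c ?_ l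
    · rw [← hc, residue_eq_zero_iff]; exact h
    · have h0 : (maximalIdeal L).toCotangent (∑ j, c j • ⟨aeval v (G j).1, hmem j⟩) = 0 := by
        rw [map_sum, ← hg]
        refine Finset.sum_congr rfl fun j _ => ?_
        rw [map_smul, ← hc j]
        exact (IsScalarTower.algebraMap_smul K (c j) (f j)).symm
      rw [Ideal.toCotangent_eq_zero, Submodule.coe_sum] at h0
      exact h0
  have hTm : ∀ t : T, (t : L) ∈ maximalIdeal L := fun t => hT ▸ Ideal.subset_span t.2
  let S : Set (CotangentSpace L) := Set.range fun t : T => (maximalIdeal L).toCotangent ⟨t.1, hTm t⟩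
  have hS : Submodule.span K S = ⊤ := by
    show Submodule.span K (Set.range ((maximalIdeal L).toCotangent ∘ fun t : T => (⟨t.1, hTm t⟩ : maximalIdeal L))) = ⊤
    rw [Set.range_comp, CotangentSpace.span_image_eq_top_iff]
    refine Submodule.map_injective_of_injective (maximalIdeal L).injective_subtype ?_
    rw [Submodule.map_span, ← Set.range_comp, Submodule.map_top, Submodule.range_subtype]
    refine Eq.trans ?_ hT
    exact congrArg (Submodule.span L) Subtype.range_coe
  obtain ⟨B, hBt, hsB, hspanB, hindB⟩ := exists_linearIndepOn_extension (v := id) hf.linearIndepOn_id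
    (Set.subset_union_left (t := S))
  have hBtop : Submodule.span K B = ⊤ := by
    rw [eq_top_iff, ← hS]
    refine Submodule.span_le.2 fun z hz => ?_
    have := hspanB ⟨z, Or.inr hz, rfl⟩
    rwa [Set.image_id] at this
  let bB := Module.Basis.mk (v := fun z : B => z.1) hindB (by rw [Subtype.range_coe, hBtop])
  have hBfin : Finite B := Module.Finite.finite_basis bB
  let ι' := {z : B // z.1 ∉ Set.range f}
  have hι' : ∀ j : ι', ∃ t : T, (maximalIdeal L).toCotangent ⟨t.1, hTm t⟩ = j.1.1 := fun j =>
    (hBt j.1.2).resolve_left j.2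
  choose t ht using hι'
  letI : Fintype ι' := Fintype.ofFinite _
  let x : ι' → L := fun j => (t j).1
  let v' := Sum.elim v x
  let F' : n ⊕ ι' → MvPolynomial (ι ⊕ ι') k := Sum.elim (fun j => rename Sum.inl (G j).1) fun j => X (Sum.inr j)
  let toB : n ⊕ ι' → B := Sum.elim (fun j => ⟨f j, hsB ⟨j, rfl⟩⟩) fun j => j.1
  have htoB : Function.Bijective toB := by
    refine ⟨?_, fun z => ?_⟩
    · rintro (i | i) (j | j) h <;> simp only [toB, Sum.elim_inl, Sum.elim_inr] at h
      · exact congrArg Sum.inl (hf.injective (congrArg Subtype.val h))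
      · exact absurd ⟨i, congrArg Subtype.val h⟩ j.2
      · exact absurd ⟨j, (congrArg Subtype.val h).symm⟩ i.2
      · exact congrArg Sum.inr (Subtype.ext h)
    · by_cases hz : z.1 ∈ Set.range f
      · obtain ⟨j, hj⟩ := hz
        exact ⟨Sum.inl j, Subtype.ext hj⟩
      · exact ⟨Sum.inr ⟨z, hz⟩, rfl⟩
  have hcard : Nat.card (n ⊕ ι') = d := by
    have h1 := (IsRegularLocalRing.iff_finrank_cotangentSpace L).1 inferInstance
    rw [hdim] at h1
    rw [Nat.card_congr (Equiv.ofBijective toB htoB), ← Module.finrank_eq_nat_card_basis bB]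
    exact_mod_cast h1
  obtain ⟨e⟩ : Nonempty (Fin d ≃ n ⊕ ι') := ⟨(Finite.equivFinOfCardEq hcard).symm⟩
  have hval : ∀ w, aeval v' (F' w) = Sum.elim (fun j => aeval v (G j).1) x w := fun w => by
    rcases w with j | j
    · show aeval v' (rename Sum.inl (G j).1) = _
      rw [aeval_rename]; rfl
    · exact aeval_X _ _
  have hF' : ∀ w, F' w ∈ residueVanishing k v' := fun w => by
    rw [mem_residueVanishing, hval, residue_eq_zero_iff]
    rcases w with j | j
    exacts [hmem j, hTm (t j)]
  refine ⟨ι', inferInstance, x, fun j => (t j).2, fun i => F' (e i), ?_, ?_⟩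
  · let p' := residueVanishing k v'
    let R' := Localization.AtPrime p'
    show Ideal.span (Set.range ((fun w => algebraMap _ R' (F' w)) ∘ e)) = maximalIdeal R'
    rw [e.surjective.range_comp]
    let I := Ideal.span (Set.range F')
    have hI : ∀ H : MvPolynomial (ι ⊕ ι') k,
        H - rename Sum.inl (aeval (Sum.elim X fun _ => (0 : MvPolynomial ι k)) H) ∈ I := fun H => by
      induction H using MvPolynomial.induction_on with
      | C a => simp
      | add p q hp hq => rw [map_add, map_add, add_sub_add_comm]; exact add_mem hp hq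
      | mul_X p w hp =>
        rw [map_mul, map_mul, aeval_X]
        rcases w with i | j
        · rw [Sum.elim_inl, rename_X, ← sub_mul]
          exact Ideal.mul_mem_right _ _ hp
        · rw [Sum.elim_inr, map_zero, mul_zero, sub_zero]
          exact Ideal.mul_mem_left _ _ (Ideal.subset_span ⟨Sum.inr j, rfl⟩)
    refine le_antisymm (Ideal.span_le.2 ?_) ?_
    · rintro _ ⟨w, rfl⟩
      exact (IsLocalization.AtPrime.to_map_mem_maximal_iff _ p' _).2 (hF' w)
    · rw [← Localization.AtPrime.map_eq_maximalIdeal, Ideal.map_le_iff_le_comap]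
      intro H hH
      rw [Ideal.mem_comap]
      rw [show Set.range (fun w => algebraMap _ R' (F' w)) = algebraMap _ R' '' Set.range F' from
        Set.range_comp _ _, ← Ideal.map_span]
      have hres : ∀ H : MvPolynomial (ι ⊕ ι') k,
          residue L (aeval v' H) = residue L (aeval v (aeval (Sum.elim X fun _ => (0 : MvPolynomial ι k)) H)) := fun H => by
        have hIp : I ≤ p' := Ideal.span_le.2 (by rintro _ ⟨w, rfl⟩; exact hF' w)
        have h := hIp (hI H)
        rw [mem_residueVanishing, map_sub, map_sub, aeval_rename, sub_eq_zero] at h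
        exact h
      have hH0 : aeval (Sum.elim X fun _ => (0 : MvPolynomial ι k)) H ∈ p := (hres H).symm.trans hH
      have h1 : algebraMap _ R (aeval (Sum.elim X fun _ => (0 : MvPolynomial ι k)) H) ∈
          (Ideal.span (Set.range fun j => (G j).1)).map (algebraMap _ R) := by
        rw [Ideal.map_span, ← Set.range_comp, Function.comp_def, hbspan]
        exact (IsLocalization.AtPrime.to_map_mem_maximal_iff _ p _).2 hH0
      obtain ⟨u, hu, huH⟩ := (IsLocalization.algebraMap_mem_map_algebraMap_iff p.primeCompl R _ _).1 h1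
      refine (IsLocalization.algebraMap_mem_map_algebraMap_iff p'.primeCompl R' _ _).2 ⟨rename Sum.inl u, fun h => hu ?_, ?_⟩
      · show residue L (aeval v u) = 0
        replace h : residue L (aeval v' (rename Sum.inl u)) = 0 := h
        rw [aeval_rename] at h
        exact h
      · rw [show rename Sum.inl u * H = rename Sum.inl u * (H - rename Sum.inl (aeval (Sum.elim X fun _ => (0 : MvPolynomial ι k)) H)) +
          rename Sum.inl (u * aeval (Sum.elim X fun _ => (0 : MvPolynomial ι k)) H) by rw [map_mul]; ring]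
        refine add_mem (Ideal.mul_mem_left _ _ (hI H)) ?_
        have h2 := Ideal.mem_map_of_mem (rename (Sum.inl : ι → ι ⊕ ι') : MvPolynomial ι k →ₐ[k] _) huH
        rw [Ideal.map_span, ← Set.range_comp] at h2
        exact Ideal.span_mono (by rintro _ ⟨j, rfl⟩; exact ⟨Sum.inl j, rfl⟩) h2
  · show Ideal.span (Set.range ((fun w => aeval v' (F' w)) ∘ e)) = maximalIdeal L
    rw [e.surjective.range_comp]
    have hm : ∀ w, aeval v' (F' w) ∈ maximalIdeal L := fun w => (residue_eq_zero_iff _).1 (hF' w)
    have h := (CotangentSpace.span_image_eq_top_iff (R := L)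
      (s := Set.range fun w => (⟨aeval v' (F' w), hm w⟩ : maximalIdeal L))).1 ?_
    · have h3 := congrArg (Submodule.map (maximalIdeal L).subtype) h
      rw [Submodule.map_span, ← Set.range_comp, Submodule.map_top, Submodule.range_subtype] at h3
      exact h3
    · rw [eq_top_iff, ← hBtop]
      refine Submodule.span_mono fun z hz => ?_
      obtain ⟨w, hw⟩ := htoB.2 ⟨z, hz⟩
      refine ⟨⟨aeval v' (F' w), hm w⟩, ⟨w, rfl⟩, ?_⟩
      rw [show z = (toB w).1 from (congrArg Subtype.val hw).symm]
      rcases w with j | j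
      · exact congrArg _ (Subtype.ext (hval (Sum.inl j)))
      · exact (congrArg _ (Subtype.ext (hval (Sum.inr j)))).trans (ht j)

theorem fg_ker_of_surjective {k A K : Type u} [Field k] [CommRing A] [IsLocalRing A] [IsNoetherianRing A]
    [Algebra k A] [Field K] [Algebra A K] [Algebra k K] [IsScalarTower k A K] (hK : Function.Surjective (algebraMap A K))
    (h : CohenLib.LiftsAdic k A) :
    (LinearMap.ker (KaehlerDifferential.mapBaseChange ℤ k K)).FG := by
  classical
  have hm : RingHom.ker (algebraMap A K) = maximalIdeal A :=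
    eq_maximalIdeal (RingHom.ker_isMaximal_of_surjective _ hK)
  let eK : ResidueField A ≃ₗ[A] K :=
    (Submodule.quotEquivOfEq (maximalIdeal A) (LinearMap.ker (Algebra.linearMap A K)) hm.symm).trans
      ((Algebra.linearMap A K).quotKerEquivOfSurjective hK)
  let ι := AlgebraTensorModule.cancelBaseChange k A K K Ω[k⁄ℤ]
  let u := KaehlerDifferential.mapBaseChange ℤ k A
  let f : K ⊗[k] Ω[k⁄ℤ] →ₗ[K] K ⊗[A] Ω[A⁄ℤ] := (u.baseChange K).comp ι.symm.toLinearMap
  have hnat : ∀ z, (u.lTensor K) (eK.toLinearMap.rTensor _ z) = eK.toLinearMap.rTensor _ ((u.lTensor (ResidueField A)) z) :=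
    fun z => LinearMap.congr_fun (show (u.lTensor K).comp (eK.toLinearMap.rTensor _) =
      (eK.toLinearMap.rTensor _).comp (u.lTensor (ResidueField A)) by
        rw [LinearMap.lTensor_comp_rTensor, LinearMap.rTensor_comp_lTensor]) z
  have hinj : Function.Injective (u.lTensor K) := fun a b hab => by
    obtain ⟨a, rfl⟩ := (LinearEquiv.rTensor (A ⊗[k] Ω[k⁄ℤ]) eK).surjective a
    obtain ⟨b, rfl⟩ := (LinearEquiv.rTensor (A ⊗[k] Ω[k⁄ℤ]) eK).surjective b
    refine congrArg _ (h.injective_lTensor ((LinearEquiv.rTensor Ω[A⁄ℤ] eK).injective ?_))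
    exact (hnat a).symm.trans (hab.trans (hnat b))
  have hf : Function.Injective f := fun x y hxy => ι.symm.injective (hinj hxy)
  let g := KaehlerDifferential.mapBaseChange ℤ A K
  have hgf : ∀ z, g (f z) = KaehlerDifferential.mapBaseChange ℤ k K z := fun z => by
    induction z using TensorProduct.induction_on with
    | zero => simp
    | add x y hx hy => rw [map_add, map_add, map_add, hx, hy]
    | tmul a w =>
      have hw : w ∈ Submodule.span k (Set.range (KaehlerDifferential.D ℤ k)) := by
        rw [KaehlerDifferential.span_range_derivation]; trivial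
      induction hw using Submodule.span_induction generalizing a with
      | mem y hy =>
        obtain ⟨c, rfl⟩ := hy
        simp only [f, g, ι, u, LinearMap.comp_apply, LinearEquiv.coe_coe, AlgebraTensorModule.cancelBaseChange_symm_tmul,
          LinearMap.baseChange_tmul, KaehlerDifferential.mapBaseChange_tmul, KaehlerDifferential.map_D, one_smul]
        rw [← IsScalarTower.algebraMap_apply]
      | zero => simp
      | add x y _ _ hx hy => rw [TensorProduct.tmul_add, map_add, map_add, map_add, hx, hy]
      | smul c x _ hx =>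
        rw [← TensorProduct.smul_tmul]
        exact hx (c • a)
  have : Module.Finite A (RingHom.ker (algebraMap A K)).Cotangent :=
    have : Module.Finite A (RingHom.ker (algebraMap A K)) := Module.IsNoetherian.finite A _
    Module.Finite.of_surjective _ (Ideal.toCotangent_surjective _)
  obtain ⟨t, ht⟩ := (Module.Finite.fg_top : (⊤ : Submodule A (RingHom.ker (algebraMap A K)).Cotangent).FG)
  let c := KaehlerDifferential.kerCotangentToTensor ℤ A K
  let Z : Submodule K (K ⊗[A] Ω[A⁄ℤ]) := Submodule.span K (c '' (t : Set _))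
  have hker : ∀ x, g x = 0 → x ∈ Z := fun x hx => by
    obtain ⟨y, rfl⟩ := (KaehlerDifferential.exact_kerCotangentToTensor_mapBaseChange ℤ A K hK x).1 hx
    have hy : y ∈ Submodule.span A (t : Set _) := ht ▸ Submodule.mem_top
    exact (Submodule.map_le_iff_le_comap (f := c) (p := Submodule.span A (t : Set _)) (q := Z.restrictScalars A)).1
      (by rw [Submodule.map_span]; exact Submodule.span_le_restrictScalars A K _) hy
  have hZ : Module.Finite K Z := Module.Finite.span_of_finite K (t.finite_toSet.image c)
  have : IsNoetherian K Z := isNoetherian_of_isNoetherianRing_of_finite K Z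
  refine Submodule.fg_iff_finiteDimensional _ |>.2 ?_
  exact Module.Finite.of_injective (f.restrict (p := LinearMap.ker (KaehlerDifferential.mapBaseChange ℤ k K)) (q := Z)
    fun z hz => hker _ ((hgf z).trans hz)) fun a b hab => Subtype.ext (hf (congrArg Subtype.val hab))

theorem isLocalHom_residueLocHom {k L ι : Type u} [CommRing k] [CommRing L] [IsLocalRing L] [Algebra k L]
    (v : ι → L) : IsLocalHom (residueLocHom k v).toRingHom := ⟨fun y hy => by
  by_contra hny
  obtain ⟨G, s, rfl⟩ := IsLocalization.exists_mk'_eq (residueVanishing k v).primeCompl y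
  refine (mem_nonunits_iff.1 ((mem_maximalIdeal _).1 ((residue_eq_zero_iff (aeval v G)).1 ?_))) ?_
  · by_contra hG
    exact hny ((IsLocalization.AtPrime.isUnit_mk'_iff _ _ G s).2 hG)
  · have h := hy.mul (isUnit_aeval_of_notMem v s)
    rw [← residueLocHom_algebraMap v G, ← IsLocalization.mk'_spec (Localization.AtPrime (residueVanishing k v)) G s,
      map_mul, residueLocHom_algebraMap]
    exact h⟩

/-- An étale algebra over a truncated base mapping onto a given finite set of a truncated local ring. -/
structure EtaleTrunc {R L : Type u} [CommRing R] [IsLocalRing R] [CommRing L] [IsLocalRing L] (ρ : R →+* L) (N : ℕ)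
    (E : Finset (L ⧸ maximalIdeal L ^ N)) where
  carrier : Type u
  [commRing : CommRing carrier]
  [algebra : Algebra (R ⧸ maximalIdeal R ^ N) carrier]
  [finite : Module.Finite (R ⧸ maximalIdeal R ^ N) carrier]
  [etale : Algebra.Etale (R ⧸ maximalIdeal R ^ N) carrier]
  toTrunc : carrier →+* L ⧸ maximalIdeal L ^ N
  compat : ∀ x, toTrunc (algebraMap (R ⧸ maximalIdeal R ^ N) carrier (Ideal.Quotient.mk _ x)) =
    Ideal.Quotient.mk _ (ρ x)
  mem_range : ∀ z ∈ E, z ∈ Set.range toTrunc

attribute [instance] EtaleTrunc.commRing EtaleTrunc.algebra EtaleTrunc.finite EtaleTrunc.etale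

theorem mem_of_mk_mem_map {L : Type u} [CommRing L] {J m : Ideal L} (hJ : J ≤ m) {z : L}
    (h : Ideal.Quotient.mk J z ∈ m.map (Ideal.Quotient.mk J)) : z ∈ m := by
  have : z ∈ (m.map (Ideal.Quotient.mk J)).comap (Ideal.Quotient.mk J) := h
  rwa [Ideal.comap_map_of_surjective _ Ideal.Quotient.mk_surjective, ← RingHom.ker_eq_comap_bot, Ideal.mk_ker,
    sup_eq_left.2 hJ] at this

theorem map_mk_maximalIdeal {L : Type u} [CommRing L] [IsLocalRing L] (J : Ideal L) (hJ : J ≤ maximalIdeal L)
    [IsLocalRing (L ⧸ J)] : (maximalIdeal L).map (Ideal.Quotient.mk J) = maximalIdeal (L ⧸ J) :=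
  eq_maximalIdeal ((Ideal.map_eq_top_or_isMaximal_of_surjective (Ideal.Quotient.mk J) Ideal.Quotient.mk_surjective
    (maximalIdeal.isMaximal L)).resolve_left fun h => (maximalIdeal.isMaximal L).ne_top
      ((Ideal.eq_top_iff_one _).2 (mem_of_mk_mem_map hJ (h ▸ Submodule.mem_top))))

theorem isLocalRing_quotient_pow (L : Type u) [CommRing L] [IsLocalRing L] (N : ℕ) (hN : 0 < N) :
    IsLocalRing (L ⧸ maximalIdeal L ^ N) := by
  have : Nontrivial (L ⧸ maximalIdeal L ^ N) := Ideal.Quotient.nontrivial_iff.2 fun h =>
    (maximalIdeal.isMaximal L).ne_top (top_le_iff.1 (h ▸ Ideal.pow_le_self (Nat.pos_iff_ne_zero.1 hN)))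
  exact .of_surjective' _ Ideal.Quotient.mk_surjective

/-- An Artinian subalgebra through which a regular model maps unramifiedly is étale over its truncation. -/
theorem nonempty_etaleTrunc {k R L : Type u} [Field k] [CommRing R] [IsRegularLocalRing R] [Algebra k R] [CommRing L]
    [IsRegularLocalRing L] [Algebra k L] (ρ : R →ₐ[k] L) [IsLocalHom ρ.toRingHom] {d : ℕ} (hdim : ringKrullDim L = d)
    (F : Fin d → R) (hF : Ideal.span (Set.range F) = maximalIdeal R)
    (hFL : Ideal.span (Set.range fun i => ρ (F i)) = maximalIdeal L) (N : ℕ) (hN : 0 < N)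
    [IsLocalRing (L ⧸ maximalIdeal L ^ N)]
    {A₀ : Type u} [CommRing A₀] [IsLocalRing A₀] [Algebra k A₀] [Algebra.EssFiniteType k A₀]
    [Algebra A₀ (L ⧸ maximalIdeal L ^ N)] [Module.Flat A₀ (L ⧸ maximalIdeal L ^ N)]
    (hinj : Function.Injective (algebraMap A₀ (L ⧸ maximalIdeal L ^ N)))
    (hmap : (maximalIdeal A₀).map (algebraMap A₀ (L ⧸ maximalIdeal L ^ N)) = maximalIdeal (L ⧸ maximalIdeal L ^ N))
    (ψ : R →ₐ[k] A₀) (hψ : ∀ r, algebraMap A₀ (L ⧸ maximalIdeal L ^ N) (ψ r) = Ideal.Quotient.mk _ (ρ r))
    {ι : Type u} (c : ι → A₀) (r : ι → R) (hc : ∀ i, residue A₀ (ψ (r i)) = residue A₀ (c i))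
    (hcspan : Submodule.span (ResidueField A₀)
      (Set.range fun i => KaehlerDifferential.D k (ResidueField A₀) (residue A₀ (c i))) = ⊤)
    (E : Finset (L ⧸ maximalIdeal L ^ N)) (hE : ∀ z ∈ E, z ∈ Set.range (algebraMap A₀ (L ⧸ maximalIdeal L ^ N))) :
    Nonempty (EtaleTrunc ρ.toRingHom N E) := by
  classical
  let Λ := L ⧸ maximalIdeal L ^ N
  let mk := Ideal.Quotient.mk (maximalIdeal L ^ N)
  have hle : maximalIdeal L ^ N ≤ maximalIdeal L := Ideal.pow_le_self (by omega)
  have hmkm : (maximalIdeal L).map mk = maximalIdeal Λ := map_mk_maximalIdeal _ hle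
  have hloc : IsLocalHom (algebraMap A₀ Λ) := ((local_hom_TFAE (algebraMap A₀ Λ)).out 0 2 rfl rfl).2 hmap.le
  letI algR : Algebra R L := ρ.toRingHom.toAlgebra
  haveI : IsLocalHom (algebraMap R L) := ‹IsLocalHom ρ.toRingHom›
  obtain ⟨-, hflatL⟩ := flat_of_regular_params (A := R) (B := L) hdim F hF hFL
  have hmeq : (maximalIdeal R).map (algebraMap R L) = maximalIdeal L := by
    rw [← hF, Ideal.map_span, ← Set.range_comp, ← hFL]
    rfl
  let I := maximalIdeal R ^ N
  let P := R ⧸ I
  have hIeq : I.map (algebraMap R L) = maximalIdeal L ^ N := by rw [Ideal.map_pow, hmeq]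
  have hkill : ∀ x ∈ I, ψ x = 0 := fun x hx => hinj (by
    rw [hψ, map_zero, Ideal.Quotient.eq_zero_iff_mem, ← hIeq]
    exact Ideal.mem_map_of_mem _ hx)
  letI algP : Algebra P A₀ := (Ideal.Quotient.lift I ψ.toRingHom hkill).toAlgebra
  have hcompat : ∀ x, algebraMap A₀ Λ (algebraMap P A₀ (Ideal.Quotient.mk I x)) = mk (ρ x) := hψ
  letI algPΛ : Algebra P Λ := ((algebraMap A₀ Λ).comp (algebraMap P A₀)).toAlgebra
  haveI : IsScalarTower P A₀ Λ := IsScalarTower.of_algebraMap_eq fun _ => rfl
  have : Module.Flat P Λ := by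
    have h := CatLib.flat_quotient (A := R) (B := L) I
    let eL : (L ⧸ I.map (algebraMap R L)) ≃ₗ[P] Λ :=
      { Ideal.quotEquivOfEq hIeq with
        map_smul' := fun x z => by
          obtain ⟨x, rfl⟩ := Ideal.Quotient.mk_surjective x
          obtain ⟨z, rfl⟩ := Ideal.Quotient.mk_surjective z
          show mk (ρ x * z) = algebraMap A₀ Λ (algebraMap P A₀ (Ideal.Quotient.mk I x)) * mk z
          rw [hcompat, map_mul] }
    exact Module.Flat.of_linearEquiv eL.symm
  have : Module.FaithfullyFlat A₀ Λ := Module.FaithfullyFlat.of_flat_of_isLocalHom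
  have : Module.Flat P A₀ := AlgSpLib.flat_of_faithfullyFlat_comp P A₀ Λ
  have : IsLocalRing P := isLocalRing_quotient_pow R N hN
  have hmP : (maximalIdeal R).map (Ideal.Quotient.mk I) = maximalIdeal P :=
    map_mk_maximalIdeal _ (Ideal.pow_le_self (by omega))
  have hPA : (maximalIdeal P).map (algebraMap P A₀) = maximalIdeal A₀ := by
    rw [← Ideal.comap_map_eq_self_of_faithfullyFlat (B := Λ) ((maximalIdeal P).map (algebraMap P A₀)),
      ← Ideal.comap_map_eq_self_of_faithfullyFlat (B := Λ) (maximalIdeal A₀), hmap, ← hmP, Ideal.map_map, Ideal.map_map]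
    congr 1
    rw [show ((algebraMap A₀ Λ).comp (algebraMap P A₀)).comp (Ideal.Quotient.mk I) = mk.comp (algebraMap R L) from
      RingHom.ext hcompat, ← Ideal.map_map, hmeq, hmkm]
  have : IsLocalHom (algebraMap P A₀) := ((local_hom_TFAE (algebraMap P A₀)).out 0 2 rfl rfl).2 hPA.le
  haveI : IsScalarTower k P A₀ := IsScalarTower.of_algebraMap_eq fun a => (ψ.commutes a).symm
  have : Algebra.EssFiniteType P A₀ := Algebra.EssFiniteType.of_comp k P A₀
  have : Algebra.EssFiniteType k (ResidueField A₀) := Algebra.EssFiniteType.comp k A₀ _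
  have : Algebra.EssFiniteType (ResidueField P) (ResidueField A₀) := Algebra.EssFiniteType.of_comp k _ _
  have hsub : Subsingleton Ω[ResidueField A₀⁄ResidueField P] := by
    let D' := (KaehlerDifferential.D (ResidueField P) (ResidueField A₀)).restrictScalars k
    have h0 : D'.liftKaehlerDifferential = 0 := LinearMap.ext_on hcspan (by
      rintro _ ⟨i, rfl⟩
      rw [Derivation.liftKaehlerDifferential_comp_D, LinearMap.zero_apply]
      show KaehlerDifferential.D (ResidueField P) (ResidueField A₀) (residue A₀ (c i)) = 0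
      rw [← hc i, show residue A₀ (ψ (r i)) =
        algebraMap (ResidueField P) (ResidueField A₀) (residue P (Ideal.Quotient.mk I (r i))) from rfl,
        Derivation.map_algebraMap])
    refine subsingleton_of_forall_eq 0 fun z => ?_
    have hz : z ∈ Submodule.span (ResidueField A₀) (Set.range (KaehlerDifferential.D (ResidueField P) (ResidueField A₀))) := by
      rw [KaehlerDifferential.span_range_derivation]; trivial
    induction hz using Submodule.span_induction with
    | mem y hy =>
      obtain ⟨a, rfl⟩ := hy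
      have h1 := LinearMap.congr_fun h0 (KaehlerDifferential.D k (ResidueField A₀) a)
      rwa [Derivation.liftKaehlerDifferential_comp_D, LinearMap.zero_apply] at h1
    | zero => rfl
    | add a b _ _ ha hb => rw [ha, hb, add_zero]
    | smul a b _ hb => rw [hb, smul_zero]
  have : Algebra.FormallyUnramified (ResidueField P) (ResidueField A₀) := ⟨hsub⟩
  have hsep : Algebra.IsSeparable (ResidueField P) (ResidueField A₀) := Algebra.FormallyUnramified.isSeparable _ _
  have : Algebra.FormallyUnramified P A₀ := Algebra.FormallyUnramified.iff_map_maximalIdeal_eq.2 ⟨hsep, hPA⟩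
  have : Module.Free P A₀ :=
    CohenLib.free_of_flat_of_nilpotent ⟨N, by rw [← hmP, ← Ideal.map_pow]; exact Ideal.map_quotient_self _⟩
  have : Module.Finite P A₀ := Algebra.FormallyUnramified.finite_of_free P A₀
  have : Algebra.FinitePresentation P A₀ := Algebra.FinitePresentation.of_finiteType.1 inferInstance
  have : Algebra.Etale P A₀ := Algebra.Etale.of_formallyUnramified_of_flat
  exact ⟨{ carrier := A₀, algebra := algP, toTrunc := algebraMap A₀ Λ, compat := hcompat, mem_range := hE }⟩

/-- A regular model with an étale algebra containing finitely many elements of the truncation. -/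
theorem exists_base {k L : Type u} [Field k] [CommRing L] [IsRegularLocalRing L] [Algebra k L]
    (hL : CohenLib.LiftsAdic k L) {d : ℕ} (hdim : ringKrullDim L = d) (N : ℕ) (hN : 2 ≤ N)
    (E : Finset (L ⧸ maximalIdeal L ^ N)) :
    ∃ (ι : Type u) (_ : Fintype ι) (v : ι → L) (F : Fin d → Localization.AtPrime (residueVanishing k v)),
      Ideal.span (Set.range F) = maximalIdeal (Localization.AtPrime (residueVanishing k v)) ∧
      Ideal.span (Set.range fun i => residueLocHom k v (F i)) = maximalIdeal L ∧
      Nonempty (EtaleTrunc (residueLocHom k v).toRingHom N E) := by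
  classical
  let Λ := L ⧸ maximalIdeal L ^ N
  have hle : maximalIdeal L ^ N ≤ maximalIdeal L := Ideal.pow_le_self (by omega)
  have : IsLocalRing Λ := isLocalRing_quotient_pow L N (by omega)
  let mk := Ideal.Quotient.mk (maximalIdeal L ^ N)
  have hmkm : (maximalIdeal L).map mk = maximalIdeal Λ := map_mk_maximalIdeal _ hle
  have hnil : maximalIdeal Λ ^ N = ⊥ := by rw [← hmkm, ← Ideal.map_pow, Ideal.map_quotient_self]
  have hmem : ∀ z : L, mk z ∈ maximalIdeal Λ ↔ z ∈ maximalIdeal L := fun z => by
    rw [← hmkm]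
    exact ⟨fun h => mem_of_mk_mem_map hle h, fun h => Ideal.mem_map_of_mem _ h⟩
  have : Ring.KrullDimLE 0 Λ := Ring.KrullDimLE.mk₀ fun P hP => by
    have : maximalIdeal Λ ≤ P := fun x hx => hP.mem_of_pow_mem N (by
      rw [(Ideal.mem_bot.1 (hnil ▸ Ideal.pow_mem_pow hx N) : x ^ N = 0)]; exact zero_mem _)
    rw [← (maximalIdeal.isMaximal Λ).eq_of_le hP.ne_top this]
    exact maximalIdeal.isMaximal Λ
  have : IsArtinianRing Λ := isArtinianRing_iff_isNoetherianRing_krullDimLE_zero.2 ⟨inferInstance, inferInstance⟩
  obtain ⟨A₀, _, hE, hArt, hflat, hess, hmap⟩ := exists_artinian_subalgebra (k := k) (Λ := Λ)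
    (fg_ker_of_surjective (A := L) (K := ResidueField Λ) (residue_surjective.comp Ideal.Quotient.mk_surjective) hL) E
  have hloc : IsLocalHom (algebraMap A₀ Λ) := ((local_hom_TFAE (algebraMap A₀ Λ)).out 0 2 rfl rfl).2 hmap.le
  have hA₀ : ∀ z : A₀, residue A₀ z = 0 ↔ algebraMap A₀ Λ z ∈ maximalIdeal Λ := fun z => by
    rw [residue_eq_zero_iff, mem_maximalIdeal, mem_maximalIdeal, mem_nonunits_iff, mem_nonunits_iff,
      isUnit_map_iff (algebraMap A₀ Λ)]
  obtain ⟨ιy, _, c, hcspan, hcd⟩ := exists_coordinates (k := k) (A₀ := A₀)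
  choose vy hvy using fun i => Ideal.Quotient.mk_surjective (algebraMap A₀ Λ (c i))
  have hlink : ∀ G : MvPolynomial ιy k, algebraMap A₀ Λ (aeval c G) = mk (aeval vy G) := fun G =>
    AlgHom.congr_fun (show (IsScalarTower.toAlgHom k A₀ Λ).comp (aeval c) =
      (Ideal.Quotient.mkₐ k (maximalIdeal L ^ N)).comp (aeval vy) from MvPolynomial.algHom_ext fun i => by
        show algebraMap A₀ Λ (aeval c (X i)) = mk (aeval vy (X i))
        rw [aeval_X, aeval_X]; exact (hvy i).symm) G
  have hres : ∀ G : MvPolynomial ιy k, residue A₀ (aeval c G) = 0 ↔ residue L (aeval vy G) = 0 := fun G => by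
    rw [hA₀, hlink, hmem, residue_eq_zero_iff]
  let T : Set L := {z | ∃ y : A₀, y ∈ maximalIdeal A₀ ∧ algebraMap A₀ Λ y = mk z}
  have hT : Ideal.span T = maximalIdeal L := by
    have h1 : Ideal.span T ≤ maximalIdeal L := Ideal.span_le.2 fun z hz => by
      obtain ⟨y, hy, hyz⟩ := hz
      exact (hmem z).1 (hyz ▸ hmap ▸ Ideal.mem_map_of_mem _ hy)
    have h2 : maximalIdeal L ≤ Ideal.span T ⊔ maximalIdeal L ^ N := fun z hz => by
      have h3 : maximalIdeal Λ ≤ (Ideal.span T).map mk := by
        rw [← hmap, Ideal.map_le_iff_le_comap]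
        intro y hy
        obtain ⟨z, hz⟩ := Ideal.Quotient.mk_surjective (algebraMap A₀ Λ y)
        rw [Ideal.mem_comap, ← hz]
        exact Ideal.mem_map_of_mem mk (Ideal.subset_span ⟨y, hy, hz.symm⟩)
      have h4 : z ∈ ((Ideal.span T).map mk).comap mk := h3 ((hmem z).2 hz)
      rwa [Ideal.comap_map_of_surjective mk Ideal.Quotient.mk_surjective, ← RingHom.ker_eq_comap_bot, Ideal.mk_ker] at h4
    refine le_antisymm h1 ?_
    refine Submodule.le_of_le_smul_of_le_jacobson_bot (I := maximalIdeal L) (IsNoetherian.noetherian _)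
      (by rw [jacobson_eq_maximalIdeal _ bot_ne_top]) (h2.trans (sup_le_sup_left ?_ _))
    rw [smul_eq_mul, ← pow_two]
    exact Ideal.pow_le_pow_right hN
  obtain ⟨ι', _, x, hx, F, hF, hFL⟩ := exists_params hL hdim vy
    (fun G hG i => (hres _).1 (hcd G ((hres G).2 hG) i)) T hT
  choose cx hcxm hcx using hx
  let v := Sum.elim vy x
  let R := Localization.AtPrime (residueVanishing k v)
  let c' := Sum.elim c cx
  have hlink' : ∀ G : MvPolynomial (ιy ⊕ ι') k, algebraMap A₀ Λ (aeval c' G) = mk (aeval v G) := fun G =>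
    AlgHom.congr_fun (show (IsScalarTower.toAlgHom k A₀ Λ).comp (aeval c') =
      (Ideal.Quotient.mkₐ k (maximalIdeal L ^ N)).comp (aeval v) from MvPolynomial.algHom_ext fun i => by
        show algebraMap A₀ Λ (aeval c' (X i)) = mk (aeval v (X i))
        rw [aeval_X, aeval_X]
        rcases i with i | i
        exacts [(hvy i).symm, hcx i]) G
  have hu : ∀ y : (residueVanishing k v).primeCompl, IsUnit (aeval c' (y : MvPolynomial (ιy ⊕ ι') k)) := fun y => by
    refine (residue_ne_zero_iff_isUnit _).1 fun h => y.2 ?_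
    rw [hA₀, hlink', hmem, ← residue_eq_zero_iff] at h
    exact h
  let ψ : R →ₐ[k] A₀ := IsLocalization.liftAlgHom (M := (residueVanishing k v).primeCompl) (f := aeval c') hu
  have hψa : ∀ G, ψ (algebraMap _ R G) = aeval c' G := fun G => IsLocalization.lift_eq _ G
  have hψ : ∀ r, algebraMap A₀ Λ (ψ r) = mk (residueLocHom k v r) := by
    intro r
    refine RingHom.congr_fun (IsLocalization.ringHom_ext (residueVanishing k v).primeCompl
      (j := (algebraMap A₀ Λ).comp ψ.toRingHom) (k := mk.comp (residueLocHom k v).toRingHom) (RingHom.ext fun G => ?_)) r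
    show algebraMap A₀ Λ (ψ (algebraMap _ R G)) = mk (residueLocHom k v (algebraMap _ R G))
    rw [residueLocHom_algebraMap, hψa]
    exact hlink' G
  haveI := isLocalHom_residueLocHom (k := k) v
  have hFL' : Ideal.span (Set.range fun i => residueLocHom k v (algebraMap _ R (F i))) = maximalIdeal L := by
    rw [← hFL]
    exact congrArg Ideal.span (congrArg Set.range (funext fun i => residueLocHom_algebraMap v (F i)))
  exact ⟨_, inferInstance, v, fun i => algebraMap _ R (F i), hF, hFL',
    nonempty_etaleTrunc (residueLocHom k v) hdim _ hF hFL' N (by omega) (A₀ := A₀) Subtype.val_injective hmap ψ hψ c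
      (fun i => algebraMap _ R (X (Sum.inl i))) (fun i => by rw [hψa, aeval_X]; rfl) hcspan E
      fun z hz => ⟨⟨z, hE hz⟩, rfl⟩⟩

end TransLib
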