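import Groth.Agent.TransLib.GeomPoly
import Mathlib.RingTheory.RegularLocalRing.Polynomial
import Mathlib.RingTheory.Smooth.StandardSmooth

/-!
# Parameters with annihilator conditions after polynomial extensions
-/

set_option autoImplicit false

universe u

open IsLocalRing Polynomial

namespace TransLib

/-- The ideal of powers of the earlier members of a family. -/
def prevIdeal {R : Type u} [CommRing R] {d : ℕ} (π : Fin d → R) (e : ℕ) (j : Fin d) : Ideal R :=
  Ideal.span (Set.range fun l : {l : Fin d // (l : ℕ) < (j : ℕ)} => π l ^ e)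

theorem prevIdeal_congr {R : Type u} [CommRing R] {d : ℕ} {π π' : Fin d → R} (e : ℕ) (j : Fin d)
    (h : ∀ l : Fin d, (l : ℕ) < (j : ℕ) → π l = π' l) : prevIdeal π e j = prevIdeal π' e j := by
  unfold prevIdeal
  exact congrArg Ideal.span (congrArg Set.range (funext fun l => by rw [h l l.2]))

theorem map_prevIdeal {R R' : Type u} [CommRing R] [CommRing R'] (f : R →+* R') {d : ℕ} (π : Fin d → R) (e : ℕ)
    (j : Fin d) : (prevIdeal π e j).map f = prevIdeal (fun l => f (π l)) e j := by
  rw [prevIdeal, prevIdeal, Ideal.map_span, ← Set.range_comp]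
  simp only [Function.comp_def, map_pow]

/-- The annihilator condition on the first `i` members. -/
def SqCond {R : Type u} [CommRing R] {d : ℕ} (π : Fin d → R) (e i : ℕ) : Prop :=
  ∀ j : Fin d, (j : ℕ) < i → ∀ x, π j ^ 2 * x ∈ prevIdeal π e j → π j * x ∈ prevIdeal π e j

/-- A regular base mapping to an extension of the target with matched parameters. -/
structure Stage {k R₁ Λ₁ : Type u} [Field k] [CommRing R₁] [Algebra k R₁] [CommRing Λ₁] [Algebra k Λ₁]
    (f₁ : R₁ →+* Λ₁) (q₁ : Ideal Λ₁) (d : ℕ) where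
  base : Type u
  [commRingBase : CommRing base]
  [algebraBase : Algebra k base]
  [noetherianBase : IsNoetherianRing base]
  [regularBase : IsRegularRing base]
  [finitePresentationBase : Algebra.FinitePresentation k base]
  [formallySmoothBase : Algebra.FormallySmooth k base]
  tgt : Type u
  [commRingTgt : CommRing tgt]
  [algebraTgt : Algebra k tgt]
  [noetherianTgt : IsNoetherianRing tgt]
  [algebraBaseTgt : Algebra base tgt]
  [towerTgt : IsScalarTower k base tgt]
  q : Ideal tgt
  [isPrime : q.IsPrime]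
  baseHom : R₁ →ₐ[k] base
  tgtHom : Λ₁ →ₐ[k] tgt
  comm : ∀ x, algebraMap base tgt (baseHom x) = tgtHom (f₁ x)
  comap_eq : q.comap tgtHom.toRingHom = q₁
  descends : Descends tgtHom q₁ q
  infinite_quotient : Infinite (tgt ⧸ q)
  regular : IsRegularLocalRing (Localization.AtPrime q)
  dim : ringKrullDim (Localization.AtPrime q) = d
  param : Fin d → base
  span_base : Ideal.span (Set.range fun j => algebraMap base (Localization.AtPrime (q.comap (algebraMap base tgt))) (param j)) =
    maximalIdeal (Localization.AtPrime (q.comap (algebraMap base tgt)))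
  span_tgt : Ideal.span (Set.range fun j => algebraMap tgt (Localization.AtPrime q) (algebraMap base tgt (param j))) =
    maximalIdeal (Localization.AtPrime q)

attribute [instance] Stage.commRingBase Stage.algebraBase Stage.noetherianBase Stage.regularBase
  Stage.finitePresentationBase Stage.formallySmoothBase Stage.commRingTgt Stage.algebraTgt Stage.noetherianTgt
  Stage.algebraBaseTgt Stage.towerTgt Stage.isPrime Stage.regular

/-- What is known after treating the first `i` parameters. -/
structure Stage.Good {k R₁ Λ₁ : Type u} [Field k] [CommRing R₁] [Algebra k R₁] [CommRing Λ₁] [Algebra k Λ₁]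
    {f₁ : R₁ →+* Λ₁} {q₁ : Ideal Λ₁} {d : ℕ} (st : Stage (k := k) f₁ q₁ d) (F : Fin d → R₁) (S : Ideal Λ₁)
    (n e i : ℕ) : Prop where
  sq_base : SqCond st.param e i
  sq_tgt : SqCond (fun j => algebraMap st.base st.tgt (st.param j)) e i
  pow_mem : ∀ j : Fin d, (j : ℕ) < i → algebraMap st.base st.tgt (st.param j) ^ n ∈ S.map st.tgtHom
  later : ∀ j : Fin d, i ≤ (j : ℕ) → st.param j = st.baseHom (F j)

/-- Choice of the two multipliers. -/
theorem exists_multipliers {R Λ : Type u} [CommRing R] [IsNoetherianRing R] [IsRegularRing R] [CommRing Λ]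
    [IsNoetherianRing Λ] [Algebra R Λ] (q : Ideal Λ) [q.IsPrime] [IsRegularLocalRing (Localization.AtPrime q)]
    {d : ℕ} (hd : ringKrullDim (Localization.AtPrime q) = d) (π : Fin d → R)
    (hR : Ideal.span (Set.range fun j => algebraMap R (Localization.AtPrime (q.comap (algebraMap R Λ))) (π j)) =
      maximalIdeal (Localization.AtPrime (q.comap (algebraMap R Λ))))
    (hΛ : Ideal.span (Set.range fun j => algebraMap Λ (Localization.AtPrime q) (algebraMap R Λ (π j))) =
      maximalIdeal (Localization.AtPrime q))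
    (e : ℕ) (he : 0 < e) (i : Fin d) (T : Ideal Λ) (n : ℕ) (hn : 0 < n) (t : Λ) (ht : t ∉ q)
    (htT : t * algebraMap R Λ (π i) ^ n ∈ T) :
    ∃ (r : R) (u : Λ), algebraMap R Λ r ∉ q ∧ u ∉ q ∧
      (∀ x, (r * π i) ^ 2 * x ∈ prevIdeal π e i → r * π i * x ∈ prevIdeal π e i) ∧
      (∀ x, (u * algebraMap R Λ (r * π i)) ^ 2 * x ∈ prevIdeal (fun j => algebraMap R Λ (π j)) e i →
        u * algebraMap R Λ (r * π i) * x ∈ prevIdeal (fun j => algebraMap R Λ (π j)) e i) ∧
      (u * algebraMap R Λ (r * π i)) ^ n ∈ T := by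
  let p := q.comap (algebraMap R Λ)
  let Rp := Localization.AtPrime p
  let L := Localization.AtPrime q
  letI : Algebra Rp L := (Localization.localRingHom p q (algebraMap R Λ) rfl).toAlgebra
  haveI : IsLocalHom (algebraMap Rp L) := Localization.isLocalHom_localRingHom p q (algebraMap R Λ) rfl
  have hloc : ∀ x, algebraMap Rp L (algebraMap R Rp x) = algebraMap Λ L (algebraMap R Λ x) := fun x =>
    Localization.localRingHom_to_map p q (algebraMap R Λ) rfl x
  obtain ⟨hdp, -⟩ := flat_of_regular_params (A := Rp) (B := L) hd (fun j => algebraMap R Rp (π j)) hR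
    (by rw [← hΛ]; exact congrArg Ideal.span (congrArg Set.range (funext fun j => hloc (π j))))
  obtain ⟨r, hr, hrc⟩ := exists_mul_regular_mod p (prevIdeal π e i) (π i) fun c hc => by
    rw [prevIdeal, map_span_pow_eq (algebraMap R Rp) π e i] at hc ⊢
    exact regular_mod_powers hdp _ hR e he i c hc
  let b := t * algebraMap R Λ (r * π i)
  obtain ⟨s, hs, hsc⟩ := exists_mul_regular_mod q (prevIdeal (fun j => algebraMap R Λ (π j)) e i) b fun c hc => by
    rw [prevIdeal, map_span_pow_eq (algebraMap Λ L) (fun j => algebraMap R Λ (π j)) e i] at hc ⊢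
    have hu : IsUnit (algebraMap Λ L (t * algebraMap R Λ r)) :=
      IsLocalization.map_units L (⟨t * algebraMap R Λ r, fun h => (‹q.IsPrime›.mem_or_mem h).elim ht hr⟩ : q.primeCompl)
    refine (Ideal.unit_mul_mem_iff_mem _ hu).1 (regular_mod_powers hd _ hΛ e he i _ ?_)
    rw [← mul_assoc, ← map_mul,
      show algebraMap R Λ (π i) * (t * algebraMap R Λ r) = b from by simp only [b, map_mul]; ring]
    exact hc
  refine ⟨r, s * t, hr, fun h => (‹q.IsPrime›.mem_or_mem h).elim hs ht, hrc, fun x hx => ?_, ?_⟩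
  · rw [mul_assoc s] at hx ⊢
    exact hsc x hx
  · rw [map_mul, show s * t * (algebraMap R Λ r * algebraMap R Λ (π i)) =
      s * algebraMap R Λ r * (t * algebraMap R Λ (π i)) by ring, mul_pow]
    refine Ideal.mul_mem_left _ _ ?_
    rw [mul_pow, ← Nat.sub_add_cancel hn, pow_succ t, mul_assoc, Nat.sub_add_cancel hn]
    exact Ideal.mul_mem_left _ _ htT

/-- One more parameter. -/
theorem exists_stage_succ {k R₁ Λ₁ : Type u} [Field k] [CommRing R₁] [Algebra k R₁] [CommRing Λ₁] [Algebra k Λ₁]
    {f₁ : R₁ →+* Λ₁} {q₁ : Ideal Λ₁} {d : ℕ} (st : Stage (k := k) f₁ q₁ d) (F : Fin d → R₁) (S : Ideal Λ₁) (n e i : ℕ)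
    (hi : i < d) (he : 0 < e) (hn : 0 < n) (ht : ∃ t ∉ q₁, t * f₁ (F ⟨i, hi⟩) ^ n ∈ S)
    (hst : st.Good F S n e i) : ∃ st' : Stage (k := k) f₁ q₁ d, st'.Good F S n e (i + 1) := by
  classical
  let R := st.base
  let Λ := st.tgt
  let q := st.q
  let a := algebraMap R Λ
  let i₀ : Fin d := ⟨i, hi⟩
  obtain ⟨t, ht, htS⟩ := ht
  have htq : st.tgtHom t ∉ q := fun h => ht (st.comap_eq ▸ h)
  have htT : st.tgtHom t * a (st.param i₀) ^ n ∈ S.map st.tgtHom := by
    rw [hst.later i₀ le_rfl, show a (st.baseHom (F i₀)) = st.tgtHom (f₁ (F i₀)) from st.comm _, ← map_pow, ← map_mul]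
    exact Ideal.mem_map_of_mem _ htS
  obtain ⟨r, u, hr, hu, hcR, hcΛ, hcT⟩ := exists_multipliers q st.dim st.param st.span_base st.span_tgt e he i₀
    (S.map st.tgtHom) n hn _ htq htT
  let a' : R[X] →+* Λ[X] := scaleHom a u
  letI algX : Algebra R[X] Λ[X] := a'.toAlgebra
  haveI : IsScalarTower k R[X] Λ[X] := IsScalarTower.of_algebraMap_eq fun c => by
    show _ = scaleHom a u (algebraMap k R[X] c)
    rw [Polynomial.algebraMap_apply, Polynomial.algebraMap_apply, scaleHom_C]
    exact congrArg C (IsScalarTower.algebraMap_apply k R Λ c)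
  let q' : Ideal Λ[X] := q.map C
  have hp' : q'.comap a' = (q.comap a).map C := comap_scaleHom a q u hu
  let π' : Fin d → R[X] := Function.update (fun j => C (st.param j)) i₀ (X * C (r * st.param i₀))
  have hπ'self : π' i₀ = X * C (r * st.param i₀) := Function.update_self _ _ _
  have hπ'ne : ∀ j, j ≠ i₀ → π' j = C (st.param j) := fun j hj => Function.update_of_ne hj _ _
  have haπne : ∀ j, j ≠ i₀ → a' (π' j) = C (a (st.param j)) := fun j hj => by
    rw [hπ'ne j hj]; exact scaleHom_C _ _ _
  have haπself : a' (π' i₀) = X * C (u * a (r * st.param i₀)) := by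
    show scaleHom a u (π' i₀) = _
    rw [hπ'self, map_mul, scaleHom_X, scaleHom_C, map_mul (C : Λ →+* Λ[X])]
    ring
  obtain ⟨hregX, hdimX, -⟩ := regular_dim_map_C q st.dim
  have hwX : (X : R[X]) * C r ∉ q'.comap a' := by
    rw [hp']
    exact fun h => (Ideal.isPrime_map_C_of_isPrime.mem_or_mem h).elim (X_notMem_map_C _)
      fun h' => hr (by rwa [← Ideal.mem_comap, comap_map_C] at h')
  have hspanB : Ideal.span (Set.range fun j => algebraMap R[X] (Localization.AtPrime (q'.comap a')) (π' j)) =
      maximalIdeal (Localization.AtPrime (q'.comap a')) := by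
    refine span_extend C (q.comap a) (q'.comap a') ?_ hp' st.param st.span_base π' fun j => ?_
    · rw [hp', comap_map_C]
    · rcases eq_or_ne j i₀ with rfl | hj
      · exact ⟨X * C r, hwX, by rw [hπ'self, map_mul]; ring⟩
      · exact ⟨1, fun h => (q'.comap a').ne_top_iff_one.1 Ideal.IsPrime.ne_top' h, by rw [hπ'ne j hj, one_mul]⟩
  have hspanT : Ideal.span (Set.range fun j => algebraMap Λ[X] (Localization.AtPrime q') (a' (π' j))) =
      maximalIdeal (Localization.AtPrime q') := by
    refine span_extend C q q' (comap_map_C q).symm rfl (fun j => a (st.param j)) st.span_tgt (fun j => a' (π' j))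
      fun j => ?_
    rcases eq_or_ne j i₀ with rfl | hj
    · refine ⟨X * C (u * a r), fun h => (Ideal.isPrime_map_C_of_isPrime.mem_or_mem h).elim (X_notMem_map_C _)
        fun h' => ?_, ?_⟩
      · rw [← Ideal.mem_comap, comap_map_C] at h'
        exact (st.isPrime.mem_or_mem h').elim hu hr
      · show a' (π' i₀) = _
        rw [haπself, map_mul a, ← mul_assoc u, map_mul (C : Λ →+* Λ[X]) (u * a r)]
        ring
    · exact ⟨1, fun h => q'.ne_top_iff_one.1 Ideal.IsPrime.ne_top' h, (haπne j hj).trans (one_mul _).symm⟩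
  have : Algebra.FormallySmooth k R[X] := Algebra.FormallySmooth.comp k R R[X]
  let st' : Stage (k := k) f₁ q₁ d :=
    { base := R[X]
      tgt := Λ[X]
      q := q'
      baseHom := (constHom k R).comp st.baseHom
      tgtHom := (constHom k Λ).comp st.tgtHom
      comm := fun x => by
        show scaleHom a u (C (st.baseHom x)) = C (st.tgtHom (f₁ x))
        rw [scaleHom_C, show a (st.baseHom x) = _ from st.comm x]
      comap_eq := by
        rw [show ((constHom k Λ).comp st.tgtHom).toRingHom = (C : Λ →+* Λ[X]).comp st.tgtHom.toRingHom from rfl,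
          ← Ideal.comap_comap, comap_map_C]
        exact st.comap_eq
      descends := st.descends.trans (descends_constHom q st.infinite_quotient)
      infinite_quotient := infinite_quotient_map_C q st.infinite_quotient
      regular := hregX
      dim := hdimX
      param := π'
      span_base := hspanB
      span_tgt := hspanT }
  have hprev : ∀ j : Fin d, (j : ℕ) < i + 1 → prevIdeal π' e j = (prevIdeal st.param e j).map C := fun j hj => by
    rw [map_prevIdeal]
    exact prevIdeal_congr e j fun l hl => hπ'ne l fun h => by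
      have := congrArg Fin.val h
      simp only [i₀] at this
      omega
  have hprevT : ∀ j : Fin d, (j : ℕ) < i + 1 →
      prevIdeal (fun l => a' (π' l)) e j = (prevIdeal (fun l => a (st.param l)) e j).map C := fun j hj => by
    rw [map_prevIdeal]
    exact prevIdeal_congr e j fun l hl => haπne l fun h => by
      have := congrArg Fin.val h
      simp only [i₀] at this
      omega
  have hTmap : (S.map st.tgtHom).map (C : Λ →+* Λ[X]) = S.map ((constHom k Λ).comp st.tgtHom) :=
    Ideal.map_map st.tgtHom.toRingHom _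
  have h1 : SqCond π' e (i + 1) := fun j hj x hx => by
    rw [hprev j hj] at hx ⊢
    rcases eq_or_ne j i₀ with rfl | hne
    · rw [hπ'self] at hx ⊢
      exact sq_cond_X_mul_C _ _ hcR x hx
    · rw [hπ'ne j hne] at hx ⊢
      refine sq_cond_C _ _ (hst.sq_base j ?_) x hx
      have : (j : ℕ) ≠ i := fun h => hne (Fin.ext h)
      omega
  have h2 : SqCond (fun j => a' (π' j)) e (i + 1) := fun j hj x hx => by
    rw [hprevT j hj] at hx ⊢
    rcases eq_or_ne j i₀ with rfl | hne
    · simp only [haπself] at hx ⊢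
      exact sq_cond_X_mul_C _ _ hcΛ x hx
    · simp only [haπne j hne] at hx ⊢
      refine sq_cond_C _ _ (hst.sq_tgt j ?_) x hx
      have : (j : ℕ) ≠ i := fun h => hne (Fin.ext h)
      omega
  have h3 : ∀ j : Fin d, (j : ℕ) < i + 1 → a' (π' j) ^ n ∈ S.map ((constHom k Λ).comp st.tgtHom) := fun j hj => by
    rw [← hTmap]
    rcases eq_or_ne j i₀ with rfl | hne
    · rw [haπself, mul_pow, ← C_pow]
      exact Ideal.mul_mem_left _ _ (Ideal.mem_map_of_mem _ hcT)
    · rw [haπne j hne, ← C_pow]
      refine Ideal.mem_map_of_mem _ (hst.pow_mem j ?_)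
      have : (j : ℕ) ≠ i := fun h => hne (Fin.ext h)
      omega
  have h4 : ∀ j : Fin d, i + 1 ≤ (j : ℕ) → π' j = C (st.baseHom (F j)) := fun j hj => by
    rw [hπ'ne j fun h => ?_, hst.later j (by omega)]
    have := congrArg Fin.val h
    simp only [i₀] at this
    omega
  exact ⟨st', ⟨h1, h2, h3, h4⟩⟩

/-- All parameters. -/
theorem exists_stage_good {k R₁ Λ₁ : Type u} [Field k] [CommRing R₁] [Algebra k R₁] [CommRing Λ₁] [Algebra k Λ₁]
    {f₁ : R₁ →+* Λ₁} {q₁ : Ideal Λ₁} {d : ℕ} (st : Stage (k := k) f₁ q₁ d) (F : Fin d → R₁) (S : Ideal Λ₁) (n e : ℕ)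
    (he : 0 < e) (hn : 0 < n) (ht : ∀ j, ∃ t ∉ q₁, t * f₁ (F j) ^ n ∈ S) (hF : ∀ j, st.param j = st.baseHom (F j)) :
    ∃ st' : Stage (k := k) f₁ q₁ d, st'.Good F S n e d := by
  suffices H : ∀ i, i ≤ d → ∃ st' : Stage (k := k) f₁ q₁ d, st'.Good F S n e i from H d le_rfl
  intro i
  induction i with
  | zero =>
    exact fun _ => ⟨st, ⟨fun j hj => absurd hj (Nat.not_lt_zero _), fun j hj => absurd hj (Nat.not_lt_zero _),
      fun j hj => absurd hj (Nat.not_lt_zero _), fun j _ => hF j⟩⟩
  | succ i ih =>
    intro hi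
    obtain ⟨st₁, h₁⟩ := ih (by omega)
    exact exists_stage_succ st₁ F S n e i (by omega) he hn (ht _) h₁

end TransLib
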