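import Groth.Agent.TransLib.DesingLift

/-!
# Delocalization by intersecting kernels
-/

set_option autoImplicit false

universe u

open MvPolynomial

namespace TransLib

/-- Smoothness at the contraction of a prime, from a formally smooth model of the local ring. -/
theorem isSmoothAt_of_model {R C T Λ : Type u} [CommRing R] [CommRing C] [Algebra R C] [CommRing T] [Algebra R T]
    [Algebra.FormallySmooth R T] [CommRing Λ] [Algebra R Λ] (r : Ideal Λ) [r.IsPrime] (h : C →ₐ[R] Λ) (ψ : C →ₐ[R] T)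
    (χ : T →ₐ[R] Localization.AtPrime r) (hcomm : ∀ c, χ (ψ c) = algebraMap Λ (Localization.AtPrime r) (h c))
    (hkill : ∀ c, ψ c = 0 → ∃ d, h d ∉ r ∧ d * c = 0)
    (hdense : ∀ t, ∃ d c, h d ∉ r ∧ ψ d * t = ψ c) : Algebra.IsSmoothAt R (r.comap h) := by
  classical
  let Λr := Localization.AtPrime r
  let Q' : Ideal T := (IsLocalRing.maximalIdeal Λr).comap χ
  let q0 : Ideal C := r.comap h
  have hQ : q0 = Q'.comap ψ.toRingHom := Ideal.ext fun c => by
    show h c ∈ r ↔ χ (ψ c) ∈ IsLocalRing.maximalIdeal Λr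
    rw [hcomm]
    exact (IsLocalization.AtPrime.to_map_mem_maximal_iff Λr r _).symm
  let L := Localization.AtPrime q0
  let LT := Localization.AtPrime Q'
  let Φ : L →+* LT := Localization.localRingHom q0 Q' ψ.toRingHom hQ
  have hΦ : ∀ c, Φ (algebraMap C L c) = algebraMap T LT (ψ c) := fun c =>
    Localization.localRingHom_to_map q0 Q' ψ.toRingHom hQ c
  have hd : ∀ d, h d ∉ r → ψ d ∉ Q' := fun d hd hmem => hd (by
    have : d ∈ q0 := hQ ▸ hmem
    exact this)
  have hinj : Function.Injective Φ := by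
    rw [injective_iff_map_eq_zero]
    intro y hy
    obtain ⟨⟨c, s⟩, hcs⟩ := IsLocalization.surj q0.primeCompl y
    have h1 : algebraMap T LT (ψ c) = algebraMap T LT 0 := by
      rw [← hΦ, ← hcs, map_mul, hy, zero_mul, map_zero]
    obtain ⟨⟨t, ht⟩, ht2⟩ := (IsLocalization.eq_iff_exists Q'.primeCompl LT).1 h1
    simp only [mul_zero] at ht2
    obtain ⟨d, e, hdr, hde⟩ := hdense t
    have he : e ∉ q0 := by
      rw [hQ]
      show ψ e ∉ Q'
      rw [← hde]
      exact fun hm => ((inferInstance : Q'.IsPrime).mem_or_mem hm).elim (hd d hdr) ht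
    have h2 : ψ (e * c) = 0 := by rw [map_mul, ← hde, mul_assoc, ht2, mul_zero]
    obtain ⟨d', hd', hd'c⟩ := hkill _ h2
    have h3 : algebraMap C L (d' * (e * c)) = 0 := by rw [hd'c, map_zero]
    rw [map_mul, map_mul, (IsLocalization.map_units L (⟨d', hd'⟩ : q0.primeCompl)).mul_right_eq_zero,
      (IsLocalization.map_units L (⟨e, he⟩ : q0.primeCompl)).mul_right_eq_zero, ← hcs] at h3
    exact (IsLocalization.map_units L s).mul_left_eq_zero.1 h3
  have hsurj : Function.Surjective Φ := fun y => by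
    obtain ⟨⟨t, s, hs⟩, hts⟩ := IsLocalization.surj Q'.primeCompl y
    obtain ⟨d, c, hdr, hdc⟩ := hdense t
    obtain ⟨d', e, hd'r, hde⟩ := hdense s
    have he : e ∉ q0 := by
      rw [hQ]
      show ψ e ∉ Q'
      rw [← hde]
      exact fun hm => ((inferInstance : Q'.IsPrime).mem_or_mem hm).elim (hd d' hd'r) hs
    have hden : d * e ∉ q0 := fun hm => ((inferInstance : q0.IsPrime).mem_or_mem hm).elim hdr he
    refine ⟨IsLocalization.mk' L (c * d') (⟨d * e, hden⟩ : q0.primeCompl), ?_⟩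
    have h1 : Φ (IsLocalization.mk' L (c * d') (⟨d * e, hden⟩ : q0.primeCompl)) * algebraMap T LT (ψ (d * e)) =
        algebraMap T LT (ψ (c * d')) := by
      rw [← hΦ, ← map_mul, IsLocalization.mk'_spec, hΦ]
    refine (IsLocalization.map_units LT (⟨ψ (d * e), fun hm => hden (hQ ▸ hm)⟩ : Q'.primeCompl)).mul_left_inj.1 ?_
    show Φ _ * algebraMap T LT (ψ (d * e)) = y * algebraMap T LT (ψ (d * e))
    rw [h1, map_mul ψ, map_mul ψ, ← hdc, ← hde]
    simp only [map_mul]
    linear_combination -(algebraMap T LT (ψ d) * algebraMap T LT (ψ d')) * hts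
  let e : L ≃ₐ[R] LT := AlgEquiv.ofBijective
    { Φ with
      commutes' := fun a => by
        show Φ (algebraMap R L a) = _
        rw [IsScalarTower.algebraMap_apply R C L, hΦ, AlgHom.commutes, ← IsScalarTower.algebraMap_apply] }
    ⟨hinj, hsurj⟩
  have : Algebra.FormallySmooth T LT :=
    have : Algebra.FormallyEtale T LT := Algebra.FormallyEtale.of_isLocalization Q'.primeCompl
    inferInstance
  have : Algebra.FormallySmooth R LT := Algebra.FormallySmooth.comp R T LT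
  exact Algebra.FormallySmooth.of_equiv (A := LT) (B := L) e.symm

/-- `isSmoothAt_of_model` for a quotient. -/
theorem isSmoothAt_quotient {R P T Λ : Type u} [CommRing R] [CommRing P] [Algebra R P] [CommRing T] [Algebra R T]
    [Algebra.FormallySmooth R T] [CommRing Λ] [Algebra R Λ] (I : Ideal P) (r : Ideal Λ) [r.IsPrime] (eΛ : P →ₐ[R] Λ)
    (hI : ∀ p ∈ I, eΛ p = 0) (ψ : P →ₐ[R] T) (hIψ : ∀ p ∈ I, ψ p = 0) (χ : T →ₐ[R] Localization.AtPrime r)
    (hcomm : ∀ p, χ (ψ p) = algebraMap Λ (Localization.AtPrime r) (eΛ p))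
    (hkill : ∀ p, ψ p = 0 → ∃ d, eΛ d ∉ r ∧ d * p ∈ I)
    (hdense : ∀ t, ∃ d c, eΛ d ∉ r ∧ ψ d * t = ψ c) :
    Algebra.IsSmoothAt R (r.comap (Ideal.Quotient.liftₐ I eΛ hI)) := by
  refine isSmoothAt_of_model r (Ideal.Quotient.liftₐ I eΛ hI) (Ideal.Quotient.liftₐ I ψ hIψ) χ (fun c => ?_)
    (fun c hc => ?_) fun t => ?_
  · obtain ⟨p, rfl⟩ := Ideal.Quotient.mk_surjective c
    exact hcomm p
  · obtain ⟨p, rfl⟩ := Ideal.Quotient.mk_surjective c
    obtain ⟨d, hd, hdp⟩ := hkill p hc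
    exact ⟨Ideal.Quotient.mk I d, hd, by rw [← map_mul, Ideal.Quotient.eq_zero_iff_mem]; exact hdp⟩
  · obtain ⟨d, c, hd, hdc⟩ := hdense t
    exact ⟨Ideal.Quotient.mk I d, Ideal.Quotient.mk I c, hd, hdc⟩

/-- The elements which become values of `ψ` after multiplication by an allowed denominator. -/
def denseSub {R P T Λ : Type u} [CommRing R] [CommRing P] [Algebra R P] [CommRing T] [Algebra R T] [CommRing Λ]
    [Algebra R Λ] (ψ : P →ₐ[R] T) (e : P →ₐ[R] Λ) (r : Ideal Λ) [hr : r.IsPrime] : Subalgebra R T where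
  carrier := {t | ∃ d c, e d ∉ r ∧ ψ d * t = ψ c}
  mul_mem' := by
    rintro s t ⟨d, c, hd, hdc⟩ ⟨d', c', hd', hdc'⟩
    refine ⟨d * d', c * c', by rw [map_mul]; exact fun hm => (hr.mem_or_mem hm).elim hd hd', ?_⟩
    rw [map_mul, map_mul, ← hdc, ← hdc']; ring
  add_mem' := by
    rintro s t ⟨d, c, hd, hdc⟩ ⟨d', c', hd', hdc'⟩
    refine ⟨d * d', d' * c + d * c', by rw [map_mul]; exact fun hm => (hr.mem_or_mem hm).elim hd hd', ?_⟩
    rw [map_mul, map_add, map_mul, map_mul, ← hdc, ← hdc']; ring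
  algebraMap_mem' := fun a =>
    ⟨1, algebraMap R P a, by rw [map_one]; exact fun hm => hr.ne_top ((Ideal.eq_top_iff_one _).2 hm),
      by rw [map_one, one_mul, AlgHom.commutes]⟩

theorem apply_mem_denseSub {R P T Λ : Type u} [CommRing R] [CommRing P] [Algebra R P] [CommRing T] [Algebra R T]
    [CommRing Λ] [Algebra R Λ] (ψ : P →ₐ[R] T) (e : P →ₐ[R] Λ) (r : Ideal Λ) [hr : r.IsPrime] (p : P) :
    ψ p ∈ denseSub ψ e r :=
  ⟨1, p, by rw [map_one]; exact fun hm => hr.ne_top ((Ideal.eq_top_iff_one _).2 hm), by rw [map_one, one_mul]⟩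

/-- Denominators on the polynomial model `B[U]`. -/
theorem dense_poly {R P0 Λ B : Type u} [CommRing R] [CommRing P0] [Algebra R P0] [CommRing Λ] [Algebra R Λ]
    [CommRing B] [Algebra R B] (𝔮 : Ideal Λ) [hq : 𝔮.IsPrime] (ψ0 : P0 →ₐ[R] MvPolynomial Unit B)
    (e0 : P0 →ₐ[R] Λ) {l : ℕ} (y : Fin l → B)
    (hgen : ∀ b : B, ∃ (s : R) (p : MvPolynomial (Fin l) R), s ∉ 𝔮.comap (algebraMap R Λ) ∧
      algebraMap R B s * b = aeval y p)
    (U : P0) (hU : ψ0 U = X ()) (hUq : e0 U ∉ 𝔮) (Y : Fin l → P0) (hY : ∀ j, ψ0 (Y j) = X () * MvPolynomial.C (y j))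
    (t : MvPolynomial Unit B) : t ∈ denseSub ψ0 e0 𝔮 := by
  induction t using MvPolynomial.induction_on with
  | C b =>
    obtain ⟨s, p, hs, hsp⟩ := hgen b
    have hp : (IsScalarTower.toAlgHom R B (MvPolynomial Unit B)) (aeval y p) ∈ denseSub ψ0 e0 𝔮 :=
      (show (aeval y p) ∈ (denseSub ψ0 e0 𝔮).comap (IsScalarTower.toAlgHom R B (MvPolynomial Unit B)) from by
        clear hsp
        induction p using MvPolynomial.induction_on with
        | C r => rw [aeval_C]; exact Subalgebra.algebraMap_mem _ r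
        | add p q hp hq => rw [map_add]; exact add_mem hp hq
        | mul_X p j hp => rw [map_mul, aeval_X]; exact mul_mem hp ⟨U, Y j, hUq, (congrArg (· * _) hU).trans (hY j).symm⟩)
    rw [← hsp, map_mul, AlgHom.commutes] at hp
    obtain ⟨d, c, hd, hdc⟩ := hp
    refine ⟨d * algebraMap R P0 s, c, ?_, ?_⟩
    · rw [map_mul, AlgHom.commutes]
      exact fun hm => (hq.mem_or_mem hm).elim hd hs
    · rw [map_mul, AlgHom.commutes, mul_assoc]
      exact hdc
  | add p q hp hq => exact add_mem hp hq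
  | mul_X p w hp => exact mul_mem hp (hU ▸ apply_mem_denseSub ψ0 e0 𝔮 U)

/-- Adjoining a variable that kills the kernel of the model at `𝔮`. -/
theorem isSmoothAt_extend {R P0 T0 Λ Λq : Type u} [CommRing R] [CommRing P0] [Algebra R P0] [CommRing T0]
    [Algebra R T0] [Algebra.FormallySmooth R T0] [CommRing Λ] [Algebra R Λ] (𝔮 : Ideal Λ) [hq : 𝔮.IsPrime]
    [CommRing Λq] [Algebra Λ Λq] [IsLocalization.AtPrime Λq 𝔮] [Algebra R Λq] [IsScalarTower R Λ Λq]
    (ψ0 : P0 →ₐ[R] T0) (e0 : P0 →ₐ[R] Λ) (χ0 : T0 →ₐ[R] Λq) (hχψ : ∀ p, χ0 (ψ0 p) = algebraMap Λ Λq (e0 p))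
    (v : Λ) (hv : v ∉ 𝔮) (hvker : ∀ G, ψ0 G = 0 → v * e0 G = 0) (hdense : ∀ t, t ∈ denseSub ψ0 e0 𝔮)
    (I : Ideal (MvPolynomial Unit P0)) (hI : ∀ p ∈ I, aevalTower e0 (fun _ => v) p = 0)
    (hIT : ∀ p ∈ I, MvPolynomial.mapAlgHom (σ := Unit) ψ0 p = 0)
    (hmem : ∀ p, aevalTower e0 (fun _ => v) p = 0 → MvPolynomial.mapAlgHom (σ := Unit) ψ0 p = 0 → X () * p ∈ I) :
    Algebra.IsSmoothAt R (𝔮.comap (Ideal.Quotient.liftₐ I (aevalTower e0 fun _ => v) hI)) := by
  have : Algebra.FormallySmooth R (MvPolynomial Unit T0) := Algebra.FormallySmooth.comp R T0 _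
  let e : Λq ≃ₐ[Λ] Localization.AtPrime 𝔮 := IsLocalization.algEquiv 𝔮.primeCompl _ _
  refine isSmoothAt_quotient I 𝔮 _ hI (MvPolynomial.mapAlgHom ψ0) hIT
    ((e.toAlgHom.restrictScalars R).comp (aevalTower χ0 fun _ => algebraMap Λ Λq v)) (fun p => ?_) (fun p hp => ?_)
    fun t => ?_
  · show e (aevalTower χ0 (fun _ => algebraMap Λ Λq v) (MvPolynomial.mapAlgHom ψ0 p)) = _
    rw [show aevalTower χ0 (fun _ => algebraMap Λ Λq v) (MvPolynomial.mapAlgHom ψ0 p) =
      algebraMap Λ Λq (aevalTower e0 (fun _ => v) p) from ?_, e.commutes]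
    induction p using MvPolynomial.induction_on with
    | C G =>
      show aevalTower χ0 _ (MvPolynomial.map ψ0.toRingHom (MvPolynomial.C G)) = _
      rw [map_C, aevalTower_C, aevalTower_C]
      exact hχψ G
    | add p q hp hq => rw [map_add, map_add, map_add, map_add, hp, hq]
    | mul_X p w hp =>
      rw [map_mul, map_mul, map_mul, map_mul, hp,
        show MvPolynomial.mapAlgHom ψ0 (X w) = X w from MvPolynomial.map_X _ _, aevalTower_X, aevalTower_X]
  · have hco : ∀ d : Unit →₀ ℕ, ψ0 (p.coeff d) = 0 := fun d => by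
      have := congrArg (fun q => MvPolynomial.coeff d q) hp
      simpa [MvPolynomial.coeff_map] using this
    have h0 : aevalTower e0 (fun _ => v) (X () * p) = 0 := by
      rw [map_mul, aevalTower_X, p.as_sum, map_sum, Finset.mul_sum]
      refine Finset.sum_eq_zero fun d _ => ?_
      rw [← mul_one (p.coeff d), ← MvPolynomial.C_mul_monomial, map_mul, aevalTower_C, ← mul_assoc,
        hvker _ (hco d), zero_mul]
    refine ⟨X () * X (), ?_, ?_⟩
    · rw [map_mul, aevalTower_X]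
      exact fun hm => (hq.mem_or_mem hm).elim hv hv
    · rw [mul_assoc]
      exact hmem _ h0 (by rw [map_mul, hp, mul_zero])
  · show t ∈ denseSub (MvPolynomial.mapAlgHom ψ0) (aevalTower e0 fun _ => v) 𝔮
    induction t using MvPolynomial.induction_on with
    | C q =>
      obtain ⟨d, c, hd, hdc⟩ := hdense q
      refine ⟨MvPolynomial.C d, MvPolynomial.C c, by rw [aevalTower_C]; exact hd, ?_⟩
      show MvPolynomial.map ψ0.toRingHom (MvPolynomial.C d) * _ = MvPolynomial.map ψ0.toRingHom (MvPolynomial.C c)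
      rw [map_C, map_C, ← map_mul]
      exact congrArg MvPolynomial.C hdc
    | add p q hp hq => exact add_mem hp hq
    | mul_X p w hp =>
      refine mul_mem hp ?_
      have := apply_mem_denseSub (MvPolynomial.mapAlgHom ψ0) (aevalTower e0 fun _ => v) 𝔮 (X w)
      rwa [show MvPolynomial.mapAlgHom ψ0 (X w) = X w from MvPolynomial.map_X _ _] at this

/-- Smoothness at primes where `a` is invertible, from the model `A_a[W]`. -/
theorem isSmoothAt_away {R P A Λ σ : Type u} [CommRing R] [CommRing P] [Algebra R P] [CommRing A] [Algebra R A]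
    [CommRing Λ] [Algebra R Λ] (r : Ideal Λ) [hr' : r.IsPrime] (eΛ : P →ₐ[R] Λ) (ψA : P →ₐ[R] MvPolynomial σ A)
    (εA : MvPolynomial σ A →ₐ[R] Λ) (hsurj : Function.Surjective ψA) (a : A) [Algebra.Smooth R (Localization.Away a)]
    (ha : εA (MvPolynomial.C a) ∉ r) (nk : P) (hnkr : eΛ nk ∉ r)
    (hnk : ∀ p, eΛ nk * eΛ p = eΛ nk * εA (ψA p)) (I : Ideal P) (hI : ∀ p ∈ I, eΛ p = 0)
    (hIA : ∀ p ∈ I, ψA p = 0) (hmem : ∀ p, eΛ p = 0 → ψA p = 0 → nk * p ∈ I) :
    Algebra.IsSmoothAt R (r.comap (Ideal.Quotient.liftₐ I eΛ hI)) := by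
  classical
  let Ak := Localization.Away a
  let Λr := Localization.AtPrime r
  have : Algebra.FormallySmooth R (MvPolynomial σ Ak) := Algebra.FormallySmooth.comp R Ak _
  let toTk : MvPolynomial σ A →ₐ[R] MvPolynomial σ Ak := MvPolynomial.mapAlgHom (IsScalarTower.toAlgHom R A Ak)
  let φ : A →ₐ[R] Λ := εA.comp (IsScalarTower.toAlgHom R A (MvPolynomial σ A))
  have hka : IsUnit (algebraMap Λ Λr (φ a)) := IsLocalization.map_units Λr (⟨_, ha⟩ : r.primeCompl)
  let χk : Ak →ₐ[R] Λr := IsLocalization.liftAlgHom (M := Submonoid.powers a)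
    (f := (IsScalarTower.toAlgHom R Λ Λr).comp φ) (by
      rintro ⟨_, i, rfl⟩
      show IsUnit (algebraMap Λ Λr (φ (a ^ i)))
      rw [map_pow, map_pow]; exact hka.pow i)
  let χ : MvPolynomial σ Ak →ₐ[R] Λr := aevalTower χk fun w => algebraMap Λ Λr (εA (X w))
  have hχA : ∀ q, χ (toTk q) = algebraMap Λ Λr (εA q) := fun q => by
    induction q using MvPolynomial.induction_on with
    | C z =>
      show χ (MvPolynomial.map _ (MvPolynomial.C z)) = _
      rw [map_C, aevalTower_C]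
      exact IsLocalization.lift_eq _ z
    | add p q hp hq => rw [map_add, map_add, map_add, map_add, hp, hq]
    | mul_X p w hp =>
      rw [map_mul, map_mul, map_mul, map_mul, hp, show toTk (X w) = X w from MvPolynomial.map_X _ _, aevalTower_X]
  obtain ⟨da, hda⟩ := hsurj (MvPolynomial.C a)
  have hdar : eΛ da ∉ r := fun hm => by
    have h1 : eΛ nk * εA (ψA da) ∈ r := hnk da ▸ r.mul_mem_left _ hm
    rw [hda] at h1
    exact (hr'.mem_or_mem h1).elim hnkr ha
  refine isSmoothAt_quotient I r eΛ hI (toTk.comp ψA) (fun p hp => by rw [AlgHom.comp_apply, hIA p hp, map_zero]) χ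
    (fun p => ?_) (fun p hp => ?_) fun t => ?_
  · rw [AlgHom.comp_apply, hχA]
    refine (IsLocalization.map_units Λr (⟨_, hnkr⟩ : r.primeCompl)).mul_right_inj.1 ?_
    rw [← map_mul, ← map_mul, hnk]
  · obtain ⟨i, hi⟩ : ∃ i : ℕ, MvPolynomial.C (a ^ i) * ψA p = 0 := by
      have hco : ∀ d, ∃ i : ℕ, a ^ i * (ψA p).coeff d = 0 := fun d => by
        have h0 : algebraMap A Ak ((ψA p).coeff d) = 0 := by
          have := congrArg (fun q => MvPolynomial.coeff d q) hp
          simpa [toTk, MvPolynomial.coeff_map] using this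
        obtain ⟨⟨_, i, rfl⟩, hi⟩ := (IsLocalization.map_eq_zero_iff (Submonoid.powers a) Ak _).1 h0
        exact ⟨i, hi⟩
      choose i hi using hco
      refine ⟨(ψA p).support.sup i, MvPolynomial.ext _ _ fun d => ?_⟩
      rw [coeff_C_mul, coeff_zero]
      by_cases hd : d ∈ (ψA p).support
      · rw [← Nat.sub_add_cancel (Finset.le_sup (f := i) hd), pow_add, mul_assoc, hi, mul_zero]
      · rw [MvPolynomial.notMem_support_iff.1 hd, mul_zero]
    have h1 : ψA (nk * (da ^ i * p)) = 0 := by rw [map_mul, map_mul, map_pow, hda, ← map_pow, hi, mul_zero]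
    have h2 : eΛ (nk * (da ^ i * p)) = 0 := by
      rw [map_mul, hnk, map_mul, map_pow, hda, ← map_pow, hi, map_zero, mul_zero]
    refine ⟨nk * nk * da ^ i, ?_, ?_⟩
    · rw [map_mul, map_mul, map_pow]
      exact fun hm => (hr'.mem_or_mem hm).elim (fun h => (hr'.mem_or_mem h).elim hnkr hnkr)
        fun h => hdar (hr'.mem_of_pow_mem _ h)
    · rw [mul_assoc, mul_assoc]
      exact hmem _ h2 h1
  · obtain ⟨⟨q, ⟨_, ⟨_, ⟨i, rfl⟩, rfl⟩⟩⟩, hq⟩ :=
      @IsLocalization.surj _ _ ((Submonoid.powers a).map (MvPolynomial.C : A →+* MvPolynomial σ A))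
        (MvPolynomial σ Ak) _
        (MvPolynomial.algebraMvPolynomial) (MvPolynomial.isLocalization (Submonoid.powers a) Ak) t
    obtain ⟨c, rfl⟩ := hsurj q
    refine ⟨da ^ i, c, by rw [map_pow]; exact fun hm => hdar (hr'.mem_of_pow_mem _ hm), ?_⟩
    show toTk (ψA (da ^ i)) * t = toTk (ψA c)
    rw [map_pow ψA, hda, ← map_pow, mul_comm]
    exact hq

/-- A finitely generated ideal which dies in the local ring is killed by one element outside the prime. -/
theorem exists_kill {P Λ Λq : Type u} [CommRing P] [CommRing Λ] [CommRing Λq] [Algebra Λ Λq] (𝔮 : Ideal Λ)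
    [hq : 𝔮.IsPrime] [IsLocalization.AtPrime Λq 𝔮] (f : P →+* Λ) (J : Ideal P) (hJ : J.FG)
    (hf : ∀ G ∈ J, algebraMap Λ Λq (f G) = 0) : ∃ v ∉ 𝔮, ∀ G ∈ J, v * f G = 0 := by
  classical
  obtain ⟨gen, hgen⟩ := hJ
  have hu : ∀ G : gen, ∃ u ∉ 𝔮, u * f G.1 = 0 := fun G => by
    obtain ⟨⟨u, hu⟩, hu2⟩ := (IsLocalization.map_eq_zero_iff 𝔮.primeCompl Λq _).1
      (hf G.1 (hgen ▸ Ideal.subset_span G.2))
    exact ⟨u, hu, hu2⟩
  choose u huq hu using hu
  refine ⟨∏ G, u G, fun h => ?_, fun G hG => ?_⟩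
  · obtain ⟨G, -, hG⟩ := (hq.prod_mem_iff (s := Finset.univ)).1 h
    exact huq G hG
  · rw [← hgen] at hG
    induction hG using Submodule.span_induction with
    | mem z hz =>
      obtain ⟨w, hw⟩ : u ⟨z, hz⟩ ∣ ∏ G, u G := Finset.dvd_prod_of_mem u (Finset.mem_univ _)
      rw [hw, mul_comm (u ⟨z, hz⟩), mul_assoc, hu ⟨z, hz⟩, mul_zero]
    | zero => rw [map_zero, mul_zero]
    | add z w _ _ hz hw => rw [map_add, mul_add, hz, hw, add_zero]
    | smul c z _ hz => rw [smul_eq_mul, map_mul, mul_left_comm, hz, mul_zero]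

/-- Common denominators for finitely many elements of a localization. -/
theorem exists_denominator {Λ Λq : Type u} [CommRing Λ] [CommRing Λq] [Algebra Λ Λq] (S : Submonoid Λ)
    [IsLocalization S Λq] {l : ℕ} (z : Fin l → Λq) : ∃ τ ∈ S, ∃ lam : Fin l → Λ, ∀ j, algebraMap Λ Λq τ * z j = algebraMap Λ Λq (lam j) := by
  classical
  obtain ⟨⟨τ, hτ⟩, h⟩ := IsLocalization.exist_integer_multiples S Finset.univ z
  choose lam hlam using fun j => h j (Finset.mem_univ j)
  exact ⟨τ, hτ, lam, fun j => by rw [hlam j, Algebra.smul_def]⟩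

/-- A finitely presented factorization, smooth at the given prime and wherever some `φ (a k)` is nonzero. -/
theorem exists_glue {R A Λ Λq B : Type u} [CommRing R] [IsNoetherianRing R] [CommRing A] [Algebra R A]
    [Algebra.FinitePresentation R A] [CommRing Λ] [Algebra R Λ] (φ : A →ₐ[R] Λ) (𝔮 : Ideal Λ) [h𝔮 : 𝔮.IsPrime]
    [CommRing Λq] [Algebra Λ Λq] [IsLocalization.AtPrime Λq 𝔮] [Algebra R Λq] [IsScalarTower R Λ Λq]
    [CommRing B] [Algebra R B] [Algebra.FormallySmooth R B] (αB : A →ₐ[R] B) (χB : B →ₐ[R] Λq)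
    (hαχ : ∀ x, χB (αB x) = algebraMap Λ Λq (φ x)) {l : ℕ} (y : Fin l → B)
    (hgen : ∀ b : B, ∃ (s : R) (p : MvPolynomial (Fin l) R), s ∉ 𝔮.comap (algebraMap R Λ) ∧
      algebraMap R B s * b = aeval y p)
    {m : ℕ} (a : Fin m → A) (hA : ∀ k, Algebra.Smooth R (Localization.Away (a k)))
    (hnil : ∀ k, IsNilpotent (algebraMap Λ Λq (φ (a k)))) :
    ∃ (C : Type u) (_ : CommRing C) (_ : Algebra R C), Algebra.FinitePresentation R C ∧
      ∃ (g : A →ₐ[R] C) (h : C →ₐ[R] Λ), h.comp g = φ ∧ Algebra.IsSmoothAt R (𝔮.comap h) ∧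
        ∀ (r : Ideal Λ) [r.IsPrime], (∃ k, φ (a k) ∉ r) → Algebra.IsSmoothAt R (r.comap h) := by
  classical
  obtain ⟨n, ψA₀, hψA₀, -⟩ := (inferInstance : Algebra.FinitePresentation R A).out
  let x : Fin n → A := fun i => ψA₀ (X i)
  obtain ⟨τ, hτ, lam, hlam⟩ := exists_denominator 𝔮.primeCompl fun j => χB (y j)
  choose N hN using hnil
  let Kx := Fin n ⊕ ((Fin l ⊕ PUnit.{1}) ⊕ Fin m)
  let Rest : Type u := ULift.{u} ((Fin l ⊕ PUnit.{1}) ⊕ Fin m)
  let P0 := MvPolynomial Kx R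
  let valR : (Fin l ⊕ PUnit.{1}) ⊕ Fin m → Λ :=
    Sum.elim (Sum.elim lam fun _ => τ) fun k => φ (a k) ^ (N k + 1)
  let val0 : Kx → Λ := Sum.elim (fun i => φ (x i)) valR
  let T0 := MvPolynomial Unit B
  have : Algebra.FormallySmooth R T0 := Algebra.FormallySmooth.comp R B T0
  let Tval : Kx → T0 := Sum.elim (fun i => MvPolynomial.C (αB (x i)))
    (Sum.elim (Sum.elim (fun j => X () * MvPolynomial.C (y j)) fun _ => X ()) fun _ => 0)
  let ψ0 : P0 →ₐ[R] T0 := aeval Tval
  let χ0 : T0 →ₐ[R] Λq := aevalTower χB fun _ => algebraMap Λ Λq τ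
  let e0 : P0 →ₐ[R] Λ := aeval val0
  have hna : ∀ k, algebraMap Λ Λq (φ (a k) ^ (N k + 1)) = 0 := fun k => by
    rw [map_pow, pow_succ, hN, zero_mul]
  have hψ0X : ∀ v, ψ0 (X v) = Tval v := fun v => aeval_X _ _
  have he0X : ∀ v, e0 (X v) = val0 v := fun v => aeval_X _ _
  have hχψ : ∀ p, χ0 (ψ0 p) = algebraMap Λ Λq (e0 p) := fun p =>
    AlgHom.congr_fun (show χ0.comp ψ0 = (IsScalarTower.toAlgHom R Λ Λq).comp e0 from MvPolynomial.algHom_ext fun v => by
      show χ0 (ψ0 (X v)) = algebraMap Λ Λq (e0 (X v))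
      rw [hψ0X, he0X]
      rcases v with i | (j | _) | k
      · show χ0 (MvPolynomial.C (αB (x i))) = algebraMap Λ Λq (φ (x i))
        rw [aevalTower_C, hαχ]
      · show χ0 (X () * MvPolynomial.C (y j)) = algebraMap Λ Λq (lam j)
        rw [map_mul, aevalTower_C, aevalTower_X, hlam]
      · show χ0 (X ()) = algebraMap Λ Λq τ
        rw [aevalTower_X]
      · show χ0 0 = algebraMap Λ Λq (φ (a k) ^ (N k + 1))
        rw [map_zero, hna]) p
  obtain ⟨v, hv, hvkill⟩ := exists_kill 𝔮 (Λq := Λq) e0.toRingHom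
    (RingHom.ker ψ0.toRingHom ⊔ Ideal.span (Set.range fun k => X (Sum.inr (Sum.inr k))))
    (IsNoetherian.noetherian _) fun G hG => by
      obtain ⟨G1, hG1, G2, hG2, rfl⟩ := Submodule.mem_sup.1 hG
      have h1 : algebraMap Λ Λq (e0 G1) = 0 := by rw [← hχψ, show ψ0 G1 = 0 from hG1, map_zero]
      have h2 : G2 ∈ RingHom.ker ((algebraMap Λ Λq).comp e0.toRingHom) := by
        refine (Ideal.span_le.2 ?_) hG2
        rintro _ ⟨k, rfl⟩
        show algebraMap Λ Λq (e0 (X _)) = 0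
        rw [he0X]
        exact hna k
      show algebraMap Λ Λq (e0 (G1 + G2)) = 0
      rw [map_add, map_add, h1, zero_add]
      exact h2
  have hvker : ∀ G : P0, ψ0 G = 0 → v * e0 G = 0 := fun G hG => hvkill G (Ideal.mem_sup_left hG)
  have hva : ∀ k, v * φ (a k) ^ (N k + 1) = 0 := fun k => by
    have := hvkill _ (Ideal.mem_sup_right (Ideal.subset_span ⟨k, rfl⟩))
    rwa [show e0.toRingHom (X (Sum.inr (Sum.inr k))) = φ (a k) ^ (N k + 1) from he0X _] at this
  -- the three evaluations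
  let P := MvPolynomial Unit P0
  let eΛ : P →ₐ[R] Λ := aevalTower e0 fun _ => v
  let ψT : P →ₐ[R] MvPolynomial Unit T0 := MvPolynomial.mapAlgHom ψ0
  let T' := MvPolynomial Rest A
  let valA : Kx → T' := Sum.elim (fun i => MvPolynomial.C (x i)) fun w => X ⟨w⟩
  let ψA : P →ₐ[R] T' := aevalTower (aeval valA) fun _ => 0
  let εA : T' →ₐ[R] Λ := aevalTower φ fun w => valR w.down
  have hεψ : ∀ G, εA (aeval valA G) = e0 G := fun G =>
    AlgHom.congr_fun (show εA.comp (aeval valA) = e0 from MvPolynomial.algHom_ext fun z => by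
      rw [AlgHom.comp_apply, aeval_X, he0X]
      rcases z with i | w
      · exact aevalTower_C _ _ (x i)
      · exact aevalTower_X _ _ _) G
  have hψAC : ∀ G, ψA (MvPolynomial.C G) = aeval valA G := fun G => aevalTower_C _ _ G
  have heΛC : ∀ G, eΛ (MvPolynomial.C G) = e0 G := fun G => aevalTower_C _ _ G
  have hψTC : ∀ G, ψT (MvPolynomial.C G) = MvPolynomial.C (ψ0 G) := fun G => MvPolynomial.map_C _ _
  let inZ : MvPolynomial (Fin n) R →ₐ[R] P :=
    (IsScalarTower.toAlgHom R P0 P).comp (rename (Sum.inl : Fin n → Kx))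
  have hinZ : ∀ i, inZ (X i) = MvPolynomial.C (X (Sum.inl i)) := fun i => by
    show algebraMap P0 P (rename Sum.inl (X i)) = _
    rw [rename_X]; rfl
  have hhg : ∀ f, eΛ (inZ f) = φ (ψA₀ f) := fun f =>
    AlgHom.congr_fun (show eΛ.comp inZ = φ.comp ψA₀ from MvPolynomial.algHom_ext fun i => by
      show eΛ (inZ (X i)) = φ (ψA₀ (X i))
      rw [hinZ, heΛC, he0X]; rfl) f
  have hTg : ∀ f, ψT (inZ f) = MvPolynomial.C (MvPolynomial.C (αB (ψA₀ f))) := fun f =>
    AlgHom.congr_fun (show ψT.comp inZ =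
      ((IsScalarTower.toAlgHom R T0 (MvPolynomial Unit T0)).comp ((IsScalarTower.toAlgHom R B T0).comp αB)).comp ψA₀ from
      MvPolynomial.algHom_ext fun i => by
        show ψT (inZ (X i)) = _
        rw [hinZ, hψTC, hψ0X]; rfl) f
  have hAg : ∀ f, ψA (inZ f) = MvPolynomial.C (ψA₀ f) := fun f =>
    AlgHom.congr_fun (show ψA.comp inZ = (IsScalarTower.toAlgHom R A T').comp ψA₀ from
      MvPolynomial.algHom_ext fun i => by
        show ψA (inZ (X i)) = _
        rw [hinZ, hψAC, aeval_X]; rfl) f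
  let I : Ideal P := RingHom.ker eΛ.toRingHom ⊓ RingHom.ker ψT.toRingHom ⊓ RingHom.ker ψA.toRingHom
  have : Algebra.FinitePresentation R P := Algebra.FinitePresentation.trans R P0 P
  have hC : Algebra.FinitePresentation R (P ⧸ I) :=
    Algebra.FinitePresentation.quotient (IsNoetherian.noetherian I)
  have hIΛ : ∀ p ∈ I, eΛ p = 0 := fun p hp => hp.1.1
  have hinker : RingHom.ker ψA₀.toRingHom ≤ RingHom.ker ((Ideal.Quotient.mkₐ R I).comp inZ).toRingHom := fun f hf => by
    have hf0 : ψA₀ f = 0 := hf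
    refine Ideal.Quotient.eq_zero_iff_mem.2 ⟨⟨?_, ?_⟩, ?_⟩
    · exact (hhg f).trans (by rw [hf0, map_zero])
    · exact (hTg f).trans (by rw [hf0, map_zero, map_zero, map_zero])
    · exact (hAg f).trans (by rw [hf0, map_zero])
  let g : A →ₐ[R] P ⧸ I := (Ideal.Quotient.liftₐ _ ((Ideal.Quotient.mkₐ R I).comp inZ) hinker).comp
    (Ideal.quotientKerAlgEquivOfSurjective hψA₀).symm.toAlgHom
  have hgψ : ∀ f, g (ψA₀ f) = Ideal.Quotient.mk I (inZ f) := fun f => by
    show Ideal.Quotient.liftₐ _ _ hinker ((Ideal.quotientKerAlgEquivOfSurjective hψA₀).symm (ψA₀ f)) = _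
    rw [show (Ideal.quotientKerAlgEquivOfSurjective hψA₀).symm (ψA₀ f) = Ideal.Quotient.mk _ f from
      (Ideal.quotientKerAlgEquivOfSurjective hψA₀).symm_apply_eq.2
        (Ideal.quotientKerAlgEquivOfSurjective_mk hψA₀ f).symm]
    rfl
  refine ⟨P ⧸ I, inferInstance, inferInstance, hC, g, Ideal.Quotient.liftₐ I eΛ hIΛ, AlgHom.ext fun z => ?_, ?_,
    fun r _ hr => ?_⟩
  · obtain ⟨f, rfl⟩ := hψA₀ z
    rw [AlgHom.comp_apply, hgψ]
    exact hhg f
  · refine isSmoothAt_extend 𝔮 ψ0 e0 χ0 hχψ v hv hvker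
      (dense_poly 𝔮 ψ0 e0 y hgen (X (Sum.inr (Sum.inl (Sum.inr PUnit.unit)))) (hψ0X _) (by rw [he0X]; exact hτ)
        (fun j => X (Sum.inr (Sum.inl (Sum.inl j)))) fun j => hψ0X _)
      I hIΛ (fun p hp => hp.1.2) fun p hp hpT => ⟨⟨?_, ?_⟩, ?_⟩
    · show eΛ (X () * p) = 0
      rw [map_mul, hp, mul_zero]
    · show ψT (X () * p) = 0
      rw [map_mul, hpT, mul_zero]
    · show ψA (X () * p) = 0
      rw [map_mul, show ψA (X ()) = 0 from aevalTower_X _ _ _, zero_mul]
  · obtain ⟨k, hk⟩ := hr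
    have := hA k
    have hsurjA : Function.Surjective ψA := fun q => by
      induction q using MvPolynomial.induction_on with
      | C z => obtain ⟨f, rfl⟩ := hψA₀ z; exact ⟨inZ f, hAg f⟩
      | add p q hp hq =>
        obtain ⟨p', rfl⟩ := hp; obtain ⟨q', rfl⟩ := hq; exact ⟨p' + q', map_add _ _ _⟩
      | mul_X p w hp =>
        obtain ⟨p', rfl⟩ := hp
        refine ⟨p' * MvPolynomial.C (X (Sum.inr w.down)), ?_⟩
        rw [map_mul, hψAC, aeval_X]; rfl
    have hnkΛ : eΛ (MvPolynomial.C (X (Sum.inr (Sum.inr k)))) = φ (a k) ^ (N k + 1) := by rw [heΛC, he0X]; rfl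
    refine isSmoothAt_away r eΛ ψA εA hsurjA (a k) (by rw [show εA (MvPolynomial.C (a k)) = φ (a k) from aevalTower_C _ _ _]; exact hk)
      (MvPolynomial.C (X (Sum.inr (Sum.inr k))))
      (by rw [hnkΛ]; exact fun hm => hk (Ideal.IsPrime.mem_of_pow_mem inferInstance _ hm)) (fun p => ?_) I hIΛ
      (fun p hp => hp.2) fun p hp hpA => ⟨⟨?_, ?_⟩, ?_⟩
    · rw [hnkΛ]
      induction p using MvPolynomial.induction_on with
      | C G => rw [heΛC, hψAC, hεψ]
      | add p q hp hq => rw [map_add, map_add, map_add, mul_add, mul_add, hp, hq]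
      | mul_X p w hp =>
        rw [map_mul, map_mul, show ψA (X w) = 0 from aevalTower_X _ _ w, mul_zero, map_zero, mul_zero,
          show eΛ (X w) = v from aevalTower_X _ _ w, mul_left_comm, mul_comm _ v, hva, mul_zero]
    · show eΛ (_ * p) = 0
      rw [map_mul, hp, mul_zero]
    · show ψT (_ * p) = 0
      rw [map_mul, hψTC, show ψ0 (X (Sum.inr (Sum.inr k))) = 0 from hψ0X _, map_zero, zero_mul]
    · show ψA (_ * p) = 0
      rw [map_mul, hpA, mul_zero]

end TransLib
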