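import Groth.Agent.TransLib.GeomBase
import Groth.Agent.TransLib.GeomStage
import Groth.Agent.TransLib.Glue

/-!
# Clearing denominators of coordinates with a new variable
-/

set_option autoImplicit false

universe u

open IsLocalRing Polynomial

namespace TransLib

theorem exists_mk'_unit_mul {R : Type u} [CommRing R] (p : Ideal R) [p.IsPrime] (z : Localization.AtPrime p) :
    ∃ (G : R) (w : Localization.AtPrime p), IsUnit w ∧ algebraMap R (Localization.AtPrime p) G = w * z := by
  obtain ⟨⟨G, s⟩, hs⟩ := IsLocalization.surj p.primeCompl z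
  exact ⟨G, _, IsLocalization.map_units _ s, hs.symm.trans (mul_comm _ _)⟩

theorem span_range_unit_mul {R : Type u} [CommRing R] {d : ℕ} (g g' : Fin d → R)
    (h : ∀ i, ∃ w, IsUnit w ∧ g' i = w * g i) : Ideal.span (Set.range g') = Ideal.span (Set.range g) := by
  refine le_antisymm (Ideal.span_le.2 ?_) (Ideal.span_le.2 ?_)
  · rintro _ ⟨i, rfl⟩
    obtain ⟨w, -, hw⟩ := h i
    rw [hw]
    exact Ideal.mul_mem_left _ _ (Ideal.subset_span ⟨i, rfl⟩)
  · rintro _ ⟨i, rfl⟩
    obtain ⟨w, hu, hw⟩ := h i
    refine (Ideal.unit_mul_mem_iff_mem _ hu).1 ?_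
    rw [← hw]
    exact Ideal.subset_span ⟨i, rfl⟩

/-- The first stage, over which the regular model is defined. -/
theorem exists_stage_zero {k Λ : Type u} [Field k] [CommRing Λ] [IsNoetherianRing Λ] [Algebra k Λ] (q : Ideal Λ)
    [q.IsPrime] [IsRegularLocalRing (Localization.AtPrime q)] (hinf : Infinite (Λ ⧸ q)) {d : ℕ}
    (hd : ringKrullDim (Localization.AtPrime q) = d) {ι : Type u} [Fintype ι] (v : ι → Localization.AtPrime q)
    (F : Fin d → Localization.AtPrime (residueVanishing k v))
    (hF : Ideal.span (Set.range F) = maximalIdeal (Localization.AtPrime (residueVanishing k v)))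
    (hFL : Ideal.span (Set.range fun i => residueLocHom k v (F i)) = maximalIdeal (Localization.AtPrime q)) :
    ∃ (R₁ : Type u) (_ : CommRing R₁) (_ : Algebra k R₁) (f₁ : R₁ →+* Λ[X]) (F₁ : Fin d → R₁)
      (st : Stage (k := k) f₁ (q.map (C : Λ →+* Λ[X])) d)
      (j : Localization.AtPrime (residueVanishing k v) →ₐ[k]
        Localization.AtPrime ((q.map (C : Λ →+* Λ[X])).comap f₁)),
      (∀ i, st.param i = st.baseHom (F₁ i)) ∧
      (∀ x, Localization.localRingHom _ (q.map (C : Λ →+* Λ[X])) f₁ rfl (j x) =
        Localization.localRingHom q (q.map (C : Λ →+* Λ[X])) C (comap_map_C q).symm (residueLocHom k v x)) := by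
  classical
  let L := Localization.AtPrime q
  let q' : Ideal Λ[X] := q.map C
  let L' := Localization.AtPrime q'
  let iL : L →+* L' := Localization.localRingHom q q' (C : Λ →+* Λ[X]) (comap_map_C q).symm
  let p₀ := residueVanishing k v
  let R₀ := MvPolynomial ι k
  let R0loc := Localization.AtPrime p₀
  let eι := Fintype.equivFin ι
  obtain ⟨b, hb, lam, hlam⟩ := exists_denominator q.primeCompl fun i => v (eι.symm i)
  let a : ι → Λ := fun j => lam (eι j)
  have hva : ∀ j, algebraMap Λ L b * v j = algebraMap Λ L (a j) := fun j => by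
    have := hlam (eι j)
    rwa [Equiv.symm_apply_apply] at this
  let R₁ := MvPolynomial (Option ι) k
  let f₁ : R₁ →ₐ[k] Λ[X] := MvPolynomial.aeval fun o => o.elim (C b * X) fun j => C (a j) * X
  have hf₁none : f₁ (MvPolynomial.X none) = C b * X := MvPolynomial.aeval_X _ _
  have hf₁some : ∀ j, f₁ (MvPolynomial.X (some j)) = C (a j) * X := fun j => MvPolynomial.aeval_X _ _
  let p := q'.comap f₁.toRingHom
  let Rp := Localization.AtPrime p
  let fp : Rp →+* L' := Localization.localRingHom p q' f₁.toRingHom rfl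
  have hfp : ∀ r, fp (algebraMap R₁ Rp r) = algebraMap Λ[X] L' (f₁ r) :=
    fun r => Localization.localRingHom_to_map p q' f₁.toRingHom rfl r
  have hup : MvPolynomial.X none ∉ p := fun h => by
    have h' : f₁ (MvPolynomial.X none) ∈ q' := h
    rw [hf₁none] at h'
    refine (Ideal.isPrime_map_C_of_isPrime.mem_or_mem h').elim (fun h2 => hb ?_) (X_notMem_map_C q)
    rwa [← Ideal.mem_comap, comap_map_C] at h2
  let uu : Rp := algebraMap R₁ Rp (MvPolynomial.X none)
  obtain ⟨uinv, huinv⟩ := (IsLocalization.map_units Rp (⟨_, hup⟩ : p.primeCompl)).exists_left_inv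
  let η : R₀ →ₐ[k] Rp := MvPolynomial.aeval fun j => uinv * algebraMap R₁ Rp (MvPolynomial.X (some j))
  have hfpk : ∀ c, fp (algebraMap k Rp c) = algebraMap k L' c := fun c => by
    rw [IsScalarTower.algebraMap_apply k R₁ Rp, hfp, AlgHom.commutes]
    exact (IsScalarTower.algebraMap_apply k Λ[X] L' c).symm
  have hiLk : ∀ c, iL (algebraMap k L c) = algebraMap k L' c := fun c => by
    rw [IsScalarTower.algebraMap_apply k Λ L, show iL (algebraMap Λ L _) = algebraMap Λ[X] L' (C _) from
      Localization.localRingHom_to_map q q' (C : Λ →+* Λ[X]) (comap_map_C q).symm _,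
      IsScalarTower.algebraMap_apply k Λ[X] L', Polynomial.algebraMap_apply]
  have hiL : ∀ x, iL (algebraMap Λ L x) = algebraMap Λ[X] L' (C x) :=
    fun x => Localization.localRingHom_to_map q q' (C : Λ →+* Λ[X]) (comap_map_C q).symm x
  have hη : ∀ G, fp (η G) = iL (MvPolynomial.aeval v G) := fun G => by
    refine RingHom.congr_fun (MvPolynomial.ringHom_ext (f := fp.comp η.toRingHom)
      (g := iL.comp (MvPolynomial.aeval v).toRingHom) (fun c => ?_) fun j => ?_) G
    · show fp (η (MvPolynomial.C c)) = iL (MvPolynomial.aeval v (MvPolynomial.C c))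
      rw [show η (MvPolynomial.C c) = algebraMap k Rp c from MvPolynomial.aeval_C _ c, MvPolynomial.aeval_C, hfpk, hiLk]
    · show fp (η (MvPolynomial.X j)) = iL (MvPolynomial.aeval v (MvPolynomial.X j))
      rw [show η (MvPolynomial.X j) = _ from MvPolynomial.aeval_X _ j, MvPolynomial.aeval_X, map_mul, hfp, hf₁some,
        map_mul, ← hiL, ← hva, map_mul, hiL b]
      calc fp uinv * (algebraMap Λ[X] L' (C b) * iL (v j) * algebraMap Λ[X] L' X)
          = fp uinv * algebraMap Λ[X] L' (C b * X) * iL (v j) := by rw [map_mul]; ring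
        _ = iL (v j) := by rw [← hf₁none, ← hfp, ← map_mul, huinv, map_one, one_mul]
  have hunit : ∀ y : p₀.primeCompl, IsUnit (η (y : R₀)) := fun y => by
    haveI : IsLocalHom fp := Localization.isLocalHom_localRingHom p q' f₁.toRingHom rfl
    refine isUnit_of_map_unit fp _ ?_
    rw [hη]
    exact (isUnit_aeval_of_notMem v y).map _
  let j : R0loc →ₐ[k] Rp := IsLocalization.liftAlgHom (M := p₀.primeCompl) (f := η) hunit
  have hjη : ∀ G, j (algebraMap R₀ R0loc G) = η G := fun G => IsLocalization.lift_eq _ G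
  have hj : ∀ x, fp (j x) = iL (residueLocHom k v x) := fun x => by
    refine RingHom.congr_fun (IsLocalization.ringHom_ext p₀.primeCompl (j := fp.comp j.toRingHom)
      (k := iL.comp (residueLocHom k v).toRingHom) (RingHom.ext fun G => ?_)) x
    show fp (j (algebraMap R₀ R0loc G)) = iL (residueLocHom k v (algebraMap R₀ R0loc G))
    rw [hjη, residueLocHom_algebraMap, hη]
  let expand : R₁ →ₐ[k] R₀[X] :=
    MvPolynomial.aeval fun o => o.elim X fun i => X * C (MvPolynomial.X i)
  let θ : R₀[X] →+* Rp := eval₂RingHom η.toRingHom uu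
  have hθ : ∀ r, θ (expand r) = algebraMap R₁ Rp r := fun r => by
    refine RingHom.congr_fun (MvPolynomial.ringHom_ext (f := θ.comp expand.toRingHom) (g := algebraMap R₁ Rp)
      (fun c => ?_) fun o => ?_) r
    · show θ (expand (MvPolynomial.C c)) = _
      rw [show expand (MvPolynomial.C c) = algebraMap k R₀[X] c from MvPolynomial.aeval_C _ c, Polynomial.algebraMap_apply]
      show eval₂ η.toRingHom uu (C (algebraMap k R₀ c)) = _
      rw [eval₂_C]
      exact (η.commutes c).trans (IsScalarTower.algebraMap_apply k R₁ Rp c)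
    · show θ (expand (MvPolynomial.X o)) = _
      rw [show expand (MvPolynomial.X o) = _ from MvPolynomial.aeval_X _ o]
      rcases o with _ | i
      · exact eval₂_X _ _
      · show eval₂ η.toRingHom uu (X * C (MvPolynomial.X i)) = _
        rw [eval₂_mul, eval₂_X, eval₂_C]
        show uu * η (MvPolynomial.X i) = _
        rw [show η (MvPolynomial.X i) = _ from MvPolynomial.aeval_X _ i, ← mul_assoc, mul_comm uu uinv, huinv, one_mul]
  have hexp : ∀ r, (f₁ r).map (algebraMap Λ L) =
      scaleHom (MvPolynomial.aeval v : R₀ →ₐ[k] L).toRingHom (algebraMap Λ L b) (expand r) := fun r => by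
    refine RingHom.congr_fun (MvPolynomial.ringHom_ext (f := (mapRingHom (algebraMap Λ L)).comp f₁.toRingHom)
      (g := (scaleHom (MvPolynomial.aeval v : R₀ →ₐ[k] L).toRingHom (algebraMap Λ L b)).comp expand.toRingHom)
      (fun c => ?_) fun o => ?_) r
    · show (f₁ (MvPolynomial.C c)).map (algebraMap Λ L) = scaleHom _ _ (expand (MvPolynomial.C c))
      rw [show expand (MvPolynomial.C c) = algebraMap k R₀[X] c from MvPolynomial.aeval_C _ c, Polynomial.algebraMap_apply,
        scaleHom_C, show f₁ (MvPolynomial.C c) = algebraMap k Λ[X] c from MvPolynomial.aeval_C _ c,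
        Polynomial.algebraMap_apply, Polynomial.map_C, ← IsScalarTower.algebraMap_apply]
      exact congrArg C ((MvPolynomial.aeval v : R₀ →ₐ[k] L).commutes c).symm
    · show (f₁ (MvPolynomial.X o)).map (algebraMap Λ L) = scaleHom _ _ (expand (MvPolynomial.X o))
      rw [show expand (MvPolynomial.X o) = _ from MvPolynomial.aeval_X _ o]
      rcases o with _ | i
      · rw [hf₁none, Polynomial.map_mul, Polynomial.map_C, Polynomial.map_X]
        exact (scaleHom_X _ _).symm
      · rw [hf₁some, Polynomial.map_mul, Polynomial.map_C, Polynomial.map_X]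
        show _ = scaleHom _ _ (X * C (MvPolynomial.X i))
        rw [map_mul, scaleHom_X, scaleHom_C, ← hva, C_mul]
        show _ = C (algebraMap Λ L b) * X * C (MvPolynomial.aeval v (MvPolynomial.X i))
        rw [MvPolynomial.aeval_X]
        ring
  have hbu : IsUnit (algebraMap Λ L b) := IsLocalization.map_units L (⟨b, hb⟩ : q.primeCompl)
  have hpgen : maximalIdeal Rp = Ideal.span (Set.range fun i => j (F i)) := by
    refine le_antisymm ?_ (Ideal.span_le.2 ?_)
    · rw [← Localization.AtPrime.map_eq_maximalIdeal, Ideal.map_le_iff_le_comap]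
      intro r hr
      have hr' : f₁ r ∈ q' := hr
      have hcoeff : expand r ∈ p₀.map C := Ideal.mem_map_C_iff.2 fun n => by
        have h1 := Ideal.mem_map_C_iff.1 hr' n
        have h2 := congrArg (fun P => P.coeff n) (hexp r)
        simp only [Polynomial.coeff_map, coeff_scaleHom] at h2
        rw [mem_residueVanishing, residue_eq_zero_iff]
        refine (Ideal.mul_unit_mem_iff_mem _ (hbu.pow n)).1 ?_
        show MvPolynomial.aeval v _ * _ ∈ _
        rw [show MvPolynomial.aeval v ((expand r).coeff n) * algebraMap Λ L b ^ n = _ from h2.symm]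
        exact (IsLocalization.AtPrime.to_map_mem_maximal_iff L q _).2 h1
      have h3 := Ideal.mem_map_of_mem θ hcoeff
      rw [hθ, Ideal.map_map, show θ.comp C = η.toRingHom from RingHom.ext fun g => eval₂_C _ _] at h3
      rw [Ideal.mem_comap]
      refine (Ideal.map_le_iff_le_comap (f := η.toRingHom)).2 (fun g hg => ?_) h3
      rw [Ideal.mem_comap]
      show η g ∈ _
      rw [← hjη]
      have h4 := Ideal.mem_map_of_mem j ((IsLocalization.AtPrime.to_map_mem_maximal_iff R0loc p₀ g).2 hg)
      rw [← hF, Ideal.map_span, ← Set.range_comp] at h4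
      exact h4
    · rintro _ ⟨i, rfl⟩
      haveI : IsLocalHom fp := Localization.isLocalHom_localRingHom p q' f₁.toRingHom rfl
      haveI : IsLocalHom iL := Localization.isLocalHom_localRingHom q q' (C : Λ →+* Λ[X]) (comap_map_C q).symm
      show j (F i) ∈ maximalIdeal Rp
      rw [mem_maximalIdeal, mem_nonunits_iff, ← isUnit_map_iff fp, hj, isUnit_map_iff iL, ← mem_nonunits_iff,
        ← mem_maximalIdeal, ← hFL]
      exact Ideal.subset_span ⟨i, rfl⟩
  choose F₁ w hw hF₁ using fun i => exists_mk'_unit_mul p (j (F i))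
  obtain ⟨hreg', hdim', hm'⟩ := regular_dim_map_C q hd
  letI algΛ : Algebra R₁ Λ[X] := f₁.toRingHom.toAlgebra
  haveI : IsScalarTower k R₁ Λ[X] := IsScalarTower.of_algebraMap_eq fun c => (f₁.commutes c).symm
  have hspanB : Ideal.span (Set.range fun i => algebraMap R₁ Rp (F₁ i)) = maximalIdeal Rp := by
    rw [hpgen]
    exact span_range_unit_mul _ _ fun i => ⟨w i, hw i, hF₁ i⟩
  have hspanT : Ideal.span (Set.range fun i => algebraMap Λ[X] L' (f₁ (F₁ i))) = maximalIdeal L' := by
    rw [span_range_unit_mul (fun i => iL (residueLocHom k v (F i))) _ fun i =>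
      ⟨fp (w i), (hw i).map fp, by rw [← hfp, hF₁, map_mul, hj]⟩, ← hm', ← hFL, Ideal.map_span, ← Set.range_comp]
    rfl
  have hinf' : Infinite (Λ[X] ⧸ q') := infinite_quotient_map_C q hinf
  let st : Stage (k := k) f₁.toRingHom q' d :=
    { base := R₁
      tgt := Λ[X]
      q := q'
      baseHom := AlgHom.id k R₁
      tgtHom := AlgHom.id k Λ[X]
      comm := fun _ => rfl
      comap_eq := Ideal.comap_id q'
      descends := descends_id q'
      infinite_quotient := hinf'
      regular := hreg'
      dim := hdim'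
      param := F₁
      span_base := hspanB
      span_tgt := hspanT }
  exact ⟨R₁, inferInstance, inferInstance, f₁.toRingHom, F₁, st, j, fun _ => rfl, hj⟩

end TransLib
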