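import Groth.Agent.CohenLib.GeomRegField
import Groth.Agent.CohenLib.DerExt
import Groth.Agent.JacFSLib.GeomReg

/-!
# Parameters detected by differentials
-/

set_option autoImplicit false

universe u

open IsLocalRing TensorProduct MvPolynomial

namespace TransLib

/-- A derivation into the cotangent space which is the projection on the maximal ideal. -/
theorem exists_cotangent_derivation (P R : Type u) [Field P] [PerfectField P] [CommRing R] [IsLocalRing R]
    [Algebra P R] :
    ∃ D : Derivation ℤ R (CotangentSpace R), ∀ (x : R) (hx : x ∈ maximalIdeal R),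
      D x = (maximalIdeal R).toCotangent ⟨x, hx⟩ := by
  let κ := ResidueField R
  have : Algebra.FormallySmooth P κ := Groth.Agent.PerfectFieldLib.formallySmooth_of_perfectField P κ
  let g : R ⧸ maximalIdeal R ^ 2 →ₐ[P] κ :=
    Ideal.Quotient.liftₐ (maximalIdeal R ^ 2) (IsScalarTower.toAlgHom P R κ) fun x hx =>
      (residue_eq_zero_iff x).2 (Ideal.pow_le_self two_ne_zero hx)
  have hg : ∀ r : R, g (Ideal.Quotient.mk _ r) = residue R r := fun r => rfl
  have hgsurj : Function.Surjective g := fun a => by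
    obtain ⟨r, rfl⟩ := residue_surjective a
    exact ⟨_, hg r⟩
  have hnil : IsNilpotent (RingHom.ker (g : R ⧸ maximalIdeal R ^ 2 →+* κ)) := by
    refine ⟨2, le_bot_iff.1 ?_⟩
    have hker : RingHom.ker (g : R ⧸ maximalIdeal R ^ 2 →+* κ) ≤
        (maximalIdeal R).map (Ideal.Quotient.mk (maximalIdeal R ^ 2)) := fun z hz => by
      obtain ⟨r, rfl⟩ := Ideal.Quotient.mk_surjective z
      exact Ideal.mem_map_of_mem _ ((residue_eq_zero_iff r).1 ((hg r).symm.trans hz))
    refine (Ideal.pow_right_mono hker 2).trans ?_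
    rw [← Ideal.map_pow, Ideal.map_quotient_self]
  let s : κ →ₐ[P] R ⧸ maximalIdeal R ^ 2 := Algebra.FormallySmooth.liftOfSurjective (AlgHom.id P κ) g hgsurj hnil
  have hs : ∀ a, g (s a) = a := fun a => Algebra.FormallySmooth.liftOfSurjective_apply _ g hgsurj hnil a
  choose w hw using fun a => Ideal.Quotient.mk_surjective (s a)
  have hwres : ∀ r : R, r - w (residue R r) ∈ maximalIdeal R := fun r => by
    rw [← residue_eq_zero_iff, map_sub, ← hg (w _), hw, hs, sub_self]
  let D₀ : R → CotangentSpace R := fun r => (maximalIdeal R).toCotangent ⟨r - w (residue R r), hwres r⟩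
  have hadd : ∀ a b : R, D₀ (a + b) = D₀ a + D₀ b := fun a b => by
    simp only [D₀]
    rw [← map_add, Ideal.toCotangent_eq]
    show a + b - w (residue R (a + b)) - (a - w (residue R a) + (b - w (residue R b))) ∈ _
    rw [← Ideal.Quotient.eq_zero_iff_mem]
    simp only [map_sub, map_add, hw]
    ring
  let D₁ : R →+ CotangentSpace R := AddMonoidHom.mk' D₀ hadd
  refine ⟨Derivation.mk' D₁.toIntLinearMap fun a b => ?_, fun x hx => ?_⟩
  · show D₀ (a * b) = a • D₀ b + b • D₀ a
    simp only [D₀]
    rw [← map_smul, ← map_smul, ← map_add, Ideal.toCotangent_eq]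
    show a * b - w (residue R (a * b)) - (a * (b - w (residue R b)) + b * (a - w (residue R a))) ∈ _
    rw [show a * b - w (residue R (a * b)) - (a * (b - w (residue R b)) + b * (a - w (residue R a))) =
      -((a - w (residue R a)) * (b - w (residue R b))) + (w (residue R a) * w (residue R b) - w (residue R (a * b))) by ring]
    refine add_mem (neg_mem ?_) ?_
    · rw [pow_two]; exact Ideal.mul_mem_mul (hwres a) (hwres b)
    · rw [← Ideal.Quotient.eq_zero_iff_mem, map_sub, map_mul, hw, hw, hw, map_mul, map_mul, sub_self]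
  · show D₀ x = _
    simp only [D₀]
    rw [Ideal.toCotangent_eq]
    show x - w (residue R x) - x ∈ _
    rw [← Ideal.Quotient.eq_zero_iff_mem, map_sub, map_sub, hw, (residue_eq_zero_iff x).2 hx, map_zero]
    ring

/-- Two maps to dual numbers with the same reduction differ by the partial derivatives. -/
theorem snd_sub_snd_eq {k K ι : Type u} [CommRing k] [CommRing K] [Fintype ι] [Algebra k (TrivSqZeroExt K K)]
    (ψ₁ ψ₂ : MvPolynomial ι k →ₐ[k] TrivSqZeroExt K K) (h : ∀ i, (ψ₁ (X i)).fst = (ψ₂ (X i)).fst)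
    (F : MvPolynomial ι k) :
    (ψ₁ F).fst = (ψ₂ F).fst ∧
      (ψ₁ F).snd - (ψ₂ F).snd = ∑ i, (ψ₁ (pderiv i F)).fst * ((ψ₁ (X i)).snd - (ψ₂ (X i)).snd) := by
  classical
  induction F using MvPolynomial.induction_on with
  | C a =>
    rw [show ψ₁ (C a) = algebraMap k _ a from ψ₁.commutes a, show ψ₂ (C a) = algebraMap k _ a from ψ₂.commutes a]
    simp
  | add p q hp hq =>
    simp only [map_add, TrivSqZeroExt.fst_add, TrivSqZeroExt.snd_add, hp.1, hq.1, true_and, add_mul,
      Finset.sum_add_distrib, ← hp.2, ← hq.2]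
    ring
  | mul_X p j hp =>
    have hderiv : ∀ i, (ψ₁ (pderiv i (p * X j))).fst =
        (ψ₁ (pderiv i p)).fst * (ψ₁ (X j)).fst + (ψ₁ p).fst * (if i = j then 1 else 0) := fun i => by
      rw [pderiv_mul, map_add, map_mul, map_mul, TrivSqZeroExt.fst_add, TrivSqZeroExt.fst_mul, TrivSqZeroExt.fst_mul]
      congr 2
      rcases eq_or_ne i j with rfl | hij
      · simp
      · rw [pderiv_X_of_ne (Ne.symm hij), map_zero, TrivSqZeroExt.fst_zero, if_neg hij]
    refine ⟨by rw [map_mul, map_mul, TrivSqZeroExt.fst_mul, TrivSqZeroExt.fst_mul, hp.1, h], ?_⟩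
    have key : ∀ i, (ψ₁ (pderiv i (p * X j))).fst * ((ψ₁ (X i)).snd - (ψ₂ (X i)).snd) =
        (ψ₁ (X j)).fst * ((ψ₁ (pderiv i p)).fst * ((ψ₁ (X i)).snd - (ψ₂ (X i)).snd)) +
          if i = j then (ψ₁ p).fst * ((ψ₁ (X i)).snd - (ψ₂ (X i)).snd) else 0 := fun i => by
      rw [hderiv]; split_ifs <;> ring
    rw [Finset.sum_congr rfl fun i _ => key i, Finset.sum_add_distrib, ← Finset.mul_sum, ← hp.2,
      Finset.sum_ite_eq' Finset.univ j, if_pos (Finset.mem_univ j)]
    simp only [map_mul, TrivSqZeroExt.snd_mul, op_smul_eq_smul, smul_eq_mul, hp.1, ← h j]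
    ring

/-- Parameters of the residual relations stay independent in the cotangent space. -/
theorem linearIndependent_mod_sq {k L ι : Type u} [Field k] [CommRing L] [IsLocalRing L] [Algebra k L] [Fintype ι]
    (hL : CohenLib.LiftsAdic k L) (v : ι → L) (p : Ideal (MvPolynomial ι k)) [p.IsPrime]
    (hp : ∀ G, G ∈ p ↔ residue L (aeval v G) = 0)
    (hd : ∀ G ∈ p, ∀ i, residue L (aeval v (pderiv i G)) = 0)
    {n : Type u} (F : n → MvPolynomial ι k) (hF : ∀ l, F l ∈ p)
    (hbasis : LinearIndependent (ResidueField (Localization.AtPrime p)) fun l =>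
      (maximalIdeal (Localization.AtPrime p)).toCotangent
        ⟨algebraMap _ (Localization.AtPrime p) (F l), (IsLocalization.AtPrime.to_map_mem_maximal_iff _ p _).2 (hF l)⟩)
    [Fintype n] (c : n → L) (hc : ∑ l, c l * aeval v (F l) ∈ maximalIdeal L ^ 2) (l : n) : c l ∈ maximalIdeal L := by
  classical
  let K := ResidueField L
  let R := Localization.AtPrime p
  let ev : MvPolynomial ι k →+* K := (residue L).comp (aeval v).toRingHom
  have hu : ∀ y : p.primeCompl, IsUnit (ev y) := fun y => isUnit_iff_ne_zero.2 fun h => y.2 ((hp y).2 h)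
  let ρ : R →+* K := IsLocalization.lift hu
  have hρ : ∀ G, ρ (algebraMap _ R G) = ev G := IsLocalization.lift_eq hu
  have : IsLocalHom ρ := ⟨fun y hy => by
    by_contra hny
    obtain ⟨G, s, rfl⟩ := IsLocalization.exists_mk'_eq p.primeCompl y
    have hG : G ∈ p := by
      by_contra hG
      exact hny ((IsLocalization.AtPrime.isUnit_mk'_iff R p G s).2 hG)
    rw [IsLocalization.lift_mk', (hp G).1 hG |> fun h => show ev G = 0 from h, zero_mul] at hy
    exact not_isUnit_zero hy⟩
  let τ : ResidueField R →+* K := IsLocalRing.ResidueField.lift ρ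
  have hτ : ∀ r : R, τ (residue R r) = ρ r := fun r => rfl
  obtain ⟨P, hP, -⟩ := CohenLib.exists_perfect_subfield k
  obtain ⟨D, hD⟩ := exists_cotangent_derivation P R
  obtain ⟨φ, hφ⟩ := LinearMap.exists_extend ((Module.Basis.span hbasis).constr (ResidueField R)
    fun l' => if l' = l then (1 : ResidueField R) else 0)
  have hφF : ∀ (l' : n) (hm : algebraMap _ R (F l') ∈ maximalIdeal R),
      φ ((maximalIdeal R).toCotangent ⟨algebraMap _ R (F l'), hm⟩) = if l' = l then 1 else 0 := fun l' hm => by
    have h := LinearMap.congr_fun hφ (Module.Basis.span hbasis l')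
    rw [LinearMap.comp_apply, Module.Basis.constr_basis, Submodule.subtype_apply, Module.Basis.coe_span_apply] at h
    exact h
  have hsmul : ∀ (a : R) (z : CotangentSpace R), τ (φ (a • z)) = ρ a * τ (φ z) := fun a z => by
    rw [LinearMap.map_smul_of_tower, Algebra.smul_def, map_mul]
    rfl
  let g : R →+* TrivSqZeroExt K K :=
    { toFun := fun a => TrivSqZeroExt.inl (ρ a) + TrivSqZeroExt.inr (τ (φ (D a)))
      map_one' := by ext <;> simp
      map_zero' := by ext <;> simp
      map_add' := fun a b => by ext <;> simp <;> ring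
      map_mul' := fun a b => by
        ext
        · simp
        · simp only [Derivation.leibniz, map_add, hsmul, TrivSqZeroExt.snd_add,
            TrivSqZeroExt.snd_inl, TrivSqZeroExt.snd_inr, TrivSqZeroExt.snd_mul, TrivSqZeroExt.fst_add,
            TrivSqZeroExt.fst_inl, TrivSqZeroExt.fst_inr, zero_add, add_zero, op_smul_eq_smul, smul_eq_mul] }
  let gk : k →+* TrivSqZeroExt K K := g.comp (algebraMap k R)
  letI : Algebra k (TrivSqZeroExt K K) := gk.toAlgebra
  have hgk : ∀ a, (gk a).fst = residue L (algebraMap k L a) := fun a => by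
    show (g (algebraMap k R a)).fst = _
    rw [IsScalarTower.algebraMap_apply k (MvPolynomial ι k) R]
    simp only [g, RingHom.coe_mk, MonoidHom.coe_mk, OneHom.coe_mk, TrivSqZeroExt.fst_add, TrivSqZeroExt.fst_inl,
      TrivSqZeroExt.fst_inr, add_zero, hρ]
    show residue L (aeval v (C a)) = _
    rw [aeval_C]
  let f : TrivSqZeroExt K K →+* K := (TrivSqZeroExt.fstHom K K K).toRingHom
  let J : Ideal (TrivSqZeroExt K K) := RingHom.ker f
  have hJ : J ^ 2 = ⊥ := by
    rw [pow_two, eq_bot_iff, Ideal.mul_le]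
    intro a ha b hb
    have ha' : a.fst = 0 := ha
    have hb' : b.fst = 0 := hb
    rw [Ideal.mem_bot]
    ext <;> simp [ha', hb']
  let e : TrivSqZeroExt K K ⧸ J ≃+* K :=
    RingHom.quotientKerEquivOfSurjective (f := f) (fun a => ⟨TrivSqZeroExt.inl a, rfl⟩)
  let ψ : L →ₐ[k] TrivSqZeroExt K K ⧸ J :=
    { e.symm.toRingHom.comp (residue L) with
      commutes' := fun a => e.injective (by
        show e (e.symm (residue L (algebraMap k L a))) = e (Ideal.Quotient.mk J (gk a))
        rw [RingEquiv.apply_symm_apply]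
        exact (hgk a).symm) }
  obtain ⟨χ, hχ⟩ := hL _ J hJ ψ ⟨1, fun x hx => by
    rw [pow_one] at hx
    show e.symm (residue L x) = 0
    rw [(residue_eq_zero_iff x).2 hx, map_zero]⟩
  have hfst : ∀ x : L, (χ x).fst = residue L x := fun x => by
    have h1 := congrArg e (AlgHom.congr_fun hχ x)
    rw [show e (ψ x) = residue L x from e.apply_symm_apply _] at h1
    exact h1
  let ψ₁ : MvPolynomial ι k →ₐ[k] TrivSqZeroExt K K := χ.comp (aeval v)
  let ψ₂ : MvPolynomial ι k →ₐ[k] TrivSqZeroExt K K :=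
    { g.comp (algebraMap (MvPolynomial ι k) R) with
      commutes' := fun a => congrArg g (IsScalarTower.algebraMap_apply k (MvPolynomial ι k) R a).symm }
  have hX : ∀ i, (ψ₁ (X i)).fst = (ψ₂ (X i)).fst := fun i => by
    show (χ (aeval v (X i))).fst = (g (algebraMap _ R (X i))).fst
    rw [hfst]
    simp only [g, RingHom.coe_mk, MonoidHom.coe_mk, OneHom.coe_mk, TrivSqZeroExt.fst_add, TrivSqZeroExt.fst_inl,
      TrivSqZeroExt.fst_inr, add_zero, hρ]
    rfl
  have hsnd : ∀ l', (χ (aeval v (F l'))).snd = if l' = l then 1 else 0 := fun l' => by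
    have h1 := (snd_sub_snd_eq ψ₁ ψ₂ hX (F l')).2
    rw [Finset.sum_eq_zero fun i _ => by
      show (χ (aeval v (pderiv i (F l')))).fst * _ = 0
      rw [hfst, hd _ (hF l') i, zero_mul], sub_eq_zero] at h1
    show (ψ₁ (F l')).snd = _
    rw [h1]
    show (g (algebraMap _ R (F l'))).snd = _
    simp only [g, RingHom.coe_mk, MonoidHom.coe_mk, OneHom.coe_mk, TrivSqZeroExt.snd_add, TrivSqZeroExt.snd_inl,
      TrivSqZeroExt.snd_inr, zero_add]
    rw [hD _ ((IsLocalization.AtPrime.to_map_mem_maximal_iff _ p _).2 (hF l')), hφF]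
    split_ifs <;> simp
  have hsq : maximalIdeal L ^ 2 ≤ RingHom.ker χ.toRingHom := by
    rw [pow_two, Ideal.mul_le]
    intro a ha b hb
    have ha' : (χ a).fst = 0 := (hfst a).trans ((residue_eq_zero_iff a).2 ha)
    have hb' : (χ b).fst = 0 := (hfst b).trans ((residue_eq_zero_iff b).2 hb)
    show χ (a * b) = 0
    rw [map_mul]
    ext <;> simp [ha', hb']
  have h2 : χ (∑ l', c l' * aeval v (F l')) = 0 := hsq hc
  have h3 := congrArg TrivSqZeroExt.snd h2
  rw [map_sum, TrivSqZeroExt.snd_sum, TrivSqZeroExt.snd_zero] at h3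
  rw [← residue_eq_zero_iff]
  rw [Finset.sum_eq_single l (fun l' _ hne => ?_) (fun h => absurd (Finset.mem_univ l) h)] at h3
  · rw [map_mul, TrivSqZeroExt.snd_mul, hfst, hfst, hsnd l, if_pos rfl, op_smul_eq_smul, smul_eq_mul, smul_eq_mul,
      mul_one, (hp (F l)).1 (hF l), zero_mul, add_zero] at h3
    exact h3
  · rw [map_mul, TrivSqZeroExt.snd_mul, hfst, hfst, hsnd l', if_neg hne, op_smul_eq_smul, smul_eq_mul, smul_eq_mul,
      mul_zero, (hp (F l')).1 (hF l'), zero_mul, add_zero]

/-- Local rings of geometrically regular algebras lift adically. -/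
theorem liftsAdic_localization_of_geometricallyRegular {k C L : Type u} [Field k] [CommRing C] [IsNoetherianRing C]
    [Algebra k C] [CommRing L] [Algebra k L] [Algebra C L] [IsScalarTower k C L] [IsLocalRing L]
    (q : Ideal C) [q.IsPrime] [IsLocalization.AtPrime L q] (h : CAlg.IsGeometricallyRegular k C) :
    CohenLib.LiftsAdic k L := by
  have : IsNoetherianRing L := IsLocalization.isNoetherianRing q.primeCompl L inferInstance
  exact JacFSLib.adic_of_isGeometricallyRegular
    (JacFSLib.isGeometricallyRegular_of_isLocalization q.primeCompl h)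

end TransLib
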