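import Groth.Agent.TransLib.Conormal

/-!
# The idempotent of the conormal module of a syntomic presentation
-/

set_option autoImplicit false

universe u

open Matrix

namespace TransLib

/-- Generators of an ideal together with a lift of the idempotent cutting out the conormal module. -/
structure IdemData {P : Type u} [CommRing P] (I : Ideal P) (m : ℕ) where
  a : Fin m → P
  E : Matrix (Fin m) (Fin m) P
  gen : I = Ideal.span (Set.range a)
  idem : ∀ k l, (E * E - E) k l ∈ I ^ 2
  rel : ∀ j, a j - ∑ i, E i j * a i ∈ I ^ 2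
  ker : ∀ c : Fin m → P, ∑ i, c i * a i ∈ I ^ 2 → ∀ k, ∑ i, E k i * c i ∈ I

theorem IdemData.mem {P : Type u} [CommRing P] {I : Ideal P} {m : ℕ} (D : IdemData I m) (j : Fin m) : D.a j ∈ I :=
  D.gen.ge (Ideal.subset_span (Set.mem_range_self j))

variable {P : Type u} [CommRing P] (I : Ideal P) {m : ℕ}

theorem mul_apply_mem {A B : Matrix (Fin m) (Fin m) P} {J J' : Ideal P} (hA : ∀ k l, A k l ∈ J) (hB : ∀ k l, B k l ∈ J')
    (k l : Fin m) : (A * B) k l ∈ J * J' :=
  Matrix.mul_apply (M := A) (N := B) ▸ Ideal.sum_mem _ fun i _ => Ideal.mul_mem_mul (hA k i) (hB i l)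

theorem sum_mul_a_mem_iff (a : Fin m → P) (ha : ∀ j, a j ∈ I) (c : Fin m → P) :
    ∑ i, c i * a i ∈ I ^ 2 ↔ ∑ i, Ideal.Quotient.mk I (c i) • I.toCotangent ⟨a i, ha i⟩ = 0 := by
  have h : ∀ i, Ideal.Quotient.mk I (c i) • I.toCotangent ⟨a i, ha i⟩ = I.toCotangent (c i • ⟨a i, ha i⟩) := fun i => by
    rw [map_smul]
    rfl
  simp only [h]
  rw [← map_sum, Ideal.toCotangent_eq_zero, AddSubmonoidClass.coe_finsetSum]
  rfl

theorem idem_improve {M : Type*} [Ring M] (E : M) :
    (E + (E * E - E) * (1 - E - E)) * (E + (E * E - E) * (1 - E - E)) - (E + (E * E - E) * (1 - E - E)) =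
      (E * E - E) * (E * E - E) * ((1 - E - E) * (1 - E - E) - (4 : ℕ) • (1 : M)) := by
  have key : ((Polynomial.X : Polynomial ℤ) + (Polynomial.X * Polynomial.X - Polynomial.X) * (1 - Polynomial.X - Polynomial.X)) *
      (Polynomial.X + (Polynomial.X * Polynomial.X - Polynomial.X) * (1 - Polynomial.X - Polynomial.X)) -
        (Polynomial.X + (Polynomial.X * Polynomial.X - Polynomial.X) * (1 - Polynomial.X - Polynomial.X)) =
      (Polynomial.X * Polynomial.X - Polynomial.X) * (Polynomial.X * Polynomial.X - Polynomial.X) *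
        ((1 - Polynomial.X - Polynomial.X) * (1 - Polynomial.X - Polynomial.X) - (4 : ℕ) • 1) := by
    rw [nsmul_eq_mul]; push_cast; ring
  simpa only [map_sub, map_add, map_mul, map_one, map_nsmul, Polynomial.aeval_X] using congrArg (Polynomial.aeval E) key

/-- A finite projective conormal module gives idempotent data. -/
theorem nonempty_idemData_of_projective (hI : I.FG) [Module.Projective (P ⧸ I) I.Cotangent] :
    ∃ m, Nonempty (IdemData I m) := by
  classical
  obtain ⟨m, a, hspan⟩ := Submodule.fg_iff_exists_fin_generating_family.1 hI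
  have hspan' : I = Ideal.span (Set.range a) := hspan.symm
  have ha : ∀ j, a j ∈ I := fun j => hspan'.ge (Ideal.subset_span (Set.mem_range_self j))
  let π : (Fin m → P ⧸ I) →ₗ[P ⧸ I] I.Cotangent :=
    Fintype.linearCombination (P ⧸ I) fun i => I.toCotangent ⟨a i, ha i⟩
  have hπ : ∀ c : Fin m → P ⧸ I, π c = ∑ i, c i • I.toCotangent ⟨a i, ha i⟩ := fun c =>
    Fintype.linearCombination_apply _ _ _
  have hπs : Function.Surjective π := fun y => by
    obtain ⟨⟨x, hx⟩, rfl⟩ := I.toCotangent_surjective y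
    obtain ⟨c, hc⟩ := Ideal.mem_span_range_iff_exists_fun.1 (hspan'.le hx)
    refine ⟨fun i => Ideal.Quotient.mk I (c i), ?_⟩
    rw [hπ, show (⟨x, hx⟩ : I) = ∑ i, c i • ⟨a i, ha i⟩ from Subtype.ext (by
      rw [AddSubmonoidClass.coe_finsetSum]; exact hc.symm), map_sum]
    exact Finset.sum_congr rfl fun i _ => by rw [map_smul]; rfl
  obtain ⟨s, hs⟩ := Module.projective_lifting_property π LinearMap.id hπs
  choose E₀ hE₀ using fun k l => Ideal.Quotient.mk_surjective (s (I.toCotangent ⟨a l, ha l⟩) k)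
  let E : Matrix (Fin m) (Fin m) P := Matrix.of E₀
  have hse : ∀ (c : Fin m → P ⧸ I) k, s (π c) k = ∑ i, Ideal.Quotient.mk I (E k i) * c i := fun c k => by
    rw [hπ, map_sum, Finset.sum_apply]
    exact Finset.sum_congr rfl fun i _ => by rw [map_smul, Pi.smul_apply, smul_eq_mul, mul_comm, ← hE₀]; rfl
  have hπs' : ∀ y, π (s y) = y := fun y => LinearMap.congr_fun hs y
  have hker : ∀ c : Fin m → P, ∑ i, c i * a i ∈ I ^ 2 → ∀ k, ∑ i, E k i * c i ∈ I := by
    intro c hc k
    rw [sum_mul_a_mem_iff I a ha, ← hπ] at hc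
    have h := hse (fun i => Ideal.Quotient.mk I (c i)) k
    rw [hc, map_zero, Pi.zero_apply] at h
    rw [← Ideal.Quotient.eq_zero_iff_mem, map_sum]
    exact (Finset.sum_congr rfl fun i _ => map_mul _ _ _).trans h.symm
  have hrel : ∀ j, a j - ∑ i, E i j * a i ∈ I ^ 2 := by
    intro j
    have h1 : a j - ∑ i, E i j * a i = ∑ i, ((if i = j then 1 else 0) - E i j) * a i := by
      simp [sub_mul, Finset.sum_sub_distrib]
    rw [h1, sum_mul_a_mem_iff I a ha]
    have h2 := hπs' (I.toCotangent ⟨a j, ha j⟩)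
    rw [hπ] at h2
    simp only [map_sub, sub_smul, Finset.sum_sub_distrib, sub_eq_zero]
    refine Eq.trans ?_ (h2.symm.trans (Finset.sum_congr rfl fun i _ => by rw [← hE₀]; rfl))
    simp [apply_ite (Ideal.Quotient.mk I), ite_smul]
  have hidem : ∀ k l, (E * E - E) k l ∈ I := fun k l => by
    rw [Matrix.sub_apply, ← Ideal.Quotient.eq_zero_iff_mem, map_sub, sub_eq_zero, Matrix.mul_apply, map_sum]
    have h1 := hse (s (I.toCotangent ⟨a l, ha l⟩)) k
    rw [hπs'] at h1
    refine Eq.trans (Finset.sum_congr rfl fun i _ => ?_) (h1.symm.trans (hE₀ k l).symm)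
    rw [map_mul, ← hE₀ i l]
    rfl
  let D := E * E - E
  let E' := E + D * (1 - E - E)
  have hE' : E' - E = D * (1 - E - E) := add_sub_cancel_left _ _
  have hE'I : ∀ k l, (E' - E) k l ∈ I := fun k l => by
    rw [hE']
    exact (Ideal.mul_le_left : I * ⊤ ≤ I) (mul_apply_mem (A := E * E - E) (B := 1 - E - E) (J := I) (J' := ⊤)
      hidem (fun _ _ => Submodule.mem_top) k l)
  refine ⟨m, ⟨⟨a, E', hspan', fun k l => ?_, fun j => ?_, fun c hc k => ?_⟩⟩⟩
  · rw [show E' * E' - E' = (E * E - E) * (E * E - E) * ((1 - E - E) * (1 - E - E) - (4 : ℕ) • 1) from idem_improve E, pow_two]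
    exact (Ideal.mul_le_left : I * I * ⊤ ≤ I * I) (mul_apply_mem (A := (E * E - E) * (E * E - E))
      (B := (1 - E - E) * (1 - E - E) - (4 : ℕ) • 1) (J := I * I) (J' := ⊤)
      (fun k l => mul_apply_mem (A := E * E - E) (B := E * E - E) hidem hidem k l) (fun _ _ => Submodule.mem_top) k l)
  · have h : a j - ∑ i, E' i j * a i = (a j - ∑ i, E i j * a i) - ∑ i, (E' - E) i j * a i := by
      simp [Matrix.sub_apply, sub_mul, Finset.sum_sub_distrib]
    rw [h]
    exact sub_mem (hrel j) (Ideal.sum_mem _ fun i _ => by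
      rw [pow_two]; exact Ideal.mul_mem_mul (hE'I i j) (ha i))
  · have h : ∑ i, E' k i * c i = ∑ i, E k i * c i + ∑ i, (E' - E) k i * c i := by
      simp [Matrix.sub_apply, sub_mul, Finset.sum_sub_distrib]
    rw [h]
    exact add_mem (hker c hc k) (Ideal.sum_mem _ fun i _ => I.mul_mem_right _ (hE'I k i))

variable {R : Type u} [CommRing R] {n : ℕ}

/-- Syntomic presentations have idempotent data. -/
theorem nonempty_idemData (J : Ideal (MvPolynomial (Fin n) R)) (hJ : J.FG)
    (h : Synt.IsSyntomic R (MvPolynomial (Fin n) R ⧸ J)) : ∃ m, Nonempty (IdemData J m) := by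
  let S := MvPolynomial (Fin n) R ⧸ J
  let e : S ≃ₐ[S] Localization.Away (1 : S) := IsLocalization.atOne S (Localization.Away (1 : S))
  obtain ⟨-, hP⟩ := projective_conormal J 1 (isSyntomic_congr (e.restrictScalars R) h)
  let f := LocalizedModule.mkLinearMap (Submonoid.powers (1 : S)) J.Cotangent
  have hf : Function.Bijective f := by
    refine ⟨fun x y hxy => ?_, fun z => ?_⟩
    · obtain ⟨⟨_, k, rfl⟩, hk⟩ := (IsLocalizedModule.eq_iff_exists (Submonoid.powers (1 : S)) f).1 hxy
      simpa [Submonoid.smul_def] using hk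
    · obtain ⟨⟨x, ⟨_, k, rfl⟩⟩, hx⟩ := IsLocalizedModule.surj (Submonoid.powers (1 : S)) f z
      exact ⟨x, by simpa [Submonoid.smul_def] using hx.symm⟩
  have : Module.Projective (Localization.Away (1 : S)) (LocalizedModule (Submonoid.powers (1 : S)) J.Cotangent) := hP
  have hPS : Module.Projective S J.Cotangent := by
    have hLS : Module.Projective S (LocalizedModule (Submonoid.powers (1 : S)) J.Cotangent) := by
      obtain ⟨t, ht⟩ := (Module.projective_def'.1 this)
      have : Module.Projective S (LocalizedModule (Submonoid.powers (1 : S)) J.Cotangent →₀ Localization.Away (1 : S)) :=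
        Module.Projective.of_equiv (Finsupp.mapRange.linearEquiv e.toLinearEquiv)
      exact Module.Projective.of_split (t.restrictScalars S)
        ((Finsupp.linearCombination (Localization.Away (1 : S)) id).restrictScalars S)
        (LinearMap.ext fun x => LinearMap.congr_fun ht x)
    exact Module.Projective.of_equiv (LinearEquiv.ofBijective f hf).symm
  exact nonempty_idemData_of_projective J hJ

end TransLib
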