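import Mathlib

/-!
# Polynomial lemmas for lifting idempotent matrices
-/

set_option autoImplicit false

universe u

open Polynomial

namespace TransLib

variable {S : Type u} [CommRing S]

theorem monic_comp_sq_sub_X {q : S[X]} (hq : q.Monic) : (q.comp (X ^ 2 - X)).Monic := by
  nontriviality S
  have hdeg : (X ^ 2 - X : S[X]).natDegree = 2 := by
    rw [natDegree_sub_eq_left_of_natDegree_lt] <;> simp
  have hlc : (X ^ 2 - X : S[X]).leadingCoeff = 1 :=
    (monic_X_pow_sub (by simp) : (X ^ 2 - X : S[X]).Monic)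
  refine monic_of_natDegree_le_of_coeff_eq_one (q.natDegree * 2) ?_ ?_
  · exact natDegree_comp_le.trans (le_of_eq (by rw [hdeg]))
  · have h := coeff_comp_degree_mul_degree (p := q) (q := (X ^ 2 - X : S[X])) (by rw [hdeg]; norm_num)
    rw [hdeg, hlc, hq.leadingCoeff, one_pow, one_mul] at h
    exact h

theorem eq_sum_fin_of_coeff {r : S[X]} {d : ℕ} (h : ∀ k, d ≤ k → r.coeff k = 0) :
    r = ∑ k : Fin d, C (r.coeff k) * X ^ (k : ℕ) := by
  refine Polynomial.ext fun l => ?_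
  rw [finsetSum_coeff]
  by_cases hl : l < d
  · rw [Finset.sum_eq_single ⟨l, hl⟩ (fun b _ hb => by
      rw [coeff_C_mul_X_pow, if_neg (fun e => hb (Fin.ext e.symm))]) (fun hn => absurd (Finset.mem_univ _) hn),
      coeff_C_mul_X_pow, if_pos rfl]
  · rw [h l (not_lt.1 hl), Finset.sum_eq_zero fun b _ => by
      rw [coeff_C_mul_X_pow, if_neg (fun (e : l = (b : ℕ)) => hl (e.symm ▸ b.2))]]

theorem coeff_sum_fin {d : ℕ} (y : Fin d → S) (k : Fin d) : (∑ l : Fin d, C (y l) * X ^ (l : ℕ)).coeff k = y k := by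
  rw [finsetSum_coeff, Finset.sum_eq_single k (fun b _ hb => by
      rw [coeff_C_mul_X_pow, if_neg (fun e => hb (Fin.ext e.symm))]) (fun hn => absurd (Finset.mem_univ _) hn),
    coeff_C_mul_X_pow, if_pos rfl]

theorem coeff_modByMonic_of_le (q : S[X]) {p : S[X]} (hp : p.Monic) {d : ℕ} (hd : p.natDegree ≤ d) {k : ℕ} (hk : d ≤ k) :
    (q %ₘ p).coeff k = 0 := by
  nontriviality S
  refine coeff_eq_zero_of_degree_lt ((degree_modByMonic_lt q hp).trans_le ?_)
  exact degree_le_natDegree.trans (WithBot.coe_le_coe.2 (hd.trans hk))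

/-- A truncated idempotent congruent to the variable. -/
theorem exists_idem_poly (m : ℕ) : ∃ ε : S[X], (X ^ 2 - X) ^ m ∣ ε ^ 2 - ε ∧
    ∀ {M : Type u} [Ring M] [Algebra S M] (e : M), e * e = e → (m ≠ 0 ∨ Subsingleton M) → aeval e ε = e := by
  refine ⟨1 - (1 - X ^ m) ^ m, ?_, ?_⟩
  · obtain ⟨a, ha⟩ : X ^ m ∣ 1 - (1 - X ^ m : S[X]) ^ m := by
      have h := sub_dvd_pow_sub_pow (1 : S[X]) (1 - X ^ m) m
      rwa [sub_sub_cancel, one_pow] at h
    obtain ⟨b, hb⟩ : (1 - X : S[X]) ^ m ∣ (1 - X ^ m) ^ m := by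
      refine pow_dvd_pow_of_dvd ?_ m
      have h := sub_dvd_pow_sub_pow (1 : S[X]) X m
      rwa [one_pow] at h
    have hm : ((X ^ 2 - X : S[X])) ^ m = (-1) ^ m * (X ^ m * (1 - X) ^ m) := by
      rw [← mul_pow, ← mul_pow]
      ring
    refine ⟨(-1) ^ m * (-(a * b)), ?_⟩
    rw [hm, show (-1 : S[X]) ^ m * (X ^ m * (1 - X) ^ m) * ((-1) ^ m * (-(a * b))) =
      ((-1) * (-1) : S[X]) ^ m * -((X ^ m * a) * ((1 - X) ^ m * b)) by rw [mul_pow]; ring, ← ha, ← hb,
      neg_mul_neg, one_mul, one_pow, one_mul]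
    ring
  · intro M _ _ e he hm
    rcases hm with hm | hm
    · have h1 : e ^ m = e := IsIdempotentElem.pow_eq (show IsIdempotentElem e from he) hm
      have h2 : (1 - e) ^ m = 1 - e :=
        IsIdempotentElem.pow_eq (IsIdempotentElem.one_sub (show IsIdempotentElem e from he)) hm
      simp [h1, h2]
    · exact Subsingleton.elim _ _

/-- Two idempotents modulo a monic polynomial with square-zero difference coincide. -/
theorem dvd_sub_of_idem {p U E : S[X]} (hU : p ∣ U ^ 2 - U) (hE : p ∣ E ^ 2 - E) (hδ : (U - E) ^ 2 = 0) : p ∣ U - E := by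
  obtain ⟨a, ha⟩ := hU
  obtain ⟨b, hb⟩ := hE
  refine ⟨(a - b) * (2 * E - 1) - 4 * (U - E) * b, ?_⟩
  have h : U - E = ((U ^ 2 - U) - (E ^ 2 - E)) * (2 * E - 1) - (U - E) ^ 2 * (2 * E - 1) - 4 * (U - E) * (E ^ 2 - E) := by ring
  rw [hδ, ha, hb] at h
  linear_combination h

end TransLib
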