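import Groth.Agent.TransLib.Bundle
import Groth.Agent.TransLib.LiftPoly

/-!
# Lifting a presentation with idempotent data along a surjection of base rings
-/

set_option autoImplicit false

universe u

open MvPolynomial

namespace TransLib

theorem mem_of_map_mk_eq_zero {Q : Type u} [CommRing Q] {N : Ideal Q} {p : Polynomial Q}
    (h : p.map (Ideal.Quotient.mk N) = 0) (k : ℕ) : p.coeff k ∈ N := by
  rw [← Ideal.Quotient.eq_zero_iff_mem, ← Polynomial.coeff_map, h, Polynomial.coeff_zero]

/-- Equations for a lift: `d` equations for the idempotent and `m` entries of the projected generators. -/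
theorem exists_lift_data {R : Type u} [CommRing R] (I₀ : Ideal R) {n m : ℕ} {I : Ideal (MvPolynomial (Fin n) (R ⧸ I₀))}
    (D : IdemData I m) {A₀ : Type u} [CommRing A₀] [Algebra R A₀]
    (φ₀ : MvPolynomial (Fin n) (R ⧸ I₀) →+* A₀) (hφ₀ : Function.Surjective φ₀) (hker : RingHom.ker φ₀ = I)
    (hcomm : ∀ r : R, φ₀ (C (Ideal.Quotient.mk I₀ r)) = algebraMap R A₀ r) :
    ∃ (d : ℕ) (φ : MvPolynomial (Fin (n + d)) R →ₐ[R] A₀) (eqs : Fin d → MvPolynomial (Fin (n + d)) R)
      (v : Fin m → MvPolynomial (Fin (n + d)) R) (E : Matrix (Fin m) (Fin m) (MvPolynomial (Fin (n + d)) R))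
      (h : MvPolynomial (Fin (n + d)) R),
      Function.Surjective φ ∧ (∀ k, φ (eqs k) = 0) ∧ (∀ j, φ (v j) = 0) ∧
      (∀ i j, φ (E i j) = φ₀ (D.E i j)) ∧
      (∀ j, v j - ∑ i, E i j * v i ∈ Ideal.span (Set.range eqs)) ∧ φ h = 1 ∧
      ∀ x, φ x = 0 → h * x ∈ Ideal.span (Set.range eqs) ⊔ Ideal.span (Set.range v) ⊔ I₀.map MvPolynomial.C := by
  classical
  let P := MvPolynomial (Fin n) R
  let red : P →+* MvPolynomial (Fin n) (R ⧸ I₀) := MvPolynomial.map (Ideal.Quotient.mk I₀)
  have hred : Function.Surjective red := MvPolynomial.map_surjective _ Ideal.Quotient.mk_surjective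
  choose a ha using fun j => hred (D.a j)
  choose e₀ he₀ using fun i j => hred (D.E i j)
  let eP : Matrix (Fin m) (Fin m) P := Matrix.of e₀
  let pP : Polynomial P := ((eP * eP - eP).charpoly).comp (Polynomial.X ^ 2 - Polynomial.X)
  have hpP : pP.Monic := monic_comp_sq_sub_X (Matrix.charpoly_monic _)
  let d := pP.natDegree
  let Q := MvPolynomial (Fin (n + d)) R
  let ι : P →ₐ[R] Q := bundleIncl d
  let ψ : P →+* A₀ := φ₀.comp red
  let eA : Matrix (Fin m) (Fin m) A₀ := ψ.mapMatrix eP
  have heAe : ∀ i j, eA i j = φ₀ (D.E i j) := fun i j => congrArg φ₀ (he₀ i j)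
  have hDI : ∀ x ∈ I, φ₀ x = 0 := fun x hx => RingHom.mem_ker.1 (hker.ge hx)
  have heA : eA * eA = eA := by
    have h1 : eA = φ₀.mapMatrix D.E := Matrix.ext heAe
    rw [h1, ← map_mul]
    refine sub_eq_zero.1 ?_
    rw [← map_sub]
    exact Matrix.ext fun i j => hDI _ (Ideal.pow_le_self two_ne_zero (D.idem i j))
  let π : Polynomial A₀ := pP.map ψ
  have hπ : π = (Polynomial.X ^ 2 - Polynomial.X) ^ m := by
    show (Polynomial.comp _ _).map ψ = _
    rw [Polynomial.map_comp, ← Matrix.charpoly_map, show (eP * eP - eP).map ψ = 0 from ?_, Matrix.charpoly_zero,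
      Fintype.card_fin, Polynomial.pow_comp, Polynomial.X_comp, Polynomial.map_sub, Polynomial.map_pow, Polynomial.map_X]
    show ψ.mapMatrix (eP * eP - eP) = 0
    rw [map_sub, map_mul]
    exact sub_eq_zero.2 heA
  have hπm : π.Monic := hpP.map ψ
  obtain ⟨ε, hε, hεe⟩ := exists_idem_poly (S := A₀) m
  let r := ε %ₘ π
  have hdπ : π.natDegree ≤ d := Polynomial.natDegree_map_le
  have hr : π ∣ r ^ 2 - r := by
    have hre : π ∣ ε - r := ⟨ε /ₘ π, by
      show ε - ε %ₘ π = _
      rw [sub_eq_iff_eq_add', Polynomial.modByMonic_add_div]⟩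
    have h1 : r ^ 2 - r = (ε ^ 2 - ε) - (ε - r) * (ε + r - 1) := by ring
    rw [h1]
    exact dvd_sub (hπ ▸ hε) (dvd_mul_of_dvd_left hre _)
  have hπe : Polynomial.aeval eA π = 0 := by
    rw [hπ, map_pow, map_sub, map_pow, Polynomial.aeval_X, pow_two, heA, sub_self]
    rcases Nat.eq_zero_or_pos m with hm | hm
    · subst hm; exact Subsingleton.elim _ _
    · rw [zero_pow hm.ne']
  have hre : Polynomial.aeval eA r = eA := by
    show Polynomial.aeval eA (ε %ₘ π) = eA
    rw [Polynomial.modByMonic_eq_sub_mul_div ε π, map_sub, map_mul, hπe, zero_mul, sub_zero]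
    refine hεe eA heA ?_
    rcases Nat.eq_zero_or_pos m with hm | hm
    · subst hm; exact Or.inr inferInstance
    · exact Or.inl hm.ne'
  -- the map to the quotient
  let yv : Fin d → A₀ := fun k => r.coeff k
  let φ : Q →ₐ[R] A₀ := aeval (Fin.addCases (fun i => φ₀ (X i)) yv)
  have hφι : ∀ x, φ (ι x) = ψ x := fun x => by
    refine RingHom.congr_fun (f := φ.toRingHom.comp ι.toRingHom) (g := ψ) (MvPolynomial.ringHom_ext (fun s => ?_) fun i => ?_) x
    · show φ (ι (C s)) = φ₀ (MvPolynomial.map (Ideal.Quotient.mk I₀) (C s))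
      rw [← MvPolynomial.algebraMap_eq, AlgHom.commutes, AlgHom.commutes, MvPolynomial.algebraMap_eq, MvPolynomial.map_C]
      exact (hcomm s).symm
    · show φ (bundleIncl d (X i)) = φ₀ (MvPolynomial.map (Ideal.Quotient.mk I₀) (X i))
      rw [bundleIncl, rename_X, aeval_X, Fin.addCases_left, MvPolynomial.map_X]
  have hφy : ∀ k, φ (X (Fin.natAdd n k)) = yv k := fun k => by
    show aeval _ (X _) = _
    rw [aeval_X, Fin.addCases_right]
  have hφs : Function.Surjective φ := fun z => by
    obtain ⟨x, rfl⟩ := hφ₀ z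
    obtain ⟨x, rfl⟩ := hred x
    exact ⟨ι x, hφι x⟩
  let pQ : Polynomial Q := pP.map ι.toRingHom
  have hpQ : pQ.Monic := hpP.map _
  have hpQd : pQ.natDegree ≤ d := Polynomial.natDegree_map_le
  have hpQπ : pQ.map φ.toRingHom = π := by
    rw [Polynomial.map_map]
    congr 1
    exact RingHom.ext hφι
  let U : Polynomial Q := ∑ k : Fin d, Polynomial.C (X (Fin.natAdd n k)) * Polynomial.X ^ (k : ℕ)
  have hUr : U.map φ.toRingHom = r := by
    rw [Polynomial.map_sum, eq_sum_fin_of_coeff (r := r) (d := d) fun k hk => coeff_modByMonic_of_le ε hπm hdπ hk]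
    refine Finset.sum_congr rfl fun k _ => ?_
    rw [Polynomial.map_mul, Polynomial.map_C, Polynomial.map_pow, Polynomial.map_X]
    congr 2
    exact hφy k
  let rem := (U ^ 2 - U) %ₘ pQ
  let eqs : Fin d → Q := fun k => rem.coeff k
  have hrem : ∀ k, d ≤ k → rem.coeff k = 0 := fun k hk => coeff_modByMonic_of_le _ hpQ hpQd hk
  have hφeqs : ∀ k, φ (eqs k) = 0 := fun k => by
    show φ.toRingHom (rem.coeff k) = 0
    rw [← Polynomial.coeff_map, Polynomial.map_modByMonic _ hpQ, Polynomial.map_sub, Polynomial.map_pow, hUr, hpQπ,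
      (Polynomial.modByMonic_eq_zero_iff_dvd hπm).2 hr, Polynomial.coeff_zero]
  let eQ : Matrix (Fin m) (Fin m) Q := ι.toRingHom.mapMatrix eP
  let E : Matrix (Fin m) (Fin m) Q := Polynomial.aeval eQ U
  have hpe : Polynomial.aeval eQ pQ = 0 := by
    show Polynomial.aeval eQ (Polynomial.map _ _) = 0
    rw [Polynomial.map_comp, Polynomial.map_sub, Polynomial.map_pow, Polynomial.map_X, Polynomial.aeval_comp,
      map_sub, map_pow, Polynomial.aeval_X, ← Matrix.charpoly_map]
    have he : eQ ^ 2 - eQ = (eP * eP - eP).map ι.toRingHom := by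
      show eQ ^ 2 - eQ = ι.toRingHom.mapMatrix (eP * eP - eP)
      rw [map_sub, map_mul, pow_two]
    rw [he]
    exact Matrix.aeval_self_charpoly (R := Q) ((eP * eP - eP).map ι.toRingHom)
  have hE : ∀ i j, (E * E - E) i j ∈ Ideal.span (Set.range eqs) := fun i j => by
    have h1 : E * E - E = Polynomial.aeval eQ rem := by
      show E * E - E = Polynomial.aeval eQ ((U ^ 2 - U) %ₘ pQ)
      rw [Polynomial.modByMonic_eq_sub_mul_div (U ^ 2 - U) pQ, map_sub, map_sub, map_pow, map_mul, hpe, zero_mul, sub_zero,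
        pow_two]
    rw [h1, eq_sum_fin_of_coeff hrem, map_sum, Matrix.sum_apply]
    refine sum_mem fun k _ => ?_
    rw [map_mul, Polynomial.aeval_C, ← Algebra.smul_def, Matrix.smul_apply, smul_eq_mul]
    exact Ideal.mul_mem_right _ _ (Ideal.subset_span ⟨k, rfl⟩)
  have hφE : ∀ i j, φ (E i j) = eA i j := fun i j => by
    have h1 : φ.toRingHom.mapMatrix E = Polynomial.aeval (φ.toRingHom.mapMatrix eQ) (U.map φ.toRingHom) := by
      refine Polynomial.map_aeval_eq_aeval_map ?_ U eQ
      refine RingHom.ext fun x => Matrix.ext fun i j => ?_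
      simp [Matrix.algebraMap_matrix_apply, apply_ite φ]
    have h2 : φ.toRingHom.mapMatrix eQ = eA := Matrix.ext fun i j => hφι (eP i j)
    rw [hUr, h2, hre] at h1
    exact congrFun (congrFun h1 i) j
  let v : Fin m → Q := fun j => ∑ i, E i j * ι (a i)
  have hφa : ∀ i, φ (ι (a i)) = 0 := fun i => by
    rw [hφι]
    exact (congrArg φ₀ (ha i)).trans (hDI _ (D.mem i))
  have hφv : ∀ j, φ (v j) = 0 := fun j => by
    rw [map_sum]
    exact Finset.sum_eq_zero fun i _ => by rw [map_mul, hφa, mul_zero]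
  have hvE : ∀ j, v j - ∑ i, E i j * v i ∈ Ideal.span (Set.range eqs) := fun j => by
    have h1 : v j - ∑ i, E i j * v i = -∑ l, (E * E - E) l j * ι (a l) := by
      simp only [v, Matrix.sub_apply, Matrix.mul_apply, sub_mul, Finset.sum_sub_distrib, neg_sub]
      rw [Finset.sum_congr rfl fun i (_ : i ∈ (Finset.univ : Finset (Fin m))) => Finset.mul_sum Finset.univ (fun l => E l i * ι (a l)) (E i j),
        Finset.sum_congr rfl fun l (_ : l ∈ (Finset.univ : Finset (Fin m))) => Finset.sum_mul Finset.univ (fun i => E l i * E i j) (ι (a l))]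
      rw [Finset.sum_comm]
      exact congrArg _ (Finset.sum_congr rfl fun l _ => Finset.sum_congr rfl fun i _ => by ring)
    rw [h1]
    exact neg_mem (sum_mem fun l _ => Ideal.mul_mem_right _ _ (hE l j))
  -- the kernel
  let K : Ideal Q := RingHom.ker φ.toRingHom
  let I0Q : Ideal Q := I₀.map MvPolynomial.C
  let N₀ : Ideal Q := Ideal.span (Set.range eqs) ⊔ Ideal.span (Set.range v) ⊔ I0Q
  let N : Ideal Q := N₀ ⊔ K ^ 2
  have hK2 : ∀ {x y}, x ∈ K → y ∈ K → x * y ∈ N := fun hx hy =>
    Ideal.mem_sup_right (by rw [pow_two]; exact Ideal.mul_mem_mul hx hy)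
  have hI0 : (RingHom.ker red).map ι ≤ N := by
    rw [show RingHom.ker red = I₀.map C by rw [MvPolynomial.ker_map, Ideal.mk_ker], Ideal.map_le_iff_le_comap, Ideal.map_le_iff_le_comap]
    intro s hs
    show ι (C s) ∈ N
    rw [← MvPolynomial.algebraMap_eq, AlgHom.commutes, MvPolynomial.algebraMap_eq]
    exact Ideal.mem_sup_left (Ideal.mem_sup_right (Ideal.mem_map_of_mem _ hs))
  have hιK : ∀ x, red x ∈ I → ι x ∈ K := fun x hx => (hφι x).trans (hDI _ hx)
  have hsq : ∀ x, red x ∈ I ^ 2 → ι x ∈ N := fun x hx => by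
    have hI : I ^ 2 = ((I.comap red) ^ 2).map red := by
      rw [Ideal.map_pow, Ideal.map_comap_of_surjective red hred]
    rw [hI, Ideal.mem_map_iff_of_surjective red hred] at hx
    obtain ⟨y, hy, hy'⟩ := hx
    have h1 : ι y ∈ K ^ 2 := by
      have h2 : (I.comap red).map ι ≤ K := Ideal.map_le_iff_le_comap.2 fun z hz => hιK z hz
      have h3 := Ideal.mem_map_of_mem ι hy
      rw [Ideal.map_pow] at h3
      exact Ideal.pow_right_mono h2 2 h3
    have h4 : x - y ∈ RingHom.ker red := by rw [RingHom.mem_ker, map_sub, hy', sub_self]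
    have h5 := N.add_mem (hI0 (Ideal.mem_map_of_mem ι h4)) (Ideal.mem_sup_right h1)
    rwa [map_sub, sub_add_cancel] at h5
  have hιa : ∀ j, ι (a j) ∈ N := fun j => by
    have h1 : ι (a j) = v j + (∑ i, (ι (eP i j) - E i j) * ι (a i) + ι (a j - ∑ i, eP i j * a i)) := by
      simp only [v, map_sub, map_sum, map_mul, sub_mul, Finset.sum_sub_distrib]
      ring
    rw [h1]
    refine add_mem (Ideal.mem_sup_left (Ideal.mem_sup_left (Ideal.mem_sup_right (Ideal.subset_span ⟨j, rfl⟩))))
      (add_mem (sum_mem fun i _ => hK2 ?_ (hφa i)) (hsq _ ?_))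
    · show φ (ι (eP i j) - E i j) = 0
      rw [map_sub, hφι, hφE]
      exact sub_self _
    · rw [map_sub, map_sum, ha]
      convert D.rel j using 3 with i
      rw [map_mul, ha]
      exact congrArg (· * _) (he₀ i j)
  have hιI : ∀ x, red x ∈ I → ι x ∈ N := fun x hx => by
    rw [D.gen] at hx
    obtain ⟨c, hc⟩ := Ideal.mem_span_range_iff_exists_fun.1 hx
    choose c' hc' using fun i => hred (c i)
    have h4 : x - ∑ i, c' i * a i ∈ RingHom.ker red := by
      rw [RingHom.mem_ker, map_sub, map_sum, sub_eq_zero, ← hc]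
      exact Finset.sum_congr rfl fun i _ => by rw [map_mul, hc', ha]
    have h5 := N.add_mem (hI0 (Ideal.mem_map_of_mem ι h4))
      (show ι (∑ i, c' i * a i) ∈ N by
        rw [map_sum]; exact sum_mem fun i _ => by rw [map_mul]; exact N.mul_mem_left _ (hιa i))
    rwa [map_sub, sub_add_cancel] at h5
  choose εP hεP using fun k : Fin d => (hφ₀.comp hred) (yv k)
  let Eε : Polynomial P := ∑ k : Fin d, Polynomial.C (εP k) * Polynomial.X ^ (k : ℕ)
  have hEεr : Eε.map ψ = r := by
    rw [Polynomial.map_sum, eq_sum_fin_of_coeff (r := r) (d := d) fun k hk => coeff_modByMonic_of_le ε hπm hdπ hk]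
    refine Finset.sum_congr rfl fun k _ => ?_
    rw [Polynomial.map_mul, Polynomial.map_C, Polynomial.map_pow, Polynomial.map_X]
    congr 2
    exact hεP k
  have hy : ∀ k, X (Fin.natAdd n k) - ι (εP k) ∈ N := by
    let μ := Ideal.Quotient.mk N
    let Ub := U.map μ
    let Eb := (Eε.map ι.toRingHom).map μ
    let pb := pQ.map μ
    have hpb : pb.Monic := hpQ.map _
    have hUb : pb ∣ Ub ^ 2 - Ub := by
      rw [← Polynomial.modByMonic_eq_zero_iff_dvd hpb, ← Polynomial.map_pow, ← Polynomial.map_sub,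
        ← Polynomial.map_modByMonic μ hpQ]
      refine Polynomial.ext fun k => ?_
      rw [Polynomial.coeff_map, Polynomial.coeff_zero, Ideal.Quotient.eq_zero_iff_mem]
      by_cases hk : k < d
      · exact Ideal.mem_sup_left (Ideal.mem_sup_left (Ideal.mem_sup_left (Ideal.subset_span ⟨⟨k, hk⟩, rfl⟩)))
      · rw [hrem k (not_lt.1 hk)]; exact zero_mem _
    have hEb : pb ∣ Eb ^ 2 - Eb := by
      rw [← Polynomial.modByMonic_eq_zero_iff_dvd hpb]
      simp only [Eb, pb, pQ, ← Polynomial.map_pow, ← Polynomial.map_sub, Polynomial.map_map]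
      rw [← Polynomial.map_modByMonic _ hpP]
      refine Polynomial.ext fun k => ?_
      rw [Polynomial.coeff_map, Polynomial.coeff_zero, RingHom.comp_apply, Ideal.Quotient.eq_zero_iff_mem]
      refine hιI _ (hker.le ?_)
      show ψ _ = 0
      rw [← Polynomial.coeff_map, Polynomial.map_modByMonic _ hpP, Polynomial.map_sub, Polynomial.map_pow, hEεr,
        (Polynomial.modByMonic_eq_zero_iff_dvd hπm).2 hr, Polynomial.coeff_zero]
    have hδK : ∀ k, (U - Eε.map ι.toRingHom).coeff k ∈ K := fun k => by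
      show φ.toRingHom _ = 0
      rw [← Polynomial.coeff_map, Polynomial.map_sub, hUr, Polynomial.map_map,
        show φ.toRingHom.comp ι.toRingHom = ψ from RingHom.ext hφι, hEεr, sub_self, Polynomial.coeff_zero]
    have hδ : (Ub - Eb) ^ 2 = 0 := by
      rw [← Polynomial.map_sub, ← Polynomial.map_pow]
      refine Polynomial.ext fun k => ?_
      rw [Polynomial.coeff_map, Polynomial.coeff_zero, Ideal.Quotient.eq_zero_iff_mem, pow_two, Polynomial.coeff_mul]
      exact sum_mem fun x _ => hK2 (hδK _) (hδK _)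
    have hdiv := dvd_sub_of_idem hUb hEb hδ
    intro k
    rw [← Ideal.Quotient.eq_zero_iff_mem, map_sub, sub_eq_zero]
    cases subsingleton_or_nontrivial (Q ⧸ N) with
    | inl hs => exact Subsingleton.elim _ _
    | inr hs =>
      have hP : Nontrivial P := (μ.comp ι.toRingHom).domain_nontrivial
      have hdeg : pb.natDegree = d := by
        show ((pP.map ι.toRingHom).map μ).natDegree = d
        rw [Polynomial.map_map, hpP.natDegree_map]
      have h1 : Ub - Eb = 0 := by
        by_contra hne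
        refine Polynomial.Monic.not_dvd_of_natDegree_lt hpb hne ?_ hdiv
        rw [hdeg, ← Polynomial.map_sub, Polynomial.natDegree_lt_iff_degree_lt (by rwa [Polynomial.map_sub]),
          Polynomial.degree_lt_iff_coeff_zero]
        intro l hl
        rw [Polynomial.coeff_map, Polynomial.coeff_sub, Polynomial.coeff_map]
        simp only [U, Eε, Polynomial.finsetSum_coeff, Polynomial.coeff_C_mul_X_pow]
        have hl' : ∀ b : Fin d, ¬ l = (b : ℕ) := fun b hb => (Nat.not_lt.2 hl) (hb ▸ b.2)
        simp [hl']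
      have h2 := congrArg (fun f => Polynomial.coeff f k) (sub_eq_zero.1 h1)
      simp only [Ub, Eb, Polynomial.coeff_map, U, Eε, coeff_sum_fin] at h2
      exact h2
  have hKN : K ≤ N := fun x hx => by
    let sub : Q →ₐ[R] P := aeval (Fin.addCases (fun i => X i) εP)
    have h1 : (Ideal.Quotient.mkₐ R N).comp (ι.comp sub) = Ideal.Quotient.mkₐ R N := by
      refine MvPolynomial.algHom_ext fun i => ?_
      refine Fin.addCases (fun i => ?_) (fun k => ?_) i
      · show Ideal.Quotient.mk N (ι (sub (X _))) = Ideal.Quotient.mk N (X _)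
        rw [aeval_X, Fin.addCases_left]
        exact congrArg _ (rename_X _ _)
      · show Ideal.Quotient.mk N (ι (sub (X _))) = Ideal.Quotient.mk N (X _)
        rw [aeval_X, Fin.addCases_right, Ideal.Quotient.eq, ← neg_mem_iff, neg_sub]
        exact hy k
    have h2 : ι (sub x) - x ∈ N := Ideal.Quotient.eq.1 (AlgHom.congr_fun h1 x)
    have h2' : φ (ι (sub x)) = φ x := by
      refine AlgHom.congr_fun (φ₁ := φ.comp (ι.comp sub)) (φ₂ := φ) (MvPolynomial.algHom_ext fun i => ?_) x
      refine Fin.addCases (fun i => ?_) (fun k => ?_) i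
      · show φ (ι (sub (X _))) = φ (X _)
        rw [aeval_X, Fin.addCases_left]
        exact congrArg _ (rename_X _ _)
      · show φ (ι (sub (X _))) = φ (X _)
        rw [aeval_X, Fin.addCases_right, hφι, hφy]
        exact hεP k
    have h3 : ι (sub x) ∈ N := hιI _ (hker.le (by
      show ψ (sub x) = 0
      rw [← hφι, h2']
      exact hx))
    have := sub_mem h3 h2
    rwa [sub_sub_cancel] at this
  let μ₀ := Ideal.Quotient.mk N₀
  have hKm : K.map μ₀ ≤ K.map μ₀ ^ 2 := by
    rw [← Ideal.map_pow]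
    refine (Ideal.map_mono hKN).trans ?_
    rw [Ideal.map_sup, Ideal.map_quotient_self, bot_sup_eq]
  have hN₀K : N₀ ≤ K := by
    refine sup_le (sup_le ?_ ?_) ?_
    · exact Ideal.span_le.2 (Set.range_subset_iff.2 hφeqs)
    · exact Ideal.span_le.2 (Set.range_subset_iff.2 hφv)
    · refine Ideal.map_le_iff_le_comap.2 fun s hs => ?_
      show φ (C s) = 0
      rw [← MvPolynomial.algebraMap_eq, AlgHom.commutes, ← hcomm, Ideal.Quotient.eq_zero_iff_mem.2 hs, map_zero, map_zero]
  have hKfg : (K.map μ₀).FG := by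
    have hKle : K.map μ₀ ≤ ((Ideal.span (Set.range fun i => ι (a i)) ⊔
        Ideal.span (Set.range fun k => X (Fin.natAdd n k) - ι (εP k))).map μ₀) := by
      refine Ideal.map_le_iff_le_comap.2 fun x hx => ?_
      let T : Ideal Q := N₀ ⊔ (Ideal.span (Set.range fun i => ι (a i)) ⊔
        Ideal.span (Set.range fun k => X (Fin.natAdd n k) - ι (εP k)))
      suffices x ∈ T by
        refine Ideal.mem_comap.2 ?_
        have h := Ideal.mem_map_of_mem μ₀ this
        rwa [Ideal.map_sup, Ideal.map_quotient_self, bot_sup_eq] at h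
      let sub : Q →ₐ[R] P := aeval (Fin.addCases (fun i => X i) εP)
      have h1 : (Ideal.Quotient.mkₐ R T).comp (ι.comp sub) = Ideal.Quotient.mkₐ R T := by
        refine MvPolynomial.algHom_ext fun i => ?_
        refine Fin.addCases (fun i => ?_) (fun k => ?_) i
        · show Ideal.Quotient.mk T (ι (sub (X _))) = Ideal.Quotient.mk T (X _)
          rw [aeval_X, Fin.addCases_left]
          exact congrArg _ (rename_X _ _)
        · show Ideal.Quotient.mk T (ι (sub (X _))) = Ideal.Quotient.mk T (X _)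
          rw [aeval_X, Fin.addCases_right, Ideal.Quotient.eq, ← neg_mem_iff, neg_sub]
          exact Ideal.mem_sup_right (Ideal.mem_sup_right (Ideal.subset_span ⟨k, rfl⟩))
      have h2 : ι (sub x) - x ∈ T := Ideal.Quotient.eq.1 (AlgHom.congr_fun h1 x)
      have h3 : red (sub x) ∈ I := hker.le (by
        show ψ (sub x) = 0
        rw [← hφι]
        have h4 : φ (ι (sub x) - x) = 0 := by
          have hTK : T ≤ K := sup_le hN₀K (sup_le (Ideal.span_le.2 (Set.range_subset_iff.2 hφa))
            (Ideal.span_le.2 (Set.range_subset_iff.2 fun k => by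
              show φ (X (Fin.natAdd n k) - ι (εP k)) = 0
              rw [map_sub, hφy, hφι]
              exact sub_eq_zero.2 (hεP k).symm)))
          exact hTK h2
        rwa [map_sub, show φ x = 0 from hx, sub_zero] at h4)
      rw [D.gen] at h3
      obtain ⟨c, hc⟩ := Ideal.mem_span_range_iff_exists_fun.1 h3
      choose c' hc' using fun i => hred (c i)
      have h4 : sub x - ∑ i, c' i * a i ∈ RingHom.ker red := by
        rw [RingHom.mem_ker, map_sub, map_sum, sub_eq_zero, ← hc]
        exact Finset.sum_congr rfl fun i _ => by rw [map_mul, hc', ha]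
      have h5 : ι (sub x) ∈ T := by
        have h6 : (RingHom.ker red).map ι ≤ T := by
          rw [show RingHom.ker red = I₀.map C by rw [MvPolynomial.ker_map, Ideal.mk_ker], Ideal.map_le_iff_le_comap,
            Ideal.map_le_iff_le_comap]
          intro s hs
          show ι (C s) ∈ T
          rw [← MvPolynomial.algebraMap_eq, AlgHom.commutes, MvPolynomial.algebraMap_eq]
          exact Ideal.mem_sup_left (Ideal.mem_sup_right (Ideal.mem_map_of_mem _ hs))
        have h7 := T.add_mem (h6 (Ideal.mem_map_of_mem ι h4)) (show ι (∑ i, c' i * a i) ∈ T by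
          rw [map_sum]
          exact sum_mem fun i _ => by
            rw [map_mul]
            exact T.mul_mem_left _ (Ideal.mem_sup_right (Ideal.mem_sup_left (Ideal.subset_span ⟨i, rfl⟩))))
        rwa [map_sub, sub_add_cancel] at h7
      have := sub_mem h5 h2
      rwa [sub_sub_cancel] at this
    have hge : ((Ideal.span (Set.range fun i => ι (a i)) ⊔
        Ideal.span (Set.range fun k => X (Fin.natAdd n k) - ι (εP k))).map μ₀) ≤ K.map μ₀ :=
      Ideal.map_mono (sup_le (Ideal.span_le.2 (Set.range_subset_iff.2 hφa))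
        (Ideal.span_le.2 (Set.range_subset_iff.2 fun k => by
          show φ (X (Fin.natAdd n k) - ι (εP k)) = 0
          rw [map_sub, hφy, hφι]
          exact sub_eq_zero.2 (hεP k).symm)))
    rw [le_antisymm hKle hge]
    exact Ideal.FG.map (Submodule.FG.sup (Submodule.fg_span (Set.finite_range _)) (Submodule.fg_span (Set.finite_range _))) μ₀
  obtain ⟨w, hw, hwK⟩ := Submodule.exists_sub_one_mem_and_smul_eq_zero_of_fg_of_le_smul (K.map μ₀) (K.map μ₀)
    hKfg (hKm.trans (le_of_eq (pow_two _)))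
  obtain ⟨h, rfl⟩ := Ideal.Quotient.mk_surjective w
  refine ⟨d, φ, eqs, v, E, h, hφs, hφeqs, hφv, fun i j => (hφE i j).trans (heAe i j), hvE, ?_, fun x hx => ?_⟩
  · rw [← map_one μ₀, ← map_sub, Ideal.mem_map_iff_of_surjective μ₀ Ideal.Quotient.mk_surjective] at hw
    obtain ⟨y, hyK, hy'⟩ := hw
    have h5 := sub_mem hyK (hN₀K (Ideal.Quotient.eq.1 hy'))
    rw [sub_sub_cancel] at h5
    rw [← sub_eq_zero, ← map_one φ, ← map_sub]
    exact h5
  · refine Ideal.Quotient.eq_zero_iff_mem.1 ?_
    rw [map_mul]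
    exact hwK _ (Ideal.mem_map_of_mem μ₀ hx)

end TransLib
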