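import Groth.Agent.TransLib.DesingRel
import Groth.Agent.TransLib.StdElem

/-!
# The lifting lemma
-/

set_option autoImplicit false

universe u

open MvPolynomial IsLocalRing

namespace TransLib

/-- Data lifting a presentation modulo `π ^ 2`. -/
structure LiftDatum (R : Type u) [CommRing R] (π : R) where
  n : ℕ
  m : ℕ
  f : Fin m → MvPolynomial (Fin n) R

namespace LiftDatum

variable {R : Type u} [CommRing R] {π : R} (d : LiftDatum R π)

/-- The variables. -/
abbrev Vars : Type := Fin d.n ⊕ Fin d.m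

/-- The polynomial ring. -/
abbrev Poly : Type u := MvPolynomial d.Vars R

/-- The old polynomials in the new ring. -/
noncomputable def inX : MvPolynomial (Fin d.n) R →ₐ[R] d.Poly := rename Sum.inl

/-- The defining equations. -/
noncomputable def eqn (j : Fin d.m) : d.Poly := MvPolynomial.C π * X (Sum.inr j) - d.inX (d.f j)

/-- The divided relations. -/
noncomputable def divRel (w : (Fin d.m → MvPolynomial (Fin d.n) R) × MvPolynomial (Fin d.n) R) : d.Poly :=
  (∑ j, d.inX (w.1 j) * X (Sum.inr j)) - MvPolynomial.C π * d.inX w.2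

/-- The relations among the polynomials modulo `π ^ 2`. -/
def IsRel (w : (Fin d.m → MvPolynomial (Fin d.n) R) × MvPolynomial (Fin d.n) R) : Prop :=
  ∑ j, w.1 j * d.f j = MvPolynomial.C (π ^ 2) * w.2

/-- The ideal of the lift. -/
noncomputable def ideal : Ideal d.Poly :=
  Ideal.span (Set.range d.eqn ∪ d.divRel '' {w | d.IsRel w})

/-- The lift. -/
abbrev Alg : Type u := d.Poly ⧸ d.ideal

theorem eqn_mem (j : Fin d.m) : d.eqn j ∈ d.ideal := Ideal.subset_span (Or.inl ⟨j, rfl⟩)

theorem divRel_mem {w : (Fin d.m → MvPolynomial (Fin d.n) R) × MvPolynomial (Fin d.n) R} (hw : d.IsRel w) :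
    d.divRel w ∈ d.ideal :=
  Ideal.subset_span (Or.inr ⟨w, hw, rfl⟩)

theorem algHom_C {S : Type u} [CommRing S] [Algebra R S] (Φ : d.Poly →ₐ[R] S) (a : R) :
    Φ (MvPolynomial.C a) = algebraMap R S a := by
  rw [← MvPolynomial.algebraMap_eq, Φ.commutes]

theorem algHom_eqn {S : Type u} [CommRing S] [Algebra R S] (Φ : d.Poly →ₐ[R] S) (j : Fin d.m) :
    Φ (d.eqn j) = algebraMap R S π * Φ (X (Sum.inr j)) - Φ (d.inX (d.f j)) := by
  rw [eqn, map_sub, map_mul, algHom_C]

theorem algHom_divRel {S : Type u} [CommRing S] [Algebra R S] (Φ : d.Poly →ₐ[R] S)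
    (w : (Fin d.m → MvPolynomial (Fin d.n) R) × MvPolynomial (Fin d.n) R) :
    Φ (d.divRel w) = (∑ j, Φ (d.inX (w.1 j)) * Φ (X (Sum.inr j))) - algebraMap R S π * Φ (d.inX w.2) := by
  rw [divRel, map_sub, map_mul, algHom_C, map_sum]
  simp only [map_mul]

theorem mul_divRel_eq {S : Type u} [CommRing S] [Algebra R S] (Φ : d.Poly →ₐ[R] S)
    (w : (Fin d.m → MvPolynomial (Fin d.n) R) × MvPolynomial (Fin d.n) R) (hw : d.IsRel w)
    (he : ∀ j, Φ (d.eqn j) = 0) : algebraMap R S π * Φ (d.divRel w) = 0 := by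
  have h := congrArg (fun p => Φ (d.inX p)) hw
  simp only [map_sum, map_mul] at h
  rw [show d.inX (MvPolynomial.C (π ^ 2)) = MvPolynomial.C (π ^ 2) from rename_C _ _, algHom_C, map_pow] at h
  rw [algHom_divRel, mul_sub, Finset.mul_sum, Finset.sum_congr rfl fun j _ => show
    algebraMap R S π * (Φ (d.inX (w.1 j)) * Φ (X (Sum.inr j))) = Φ (d.inX (w.1 j)) * Φ (d.inX (d.f j)) by
      rw [mul_left_comm, ← sub_eq_zero, ← mul_sub, ← algHom_eqn, he, mul_zero], h]
  ring

/-- Local standard data at a point of smoothness. -/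
structure StdData where
  c : ℕ
  rows : Fin c ↪ Fin d.m
  cols : Fin c ↪ Fin d.n
  a : MvPolynomial (Fin d.n) R
  A : Fin d.m → Fin c → MvPolynomial (Fin d.n) R
  b : Fin d.m → Fin d.m → Fin d.m → MvPolynomial (Fin d.n) R
  e : Fin d.m → MvPolynomial (Fin d.n) R
  heq : ∀ l, a * d.f l = (∑ i, A l i * d.f (rows i)) + (∑ j, (∑ k, b l j k * d.f k) * d.f j) + MvPolynomial.C (π ^ 2) * e l

namespace StdData

variable {d} (s : d.StdData)

/-- The indices outside the chosen rows. -/
abbrev Rest : Type := {l : Fin d.m // l ∉ Set.range s.rows}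

/-- The solved relations. -/
noncomputable def G (l : Fin d.m) : d.Poly :=
  d.inX s.a * X (Sum.inr l) - (∑ i, d.inX (s.A l i) * X (Sum.inr (s.rows i))) -
    MvPolynomial.C π * (∑ j, (∑ k, d.inX (s.b l j k) * X (Sum.inr k)) * X (Sum.inr j)) -
    MvPolynomial.C π * d.inX (s.e l)

theorem G_mem (l : Fin d.m) : s.G l ∈ d.ideal := by
  classical
  let w : (Fin d.m → MvPolynomial (Fin d.n) R) × MvPolynomial (Fin d.n) R :=
    (fun j => (if j = l then s.a else 0) - (∑ i, if s.rows i = j then s.A l i else 0) - ∑ k, s.b l j k * d.f k, s.e l)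
  have hw : d.IsRel w := by
    show ∑ j, ((if j = l then s.a else 0) - (∑ i, if s.rows i = j then s.A l i else 0) - ∑ k, s.b l j k * d.f k) * d.f j = _
    simp only [sub_mul, Finset.sum_sub_distrib, Finset.sum_mul, ite_mul, zero_mul]
    rw [Finset.sum_ite_eq' Finset.univ l, if_pos (Finset.mem_univ l), Finset.sum_comm (γ := Fin d.m) (α := Fin s.c)]
    simp only [Finset.sum_ite_eq, Finset.mem_univ, if_true]
    have h := s.heq l
    simp only [Finset.sum_mul] at h
    linear_combination h
  have h1 := d.divRel_mem hw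
  let q := Ideal.Quotient.mkₐ R d.ideal
  rw [← Ideal.Quotient.eq_zero_iff_mem] at h1 ⊢
  change q (d.divRel w) = 0 at h1
  show q (s.G l) = 0
  have he : ∀ k, q (d.inX (d.f k)) = algebraMap R _ π * q (X (Sum.inr k)) := fun k => by
    have h : q (d.eqn k) = 0 := Ideal.Quotient.eq_zero_iff_mem.2 (d.eqn_mem k)
    rw [algHom_eqn, sub_eq_zero] at h
    exact h.symm
  rw [algHom_divRel] at h1
  have hr : ∀ j, q (d.inX (w.1 j)) = (if j = l then q (d.inX s.a) else 0) -
      (∑ i, if s.rows i = j then q (d.inX (s.A l i)) else 0) -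
      algebraMap R _ π * ∑ k, q (d.inX (s.b l j k)) * q (X (Sum.inr k)) := fun j => by
    simp only [w, map_sub, map_sum, map_mul, apply_ite d.inX, apply_ite q, map_zero, he, Finset.mul_sum]
    exact congrArg _ (Finset.sum_congr rfl fun k _ => by ring)
  simp only [hr, sub_mul, Finset.sum_sub_distrib, Finset.sum_mul, ite_mul, zero_mul] at h1
  rw [Finset.sum_ite_eq' Finset.univ l, if_pos (Finset.mem_univ l), Finset.sum_comm (γ := Fin d.m) (α := Fin s.c)] at h1
  simp only [Finset.sum_ite_eq, Finset.mem_univ, if_true] at h1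
  simp only [G, map_sub, map_mul, map_sum, d.algHom_C q]
  refine Eq.trans ?_ h1
  simp only [Finset.mul_sum, Finset.sum_mul]
  refine congrArg₂ (· - ·) (congrArg₂ (· - ·) rfl (Finset.sum_congr rfl fun j _ => Finset.sum_congr rfl fun k _ => by ring)) rfl

/-- The minor. -/
noncomputable def δ : MvPolynomial (Fin d.n) R := Smoothing.jacobianMinor d.f s.rows s.cols

/-- The equations of the smooth cover. -/
noncomputable def covEqs : Fin s.c ⊕ s.Rest → d.Poly := Sum.elim (fun i => d.eqn (s.rows i)) (fun l => s.G l)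

/-- The chosen variables. -/
def covVar : Fin s.c ⊕ s.Rest → d.Vars := Sum.map s.cols Subtype.val

theorem covVar_injective : Function.Injective s.covVar :=
  s.cols.injective.sumMap Subtype.val_injective

/-- The Jacobian of the smooth cover. -/
noncomputable def covDet : d.Poly :=
  (Matrix.of fun p q => pderiv (s.covVar p) (s.covEqs q)).det

theorem covDet_notMem {S : Type u} [CommRing S] [Algebra R S] (Φ : d.Poly →ₐ[R] S) (Q : Ideal S) [Q.IsPrime]
    (hπ : algebraMap R S π ∈ Q) (ha : Φ (d.inX s.a) ∉ Q) (hδ : Φ (d.inX s.δ) ∉ Q) : Φ s.covDet ∉ Q := by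
  classical
  let K := Q.ResidueField
  let g : d.Poly →+* K := (algebraMap S K).comp Φ.toRingHom
  have hgπ : g (MvPolynomial.C π) = 0 := by
    show algebraMap S K (Φ (MvPolynomial.C π)) = 0
    rw [algHom_C, Ideal.algebraMap_residueField_eq_zero]; exact hπ
  have hM : (Matrix.of fun p q => pderiv (s.covVar p) (s.covEqs q)).map g =
      Matrix.fromBlocks (Matrix.of fun k i => -g (d.inX (pderiv (s.cols k) (d.f (s.rows i)))))
        (Matrix.of fun k (l : s.Rest) => g (pderiv (Sum.inl (s.cols k)) (s.G l))) 0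
        (Matrix.diagonal fun _ => g (d.inX s.a)) := by
    have hp : ∀ (l : Fin d.m) (p : MvPolynomial (Fin d.n) R), pderiv (Sum.inr l : d.Vars) (d.inX p) = 0 := fun l p =>
      pderiv_eq_zero_of_notMem_vars fun hmem => by
        have := MvPolynomial.vars_rename Sum.inl p hmem
        simp at this
    ext (k | l) (i | l') <;> simp only [Matrix.fromBlocks_apply₁₁, Matrix.fromBlocks_apply₁₂,
      Matrix.fromBlocks_apply₂₁, Matrix.fromBlocks_apply₂₂, Matrix.of_apply, Matrix.map_apply, Matrix.zero_apply]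
    · show g (pderiv (Sum.inl (s.cols k)) (d.eqn (s.rows i))) = _
      rw [eqn, map_sub (pderiv (R := R) (Sum.inl (s.cols k) : d.Vars)), pderiv_C_mul, pderiv_X_of_ne Sum.inr_ne_inl, mul_zero,
        zero_sub, map_neg]
      exact congrArg (fun t => -g t) (pderiv_rename Sum.inl_injective _ _)
    · rfl
    · show g (pderiv (Sum.inr l.1) (d.eqn (s.rows i))) = 0
      rw [eqn, map_sub (pderiv (R := R) (Sum.inr l.1 : d.Vars)), pderiv_C_mul, hp, sub_zero, map_mul, hgπ, zero_mul]
    · show g (pderiv (Sum.inr l.1) (s.G l'.1)) = _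
      rw [G, map_sub (pderiv (R := R) (Sum.inr l.1 : d.Vars)), map_sub (pderiv (R := R) (Sum.inr l.1 : d.Vars)),
        map_sub (pderiv (R := R) (Sum.inr l.1 : d.Vars)), pderiv_C_mul, pderiv_C_mul, map_sub g, map_sub g, map_sub g,
        map_mul g (MvPolynomial.C π), map_mul g (MvPolynomial.C π), hgπ, zero_mul, zero_mul, sub_zero, sub_zero,
        map_sum (pderiv (R := R) (Sum.inr l.1 : d.Vars)), Finset.sum_eq_zero fun i _ => by
          rw [pderiv_mul, hp, zero_mul, zero_add, pderiv_X_of_ne (fun h => l.2 ⟨i, Sum.inr_injective h⟩), mul_zero],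
        map_zero, sub_zero, pderiv_mul, hp, zero_mul, zero_add, pderiv_X, Pi.single_apply, Matrix.diagonal_apply]
      by_cases h : l = l'
      · subst h; simp
      · rw [if_neg h, if_neg (fun e => h (Subtype.ext (Sum.inr_injective e).symm)), mul_zero, map_zero]
  intro hmem
  have h0 : g s.covDet = 0 := by
    show algebraMap S K (Φ s.covDet) = 0
    rw [Ideal.algebraMap_residueField_eq_zero]; exact hmem
  have hdet : g s.covDet = (-1) ^ s.c * g (d.inX s.δ) * ∏ _l : s.Rest, g (d.inX s.a) := by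
    rw [covDet, RingHom.map_det, RingHom.mapMatrix_apply]
    rw [hM, Matrix.det_fromBlocks_zero₂₁, Matrix.det_diagonal]
    congr 1
    rw [show (Matrix.of fun k i => -g (d.inX (pderiv (s.cols k) (d.f (s.rows i))))) =
      -((Matrix.of fun i k => pderiv (s.cols k) (d.f (s.rows i))).map (g.comp d.inX.toRingHom)).transpose from rfl,
      Matrix.det_neg, Fintype.card_fin, Matrix.det_transpose, ← RingHom.mapMatrix_apply, ← RingHom.map_det]
    rfl
  rw [hdet] at h0
  have hgne : ∀ p : d.Poly, Φ p ∉ Q → g p ≠ 0 := fun p hp h => hp (Ideal.algebraMap_residueField_eq_zero.1 h)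
  exact mul_ne_zero (mul_ne_zero (pow_ne_zero _ (neg_ne_zero.2 one_ne_zero)) (hgne _ hδ))
    (Finset.prod_ne_zero_iff.2 fun _ _ => hgne _ ha) h0

/-- The smooth cover. -/
abbrev Cov : Type u := d.Poly ⧸ Ideal.span (Set.range s.covEqs)

theorem isStandardSmooth_cov :
    Algebra.IsStandardSmooth R (Localization.Away (Ideal.Quotient.mkₐ R (Ideal.span (Set.range s.covEqs)) s.covDet)) := by
  classical
  let r := {v : d.Vars // v ∉ Set.range s.covVar}
  let : Fintype r := Fintype.ofFinite _
  let eqv : (Fin s.c ⊕ s.Rest) ⊕ r ≃ d.Vars :=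
    (Equiv.sumCongr (Equiv.ofInjective _ s.covVar_injective) (Equiv.refl _)).trans (Equiv.sumCompl _)
  refine isStandardSmooth_away_jacobian s.covEqs (fun v : r => (X v.1 : d.Poly)) eqv (Ideal.Quotient.mkₐ R _)
    Ideal.Quotient.mk_surjective (Ideal.mk_ker) s.covDet ?_
  have hM : (Matrix.of fun p q => pderiv (eqv p) (Sum.elim s.covEqs (fun v : r => (X v.1 : d.Poly)) q)) =
      Matrix.fromBlocks (Matrix.of fun p q => pderiv (s.covVar p) (s.covEqs q)) 0
        (Matrix.of fun (v : r) q => pderiv v.1 (s.covEqs q)) 1 := by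
    ext1 p q
    rcases p with p | v <;> rcases q with q | v'
    · rfl
    · show pderiv (s.covVar p) (X v'.1) = 0
      rw [pderiv_X_of_ne fun h => v'.2 ⟨p, h.symm⟩]
    · rfl
    · show pderiv v.1 (X v'.1) = (1 : Matrix r r d.Poly) v v'
      rw [Matrix.one_apply, pderiv_X, Pi.single_apply]
      exact if_congr ⟨fun h => Subtype.ext h.symm, fun h => (congrArg Subtype.val h).symm⟩ rfl rfl
  rw [hM, Matrix.det_fromBlocks_zero₁₂, Matrix.det_one, mul_one, covDet]

/-- In a local ring all equations of the lift follow from those of the smooth cover. -/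
theorem eq_zero_of_covEqs {S : Type u} [CommRing S] [IsLocalRing S] [Algebra R S] (Φ : d.Poly →ₐ[R] S)
    (hc : ∀ q, Φ (s.covEqs q) = 0) (hπ : algebraMap R S π ∈ maximalIdeal S)
    (hf : ∀ j, Φ (d.inX (d.f j)) ∈ maximalIdeal S) (ha : IsUnit (Φ (d.inX s.a))) (hδ : IsUnit (Φ (d.inX s.δ)))
    (hann : ∀ y : S, algebraMap R S π ^ 2 * y = 0 → algebraMap R S π * y = 0) :
    ∀ p ∈ d.ideal, Φ p = 0 := by
  classical
  let p := algebraMap R S π
  let z : Fin d.m → S := fun j => Φ (X (Sum.inr j))
  let ev : MvPolynomial (Fin d.n) R →ₐ[R] S := Φ.comp d.inX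
  have hrows : ∀ i, p * z (s.rows i) = ev (d.f (s.rows i)) := fun i => by
    have h := hc (Sum.inl i)
    rw [show s.covEqs (Sum.inl i) = d.eqn (s.rows i) from rfl, algHom_eqn, sub_eq_zero] at h
    exact h
  let E : Fin d.m → S := fun l => Φ (d.eqn l)
  have hE : ∀ l, E l = p * z l - ev (d.f l) := fun l => algHom_eqn d Φ l
  have heq : ∀ l, ev s.a * ev (d.f l) = (∑ i, ev (s.A l i) * ev (d.f (s.rows i))) +
      (∑ j, (∑ k, ev (s.b l j k) * ev (d.f k)) * ev (d.f j)) + p ^ 2 * ev (s.e l) := fun l => by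
    have h := congrArg ev (s.heq l)
    simp only [map_add, map_mul, map_sum] at h
    rw [show ev (MvPolynomial.C (π ^ 2)) = p ^ 2 by rw [← MvPolynomial.algebraMap_eq, ev.commutes, map_pow]] at h
    exact h
  have hG : ∀ l ∉ Set.range s.rows, ev s.a * z l = (∑ i, ev (s.A l i) * z (s.rows i)) +
      p * (∑ j, (∑ k, ev (s.b l j k) * z k) * z j) + p * ev (s.e l) := fun l hl => by
    have h := hc (Sum.inr ⟨l, hl⟩)
    rw [show s.covEqs (Sum.inr ⟨l, hl⟩) = s.G l from rfl, G] at h
    simp only [map_sub, map_mul, map_sum, d.algHom_C Φ] at h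
    simp only [ev, z, p, AlgHom.comp_apply]
    linear_combination h
  have hstep : ∀ l, ev s.a * E l ∈ maximalIdeal S • Ideal.span (Set.range E) := fun l => by
    by_cases hl : l ∈ Set.range s.rows
    · obtain ⟨i, rfl⟩ := hl
      rw [hE, hrows, sub_self, mul_zero]
      exact zero_mem _
    have hA : ∑ i, ev (s.A l i) * (p * z (s.rows i)) = ∑ i, ev (s.A l i) * ev (d.f (s.rows i)) :=
      Finset.sum_congr rfl fun i _ => by rw [hrows]
    have h1 : ev s.a * E l = ∑ j, ∑ k, ev (s.b l j k) * (E k * (p * z j) + ev (d.f k) * E j) := by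
      have hsum : ∑ j, ∑ k, ev (s.b l j k) * (E k * (p * z j) + ev (d.f k) * E j) =
          p * p * (∑ j, (∑ k, ev (s.b l j k) * z k) * z j) -
            ∑ j, (∑ k, ev (s.b l j k) * ev (d.f k)) * ev (d.f j) := by
        simp only [Finset.mul_sum, Finset.sum_mul]
        rw [← Finset.sum_sub_distrib]
        refine Finset.sum_congr rfl fun j _ => ?_
        rw [← Finset.sum_sub_distrib]
        exact Finset.sum_congr rfl fun k _ => by simp only [hE]; ring
      have hA2 : ∑ i, ev (s.A l i) * (p * z (s.rows i)) = p * ∑ i, ev (s.A l i) * z (s.rows i) := by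
        rw [Finset.mul_sum]; exact Finset.sum_congr rfl fun i _ => by ring
      rw [hsum, hE]
      linear_combination p * hG l hl - heq l + hA - hA2
    rw [h1]
    refine Submodule.sum_mem _ fun j _ => Submodule.sum_mem _ fun k _ => Ideal.mul_mem_left _ _ (add_mem ?_ ?_)
    · rw [mul_comm (E k)]
      exact Submodule.smul_mem_smul (Ideal.mul_mem_right _ _ hπ) (Ideal.subset_span ⟨k, rfl⟩)
    · exact Submodule.smul_mem_smul (hf k) (Ideal.subset_span ⟨j, rfl⟩)
  have hEzero : ∀ l, E l = 0 := fun l => by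
    have hN : Ideal.span (Set.range E) = ⊥ := Submodule.eq_bot_of_le_smul_of_le_jacobson_bot (maximalIdeal S) _
      (Submodule.fg_span (Set.finite_range E)) (Ideal.span_le.2 (by
        rintro _ ⟨l, rfl⟩
        exact (Ideal.unit_mul_mem_iff_mem _ ha).1 (hstep l)))
      (by rw [IsLocalRing.jacobson_eq_maximalIdeal _ bot_ne_top])
    exact (Submodule.mem_bot S).1 (hN ▸ Ideal.subset_span ⟨l, rfl⟩)
  have hfp : ∀ j, p ∣ ev (d.f j) := fun j => ⟨z j, by rw [← sub_eq_zero, ← neg_eq_zero, neg_sub, ← hE, hEzero]⟩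
  -- divided relations
  have hrel : ∀ w, d.IsRel w → Φ (d.divRel w) = 0 := fun w hw => by
    let mkp : MvPolynomial (Fin d.n) R →+* S ⧸ Ideal.span {p} := (Ideal.Quotient.mk _).comp ev.toRingHom
    have hkf : ∀ j, mkp (d.f j) = 0 := fun j =>
      Ideal.Quotient.eq_zero_iff_mem.2 (Ideal.mem_span_singleton.2 (hfp j))
    have hkπ : mkp (MvPolynomial.C π) = 0 := Ideal.Quotient.eq_zero_iff_mem.2 (by
      show ev (MvPolynomial.C π) ∈ Ideal.span {p}
      rw [← MvPolynomial.algebraMap_eq, ev.commutes]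
      exact Ideal.mem_span_singleton_self _)
    have hd : ∀ (q : MvPolynomial (Fin d.n) R) (i : Fin d.n) (j : Fin d.m),
        mkp (pderiv i (q * d.f j)) = mkp q * mkp (pderiv i (d.f j)) := fun q i j => by
      rw [pderiv_mul, map_add, map_mul, map_mul, hkf, mul_zero, zero_add]
    have hdπ : ∀ (q : MvPolynomial (Fin d.n) R) (i : Fin d.n), mkp (pderiv i (MvPolynomial.C (π ^ 2) * q)) = 0 :=
      fun q i => by rw [pderiv_C_mul, map_mul, map_pow, map_pow, hkπ, zero_pow two_ne_zero, zero_mul]
    have hdl : ∀ l i, mkp s.a * mkp (pderiv i (d.f l)) = ∑ k, mkp (s.A l k) * mkp (pderiv i (d.f (s.rows k))) :=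
      fun l i => by
        have h := congrArg (fun q => mkp (pderiv i q)) (s.heq l)
        simp only [map_add, map_sum, hd, hdπ, add_zero] at h
        rw [h, Finset.sum_eq_zero (s := Finset.univ) (f := fun x : Fin d.m => (∑ k, mkp (s.b l x k * d.f k)) * _)
          fun j _ => by simp [hkf], add_zero]
    have hsum : ∀ i, ∑ j, mkp (w.1 j) * mkp (pderiv i (d.f j)) = 0 := fun i => by
      have h := congrArg (fun q => mkp (pderiv i q)) hw
      simp only [map_sum, hd, hdπ] at h
      exact h
    let A' : Fin d.m → Fin s.c → MvPolynomial (Fin d.n) R := fun j k =>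
      if s.rows k = j then s.a else if j ∈ Set.range s.rows then 0 else s.A j k
    have hA'row : ∀ (i : Fin s.c) (k : Fin s.c), A' (s.rows i) k = if k = i then s.a else 0 := fun i k => by
      simp only [A', s.rows.injective.eq_iff, Set.mem_range_self, if_true]
    have hA'rest : ∀ j ∉ Set.range s.rows, ∀ k, A' j k = s.A j k := fun j hj k => by
      simp only [A']
      rw [if_neg fun h => hj ⟨k, h⟩, if_neg hj]
    have hdl' : ∀ l i, mkp s.a * mkp (pderiv i (d.f l)) = ∑ k, mkp (A' l k) * mkp (pderiv i (d.f (s.rows k))) :=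
      fun l i => by
        by_cases hl : l ∈ Set.range s.rows
        · obtain ⟨i', rfl⟩ := hl
          simp only [hA'row, apply_ite mkp, map_zero, ite_mul, zero_mul]
          rw [Finset.sum_ite_eq' Finset.univ i', if_pos (Finset.mem_univ i')]
        · simp only [hA'rest l hl]; exact hdl l i
    let r' : Fin s.c → MvPolynomial (Fin d.n) R := fun k =>
      ∑ j, w.1 j * A' j k
    have hr' : ∀ i, ∑ k, mkp (r' k) * mkp (pderiv i (d.f (s.rows k))) = 0 := fun i => by
      have h := congrArg (mkp s.a * ·) (hsum i)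
      simp only [mul_zero, Finset.mul_sum] at h
      rw [← h]
      simp only [r', map_sum, map_mul, Finset.sum_mul]
      rw [Finset.sum_comm]
      refine Finset.sum_congr rfl fun j _ => ?_
      rw [mul_left_comm, hdl', Finset.mul_sum]
      exact Finset.sum_congr rfl fun k _ => by ring
    have hr0 : ∀ k, mkp (r' k) = 0 := fun k => by
      let M : Matrix (Fin s.c) (Fin s.c) (S ⧸ Ideal.span {p}) :=
        (Matrix.of fun i k => pderiv (s.cols k) (d.f (s.rows i))).map mkp
      have hv : Matrix.vecMul (fun k => mkp (r' k)) M = 0 := funext fun i => hr' (s.cols i)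
      have hv2 := congrArg (fun t => Matrix.vecMul t M.adjugate) hv
      simp only [Matrix.vecMul_vecMul, Matrix.mul_adjugate, Matrix.zero_vecMul] at hv2
      have h3 := congrFun hv2 k
      rw [Matrix.vecMul_smul, Matrix.vecMul_one, Pi.smul_apply, Pi.zero_apply, smul_eq_mul] at h3
      have hu : IsUnit M.det := by
        rw [show M.det = mkp s.δ from (RingHom.map_det mkp _).symm]
        exact hδ.map (Ideal.Quotient.mk _)
      exact hu.mul_right_eq_zero.1 h3
    let q : S →+* S ⧸ Ideal.span {p} := Ideal.Quotient.mk _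
    have hqp : q p = 0 := Ideal.Quotient.eq_zero_iff_mem.2 (Ideal.mem_span_singleton_self p)
    have hz : ∀ j, mkp s.a * q (z j) = ∑ k, mkp (A' j k) * q (z (s.rows k)) := fun j => by
      by_cases hj : j ∈ Set.range s.rows
      · obtain ⟨i', rfl⟩ := hj
        simp only [hA'row, apply_ite mkp, map_zero, ite_mul, zero_mul]
        rw [Finset.sum_ite_eq' Finset.univ i', if_pos (Finset.mem_univ i')]
      · show q (ev s.a) * q (z j) = _
        rw [← map_mul, hG j hj, map_add, map_add, map_mul, map_mul, hqp, zero_mul, zero_mul, add_zero, add_zero, map_sum]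
        simp only [hA'rest j hj, map_mul]
        rfl
    have hmod : p ∣ ev s.a * Φ (d.divRel w) := by
      rw [← Ideal.mem_span_singleton, ← Ideal.Quotient.eq_zero_iff_mem]
      show q (ev s.a * Φ (d.divRel w)) = 0
      rw [algHom_divRel, map_mul, map_sub, map_mul q (algebraMap R S π), hqp, zero_mul, sub_zero, map_sum]
      rw [Finset.mul_sum, Finset.sum_congr rfl fun j _ => show q (ev s.a) * q (Φ (d.inX (w.1 j)) * Φ (X (Sum.inr j))) =
        ∑ k, mkp (w.1 j * A' j k) * q (z (s.rows k)) by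
          rw [map_mul, mul_left_comm, show q (ev s.a) * q (Φ (X (Sum.inr j))) = _ from hz j, Finset.mul_sum]
          refine Finset.sum_congr rfl fun k _ => ?_
          rw [map_mul mkp, mul_assoc]
          rfl]
      rw [Finset.sum_comm]
      refine Finset.sum_eq_zero fun k _ => ?_
      rw [← Finset.sum_mul, ← map_sum, show mkp (∑ j, w.1 j * A' j k) = 0 from hr0 k, zero_mul]
    obtain ⟨y, hy⟩ := (IsUnit.dvd_mul_left ha).1 hmod
    have h0 := d.mul_divRel_eq Φ w hw hEzero
    rw [hy, ← mul_assoc, ← sq] at h0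
    rw [hy]
    exact hann y h0
  intro q hq
  refine (show d.ideal ≤ RingHom.ker Φ.toRingHom from Ideal.span_le.2 ?_) hq
  rintro _ (⟨j, rfl⟩ | ⟨w, hw, rfl⟩)
  · exact hEzero j
  · exact hrel w hw

end StdData

end LiftDatum

end TransLib
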