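import Groth.Agent.TransLib.RelNoeth
import Groth.Agent.FibDimLib.Semicont
import Groth.Agent.FibDimLib.GenericScheme

/-!
# Descent of relative global complete intersections to Noetherian rings
-/

set_option autoImplicit false

universe u

open TensorProduct CategoryTheory AlgebraicGeometry

namespace TransLib

/-- The dimension of a fibre does not depend on the extension of the residue field. -/
theorem ringKrullDim_fibre_map {R₀ R : Type u} [CommRing R₀] [CommRing R] [Algebra R₀ R] {n c : ℕ}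
    (F₀ : Fin c → MvPolynomial (Fin n) R₀) (F : Fin c → MvPolynomial (Fin n) R)
    (hF : ∀ i, MvPolynomial.map (algebraMap R₀ R) (F₀ i) = F i) (p : Ideal R) [p.IsPrime] :
    ringKrullDim (p.Fiber (Synt.RelGCIRing R n c F)) =
      ringKrullDim ((p.comap (algebraMap R₀ R)).Fiber (Synt.RelGCIRing R₀ n c F₀)) := by
  let p₀ := p.comap (algebraMap R₀ R)
  let k := p₀.ResidueField
  let L := p.ResidueField
  let φ : k →+* L := Ideal.ResidueField.map p₀ p (algebraMap R₀ R) rfl
  letI : Algebra k L := φ.toAlgebra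
  let G : Fin c → MvPolynomial (Fin n) k := fun i => MvPolynomial.map (algebraMap R₀ k) (F₀ i)
  have hG : ∀ i, MvPolynomial.map (algebraMap k L) (G i) = MvPolynomial.map (algebraMap R L) (F i) := fun i => by
    simp only [G, ← hF, MvPolynomial.map_map]
    congr 1
    exact congrArg MvPolynomial.map (RingHom.ext fun x => Ideal.ResidueField.map_algebraMap p₀ p _ rfl x)
  rw [ringKrullDim_eq_of_ringEquiv (R := p.Fiber (Synt.RelGCIRing R n c F))
      (fibreEquiv (R := R) L n c F).toRingEquiv,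
    ringKrullDim_eq_of_ringEquiv (R := p₀.Fiber (Synt.RelGCIRing R₀ n c F₀))
      (fibreEquiv (R := R₀) k n c F₀).toRingEquiv,
    ← FibDimLib.ringKrullDim_baseChange k L (MvPolynomial (Fin n) k ⧸ Ideal.span (Set.range G)),
    ringKrullDim_eq_of_ringEquiv (R := (MvPolynomial (Fin n) k ⧸ Ideal.span (Set.range G)) ⊗[k] L)
      ((Algebra.TensorProduct.comm k _ L).toRingEquiv.trans (fibreEquiv (R := k) L n c G).toRingEquiv)]
  rw [show (fun i => MvPolynomial.map (algebraMap k L) (G i)) = fun i => MvPolynomial.map (algebraMap R L) (F i) from funext hG]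

/-- A polynomial with coefficients in a subring comes from the subring. -/
theorem exists_map_eq {R₀ R : Type u} [CommRing R₀] [CommRing R] [Algebra R₀ R] {n : ℕ} (G : MvPolynomial (Fin n) R)
    (h : (G.coeffs : Set R) ⊆ Set.range (algebraMap R₀ R)) :
    ∃ G₀ : MvPolynomial (Fin n) R₀, MvPolynomial.map (algebraMap R₀ R) G₀ = G :=
  MvPolynomial.mem_range_map_iff_coeffs_subset.2 h

variable {R : Type u} [CommRing R]

/-- Finitely many polynomials descend to a finitely generated subring. -/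
theorem exists_subalgebra {n : ℕ} (S : Finset (MvPolynomial (Fin n) R)) (base : Finset R) :
    ∃ R₀ : Subalgebra ℤ R, Algebra.FiniteType ℤ R₀ ∧ (∀ r ∈ base, r ∈ R₀) ∧
      ∀ G ∈ S, ∃ G₀ : MvPolynomial (Fin n) R₀, MvPolynomial.map (algebraMap R₀ R) G₀ = G := by
  classical
  let T : Finset R := base ∪ S.biUnion fun G => G.coeffs
  refine ⟨Algebra.adjoin ℤ (T : Set R), (Subalgebra.fg_iff_finiteType _).1 (Subalgebra.fg_adjoin_finset T),
    fun r hr => Algebra.subset_adjoin (Finset.mem_union_left _ hr), fun G hG => exists_map_eq G fun x hx => ?_⟩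
  exact ⟨⟨x, Algebra.subset_adjoin (Finset.mem_union_right _ (Finset.mem_biUnion.2 ⟨G, hG, hx⟩))⟩, rfl⟩

/-- The fibre of `Spec S → Spec R` over `p` has the dimension of the fibre ring. -/
theorem topologicalKrullDim_fiber_spec (R S : Type u) [CommRing R] [CommRing S] [Algebra R S] (p : PrimeSpectrum R) :
    topologicalKrullDim ((Spec.map (CommRingCat.ofHom (algebraMap R S))).fiber p) = ringKrullDim (p.asIdeal.Fiber S) := by
  have h := FibDimLib.topologicalKrullDim_fiber_eq_iSup (Spec.map (CommRingCat.ofHom (algebraMap R S))) p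
    (ι := PUnit.{1}) (R := fun _ => CommRingCat.of S) (fun _ => 𝟙 _) (fun x => ⟨PUnit.unit, ⟨x, rfl⟩⟩)
    (fun _ => CommRingCat.ofHom (algebraMap R S)) (fun _ => (Category.id_comp _).symm)
  rw [h, ciSup_const]
  have key : ∀ i j : Algebra R S, i = j →
      ringKrullDim (letI := i; p.asIdeal.Fiber S) = ringKrullDim (letI := j; p.asIdeal.Fiber S) := by
    rintro i j rfl
    rfl
  exact key (CommRingCat.ofHom (algebraMap R S)).hom.toAlgebra inferInstance (Algebra.algebra_ext _ _ fun _ => rfl)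

/-- A relative presentation with small fibres descends. -/
theorem exists_descent {n c : ℕ} (F : Fin c → MvPolynomial (Fin n) R) (b : ℕ)
    (hdim : ∀ (p : Ideal R) [p.IsPrime], ringKrullDim (p.Fiber (Synt.RelGCIRing R n c F)) ≤ (b : WithBot ℕ∞)) :
    ∃ (R₀ : Subalgebra ℤ R) (F₀ : Fin c → MvPolynomial (Fin n) R₀), Algebra.FiniteType ℤ R₀ ∧
      (∀ i, MvPolynomial.map (algebraMap R₀ R) (F₀ i) = F i) ∧
      ∀ (p : Ideal R₀) [p.IsPrime], ringKrullDim (p.Fiber (Synt.RelGCIRing R₀ n c F₀)) ≤ (b : WithBot ℕ∞) := by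
  classical
  obtain ⟨R₀, hfin, -, hlift⟩ := exists_subalgebra (Finset.univ.image F) ∅
  choose F₀ hF₀ using fun i => hlift (F i) (Finset.mem_image_of_mem _ (Finset.mem_univ i))
  let P₀ := MvPolynomial (Fin n) R₀
  let P := MvPolynomial (Fin n) R
  let S₀ := Synt.RelGCIRing R₀ n c F₀
  let f := Spec.map (CommRingCat.ofHom (algebraMap R₀ S₀))
  have : LocallyOfFiniteType f :=
    (HasRingHomProperty.Spec_iff (P := @LocallyOfFiniteType)).2
      (RingHom.finiteType_algebraMap.2 inferInstance)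
  let U : Set (Spec (CommRingCat.of S₀)) := {x | FlatMor.fibreDimAt f x ≤ (b : WithBot ℕ∞)}
  have hU : IsOpen U := FibDimLib.isOpen_fibreDimAt_le f _
  obtain ⟨J, hJ⟩ : ∃ J : Ideal S₀, ∀ x : Spec (CommRingCat.of S₀), x ∈ U ↔ ¬ J ≤ (x : PrimeSpectrum S₀).asIdeal := by
    obtain ⟨Z, hZ⟩ := (PrimeSpectrum.isOpen_iff U).1 hU
    refine ⟨Ideal.span Z, fun x => ?_⟩
    have : x ∈ Uᶜ ↔ Z ⊆ (x : PrimeSpectrum S₀).asIdeal := Set.ext_iff.1 hZ x
    exact Set.notMem_compl_iff.symm.trans (not_congr (this.trans Ideal.span_le.symm))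
  obtain ⟨t, ht⟩ : ∃ t : Finset P₀, (Ideal.span (t : Set P₀)) = J.comap (Ideal.Quotient.mk _) := by
    have : Algebra.FiniteType ℤ R₀ := hfin
    have : IsNoetherianRing R₀ := Algebra.FiniteType.isNoetherianRing ℤ R₀
    exact IsNoetherian.noetherian _
  let μ : P₀ →+* P := MvPolynomial.map (algebraMap R₀ R)
  have htop : Ideal.span (μ '' (t : Set P₀)) ⊔ Ideal.span (Set.range F) = ⊤ := by
    by_contra hne
    obtain ⟨M, hM, hle⟩ := Ideal.exists_le_maximal _ hne
    let N := M.comap μ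
    have hIF : Ideal.span (Set.range F₀) ≤ N := Ideal.span_le.2 (Set.range_subset_iff.2 fun i => by
      show μ (F₀ i) ∈ M
      rw [show μ (F₀ i) = F i from hF₀ i]
      exact hle (Ideal.mem_sup_right (Ideal.subset_span ⟨i, rfl⟩)))
    let x : PrimeSpectrum S₀ := ⟨N.map (Ideal.Quotient.mk _),
      Ideal.map_isPrime_of_surjective Ideal.Quotient.mk_surjective (by rwa [Ideal.mk_ker])⟩
    have hx : x ∈ U := by
      have hp : (f x).asIdeal = (M.comap (algebraMap R P)).comap (algebraMap R₀ R) := by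
        show x.asIdeal.comap (algebraMap R₀ S₀) = _
        rw [IsScalarTower.algebraMap_eq R₀ P₀ S₀, ← Ideal.comap_comap]
        show ((N.map (Ideal.Quotient.mk _)).comap (Ideal.Quotient.mk _)).comap (algebraMap R₀ P₀) = _
        rw [Ideal.comap_map_of_surjective _ Ideal.Quotient.mk_surjective, ← RingHom.ker_eq_comap_bot, Ideal.mk_ker,
          sup_eq_left.2 hIF, Ideal.comap_comap, Ideal.comap_comap]
        congr 1
        refine RingHom.ext fun a => ?_
        simp [μ, P₀, P, MvPolynomial.algebraMap_eq]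
      refine (FibDimLib.fibreDimAt_le_fiber f x).trans ?_
      rw [topologicalKrullDim_fiber_spec]
      have key : ∀ (q : Ideal R₀) [q.IsPrime], q = (M.comap (algebraMap R P)).comap (algebraMap R₀ R) →
          ringKrullDim (q.Fiber S₀) ≤ (b : WithBot ℕ∞) := by
        intro q _ hq
        subst hq
        rw [← ringKrullDim_fibre_map F₀ F hF₀]
        exact hdim _
      exact key _ hp
    refine (hJ x).1 hx ?_
    intro y hy
    obtain ⟨z, rfl⟩ := Ideal.Quotient.mk_surjective y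
    refine Ideal.mem_map_of_mem _ ?_
    have : z ∈ Ideal.span (t : Set P₀) := by rw [ht]; exact hy
    exact (Ideal.map_le_iff_le_comap.1 (by rw [Ideal.map_span]; exact le_sup_left.trans hle) :
      Ideal.span (t : Set P₀) ≤ M.comap μ) this
  obtain ⟨u, hu, v, hv, huv⟩ := Submodule.mem_sup.1 (htop.ge (Submodule.mem_top (x := (1 : P))))
  rw [← Finset.coe_image] at hu
  obtain ⟨a, -, ha⟩ := Submodule.mem_span_finset.1 hu
  obtain ⟨g, hg⟩ := (Submodule.mem_span_range_iff_exists_fun P).1 hv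
  obtain ⟨gens, hgens⟩ := (Subalgebra.fg_iff_finiteType R₀).2 hfin
  obtain ⟨R₁, hfin₁, hle₁, hlift₁⟩ := exists_subalgebra ((t.image μ).image a ∪ Finset.univ.image g) gens
  have hsub : R₀ ≤ R₁ := by rw [← hgens]; exact Algebra.adjoin_le fun r hr => hle₁ r hr
  letI : Algebra R₀ R₁ := (Subalgebra.inclusion hsub).toRingHom.toAlgebra
  have : IsScalarTower R₀ R₁ R := IsScalarTower.of_algebraMap_eq fun _ => rfl
  let ν : P₀ →+* MvPolynomial (Fin n) R₁ := MvPolynomial.map (algebraMap R₀ R₁)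
  have hν : ∀ z, MvPolynomial.map (algebraMap R₁ R) (ν z) = μ z := fun z => by
    simp only [ν, μ]
    rw [MvPolynomial.map_map, ← IsScalarTower.algebraMap_eq]
  refine ⟨R₁, fun i => ν (F₀ i), hfin₁, fun i => (hν _).trans (hF₀ i), fun p hp => ?_⟩
  rw [ringKrullDim_fibre_map F₀ (fun i => ν (F₀ i)) (fun i => rfl) p, ← topologicalKrullDim_fiber_spec R₀ S₀
    ⟨p.comap (algebraMap R₀ R₁), inferInstance⟩, FibDimLib.topologicalKrullDim_fiber_le_iff]
  intro x hx
  refine (hJ x).2 fun hJx => ?_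
  let p₀ := p.comap (algebraMap R₀ R₁)
  have hxp : x.asIdeal.comap (algebraMap R₀ S₀) = p₀ := congrArg PrimeSpectrum.asIdeal hx
  let Fib := p₀.ResidueField ⊗[R₀] S₀
  obtain ⟨Q₀, hQ₀⟩ : ∃ Q₀ : PrimeSpectrum Fib, Q₀.asIdeal.comap Algebra.TensorProduct.includeRight = x.asIdeal :=
    ⟨PrimeSpectrum.preimageEquivFiber R₀ S₀ ⟨p₀, inferInstance⟩ ⟨x, hx⟩,
      congrArg (fun x => PrimeSpectrum.asIdeal x.1) ((PrimeSpectrum.preimageEquivFiber R₀ S₀ ⟨p₀, inferInstance⟩).symm_apply_apply
        ⟨x, hx⟩)⟩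
  let L := p.ResidueField
  letI : Algebra p₀.ResidueField L := (Ideal.ResidueField.map p₀ p (algebraMap R₀ R₁) rfl).toAlgebra
  letI hC : CommRing Fib := inferInstanceAs (CommRing (p₀.ResidueField ⊗[R₀] S₀))
  letI hA : Algebra p₀.ResidueField Fib := inferInstanceAs (Algebra p₀.ResidueField (p₀.ResidueField ⊗[R₀] S₀))
  obtain ⟨Q₁, hQ₁⟩ := PrimeSpectrum.comap_surjective_of_faithfullyFlat (A := Fib) (B := Fib ⊗[p₀.ResidueField] L) Q₀
  let D := (Fib ⊗[p₀.ResidueField] L) ⧸ Q₁.asIdeal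
  let ψL : L →+* D := (Ideal.Quotient.mk _).comp Algebra.TensorProduct.includeRight.toRingHom
  let ψS : S₀ →+* D :=
    ((Ideal.Quotient.mk _).comp (algebraMap Fib (Fib ⊗[p₀.ResidueField] L))).comp Algebra.TensorProduct.includeRight.toRingHom
  have hψS : ∀ s, ψS s = 0 ↔ s ∈ x.asIdeal := fun s => by
    rw [← hQ₀, ← hQ₁]
    exact Ideal.Quotient.eq_zero_iff_mem
  have hcompat : ∀ r : R₀, ψL (algebraMap R₁ L (algebraMap R₀ R₁ r)) = ψS (algebraMap R₀ S₀ r) := by
    intro r
    show Ideal.Quotient.mk _ ((1 : Fib) ⊗ₜ algebraMap R₁ L (algebraMap R₀ R₁ r)) =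
      Ideal.Quotient.mk _ (((1 : p₀.ResidueField) ⊗ₜ[R₀] algebraMap R₀ S₀ r) ⊗ₜ (1 : L))
    congr 1
    rw [show algebraMap R₁ L (algebraMap R₀ R₁ r) = algebraMap p₀.ResidueField L (algebraMap R₀ p₀.ResidueField r) from
      (Ideal.ResidueField.map_algebraMap p₀ p _ rfl r).symm, Algebra.algebraMap_eq_smul_one (R := p₀.ResidueField) (A := L),
      TensorProduct.tmul_smul, TensorProduct.smul_tmul', ← Algebra.algebraMap_eq_smul_one]
    congr 1
    exact Algebra.TensorProduct.tmul_one_eq_one_tmul r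
  let Φ : MvPolynomial (Fin n) R₁ →+* D := MvPolynomial.eval₂Hom (ψL.comp (algebraMap R₁ L))
    fun j => ψS (Ideal.Quotient.mk _ (MvPolynomial.X j))
  have hΦ : ∀ z : P₀, Φ (ν z) = ψS (Ideal.Quotient.mk _ z) := by
    intro z
    suffices H : Φ.comp ν = ψS.comp (Ideal.Quotient.mk _) from RingHom.congr_fun H z
    refine MvPolynomial.ringHom_ext (fun r => ?_) (fun j => ?_)
    · simp only [RingHom.comp_apply, ν, Φ, MvPolynomial.map_C, MvPolynomial.eval₂Hom_C]
      exact hcompat r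
    · simp only [RingHom.comp_apply, ν, Φ, MvPolynomial.map_X, MvPolynomial.eval₂Hom_X']
  choose a₁ ha₁ using fun z (hz : z ∈ t.image μ) =>
    hlift₁ (a z) (Finset.mem_union_left _ (Finset.mem_image_of_mem _ hz))
  choose g₁ hg₁ using fun i => hlift₁ (g i) (Finset.mem_union_right _ (Finset.mem_image_of_mem _ (Finset.mem_univ i)))
  choose pre hpre hpre' using fun z (hz : z ∈ t.image μ) => Finset.mem_image.1 hz
  let one₁ : MvPolynomial (Fin n) R₁ :=
    ∑ z ∈ (t.image μ).attach, a₁ z.1 z.2 * ν (pre z.1 z.2) + ∑ i, g₁ i * ν (F₀ i)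
  have hone : one₁ = 1 := by
    refine MvPolynomial.map_injective (algebraMap R₁ R) Subtype.val_injective ?_
    simp only [one₁, map_add, map_sum, map_mul, map_one, hν, ha₁, hg₁, show ∀ i, μ (F₀ i) = F i from hF₀, hpre']
    rw [Finset.sum_attach (t.image μ) (fun z => a z * z), ← huv, ← ha, ← hg]
    simp only [smul_eq_mul]
  have h1 : Φ one₁ = 0 := by
    simp only [one₁, map_add, map_sum, map_mul, hΦ]
    rw [Finset.sum_eq_zero fun z _ => ?_, Finset.sum_eq_zero fun i _ => ?_, add_zero]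
    · rw [show Ideal.Quotient.mk (Ideal.span (Set.range F₀)) (F₀ i) = 0 from
        Ideal.Quotient.eq_zero_iff_mem.2 (Ideal.subset_span ⟨i, rfl⟩), map_zero, mul_zero]
    · rw [(hψS _).2 (hJx ?_), mul_zero]
      exact ht.le (Ideal.subset_span (hpre z.1 z.2))
  rw [hone, map_one] at h1
  exact one_ne_zero h1

end TransLib
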