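import Groth.Agent.TransLib.RelField
import Groth.Agent.TransLib.Lift
import Mathlib.RingTheory.Flat.Localization

/-!
# Relative global complete intersections over a Noetherian base
-/

set_option autoImplicit false

universe u

open TensorProduct RingTheory.Sequence

namespace TransLib

variable {R : Type u} [CommRing R]

/-- The fibre of a presentation is cut out in the expected dimension. -/
theorem fibre_dim_le {n c : ℕ} (F : Fin c → MvPolynomial (Fin n) R) (p : Ideal R) [p.IsPrime]
    (h : ringKrullDim (p.Fiber (Synt.RelGCIRing R n c F)) ≤ ((n - c : ℕ) : WithBot ℕ∞)) :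
    ringKrullDim (MvPolynomial (Fin n) p.ResidueField ⧸
      Ideal.span (Set.range fun i => MvPolynomial.map (algebraMap R p.ResidueField) (F i))) ≤
      ((n - c : ℕ) : WithBot ℕ∞) := by
  exact (ringKrullDim_eq_of_ringEquiv (R := p.Fiber (Synt.RelGCIRing R n c F))
    (fibreEquiv p.ResidueField n c F).toRingEquiv).symm.trans_le h

/-- At a prime of the fibre, the equations form a regular sequence on the fibre local ring. -/
theorem regular_fibre {n c : ℕ} (hc : c ≤ n) (F : Fin c → MvPolynomial (Fin n) R) (p : Ideal R) [p.IsPrime]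
    (h : ringKrullDim (p.Fiber (Synt.RelGCIRing R n c F)) ≤ ((n - c : ℕ) : WithBot ℕ∞))
    (q : Ideal (p.Fiber (MvPolynomial (Fin n) R))) [q.IsPrime]
    (hq : ∀ i, (1 : p.ResidueField) ⊗ₜ[R] F i ∈ q) :
    IsRegular (Localization.AtPrime q)
      ((List.ofFn fun i => (1 : p.ResidueField) ⊗ₜ[R] F i).map
        (algebraMap (p.Fiber (MvPolynomial (Fin n) R)) (Localization.AtPrime q))) := by
  let e : p.Fiber (MvPolynomial (Fin n) R) ≃+* MvPolynomial (Fin n) p.ResidueField :=
    (MvPolynomial.algebraTensorAlgEquiv (σ := Fin n) R p.ResidueField).toRingEquiv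
  have he : ∀ i, e ((1 : p.ResidueField) ⊗ₜ[R] F i) = MvPolynomial.map (algebraMap R p.ResidueField) (F i) := fun i => by
    show MvPolynomial.algebraTensorAlgEquiv R p.ResidueField _ = _
    rw [MvPolynomial.algebraTensorAlgEquiv_tmul, one_smul]
  let qk : Ideal (MvPolynomial (Fin n) p.ResidueField) := q.comap e.symm
  have hqk : qk.comap e = q := by
    ext x
    simp [qk]
  have h1 := regular_localization_of_dim p.ResidueField n c hc _ (fibre_dim_le F p h) qk
    (Ideal.span_le.2 (Set.range_subset_iff.2 fun i => by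
      show e.symm _ ∈ q
      rw [← he, e.symm_apply_apply]
      exact hq i))
  let E : Localization.AtPrime q ≃+* Localization.AtPrime qk :=
    IsLocalization.ringEquivOfRingEquiv (M := q.primeCompl) (T := qk.primeCompl) (Localization.AtPrime q)
      (Localization.AtPrime qk) e (by
      ext x
      constructor
      · rintro ⟨y, hy, rfl⟩
        show e y ∉ qk
        rw [← Ideal.mem_comap, hqk]
        exact hy
      · intro hx
        exact ⟨e.symm x, hx, e.apply_symm_apply x⟩)
  have h2 := isRegular_of_ringEquiv (S := Localization.AtPrime qk) (S' := Localization.AtPrime q) E.symm h1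
  convert h2 using 1
  rw [List.map_ofFn, List.map_ofFn, List.map_ofFn]
  congr 1
  funext i
  simp only [Function.comp_apply]
  rw [RingEquiv.eq_symm_apply, ← he]
  exact IsLocalization.ringEquivOfRingEquiv_eq (M := q.primeCompl) (T := qk.primeCompl) _ _

theorem regular_flat_localization_aux [IsNoetherianRing R] {n c : ℕ} (hc : c ≤ n) (F : Fin c → MvPolynomial (Fin n) R)
    (p : Ideal R) [p.IsPrime]
    (hdim : ringKrullDim (p.Fiber (Synt.RelGCIRing R n c F)) ≤ ((n - c : ℕ) : WithBot ℕ∞))
    (q : Ideal (p.Fiber (MvPolynomial (Fin n) R))) [q.IsPrime] (r : Ideal (MvPolynomial (Fin n) R)) [r.IsPrime]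
    (hqr : q.comap (Algebra.TensorProduct.includeRight : MvPolynomial (Fin n) R →ₐ[R] p.Fiber (MvPolynomial (Fin n) R)) = r)
    (hp : r.comap (algebraMap R (MvPolynomial (Fin n) R)) = p) (hq' : Ideal.span (Set.range F) ≤ r) :
    IsWeaklyRegular (Localization.AtPrime r)
        ((List.ofFn F).map (algebraMap (MvPolynomial (Fin n) R) (Localization.AtPrime r))) ∧
      ∀ i ≤ ((List.ofFn F).map (algebraMap (MvPolynomial (Fin n) R) (Localization.AtPrime r))).length,
        Module.Flat R (Localization.AtPrime r ⧸ (Ideal.ofList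
          (((List.ofFn F).map (algebraMap (MvPolynomial (Fin n) R) (Localization.AtPrime r))).take i))) := by
  let P := MvPolynomial (Fin n) R
  subst hqr
  set r := q.comap (Algebra.TensorProduct.includeRight : P →ₐ[R] p.Fiber P) with hr
  let T := Localization.AtPrime r
  let fs := (List.ofFn F).map (algebraMap P T)
  show IsWeaklyRegular T fs ∧ ∀ i ≤ fs.length, Module.Flat R (T ⧸ (Ideal.ofList (fs.take i)))
  let Rp := Localization.AtPrime p
  let J := (IsLocalRing.maximalIdeal Rp)
  let φ : Rp →+* T := Localization.localRingHom p r (algebraMap R P) hp.symm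
  letI : Algebra Rp T := φ.toAlgebra
  have : IsLocalHom (algebraMap Rp T) := Localization.isLocalHom_localRingHom p r (algebraMap R P) hp.symm
  have : IsScalarTower R Rp T := IsScalarTower.of_algebraMap_eq fun x => by
    show algebraMap R T x = φ (algebraMap R Rp x)
    rw [Localization.localRingHom_to_map, ← IsScalarTower.algebraMap_apply]
  have : Module.Flat R T := Module.Flat.trans R P T
  have : Module.Flat Rp T := (Module.flat_iff_of_isLocalization Rp p.primeCompl T).2 inferInstance
  have : IsNoetherianRing T := IsLocalization.isNoetherianRing r.primeCompl _ inferInstance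
  let Q := J.map (algebraMap Rp T)
  have hQ : (p.map (algebraMap R P)).map (algebraMap P T) = Q := by
    show _ = (IsLocalRing.maximalIdeal Rp).map (algebraMap Rp T)
    rw [← Localization.AtPrime.map_eq_maximalIdeal, Ideal.map_map, Ideal.map_map,
      ← IsScalarTower.algebraMap_eq, ← IsScalarTower.algebraMap_eq]
  let E : Localization.AtPrime q ≃+* T ⧸ Q :=
    (Ideal.Fiber.algEquivAux₂ p q).toRingEquiv.trans (Ideal.quotEquivOfEq hQ)
  have hmem : ∀ i, (1 : p.ResidueField) ⊗ₜ[R] F i ∈ q := fun i => hq' (Ideal.subset_span ⟨i, rfl⟩)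
  have h1 := (isRegular_of_ringEquiv (S := Localization.AtPrime q) (S' := T ⧸ Q) E (regular_fibre hc F p hdim q hmem)).toIsWeaklyRegular
  have hEF : ∀ x : P, E (algebraMap (p.Fiber P) (Localization.AtPrime q) ((1 : p.ResidueField) ⊗ₜ[R] x)) =
      algebraMap T (T ⧸ Q) (algebraMap P T x) := by
    intro x
    let Ψ : P →ₐ[R] Localization.AtPrime q :=
      (IsScalarTower.toAlgHom R (p.Fiber P) (Localization.AtPrime q)).comp Algebra.TensorProduct.includeRight
    have hΨ : ((Ideal.Fiber.algEquivAux₂ p q).toAlgHom.comp Ψ) =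
        (Ideal.Quotient.mkₐ R _).comp (IsScalarTower.toAlgHom R P T) := by
      refine MvPolynomial.algHom_ext fun j => ?_
      show Ideal.Fiber.algEquivAux₂ p q (algebraMap (p.Fiber P) _ ((1 : p.ResidueField) ⊗ₜ[R] MvPolynomial.X j)) = _
      unfold Ideal.Fiber.algEquivAux₂
      letI : Algebra P (p.Fiber P) := Algebra.TensorProduct.rightAlgebra
      simp only [AlgEquiv.trans_apply, AlgEquiv.restrictScalars_apply]
      have h0 : algebraMap (p.Fiber P) (Localization.AtPrime q) ((1 : p.ResidueField) ⊗ₜ[R] MvPolynomial.X j) =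
          algebraMap P (Localization.AtPrime q) (MvPolynomial.X j) :=
        (IsScalarTower.algebraMap_apply P (p.Fiber P) (Localization.AtPrime q) (MvPolynomial.X j)).symm
      rw [h0, AlgEquiv.commutes,
        IsScalarTower.algebraMap_apply P (P ⧸ p.map (algebraMap R P)) (Localization.AtPrime _), AlgEquiv.commutes]
      rfl
    have := AlgHom.congr_fun hΨ x
    show Ideal.quotEquivOfEq hQ _ = _
    exact (congrArg (Ideal.quotEquivOfEq hQ) this).trans rfl
  have h2 : IsWeaklyRegular (T ⧸ (Q • (⊤ : Submodule T T))) fs := by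
    refine ((Submodule.quotEquivOfEq (Q • (⊤ : Submodule T T)) Q (by rw [smul_eq_mul, Ideal.mul_top])).isWeaklyRegular_congr fs).2 ?_
    rw [← RingTheory.Sequence.isWeaklyRegular_map_algebraMap_iff (T ⧸ Q)]
    convert h1 using 1
    · rfl
    simp only [fs, List.map_map, List.map_ofFn]
    congr 1
    funext i
    exact (hEF (F i)).symm
  obtain ⟨h3, h4⟩ := regular_and_flat (A := Rp) T fs h2
  refine ⟨h3, fun i hi => ?_⟩
  have := h4 i hi
  have : Module.Flat R Rp := IsLocalization.flat Rp p.primeCompl
  have := Module.Flat.trans R Rp (T ⧸ (Ideal.ofList (fs.take i) • (⊤ : Submodule T T)))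
  exact Module.Flat.of_linearEquiv
    ((Submodule.quotEquivOfEq (Ideal.ofList (fs.take i)) (Ideal.ofList (fs.take i) • (⊤ : Submodule T T))
      (by rw [smul_eq_mul, Ideal.mul_top])).restrictScalars R)

/-- Over a Noetherian base the equations form a transversally regular sequence in every local ring. -/
theorem regular_flat_localization [IsNoetherianRing R] {n c : ℕ} (hc : c ≤ n) (F : Fin c → MvPolynomial (Fin n) R)
    (hdim : ∀ (p : Ideal R) [p.IsPrime],
      ringKrullDim (p.Fiber (Synt.RelGCIRing R n c F)) ≤ ((n - c : ℕ) : WithBot ℕ∞))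
    (q' : Ideal (MvPolynomial (Fin n) R)) [q'.IsPrime] (hq' : Ideal.span (Set.range F) ≤ q') :
    let T := Localization.AtPrime q'
    let fs := (List.ofFn F).map (algebraMap (MvPolynomial (Fin n) R) T)
    IsWeaklyRegular T fs ∧ ∀ i ≤ fs.length, Module.Flat R (T ⧸ (Ideal.ofList (fs.take i))) := by
  let P := MvPolynomial (Fin n) R
  let p : Ideal R := q'.comap (algebraMap R P)
  let q : PrimeSpectrum (p.Fiber P) := PrimeSpectrum.preimageEquivFiber R P ⟨p, inferInstance⟩ ⟨⟨q', inferInstance⟩, rfl⟩
  refine regular_flat_localization_aux hc F p (hdim p) q.asIdeal q' ?_ rfl hq'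
  exact congrArg (fun x => PrimeSpectrum.asIdeal x.1) ((PrimeSpectrum.preimageEquivFiber R P ⟨p, inferInstance⟩).symm_apply_apply
        ⟨⟨q', inferInstance⟩, rfl⟩)

/-- A presentation with fibres of the expected dimension over a Noetherian base is flat. -/
theorem flat_relGCI_noetherian [IsNoetherianRing R] {n c : ℕ} (hc : c ≤ n) (F : Fin c → MvPolynomial (Fin n) R)
    (hdim : ∀ (p : Ideal R) [p.IsPrime],
      ringKrullDim (p.Fiber (Synt.RelGCIRing R n c F)) ≤ ((n - c : ℕ) : WithBot ℕ∞)) :
    Module.Flat R (Synt.RelGCIRing R n c F) := by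
  let P := MvPolynomial (Fin n) R
  let I := Ideal.span (Set.range F)
  have : ∀ (M : Ideal (P ⧸ I)) [M.IsMaximal], IsScalarTower R (P ⧸ I)
      (Localization.AtPrime (M.comap (Ideal.Quotient.mk I)) ⧸
        I.map (algebraMap P (Localization.AtPrime (M.comap (Ideal.Quotient.mk I))))) :=
    fun M _ => IsScalarTower.of_algebraMap_eq (R := R) (S := P ⧸ I)
      (A := Localization.AtPrime (M.comap (Ideal.Quotient.mk I)) ⧸
        I.map (algebraMap P (Localization.AtPrime (M.comap (Ideal.Quotient.mk I))))) fun x => rfl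
  refine @Module.flat_of_isLocalized_maximal R (P ⧸ I) _ _ _ (P ⧸ I) _ _ _ _
    (fun M _ => Localization.AtPrime (M.comap (Ideal.Quotient.mk I)) ⧸
      I.map (algebraMap P (Localization.AtPrime (M.comap (Ideal.Quotient.mk I)))))
    (fun M _ => inferInstance) (fun M _ => inferInstance) (fun M _ => inferInstance) (fun M _ => this M)
    (fun M _ => Algebra.linearMap (P ⧸ I) _) ?_ fun M _ => ?_
  · intro M _
    let r := M.comap (Ideal.Quotient.mk I)
    have : M.LiesOver r := ⟨rfl⟩
    have hsub : Algebra.algebraMapSubmonoid (P ⧸ I) r.primeCompl = M.primeCompl :=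
      Ideal.algebraMapSubmonoid_primeCompl_of_liesOver_surjective M r Ideal.Quotient.mk_surjective
    have : IsLocalization M.primeCompl (Localization.AtPrime r ⧸ I.map (algebraMap P (Localization.AtPrime r))) := by
      have : IsLocalization (Algebra.algebraMapSubmonoid (P ⧸ I) r.primeCompl)
        (Localization.AtPrime r ⧸ I.map (algebraMap P (Localization.AtPrime r))) := inferInstance
      rwa [hsub] at this
    exact (isLocalizedModule_iff_isLocalization' _ _).2 this
  · let r := M.comap (Ideal.Quotient.mk I)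
    have hr : Ideal.span (Set.range F) ≤ r := fun x hx => by
      show Ideal.Quotient.mk I x ∈ M
      rw [Ideal.Quotient.eq_zero_iff_mem.2 hx]
      exact M.zero_mem
    obtain ⟨-, h4⟩ := regular_flat_localization hc F hdim r hr
    have h5 := h4 _ le_rfl
    rw [List.take_length, ← Ideal.map_ofList, ofList_ofFn] at h5
    exact h5

end TransLib
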