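import Groth.Agent.TransLib.DesingSeq
import Groth.Agent.TransLib.GlueLocal

/-!
# Factoring through smooth algebras when the singular ideal extends to the unit ideal
-/

set_option autoImplicit false

universe u

open MvPolynomial

namespace TransLib

theorem formallySmooth_unimodular {B : Type u} [CommRing B] {r : ℕ} (b : Fin r → B) :
    Algebra.FormallySmooth B
      (MvPolynomial (Fin r) B ⧸ Ideal.span {∑ l, X l * MvPolynomial.C (b l) - (1 : MvPolynomial (Fin r) B)}) := by
  let G : MvPolynomial (Fin r) B := ∑ l, X l * MvPolynomial.C (b l) - 1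
  refine Algebra.FormallySmooth.of_comp_surjective fun T _ _ J hJ f => ?_
  choose t ht using fun l => Ideal.Quotient.mk_surjective (f (Ideal.Quotient.mk _ (X l)))
  let ε : T := ∑ l, t l * algebraMap B T (b l) - 1
  have hεJ : ε ∈ J := by
    rw [← Ideal.Quotient.eq_zero_iff_mem]
    have h1 : f (Ideal.Quotient.mk (Ideal.span {G}) G) = 0 := by
      rw [Ideal.Quotient.eq_zero_iff_mem.2 (Ideal.mem_span_singleton_self G), map_zero]
    rw [← h1]
    simp only [ε, G, map_sub, map_sum, map_mul, map_one, ht]
    congr 1
    refine Finset.sum_congr rfl fun l _ => ?_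
    congr 1
    exact (f.commutes (b l)).symm
  have hε : ε * ε = 0 := by
    have h : ε * ε ∈ J ^ 2 := by rw [pow_two]; exact Ideal.mul_mem_mul hεJ hεJ
    rwa [hJ, Ideal.mem_bot] at h
  let ev : MvPolynomial (Fin r) B →ₐ[B] T := aeval fun l => t l * (1 - ε)
  have hG : ev G = 0 := by
    simp only [ev, G, map_sub, map_sum, map_mul, map_one, aeval_X, aeval_C]
    rw [Finset.sum_congr rfl fun l _ => show t l * (1 - ε) * algebraMap B T (b l) = (1 - ε) * (t l * algebraMap B T (b l)) by ring,
      ← Finset.mul_sum, show ∑ l, t l * algebraMap B T (b l) = 1 + ε by simp [ε]]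
    rw [show (1 - ε) * (1 + ε) - 1 = -(ε * ε) by ring, hε, neg_zero]
  have hker : Ideal.span {G} ≤ RingHom.ker ev.toRingHom :=
    (Ideal.span_singleton_le_iff_mem _).2 hG
  refine ⟨Ideal.Quotient.liftₐ _ ev hker, Ideal.Quotient.algHom_ext _ (MvPolynomial.algHom_ext fun l => ?_)⟩
  show Ideal.Quotient.mk J (ev (X l)) = f (Ideal.Quotient.mk _ (X l))
  rw [aeval_X, map_mul, map_sub, map_one, Ideal.Quotient.eq_zero_iff_mem.2 hεJ, sub_zero, mul_one, ht]

/-- A map with unit extended singular ideal factors through a smooth algebra. -/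
theorem exists_smooth_factor {R B Λ : Type u} [CommRing R] [CommRing B] [Algebra R B]
    [Algebra.FinitePresentation R B] [CommRing Λ] [Algebra R Λ] (h : B →ₐ[R] Λ)
    (htop : (Smoothing.singularIdeal R B).map h = ⊤) :
    ∃ (B' : Type u) (_ : CommRing B') (_ : Algebra R B'), Algebra.Smooth R B' ∧
      ∃ (g : B →ₐ[R] B') (k : B' →ₐ[R] Λ), k.comp g = h := by
  classical
  have h1 : (1 : Λ) ∈ Submodule.span Λ (h '' (Smoothing.singularIdeal R B : Set B)) := by
    show (1 : Λ) ∈ (Smoothing.singularIdeal R B).map h
    rw [htop]; trivial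
  obtain ⟨r, c, z, hcz⟩ := (Submodule.mem_span_set' (s := h '' (Smoothing.singularIdeal R B : Set B))).1 h1
  choose b hb hbz using fun l => (z l).2
  let G : MvPolynomial (Fin r) B := ∑ l, X l * MvPolynomial.C (b l) - 1
  let B' := MvPolynomial (Fin r) B ⧸ Ideal.span {G}
  have : Algebra.FormallySmooth B B' := formallySmooth_unimodular b
  have : Algebra.FinitePresentation B B' :=
    Algebra.FinitePresentation.quotient (Submodule.fg_span_singleton G)
  have : Algebra.FinitePresentation R B' := Algebra.FinitePresentation.trans R B B'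
  have hG : ∀ Q : Ideal B', Q.IsPrime → ∃ l, b l ∉ Q.comap (algebraMap B B') := fun Q hQ => by
    by_contra hall
    push Not at hall
    refine hQ.ne_top ((Ideal.eq_top_iff_one _).2 ?_)
    have h2 : Ideal.Quotient.mk (Ideal.span {G}) (∑ l, X l * MvPolynomial.C (b l)) = 1 := by
      rw [← map_one (Ideal.Quotient.mk (Ideal.span {G})), Ideal.Quotient.eq]
      exact Ideal.mem_span_singleton_self G
    rw [← h2, map_sum]
    refine Ideal.sum_mem _ fun l _ => ?_
    rw [map_mul]
    exact Ideal.mul_mem_left _ _ (hall l)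
  have hsm : Algebra.Smooth R B' := by
    refine ⟨Algebra.smoothLocus_eq_univ_iff.1 (Set.eq_univ_iff_forall.2 fun ⟨Q, hQ⟩ => ?_), inferInstance⟩
    obtain ⟨l, hl⟩ := hG Q hQ
    let Q₀ := Q.comap (algebraMap B B')
    have h0 : Algebra.IsSmoothAt R Q₀ := by
      by_contra h'
      exact hl ((mem_singularIdeal_iff _).1 (hb l) Q₀ h')
    show Algebra.FormallySmooth R (Localization.AtPrime Q)
    have h0' : Algebra.FormallySmooth R (Localization.AtPrime Q₀) := h0
    letI : Algebra (Localization.AtPrime Q₀) (Localization.AtPrime Q) :=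
      (Localization.localRingHom Q₀ Q (algebraMap B B') rfl).toAlgebra
    haveI : IsScalarTower B (Localization.AtPrime Q₀) (Localization.AtPrime Q) :=
      IsScalarTower.of_algebraMap_eq fun x => ((Localization.localRingHom_to_map Q₀ Q _ rfl x).trans
        (IsScalarTower.algebraMap_apply B B' _ x).symm).symm
    haveI : IsScalarTower R (Localization.AtPrime Q₀) (Localization.AtPrime Q) :=
      IsScalarTower.of_algebraMap_eq fun x => by
        rw [IsScalarTower.algebraMap_apply R B (Localization.AtPrime Q₀),
          ← IsScalarTower.algebraMap_apply B (Localization.AtPrime Q₀) (Localization.AtPrime Q),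
          ← IsScalarTower.algebraMap_apply R B (Localization.AtPrime Q)]
    have : Algebra.FormallyEtale B' (Localization.AtPrime Q) := Algebra.FormallyEtale.of_isLocalization Q.primeCompl
    have : Algebra.FormallySmooth B (Localization.AtPrime Q) := Algebra.FormallySmooth.comp B B' _
    have : Algebra.FormallySmooth (Localization.AtPrime Q₀) (Localization.AtPrime Q) :=
      Algebra.FormallySmooth.localization_base (R := B) Q₀.primeCompl
    exact Algebra.FormallySmooth.comp R (Localization.AtPrime Q₀) (Localization.AtPrime Q)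
  let ev : MvPolynomial (Fin r) B →ₐ[R] Λ := aevalTower h c
  have hker : Ideal.span {G} ≤ RingHom.ker ev.toRingHom := by
    rw [Ideal.span_singleton_le_iff_mem]
    show ev G = 0
    simp only [ev, G, map_sub, map_sum, map_mul, map_one, aevalTower_X, aevalTower_C]
    rw [sub_eq_zero, ← hcz]
    exact Finset.sum_congr rfl fun l _ => by rw [hbz, smul_eq_mul]
  refine ⟨B', inferInstance, inferInstance, hsm, IsScalarTower.toAlgHom R B B', Ideal.Quotient.liftₐ _ ev hker,
    AlgHom.ext fun x => ?_⟩
  show ev (MvPolynomial.C x) = h x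
  exact aevalTower_C _ _ x

theorem singularIdeal_eq_top_of_smooth {R C : Type u} [CommRing R] [CommRing C] [Algebra R C]
    [hC : Algebra.Smooth R C] : Smoothing.singularIdeal R C = ⊤ := by
  rw [Ideal.eq_top_iff_one, mem_singularIdeal_iff]
  intro Q _ hQ
  have h : (⟨Q, inferInstance⟩ : PrimeSpectrum C) ∈ Algebra.smoothLocus R C := by
    rw [Algebra.smoothLocus_eq_univ_iff.2 hC.formallySmooth]
    exact Set.mem_univ _
  exact absurd h hQ

end TransLib
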